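/-
Spectra of split extensions of modules; small fixed point free matrix groups.
-/
import Cfsg.Agent.Lib.Perm.Spec
import Cfsg.Agent.Lib.Solv.Fact

set_option autoImplicit false
set_option linter.unusedSectionVars false
set_option linter.unusedVariables false
set_option linter.style.haveILetI false
set_option linter.unusedSimpArgs false

namespace Cfsg.Agent.PU

open Subgroup Cfsg.Agent.Perm Finset

section SD
variable {R V H : Type*} [Ring R] [AddCommGroup V] [Module R V] [Group H] (ρ : H →* Module.End R V)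

/-- a representation as an action on the multiplicative group -/
def act : H →* MulAut (Multiplicative V) := MonoidHom.mk' (fun a =>
    { toFun := fun v => Multiplicative.ofAdd (ρ a v.toAdd)
      invFun := fun v => Multiplicative.ofAdd (ρ a⁻¹ v.toAdd)
      left_inv := fun v => by simp [← Module.End.mul_apply, ← map_mul]
      right_inv := fun v => by simp [← Module.End.mul_apply, ← map_mul]
      map_mul' := fun v w => by simp }) fun a b => by ext v; simp

/-- the split extension of a module -/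
abbrev SD := Multiplicative V ⋊[act ρ] H

instance [Finite V] [Finite H] : Finite (SD ρ) := Finite.of_equiv _ SemidirectProduct.equivProd.symm

/-- the norm map of a group element -/
noncomputable def nm (h : H) (v : V) : V := ∑ i ∈ range (orderOf h), ρ (h ^ i) v

theorem mem_spec_SD [Finite H] {n : ℕ} : n ∈ Set.range (orderOf : SD ρ → ℕ) ↔
    ∃ h v, n = orderOf h * addOrderOf (nm ρ h v) := by
  have k : ∀ x : SD ρ, orderOf x = orderOf x.right * addOrderOf (nm ρ x.right x.left.toAdd) := fun x => by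
    rw [sd_orderOf x (orderOf_pos _).ne', ← orderOf_ofAdd_eq_addOrderOf, nm, ofAdd_sum]
    rfl
  exact ⟨fun ⟨x, h⟩ => ⟨_, _, h ▸ k x⟩, fun ⟨h, v, e⟩ => ⟨⟨Multiplicative.ofAdd v, h⟩, by rw [k, e]; rfl⟩⟩

theorem nm_one (v : V) : nm ρ 1 v = v := by simp [nm]

theorem nm_zero (h : H) : nm ρ h 0 = 0 := by simp [nm]

theorem nm_fix (h : H) (v : V) : ρ h (nm ρ h v) = nm ρ h v := by
  have := sum_range_succ' (fun i => ρ (h ^ i) v) (orderOf h)
  rw [sum_range_succ, pow_orderOf_eq_one, pow_zero, add_left_inj] at this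
  rw [nm, map_sum, this]
  exact sum_congr rfl fun i _ => by rw [pow_succ', map_mul]; rfl

theorem spec_le_SD [Finite H] : Set.range (orderOf : H → ℕ) ⊆ Set.range (orderOf : SD ρ → ℕ) :=
  spec_subset_of_injective _ (SemidirectProduct.inr_injective (φ := act ρ))

theorem spec_SD_fpf [Finite H] (hf : ∀ h, h ≠ 1 → ∀ v, ρ h v = v → v = 0) : Set.range (orderOf : SD ρ → ℕ) =
    Set.range (addOrderOf : V → ℕ) ∪ Set.range (orderOf : H → ℕ) := by
  refine Set.ext fun n => ⟨fun h => ?_, fun h => h.elim (fun ⟨v, e⟩ => (mem_spec_SD ρ).2 ⟨1, v, by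
    rw [nm_one, orderOf_one, one_mul, e]⟩) (spec_le_SD ρ ·)⟩
  obtain ⟨g, v, rfl⟩ := (mem_spec_SD ρ).1 h
  by_cases e : g = 1
  · exact Or.inl ⟨v, by rw [e, nm_one, orderOf_one, one_mul]⟩
  · exact Or.inr ⟨g, by rw [hf g e _ (nm_fix ρ g v), addOrderOf_zero, mul_one]⟩

theorem sol_SD (h : Group.IsSolvable H) : Group.IsSolvable (SD ρ) :=
  Group.isSolvable_of_ker_le_range SemidirectProduct.inl SemidirectProduct.rightHom
    SemidirectProduct.range_inl_eq_ker_rightHom.ge

theorem large_SD [Finite V] [Finite H] {p : ℕ} (hp : p.Prime) (U : Submodule R V) (hU : ∀ h, ∀ v ∈ U, ρ h v ∈ U)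
    (h0 : ∃ v ∈ U, v ≠ 0) (he : ∀ v ∈ U, p • v = 0) (N : ℕ) : ∃ (K : Type) (_ : Group K) (_ : Fintype K),
      N < Fintype.card K ∧ Set.range (orderOf : K → ℕ) = Set.range (orderOf : SD ρ → ℕ) := by
  let W : Subgroup (SD ρ) := U.toAddSubgroup.toSubgroup.map SemidirectProduct.inl
  haveI : W.Normal := ⟨by
    rintro _ ⟨v, hv, rfl⟩ g
    refine ⟨act ρ g.right v, hU _ _ hv, ?_⟩
    ext <;> simp [mul_comm g.left, mul_assoc]⟩
  refine exists_large_isospectral W (fun h => ?_) hp ?_ N
  · obtain ⟨v, h1, h2⟩ := h0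
    exact h2 (SemidirectProduct.inl_injective (φ := act ρ) ((mem_bot.1 (h.le ⟨Multiplicative.ofAdd v, h1, rfl⟩)).trans
      (map_one _).symm))
  · rintro _ ⟨v, hv, rfl⟩
    rw [← map_pow, ← map_one (SemidirectProduct.inl (φ := act ρ))]
    exact congrArg _ (he _ hv)

theorem spec_vec (r : ℕ) [hr : Fact r.Prime] [Module (ZMod r) V] [Nontrivial V] :
    Set.range (addOrderOf : V → ℕ) = {n | n ∣ r} := by
  have k : ∀ v : V, r • v = 0 := fun v => by rw [← Nat.cast_smul_eq_nsmul (ZMod r), ZMod.natCast_self, zero_smul]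
  refine Set.ext fun n => ⟨fun ⟨v, e⟩ => e ▸ addOrderOf_dvd_of_nsmul_eq_zero (k v), fun h => ?_⟩
  obtain ⟨v, hv⟩ := exists_ne (0 : V)
  exact ((Nat.dvd_prime hr.out).1 h).elim (fun e => ⟨0, by rw [e, addOrderOf_zero]⟩)
    fun e => ⟨v, e ▸ addOrderOf_eq_prime (k v) hv⟩

end SD

/-- coprime numbers are the exponents of the kernel and the cyclic complement of a Frobenius group -/
theorem exists_frob_spec {m n : ℕ} (hm : m ≠ 0) (hn : n ≠ 0) (h : m.Coprime n) :
    ∃ (K : Type) (_ : Group K) (_ : Finite K), Group.IsSolvable K ∧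
      Set.range (orderOf : K → ℕ) = {x | x ∣ m ∨ x ∣ n} := by
  haveI : NeZero m := ⟨hm⟩
  haveI : NeZero n := ⟨hn⟩
  let f := Polynomial.cyclotomic n (ZMod m)
  have hf : f.Monic := Polynomial.cyclotomic.monic n _
  let A := AdjoinRoot f
  haveI : Finite A := by
    haveI := hf.finite_adjoinRoot
    exact Module.finite_of_finite (ZMod m)
  let x : A := AdjoinRoot.root f
  have hx : x ^ n = 1 := by
    obtain ⟨g, hg⟩ := Polynomial.cyclotomic.dvd_X_pow_sub_one n (ZMod m)
    have := congrArg (AdjoinRoot.mk f) hg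
    simpa [sub_eq_zero, f] using this
  let u : Aˣ := (IsUnit.of_pow_eq_one hx hn).unit
  let π : Multiplicative (ZMod n) →* Aˣ := MonoidHom.toAdditiveRight.symm (ZMod.lift n ⟨zmultiplesHom _ (Additive.ofMul u), by
    rw [zmultiplesHom_apply, natCast_zsmul]
    exact Units.ext hx⟩)
  have hπ : ∀ k : ℕ, (π (Multiplicative.ofAdd (k : ZMod n)) : A) = x ^ k := fun k => by
    rw [← nsmul_one, ofAdd_nsmul, map_pow, Units.val_pow_eq_pow_val]
    congr 1
    change ((Additive.toMul (ZMod.lift n _ (1 : ZMod n)) : Aˣ) : A) = x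
    rw [← Int.cast_one, ZMod.lift_coe]
    simp [u]
  let ρ : Multiplicative (ZMod n) →* Module.End A A := (Algebra.lmul A A).toMonoidHom.comp ((Units.coeHom A).comp π)
  have hA : ∀ v : A, m • v = 0 := fun v => by rw [← Nat.cast_smul_eq_nsmul (ZMod m), ZMod.natCast_self, zero_smul]
  refine ⟨SD ρ, inferInstance, inferInstance, sol_SD ρ inferInstance, ?_⟩
  rw [spec_SD_fpf ρ fun g hg v hv => ?_, spec_cyclic]
  · refine Set.ext fun k => or_congr ⟨fun ⟨v, e⟩ => e ▸ addOrderOf_dvd_of_nsmul_eq_zero (hA v), fun e => ?_⟩ (by simp)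
    have : addOrderOf (1 : A) = m := by
      refine Nat.dvd_antisymm (addOrderOf_dvd_of_nsmul_eq_zero (hA 1)) ?_
      have := addOrderOf_nsmul_eq_zero (1 : A)
      rw [nsmul_one, ← map_natCast (AdjoinRoot.mk f), AdjoinRoot.mk_eq_zero, ← Polynomial.C_eq_natCast] at this
      rw [← ZMod.natCast_eq_zero_iff]
      nontriviality ZMod m
      rw [← Polynomial.C_eq_zero]
      by_contra h0
      refine hf.not_dvd_of_natDegree_lt h0 ?_ this
      rw [Polynomial.natDegree_C, Polynomial.natDegree_cyclotomic]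
      exact Nat.totient_pos.2 (Nat.pos_of_ne_zero hn)
    exact spec_dvd (G := Multiplicative A) ⟨Multiplicative.ofAdd 1, this⟩ e
  · obtain ⟨k, rfl⟩ : ∃ k : ℕ, g = Multiplicative.ofAdd (k : ZMod n) := ⟨g.toAdd.val, by simp⟩
    have hk : ¬ n ∣ k := fun e => hg (by rw [(ZMod.natCast_eq_zero_iff _ _).2 e]; rfl)
    have h1 : u ^ k ∈ MulAction.stabilizer Aˣ v := show x ^ k * v = v from hπ k ▸ hv
    have h2 : u ^ n ∈ MulAction.stabilizer Aˣ v := show x ^ n * v = v by rw [hx, one_mul]
    have h3 : u ^ k.gcd n ∈ MulAction.stabilizer Aˣ v := by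
      rw [← zpow_natCast, Nat.gcd_eq_gcd_ab, zpow_add, zpow_mul, zpow_mul, zpow_natCast, zpow_natCast]
      exact mul_mem (zpow_mem h1 _) (zpow_mem h2 _)
    replace h3 : x ^ k.gcd n * v = v := h3
    obtain ⟨c, hc⟩ := Nat.gcd_dvd_right k n
    have hd : k.gcd n ∈ n.properDivisors := Nat.mem_properDivisors.2 ⟨⟨c, hc⟩, (Nat.le_of_dvd (Nat.pos_of_ne_zero hn)
      ⟨c, hc⟩).lt_of_ne fun e => hk (e ▸ Nat.gcd_dvd_left k n)⟩
    have h4 := Polynomial.X_pow_sub_one_mul_cyclotomic_dvd_X_pow_sub_one_of_dvd (ZMod m) hd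
    have d0 : k.gcd n ≠ 0 := Nat.gcd_ne_zero_right hn
    generalize k.gcd n = d at h3 hc h4 d0
    nth_rw 2 [hc] at h4
    rw [pow_mul, ← mul_geom_sum (Polynomial.X ^ d) c, ← Polynomial.C_1,
      (Polynomial.monic_X_pow_sub_C (1 : ZMod m) d0).isRegular.left.dvd_cancel_left, ← AdjoinRoot.mk_eq_zero] at h4
    simp only [map_sum, map_pow, AdjoinRoot.mk_X] at h4
    have h5 : ∀ i, (x ^ d) ^ i * v = v := fun i => by
      induction i with
      | zero => simp
      | succ i ih => rw [pow_succ, mul_assoc, h3, ih]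
    have h6 : c • v = 0 := by
      have : (∑ i ∈ range c, (x ^ d) ^ i) * v = 0 := by rw [show ∑ i ∈ range c, (x ^ d) ^ i = 0 from h4, zero_mul]
      rwa [Finset.sum_mul, sum_congr rfl fun i _ => h5 i, sum_const, card_range] at this
    exact AddMonoid.addOrderOf_eq_one_iff.1 (Nat.eq_one_of_dvd_coprimes (h.coprime_dvd_right ⟨d, by rw [hc, mul_comm]⟩)
      (addOrderOf_dvd_of_nsmul_eq_zero (hA v)) (addOrderOf_dvd_of_nsmul_eq_zero h6))

/-- four by four matrices of numbers -/
structure T where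
  (a00 a01 a02 a03 a10 a11 a12 a13 a20 a21 a22 a23 a30 a31 a32 a33 : ℕ)
  deriving DecidableEq

namespace T
variable (r : ℕ)

/-- the matrix -/
def mat (x : T) : Matrix (Fin 4) (Fin 4) (ZMod r) :=
  !![x.a00, x.a01, x.a02, x.a03; x.a10, x.a11, x.a12, x.a13; x.a20, x.a21, x.a22, x.a23; x.a30, x.a31, x.a32, x.a33]
/-- product -/
def mul (x y : T) : T :=
  ⟨(x.a00 * y.a00 + x.a01 * y.a10 + x.a02 * y.a20 + x.a03 * y.a30) % r,
   (x.a00 * y.a01 + x.a01 * y.a11 + x.a02 * y.a21 + x.a03 * y.a31) % r,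
   (x.a00 * y.a02 + x.a01 * y.a12 + x.a02 * y.a22 + x.a03 * y.a32) % r,
   (x.a00 * y.a03 + x.a01 * y.a13 + x.a02 * y.a23 + x.a03 * y.a33) % r,
   (x.a10 * y.a00 + x.a11 * y.a10 + x.a12 * y.a20 + x.a13 * y.a30) % r,
   (x.a10 * y.a01 + x.a11 * y.a11 + x.a12 * y.a21 + x.a13 * y.a31) % r,
   (x.a10 * y.a02 + x.a11 * y.a12 + x.a12 * y.a22 + x.a13 * y.a32) % r,
   (x.a10 * y.a03 + x.a11 * y.a13 + x.a12 * y.a23 + x.a13 * y.a33) % r,
   (x.a20 * y.a00 + x.a21 * y.a10 + x.a22 * y.a20 + x.a23 * y.a30) % r,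
   (x.a20 * y.a01 + x.a21 * y.a11 + x.a22 * y.a21 + x.a23 * y.a31) % r,
   (x.a20 * y.a02 + x.a21 * y.a12 + x.a22 * y.a22 + x.a23 * y.a32) % r,
   (x.a20 * y.a03 + x.a21 * y.a13 + x.a22 * y.a23 + x.a23 * y.a33) % r,
   (x.a30 * y.a00 + x.a31 * y.a10 + x.a32 * y.a20 + x.a33 * y.a30) % r,
   (x.a30 * y.a01 + x.a31 * y.a11 + x.a32 * y.a21 + x.a33 * y.a31) % r,
   (x.a30 * y.a02 + x.a31 * y.a12 + x.a32 * y.a22 + x.a33 * y.a32) % r,
   (x.a30 * y.a03 + x.a31 * y.a13 + x.a32 * y.a23 + x.a33 * y.a33) % r⟩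
/-- one plus the product -/
def s1 (x y : T) : T :=
  ⟨(1 + x.a00 * y.a00 + x.a01 * y.a10 + x.a02 * y.a20 + x.a03 * y.a30) % r,
   (x.a00 * y.a01 + x.a01 * y.a11 + x.a02 * y.a21 + x.a03 * y.a31) % r,
   (x.a00 * y.a02 + x.a01 * y.a12 + x.a02 * y.a22 + x.a03 * y.a32) % r,
   (x.a00 * y.a03 + x.a01 * y.a13 + x.a02 * y.a23 + x.a03 * y.a33) % r,
   (x.a10 * y.a00 + x.a11 * y.a10 + x.a12 * y.a20 + x.a13 * y.a30) % r,
   (1 + x.a10 * y.a01 + x.a11 * y.a11 + x.a12 * y.a21 + x.a13 * y.a31) % r,
   (x.a10 * y.a02 + x.a11 * y.a12 + x.a12 * y.a22 + x.a13 * y.a32) % r,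
   (x.a10 * y.a03 + x.a11 * y.a13 + x.a12 * y.a23 + x.a13 * y.a33) % r,
   (x.a20 * y.a00 + x.a21 * y.a10 + x.a22 * y.a20 + x.a23 * y.a30) % r,
   (x.a20 * y.a01 + x.a21 * y.a11 + x.a22 * y.a21 + x.a23 * y.a31) % r,
   (1 + x.a20 * y.a02 + x.a21 * y.a12 + x.a22 * y.a22 + x.a23 * y.a32) % r,
   (x.a20 * y.a03 + x.a21 * y.a13 + x.a22 * y.a23 + x.a23 * y.a33) % r,
   (x.a30 * y.a00 + x.a31 * y.a10 + x.a32 * y.a20 + x.a33 * y.a30) % r,
   (x.a30 * y.a01 + x.a31 * y.a11 + x.a32 * y.a21 + x.a33 * y.a31) % r,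
   (x.a30 * y.a02 + x.a31 * y.a12 + x.a32 * y.a22 + x.a33 * y.a32) % r,
   (1 + x.a30 * y.a03 + x.a31 * y.a13 + x.a32 * y.a23 + x.a33 * y.a33) % r⟩
/-- decoding -/
def dec (n : ℕ) : T := ⟨n / r ^ 0 % r, n / r ^ 1 % r, n / r ^ 2 % r, n / r ^ 3 % r, n / r ^ 4 % r, n / r ^ 5 % r, n / r ^ 6 % r, n / r ^ 7 % r, n / r ^ 8 % r, n / r ^ 9 % r, n / r ^ 10 % r, n / r ^ 11 % r, n / r ^ 12 % r, n / r ^ 13 % r, n / r ^ 14 % r, n / r ^ 15 % r⟩
/-- identity -/
def one : T := ⟨1, 0, 0, 0, 0, 1, 0, 0, 0, 0, 1, 0, 0, 0, 0, 1⟩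
/-- zero -/
def zero : T := ⟨0, 0, 0, 0, 0, 0, 0, 0, 0, 0, 0, 0, 0, 0, 0, 0⟩
/-- geometric sums -/
def gs (x : T) : ℕ → T
  | 0 => zero
  | n + 1 => s1 r x (gs x n)
/-- powers -/
def pw (x : T) : ℕ → T
  | 0 => one
  | n + 1 => mul r x (pw x n)

theorem mat_mul (x y : T) : mat r (mul r x y) = mat r x * mat r y := by
  ext i j; fin_cases i <;> fin_cases j <;> simp [mat, mul, Matrix.mul_apply, Fin.sum_univ_four]
theorem mat_s1 (x y : T) : mat r (s1 r x y) = 1 + mat r x * mat r y := by
  ext i j; fin_cases i <;> fin_cases j <;> simp [mat, s1, Matrix.mul_apply, Fin.sum_univ_four, add_assoc]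
theorem mat_one : mat r one = 1 := by
  ext i j; fin_cases i <;> fin_cases j <;> simp [mat, one]
theorem mat_zero : mat r zero = 0 := by
  ext i j; fin_cases i <;> fin_cases j <;> simp [mat, zero]
theorem mat_gs (x : T) (n : ℕ) : mat r (gs r x n) = ∑ i ∈ range n, mat r x ^ i := by
  induction n with
  | zero => simp [gs, mat_zero]
  | succ n ih => rw [gs, mat_s1, ih, sum_range_succ', pow_zero, add_comm, mul_sum]; simp only [pow_succ']
theorem mat_pw (x : T) (n : ℕ) : mat r (pw r x n) = mat r x ^ n := by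
  induction n with
  | zero => simp [pw, mat_one]
  | succ n ih => rw [pw, mat_mul, ih, pow_succ']

/-- the order test -/
def Ord (x : T) (n : ℕ) : Prop := 0 < n ∧ mat r (pw r x n) = 1 ∧ ∀ m < n, 0 < m → mat r (pw r x m) ≠ 1

instance (x : T) (n : ℕ) : Decidable (Ord r x n) := by unfold Ord; infer_instance

theorem Ord.eq {r : ℕ} {x : T} {n : ℕ} (h : Ord r x n) {g : (Matrix (Fin 4) (Fin 4) (ZMod r))ˣ} (e : g.1 = mat r x) :
    orderOf g = n := by
  rw [← orderOf_units, e, orderOf_eq_iff h.1, ← mat_pw]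
  exact ⟨h.2.1, fun m h1 h2 => mat_pw r x m ▸ h.2.2 m h1 h2⟩

/-- the closure test -/
def chk (L : List T) (a b : T) (ns : List ℕ) : Bool := L.contains one && L.all fun x =>
  L.contains (mul r x a) && L.contains (mul r x b) && (x == one || ns.any fun n => gs r x n == zero)

theorem fpf {r : ℕ} [hr : Fact r.Prime] {L : List T} {a b : T} {ns : List ℕ} (h : chk r L a b ns = true)
    (hn : ∀ n ∈ ns, ¬ r ∣ n) (h0 : ns ≠ []) {m n k : ℕ} (ha : Ord r a m) (hb : Ord r b n) (hc : Ord r (mul r a b) k) :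
    ∃ (H : Type) (_ : Group H) (_ : Finite H) (ρ : H →* Module.End (ZMod r) (Fin 4 → ZMod r)),
      (∀ h, h ≠ 1 → ∀ v, ρ h v = v → v = 0) ∧ (∀ h : H, ∃ n ∈ ns, orderOf h ∣ n) ∧
      ∀ x ∈ [m, n, k], x ∈ Set.range (orderOf : H → ℕ) := by
  simp only [chk, Bool.and_eq_true, List.contains_iff_mem, List.all_eq_true, Bool.or_eq_true, beq_iff_eq,
    List.any_eq_true] at h
  let A := (IsUnit.of_pow_eq_one ((mat_pw r a m).symm.trans ha.2.1) ha.1.ne').unit
  let B := (IsUnit.of_pow_eq_one ((mat_pw r b n).symm.trans hb.2.1) hb.1.ne').unit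
  have k1 : ∀ y ∈ ({A, B} : Set _), ∀ x : (Matrix (Fin 4) (Fin 4) (ZMod r))ˣ, (∃ t ∈ L, x.1 = mat r t) →
      ∃ t ∈ L, (x * y).1 = mat r t := by
    rintro y (rfl | rfl) x ⟨t, h1, h2⟩
    · exact ⟨_, (h.2 t h1).1.1, by rw [mat_mul, ← h2]; rfl⟩
    · exact ⟨_, (h.2 t h1).1.2, by rw [mat_mul, ← h2]; rfl⟩
  have k2 : ∀ x ∈ Subgroup.closure ({A, B} : Set _), ∃ t ∈ L, x.1 = mat r t := fun x hx => by
    induction hx using closure_induction_right with
    | one => exact ⟨_, h.1, (mat_one r).symm⟩
    | mul_right x _ y hy ih => exact k1 y hy x ih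
    | mul_inv_cancel x _ y hy ih =>
      have : ∀ j : ℕ, ∃ t ∈ L, (x * y ^ j).1 = mat r t := fun j => by
        induction j with
        | zero => simpa using ih
        | succ j ih => rw [pow_succ, ← mul_assoc]; exact k1 y hy _ ih
      rw [inv_eq_of_mul_eq_one_left (show y ^ (orderOf y - 1) * y = 1 by
        rw [← pow_succ, Nat.sub_add_cancel (orderOf_pos y), pow_orderOf_eq_one])]
      exact this _
  have k3 : ∀ x : Subgroup.closure ({A, B} : Set _), x ≠ 1 → ∃ n ∈ ns, ∑ i ∈ range n, x.1.1 ^ i = 0 := fun x hx => by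
    obtain ⟨t, h1, h2⟩ := k2 x.1 x.2
    refine (h.2 t h1).2.elim (fun e => (hx (Subtype.ext (Units.ext ?_))).elim) fun ⟨n, h3, h4⟩ => ⟨n, h3, ?_⟩
    · rw [h2, e, mat_one]; rfl
    · rw [h2, ← mat_gs, h4, mat_zero]
  refine ⟨Subgroup.closure ({A, B} : Set _), inferInstance, inferInstance, (Matrix.toLinAlgEquiv'.toAlgHom.toMonoidHom.comp
    (Units.coeHom _)).comp (Subgroup.subtype _), fun x hx v hv => ?_, fun x => ?_, ?_⟩
  · obtain ⟨n, h1, h2⟩ := k3 x hx
    have hv : x.1.1.mulVec v = v := hv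
    have : ∀ i, (x.1.1 ^ i).mulVec v = v := fun i => by
      induction i with
      | zero => simp
      | succ i ih => rw [pow_succ, ← Matrix.mulVec_mulVec, hv, ih]
    have h3 := congrArg (fun m => Matrix.mulVec m v) h2
    simp only [Matrix.sum_mulVec, this, sum_const, card_range, Matrix.zero_mulVec] at h3
    rw [← Nat.cast_smul_eq_nsmul (ZMod r), smul_eq_zero, ZMod.natCast_eq_zero_iff] at h3
    exact h3.resolve_left (hn n h1)
  · by_cases hx : x = 1
    · obtain ⟨n, h1⟩ := List.exists_mem_of_ne_nil ns h0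
      exact ⟨n, h1, by rw [hx, orderOf_one]; exact one_dvd _⟩
    obtain ⟨n, h1, h2⟩ := k3 x hx
    refine ⟨n, h1, orderOf_dvd_of_pow_eq_one (Subtype.ext (Units.ext ?_))⟩
    have := mul_geom_sum x.1.1 n
    rw [h2, mul_zero, eq_comm, sub_eq_zero] at this
    simpa using this
  · have hA : A ∈ Subgroup.closure ({A, B} : Set _) := subset_closure (by simp)
    have hB : B ∈ Subgroup.closure ({A, B} : Set _) := subset_closure (by simp)
    simp only [List.forall_mem_cons, List.not_mem_nil, IsEmpty.forall_iff, implies_true, and_true]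
    exact ⟨⟨⟨A, hA⟩, (orderOf_mk _ _).trans (ha.eq rfl)⟩, ⟨⟨B, hB⟩, (orderOf_mk _ _).trans (hb.eq rfl)⟩,
      ⟨⟨A * B, mul_mem hA hB⟩, (orderOf_mk _ _).trans (hc.eq (mat_mul r a b).symm)⟩⟩

end T

theorem fpf_2S5 : ∃ (H : Type) (_ : Group H) (_ : Finite H) (ρ : H →* Module.End (ZMod 7) (Fin 4 → ZMod 7)),
      (∀ h, h ≠ 1 → ∀ v, ρ h v = v → v = 0) ∧ (∀ h : H, ∃ n ∈ [8, 10, 12], orderOf h ∣ n) ∧
      ∀ x ∈ [8, 12, 10], x ∈ Set.range (orderOf : H → ℕ) :=
  haveI : Fact (Nat.Prime 7) := ⟨by norm_num⟩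
  T.fpf (a := T.dec 7 13004432526522) (b := T.dec 7 9994918797605) (L := List.map (T.dec 7) [
    4747844002000, 13004432526522, 9994918797605, 15744371151660, 4049763959266, 8229997858253, 31530310871782,
    16470524914160, 24905006844219, 14340741391588, 29500287302950, 14728275197506, 20507781057640, 22720598151372,
    9787228041418, 28487064012000, 31913896180842, 16256649295110, 581369474840, 19762614890003, 23203128485550,
    13887469814867, 1089733290261, 15181040610050, 25914326725026, 26080594368026, 15841265103276, 14437323220408,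
    25831476375098, 26782466869782, 25767318978734, 24015430601939, 30532186324615, 5943738341182, 567710393063,
    24222830813218, 9842633244800, 10178714856249, 20355454677559, 14576274133962, 415418618987, 11206987798864,
    6892715590658, 21259281035586, 7824148348390, 17443141661640, 13921860010600, 28582576041994, 7308092895246,
    10594133340388, 13032275204148, 27817601736895, 9718189086864, 23027381179540, 1487080475590, 29863485281347,
    7241441459418, 2562689160650, 24593596560333, 9495692979168, 12262012529646, 22459771282402, 3195464984006,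
    1819326192358, 22708889275330, 22930487227924, 7089223335194, 484477187216, 6922949927050, 31267432929310,
    18991376797976, 13970607483197, 387583235600, 31488742639110, 4941636006384, 4682468556843, 5038529958000,
    13707441271526, 19088270749592, 15924403578342, 18593748291347, 9883270449624, 32343035849226, 32426174324292,
    18925999772867, 4447111026939, 96899716760, 22301226591096, 13769567410237, 19572435814012, 9271465011394,
    19184902008094, 18263971273560, 16051154179828, 24125949164182, 28679463337846, 22983402739739, 24319717369606,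
    19309631242158, 27564764532336, 23932183546882, 22162866177178, 4860103553742, 27969928926064, 14534507008888,
    27329231806818, 31463659435954, 24849892303744, 5136833042212, 19586360952906, 9216059824868, 15898862388896,
    19281788547676, 5386006484630, 152333088475, 4846184179306, 28748787207362, 32828013973162, 27633803386104,
    33201624995469, 24292160447192, 17457065974590, 31311366818735, 32661802707008, 29486368636809, 29458520194732,
    16677925833734, 16608886154022, 25684072631972, 14631388657924, 5261562326694, 17512471295614, 24167716289256,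
    6179592723902, 22515102918434, 18330868249597, 15568618080506, 24884276751189, 23590711603494, 12857425606174,
    12691152198030, 19475853985192, 11989285461418, 8423789862637, 22667320961005, 26588674865398, 11601707990962,
    25064311059674, 14243536981168, 31848796639006, 24704250896387, 24925848041853, 24029906755976, 1597734004908,
    854375760357, 2863219267238, 965030096411, 14824900690864, 8520683814253, 7283009692090, 7421469051962,
    23836114751592, 31737860632038, 13845904289347, 23106234533934, 16104431252539, 24441376619781, 3939110429948,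
    4571814338445, 23739220799976, 22847348635202, 6345577889252, 7033891699162, 14987254370810, 10077056688864,
    30251068516947, 26491780913782, 14067501434813, 15633717622342, 30347962468563, 2974155274206, 16062857290726,
    7464131094473, 207731227793, 9690346392382, 17640862741529, 19434075400094, 360023018725, 31781865254886,
    30947603982810, 21231439183904, 5330601163606, 28177618973956, 25739477127052, 29150245963458, 24642202255852,
    28624343049426, 20923158362228, 28776344163388, 7671855731514, 7460378921377, 6012777312592, 21996655011810,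
    11137948119152, 5570127201219, 17848593143028, 22775718456648, 29066993026294, 9285383559879, 21314685530666,
    12990508213572, 14129550058492, 5233713867754, 14700718291898, 19378670196712, 9593459835994, 31099895773742,
    10801823388280, 9980993658718, 623108549237, 11345349038726, 14178155770867, 2341379450850, 3717518242498,
    31682528878350, 193792122040, 6826055975434, 24801144848003, 290686073656, 28971541081560, 28874647129944,
    20178004039853, 6428710716830, 19845752558333, 2673625167618, 31350283161582, 13652112284963, 12183071700658,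
    15788343000373, 14423988564294])
    (by decide +kernel) (by decide) (by decide) (by decide +kernel) (by decide +kernel) (by decide +kernel)

theorem fpf_2O : ∃ (H : Type) (_ : Group H) (_ : Finite H) (ρ : H →* Module.End (ZMod 13) (Fin 4 → ZMod 13)),
      (∀ h, h ≠ 1 → ∀ v, ρ h v = v → v = 0) ∧ (∀ h : H, ∃ n ∈ [6, 8], orderOf h ∣ n) ∧
      ∀ x ∈ [8, 6, 4], x ∈ Set.range (orderOf : H → ℕ) :=
  haveI : Fact (Nat.Prime 13) := ⟨by norm_num⟩
  T.fpf (a := T.dec 13 27703342659006222) (b := T.dec 13 563652091632414554) (L := List.map (T.dec 13) [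
    51186030872953900, 27703342659006222, 563652091632414554, 3634511130624374, 15903758624723788, 46638602736063,
    512466060759460654, 23785680037612922, 514889068640033934, 39386308979808323, 102977813781770158,
    23855500071147160, 614232370475446800, 23739041434905420, 515191944499608222, 512768936619034942,
    23808861468439658, 7881921413260427, 105400821662343438, 103280689641344446, 105703697521917726, 256374425125117,
    15926940055550524, 302876675307206, 69957892026087, 35608445502722092, 35538625469187854, 2423007880573280,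
    255930154365883382, 156889728394871626, 566377975372562122, 27726524089832958, 563954967491988842,
    154466720514298346, 35655084105429594, 11822882119776377, 27656704056298720, 15857120022016286,
    156586852535297338, 43327269686324273, 27773162692540460, 1514379925358300, 154163844654724058, 35585264071895356,
    566075099512987834, 409488246982517318, 233055135835093, 15973578658258026])
    (by decide +kernel) (by decide) (by decide) (by decide +kernel) (by decide +kernel) (by decide +kernel)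

theorem fpf_38 : ∃ (H : Type) (_ : Group H) (_ : Finite H) (ρ : H →* Module.End (ZMod 7) (Fin 4 → ZMod 7)),
      (∀ h, h ≠ 1 → ∀ v, ρ h v = v → v = 0) ∧ (∀ h : H, ∃ n ∈ [8, 12], orderOf h ∣ n) ∧
      ∀ x ∈ [8, 12, 8], x ∈ Set.range (orderOf : H → ℕ) :=
  haveI : Fact (Nat.Prime 7) := ⟨by norm_num⟩
  T.fpf (a := T.dec 7 14084232435) (b := T.dec 7 2718824276462) (L := List.map (T.dec 7) [
    4747844002000, 14084232435, 2718824276462, 690087035750, 484474347665, 290684562637, 23739219976384, 581368770955,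
    14243532039616, 41689393991, 83093018365, 69289613995, 4071315778250, 28487064012000, 3395070024962,
    2042578537538, 96895481445, 193789904735, 387579689763, 18991375974384, 9495688037616, 27887636805, 55487856809,
    1366332789038])
    (by decide +kernel) (by decide) (by decide) (by decide +kernel) (by decide +kernel) (by decide +kernel)

theorem fpf_58 : ∃ (H : Type) (_ : Group H) (_ : Finite H) (ρ : H →* Module.End (ZMod 3) (Fin 4 → ZMod 3)),
      (∀ h, h ≠ 1 → ∀ v, ρ h v = v → v = 0) ∧ (∀ h : H, ∃ n ∈ [8, 10], orderOf h ∣ n) ∧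
      ∀ x ∈ [8, 10, 8], x ∈ Set.range (orderOf : H → ℕ) :=
  haveI : Fact (Nat.Prime 3) := ⟨by norm_num⟩
  T.fpf (a := T.dec 3 40272267) (b := T.dec 3 16050808) (L := List.map (T.dec 3) [
    14408200, 40272267, 16050808, 37360075, 12133461, 30919179, 33447842, 25229392, 24391525, 35849959, 18769740,
    29515537, 4975963, 12682583, 25656329, 28816400, 23032384, 6774535, 28652216, 20121809, 13600781, 15922388,
    9931478, 38670945, 33722531, 8831191, 22617465, 39025776, 32042324, 12957581, 19335837, 39645592, 7863286,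
    36785791, 41281790, 26652077, 9383334, 16753567, 20576868, 34495754])
    (by decide +kernel) (by decide) (by decide) (by decide +kernel) (by decide +kernel) (by decide +kernel)

/-- the Frobenius group given by a fixed point free module -/
theorem frob_spec {r : ℕ} (hr : r.Prime) {ns os : List ℕ} (h : ∃ (H : Type) (_ : Group H) (_ : Finite H)
    (ρ : H →* Module.End (ZMod r) (Fin 4 → ZMod r)), (∀ h, h ≠ 1 → ∀ v, ρ h v = v → v = 0) ∧
      (∀ h : H, ∃ n ∈ ns, orderOf h ∣ n) ∧ ∀ x ∈ os, x ∈ Set.range (orderOf : H → ℕ)) (ho : ∀ n ∈ ns, n ∈ os) :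
    ∃ (K : Type) (_ : Group K) (_ : Fintype K), ((∀ n ∈ ns, n ∣ 24) → Group.IsSolvable K) ∧
      Set.range (orderOf : K → ℕ) = {x | ∃ n ∈ r :: ns, x ∣ n} ∧ ∀ N, ∃ (L : Type) (_ : Group L) (_ : Fintype L),
        N < Fintype.card L ∧ Set.range (orderOf : L → ℕ) = {x | ∃ n ∈ r :: ns, x ∣ n} := by
  obtain ⟨H, _, _, ρ, h1, h2, h3⟩ := h
  haveI := Fact.mk hr
  have e : Set.range (orderOf : SD ρ → ℕ) = {x | ∃ n ∈ r :: ns, x ∣ n} := by
    rw [spec_SD_fpf ρ h1, spec_vec r]
    refine Set.ext fun x => ?_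
    simp only [List.exists_mem_cons_iff, Set.mem_setOf_eq, Set.mem_union]
    exact or_congr Iff.rfl ⟨fun ⟨g, e⟩ => e ▸ h2 g, fun ⟨n, h4, h5⟩ => spec_dvd (h3 n (ho n h4)) h5⟩
  refine ⟨SD ρ, inferInstance, Fintype.ofFinite _, fun h => sol_SD ρ (Solv.isSolvable_of_primes_subset Nat.prime_two
    Nat.prime_three fun q hq hd => ?_), e, fun N => e ▸ large_SD ρ hr ⊤ (by simp) ⟨1, trivial, one_ne_zero⟩
      (fun v _ => by rw [← Nat.cast_smul_eq_nsmul (ZMod r), ZMod.natCast_self, zero_smul]) N⟩
  obtain ⟨g, rfl⟩ := (prime_dvd_card_iff_mem_spec hq).1 hd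
  obtain ⟨n, h4, h5⟩ := h2 g
  have := (h5.trans (h n h4)).trans (show 24 ∣ 2 ^ 3 * 3 by norm_num)
  exact (hq.dvd_mul.1 this).imp (fun e => (Nat.prime_dvd_prime_iff_eq hq Nat.prime_two).1 (hq.dvd_of_dvd_pow e))
    (Nat.prime_dvd_prime_iff_eq hq Nat.prime_three).1

end Cfsg.Agent.PU
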