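/-
The centraliser of a transvection in `SL(n, 2)`.
-/
import Cfsg.Agent.Lib.Comp.Res
import Cfsg.Agent.Lib.Solv.Frob2
import Cfsg.Agent.Lib.Solv.Frattini
import Cfsg.Agent.Lib.Transfer.Rank
import Cfsg.Agent.S0242
import Cfsg.Prelude.Def_MonsterType

set_option autoImplicit false
set_option linter.unusedSectionVars false
set_option linter.unusedVariables false
set_option linter.style.haveILetI false
set_option linter.unusedSimpArgs false

namespace Cfsg.Agent.PU.Tv

open Subgroup Cfsg.Agent.Transfer Matrix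
open scoped commutatorElement

variable {ι : Type*} [Fintype ι] [DecidableEq ι] {F : Type*} [Field F] [Finite F]

abbrev SLm (ι F : Type*) [Fintype ι] [DecidableEq ι] [Field F] := Matrix.SpecialLinearGroup ι F

/-- a normal `p`-subgroup of `SL` in characteristic `p` is trivial -/
theorem normal_pgroup_bot {p : ℕ} [Fact p.Prime] (hp : p ∣ Nat.card F) (N : Subgroup (SLm ι F)) [hN : N.Normal]
    (h : IsPGroup p N) : N = ⊥ := by
  rcases isEmpty_or_nonempty ι with hι | hι
  · exact eq_bot_iff.2 fun g _ => mem_bot.2 (Subtype.ext (Subsingleton.elim _ _))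
  have hd : p ∣ Nat.card (ι → F) := by
    rw [Nat.card_fun]; exact hp.trans (dvd_pow_self _ Nat.card_pos.ne')
  obtain ⟨v, hv, hv0⟩ := h.exists_fixed_point_of_prime_dvd_card_of_fixed_point (ι → F) hd
    (a := 0) (fun g => smul_zero _)
  let W : Submodule F (ι → F) :=
    { carrier := {v | ∀ g ∈ N, g.1 *ᵥ v = v}
      zero_mem' := fun g _ => mulVec_zero _
      add_mem' := fun {a b} ha hb g hg => by rw [mulVec_add, ha g hg, hb g hg]
      smul_mem' := fun c a ha g hg => by rw [mulVec_smul, ha g hg] }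
  have inv : ∀ (x : SLm ι F), ∀ w ∈ W, x.1 *ᵥ w ∈ W := fun x w hw g hg => by
    have := hw _ (hN.conj_mem' g hg x)
    have e : g.1 * x.1 = x.1 * (x⁻¹ * g * x).1 := by
      exact congrArg Subtype.val (show g * x = x * (x⁻¹ * g * x) by group)
    rw [mulVec_mulVec, e, ← mulVec_mulVec, this]
  have step : ∀ w ∈ W, ∀ a b : ι, w a ≠ 0 → b ≠ a → Pi.single b (1 : F) ∈ W := by
    intro w hw a b ha hb
    have h1 := W.sub_mem (inv (SpecialLinearGroup.transvection hb (w a)⁻¹) w hw) hw
    convert h1 using 1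
    rw [SpecialLinearGroup.transvection_coe, add_mulVec, one_mulVec, add_sub_cancel_left,
      single_mulVec]
    ext k; by_cases hk : k = b
    · subst hk; simp [ha]
    · simp [hk]
  have hvW : v ∈ W := fun g hg => hv ⟨g, hg⟩
  obtain ⟨a, ha⟩ := Function.ne_iff.1 hv0.symm
  have all : ∀ b, Pi.single b (1 : F) ∈ W := by
    intro b
    by_cases hb : b = a
    · subst hb
      by_cases hc : ∃ c, c ≠ b
      · obtain ⟨c, hc⟩ := hc
        exact step _ (step v hvW b c ha hc) c b (by simp) hc.symm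
      · push Not at hc
        have : Pi.single b (1 : F) = (v b)⁻¹ • v := by
          ext k; rw [hc k]; simp; exact (inv_mul_cancel₀ ha).symm
        rw [this]; exact W.smul_mem _ hvW
    · exact step v hvW a b ha hb
  refine eq_bot_iff.2 fun g hg => mem_bot.2 (Subtype.ext ?_)
  ext k l
  have := congrFun (all l g hg) k
  rw [mulVec_single_one] at this
  simp only [col_apply] at this
  rw [this]; simp [Matrix.one_apply, Pi.single_apply]

/-- the field with two elements -/
def Two (F : Type*) [Field F] : Prop := ∀ x : F, x = 0 ∨ x = 1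

theorem Two.two (h : Two F) : (1 + 1 : F) = 0 :=
  (h (1 + 1)).resolve_right fun e => one_ne_zero (add_left_cancel (e.trans (add_zero 1).symm))
theorem Two.add_self (h : Two F) (x : F) : x + x = 0 := by
  rcases h x with rfl | rfl
  · simp
  · exact h.two
theorem Two.card (h : Two F) : Nat.card F = 2 :=
  Nat.card_eq_two_iff.2 ⟨0, 1, zero_ne_one, by ext x; simpa using h x⟩
theorem two_of_card (h : Nat.card F = 2) : Two F := fun x => by
  obtain ⟨y, hy, hu⟩ := (Nat.card_eq_two_iff' (0 : F)).1 h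
  by_cases hx : x = 0
  · exact Or.inl hx
  · exact Or.inr ((hu x hx).trans (hu 1 one_ne_zero).symm)
theorem two_zmod : Two (ZMod 2) := two_of_card (Nat.card_zmod 2)

def mkSL (h : Two F) (M : Matrix ι ι F) (hM : IsUnit M) : SLm ι F :=
  ⟨M, (h _).resolve_left ((Matrix.isUnit_iff_isUnit_det M).1 hM).ne_zero⟩

variable {i j : ι}

abbrev tv (hij : i ≠ j) : SLm ι F := SpecialLinearGroup.transvection hij 1

theorem tv_val (hij : i ≠ j) : (tv hij : SLm ι F).1 = 1 + single i j 1 := rfl

theorem comm_single_iff {M : Matrix ι ι F} : M * single i j 1 = single i j (1 : F) * M ↔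
    ∀ k l, (if l = j then M k i else 0) = (if k = i then M j l else 0) := by
  rw [← Matrix.ext_iff]
  refine forall_congr' fun k => forall_congr' fun l => ?_
  have h1 : (M * single i j (1 : F)) k l = if l = j then M k i else 0 := by
    split_ifs with h
    · subst h; simp
    · exact mul_single_apply_of_ne _ _ _ _ _ h _
  have h2 : (single i j (1 : F) * M) k l = if k = i then M j l else 0 := by
    split_ifs with h
    · subst h; simp
    · exact single_mul_apply_of_ne _ _ _ _ _ h _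
  rw [h1, h2]

theorem mem_cent_iff (hij : i ≠ j) {g : SLm ι F} : g ∈ centralizer ({tv hij} : Set (SLm ι F)) ↔
    g.1 * single i j 1 = single i j (1 : F) * g.1 := by
  rw [mem_centralizer_singleton_iff]
  refine Subtype.ext_iff.trans ?_
  show g.1 * (1 + single i j 1) = (1 + single i j 1) * g.1 ↔ _
  rw [mul_add, add_mul, mul_one, one_mul, add_right_inj]

theorem mem_C (h : Two F) (hij : i ≠ j) {g : SLm ι F} : g ∈ centralizer ({tv hij} : Set (SLm ι F)) ↔
    (∀ k, g.1 k i = (1 : Matrix ι ι F) k i) ∧ ∀ l, g.1 j l = (1 : Matrix ι ι F) j l := by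
  rw [mem_cent_iff, comm_single_iff]
  constructor
  · intro H
    have h1 : ∀ k, k ≠ i → g.1 k i = 0 := fun k hk => by simpa [hk] using H k j
    have h2 : ∀ l, l ≠ j → g.1 j l = 0 := fun l hl => by simpa [hl] using (H i l).symm
    have h3 : g.1 i i = g.1 j j := by simpa using H i j
    have h4 : g.1 i i = 1 := (h _).resolve_left fun e => by
      have := det_eq_zero_of_column_eq_zero (A := g.1) i fun k => by
        by_cases hk : k = i
        · rw [hk, e]
        · exact h1 k hk
      rw [g.2] at this; exact one_ne_zero this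
    refine ⟨fun k => ?_, fun l => ?_⟩
    · by_cases hk : k = i
      · rw [hk, h4, one_apply_eq]
      · rw [h1 k hk, one_apply_ne hk]
    · by_cases hl : l = j
      · rw [hl, ← h3, h4, one_apply_eq]
      · rw [h2 l hl, one_apply_ne (Ne.symm hl)]
  · rintro ⟨h1, h2⟩ k l
    rw [h1, h2]
    by_cases hk : k = i <;> by_cases hl : l = j <;> simp [hk, hl, one_apply, eq_comm]
    exact Ne.symm hl

/-- the middle index set -/
abbrev Mid (i j : ι) := {k : ι // k ≠ i ∧ k ≠ j}

theorem sum_mid (hij : i ≠ j) (f : ι → F) : ∑ k, f k = f i + f j + ∑ k : Mid i j, f k := by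
  rw [← Finset.sum_subtype (s := (Finset.univ.erase i).erase j) (by simp [and_comm]),
    ← Finset.add_sum_erase _ _ (Finset.mem_univ i),
    ← Finset.add_sum_erase _ _ (Finset.mem_erase.2 ⟨hij.symm, Finset.mem_univ j⟩), add_assoc]

theorem card_mid (hij : i ≠ j) : Fintype.card (Mid i j) + 2 = Fintype.card ι := by
  rw [Fintype.card_subtype]
  have : (Finset.univ.filter fun k : ι => k ≠ i ∧ k ≠ j) = (Finset.univ.erase i).erase j := by
    ext; simp [and_comm]
  rw [this, Finset.card_erase_of_mem (Finset.mem_erase.2 ⟨hij.symm, Finset.mem_univ j⟩),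
    Finset.card_erase_of_mem (Finset.mem_univ i), Finset.card_univ]
  have : 1 < Fintype.card ι := Fintype.one_lt_card_iff.2 ⟨i, j, hij⟩
  omega

def piM (h : Two F) (hij : i ≠ j) : centralizer ({tv hij} : Set (SLm ι F)) →* Matrix (Mid i j) (Mid i j) F where
  toFun g := g.1.1.submatrix Subtype.val Subtype.val
  map_one' := by ext k l; simp [one_apply, Subtype.ext_iff]
  map_mul' g g' := by
    ext k l
    show (g.1.1 * g'.1.1) k l = _
    rw [mul_apply, mul_apply, sum_mid hij, ((mem_C h hij).1 g.2).1, ((mem_C h hij).1 g'.2).2,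
      one_apply_ne k.2.1, one_apply_ne l.2.2.symm]
    simp

def piS (h : Two F) (hij : i ≠ j) : centralizer ({tv hij} : Set (SLm ι F)) →* SLm (Mid i j) F where
  toFun g := mkSL h (piM h hij g) ((Group.isUnit g).map _)
  map_one' := Subtype.ext (map_one (piM h hij))
  map_mul' g g' := Subtype.ext (map_mul (piM h hij) g g')

def secM (hij : i ≠ j) : Matrix (Mid i j) (Mid i j) F →* Matrix ι ι F where
  toFun N := of fun k l => if h : (k ≠ i ∧ k ≠ j) ∧ (l ≠ i ∧ l ≠ j) then N ⟨k, h.1⟩ ⟨l, h.2⟩ else (1 : Matrix ι ι F) k l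
  map_one' := by ext k l; simp [one_apply]
  map_mul' N N' := by
    ext k l
    rw [mul_apply, sum_mid hij]
    by_cases hk : k ≠ i ∧ k ≠ j
    · by_cases hl : l ≠ i ∧ l ≠ j
      · simp [hk, hl, mul_apply, one_apply, hk.1, hk.2, Subtype.prop]
        exact Finset.sum_congr rfl fun m _ => by simp [m.2.1, m.2.2]
      · have e : ∀ m : Mid i j, (1 : Matrix ι ι F) m l = 0 := fun m => one_apply_ne fun e => hl (e ▸ m.2)
        have e' : (1 : Matrix ι ι F) k l = 0 := e ⟨k, hk⟩
        simp only [of_apply, hl, and_false, dif_neg, not_false_eq_true, e, e', mul_zero, Finset.sum_const_zero,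
          ne_eq, not_true_eq_false, false_and, one_apply_ne hk.1, one_apply_ne hk.2, zero_mul, add_zero]
    · have e : ∀ m : Mid i j, (1 : Matrix ι ι F) k m = 0 := fun m => one_apply_ne fun e => hk (e ▸ m.2)
      simp only [of_apply, hk, false_and, dif_neg, not_false_eq_true, e, zero_mul, Finset.sum_const_zero,
        ne_eq, not_true_eq_false, and_false, add_zero]
      rcases not_and_or.1 hk with h | h
      · rw [not_not.1 h, one_apply_eq, one_apply_ne hij]; simp
      · rw [not_not.1 h, one_apply_eq, one_apply_ne hij.symm]; simp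

def secS (h : Two F) (hij : i ≠ j) : SLm (Mid i j) F →* SLm ι F where
  toFun N := mkSL h (secM hij N.1) (((Group.isUnit N).map (SpecialLinearGroup.coeMonoidHom)).map _)
  map_one' := Subtype.ext (map_one (secM hij))
  map_mul' g g' := Subtype.ext (map_mul (secM hij) g.1 g'.1)

theorem secS_val (h : Two F) (hij : i ≠ j) (N : SLm (Mid i j) F) (k l : ι) : (secS h hij N).1 k l =
    if h : (k ≠ i ∧ k ≠ j) ∧ (l ≠ i ∧ l ≠ j) then N.1 ⟨k, h.1⟩ ⟨l, h.2⟩ else (1 : Matrix ι ι F) k l := rfl

theorem secS_mem (h : Two F) (hij : i ≠ j) (N : SLm (Mid i j) F) :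
    secS h hij N ∈ centralizer ({tv hij} : Set (SLm ι F)) :=
  (mem_C h hij).2 ⟨fun k => by simp [secS_val], fun k => by simp [secS_val]⟩

theorem piS_sec (h : Two F) (hij : i ≠ j) (N : SLm (Mid i j) F) : piS h hij ⟨_, secS_mem h hij N⟩ = N := by
  apply Subtype.ext; ext k l
  show (secS h hij N).1 k l = _
  simp [secS_val, k.2.1, k.2.2, l.2.1, l.2.2]

theorem piS_surj (h : Two F) (hij : i ≠ j) : Function.Surjective (piS h hij) := fun N => ⟨_, piS_sec h hij N⟩

/-- the shape of `g - 1` for `g` in the unipotent radical -/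
def Nq (i j : ι) (X : Matrix ι ι F) : Prop := (∀ k l, k ≠ i → l ≠ j → X k l = 0) ∧ X i i = 0 ∧ X j j = 0

theorem Nq.col {X : Matrix ι ι F} (hij : i ≠ j) (h : Nq i j X) (k : ι) : X k i = 0 := by
  by_cases hk : k = i
  · rw [hk, h.2.1]
  · exact h.1 k i hk hij
theorem Nq.row {X : Matrix ι ι F} (hij : i ≠ j) (h : Nq i j X) (l : ι) : X j l = 0 := by
  by_cases hl : l = j
  · rw [hl, h.2.2]
  · exact h.1 j l hij.symm hl

theorem Nq.mul {X Y : Matrix ι ι F} (hij : i ≠ j) (hX : Nq i j X) (hY : Nq i j Y) :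
    X * Y = single i j (∑ m, X i m * Y m j) := by
  ext k l
  by_cases hk : k = i
  · by_cases hl : l = j
    · rw [hk, hl, single_apply_same, mul_apply]
    · rw [single_apply_of_ne _ _ _ _ _ (fun e => hl e.2.symm), mul_apply]
      refine Finset.sum_eq_zero fun m _ => ?_
      by_cases hm : m = i
      · rw [hm, hX.col hij, zero_mul]
      · rw [hY.1 m l hm hl, mul_zero]
  · rw [single_apply_of_ne _ _ _ _ _ (fun e => hk e.1.symm), mul_apply]
    refine Finset.sum_eq_zero fun m _ => ?_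
    by_cases hm : m = j
    · rw [hm, hY.row hij, mul_zero]
    · rw [hX.1 k m hk hm, zero_mul]

theorem nq_single (hij : i ≠ j) (c : F) : Nq i j (single i j c) :=
  ⟨fun k l hk _ => single_apply_of_ne _ _ _ _ _ fun e => hk e.1.symm,
    single_apply_of_ne _ _ _ _ _ fun e => hij e.2.symm, single_apply_of_ne _ _ _ _ _ fun e => hij e.1⟩

theorem Nq.single_mul {Y : Matrix ι ι F} (hij : i ≠ j) (hY : Nq i j Y) (c : F) : single i j c * Y = 0 := by
  ext k l
  by_cases hk : k = i
  · rw [hk, single_mul_apply_same, hY.row hij]; simp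
  · rw [single_mul_apply_of_ne _ _ _ _ _ hk]; rfl

theorem Nq.unit {X : Matrix ι ι F} (hij : i ≠ j) (hX : Nq i j X) : IsUnit (1 + X) :=
  IsNilpotent.isUnit_one_add ⟨3, by rw [pow_succ, pow_two, hX.mul hij hX, hX.single_mul hij]⟩

def QQ (h : Two F) (hij : i ≠ j) : Subgroup (SLm ι F) :=
  (piS h hij).ker.map (centralizer ({tv hij} : Set (SLm ι F))).subtype

theorem QQ_le (h : Two F) (hij : i ≠ j) : QQ h hij ≤ centralizer ({tv hij} : Set (SLm ι F)) := map_subtype_le _

theorem nn_QQ (h : Two F) (hij : i ≠ j) :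
    centralizer ({tv hij} : Set (SLm ι F)) ≤ normalizer (QQ h hij : Set (SLm ι F)) := by
  have := le_normalizer_map (H := (piS h hij).ker) (centralizer ({tv hij} : Set (SLm ι F))).subtype
  rwa [normalizer_eq_top, ← MonoidHom.range_eq_map, range_subtype] at this

theorem mem_QQ (h : Two F) (hij : i ≠ j) {g : SLm ι F} : g ∈ QQ h hij ↔ Nq i j (g.1 - 1) := by
  constructor
  · rintro ⟨⟨x, hx⟩, h1, rfl⟩
    obtain ⟨h2, h3⟩ := (mem_C h hij).1 hx
    refine ⟨fun k l hk hl => ?_, by simp [h2], by simp [h3]⟩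
    show x.1 k l - (1 : Matrix ι ι F) k l = 0
    by_cases hkj : k = j
    · rw [hkj, h3, sub_self]
    by_cases hli : l = i
    · rw [hli, h2, sub_self]
    have := congrFun (congrFun (congrArg Subtype.val (show piS h hij ⟨x, hx⟩ = 1 from h1)) ⟨k, hk, hkj⟩) ⟨l, hli, hl⟩
    have e : x.1 k l = (1 : Matrix (Mid i j) (Mid i j) F) ⟨k, hk, hkj⟩ ⟨l, hli, hl⟩ := this
    rw [e]; simp [one_apply]
  · intro H
    refine ⟨⟨g, (mem_C h hij).2 ⟨fun k => sub_eq_zero.1 (H.col hij k), fun l => sub_eq_zero.1 (H.row hij l)⟩⟩,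
      MonoidHom.mem_ker.2 (Subtype.ext ?_), rfl⟩
    ext k l
    have := sub_eq_zero.1 (H.1 k l k.2.1 l.2.2)
    show g.1 k l = (1 : Matrix (Mid i j) (Mid i j) F) k l
    rw [this]; simp [one_apply, Subtype.ext_iff]

theorem tv_pow (hij : i ≠ j) (h : Two F) : (tv hij : SLm ι F) ^ 2 = 1 := by
  rw [pow_two, ← SpecialLinearGroup.transvection_add, h.two, SpecialLinearGroup.transvection_coeff_zero]

theorem tv_ne_one (hij : i ≠ j) : (tv hij : SLm ι F) ≠ 1 := fun e => by
  have := congrFun (congrFun (congrArg Subtype.val e) i) j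
  simp [tv_val, one_apply_ne hij] at this

theorem orderOf_tv (hij : i ≠ j) (h : Two F) : orderOf (tv hij : SLm ι F) = 2 :=
  orderOf_eq_prime (tv_pow hij h) (tv_ne_one hij)

theorem mem_zp (h : Two F) (hij : i ≠ j) {g : SLm ι F} {c : F} (hg : g.1 = 1 + single i j c) :
    g ∈ zpowers (tv hij : SLm ι F) := by
  rcases h c with rfl | rfl
  · have : g = 1 := Subtype.ext (by simpa using hg)
    rw [this]; exact one_mem _
  · have : g = tv hij := Subtype.ext hg
    rw [this]; exact mem_zpowers _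

theorem tv_mem_QQ (h : Two F) (hij : i ≠ j) {k l : ι} (hkl : k ≠ l) (h1 : k = i ∨ l = j) (h2 : l ≠ i) (h3 : k ≠ j) :
    (tv hkl : SLm ι F) ∈ QQ h hij := by
  rw [mem_QQ, tv_val, add_sub_cancel_left]
  refine ⟨fun a b ha hb => single_apply_of_ne _ _ _ _ _ fun e => ?_, single_apply_of_ne _ _ _ _ _ fun e => h2 e.2,
    single_apply_of_ne _ _ _ _ _ fun e => h3 e.1⟩
  rcases h1 with h1 | h1
  · exact ha (e.1.symm.trans h1)
  · exact hb (e.2.symm.trans h1)

theorem sq_mem (h : Two F) (hij : i ≠ j) {g : SLm ι F} (hg : g ∈ QQ h hij) : g ^ 2 ∈ zpowers (tv hij : SLm ι F) := by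
  have H := (mem_QQ h hij).1 hg
  refine mem_zp h hij (c := ∑ m, (g.1 - 1) i m * (g.1 - 1) m j) ?_
  rw [← H.mul hij H, pow_two]
  show g.1 * g.1 = _
  have e : g.1 + g.1 = 0 := by ext k l; exact h.add_self _
  have e1 : (1 : Matrix ι ι F) + 1 = 0 := by ext k l; exact h.add_self _
  calc g.1 * g.1 = g.1 * g.1 - (g.1 + g.1) + (1 + 1) := by rw [e, e1]; simp
    _ = _ := by noncomm_ring

theorem pgroup_QQ (h : Two F) (hij : i ≠ j) : IsPGroup 2 (QQ h hij) := fun g => ⟨2, Subtype.ext (by
  have h1 := sq_mem h hij g.2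
  have h2 : (g.1 ^ 2) ^ 2 = 1 := by
    have := Solv.pow_card_eq_one_of_mem h1
    rwa [Nat.card_zpowers, orderOf_tv hij h] at this
  rw [← pow_mul] at h2; exact h2)⟩

theorem cent_QQ (h : Two F) (hij : i ≠ j) (m : Mid i j) :
    centralizer (QQ h hij : Set (SLm ι F)) ≤ zpowers (tv hij : SLm ι F) := by
  intro g hg
  have c : ∀ {k l : ι} (hkl : k ≠ l), (k = i ∨ l = j) → l ≠ i → k ≠ j →
      (∀ a, g.1 a k = (1 : Matrix ι ι F) a k) ∧ ∀ b, g.1 l b = (1 : Matrix ι ι F) l b := fun hkl h1 h2 h3 =>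
    (mem_C h hkl).1 (mem_centralizer_singleton_iff.2 (hg _ (tv_mem_QQ h hij hkl h1 h2 h3)).symm)
  refine mem_zp h hij (c := g.1 i j) ?_
  ext k l
  by_cases hk : k = i
  · by_cases hl : l = j
    · rw [hk, hl]; simp [one_apply_ne hij]
    · rw [(c (k := l) (l := j) hl (Or.inr rfl) hij.symm hl).1 k, Matrix.add_apply,
        single_apply_of_ne _ _ _ _ _ (fun e => hl e.2.symm), add_zero]
  · rw [(c (k := i) (l := k) (Ne.symm hk) (Or.inl rfl) hk hij).2 l, Matrix.add_apply,
      single_apply_of_ne _ _ _ _ _ (fun e => hk e.1.symm), add_zero]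

theorem Op_C (h : Two F) (hij : i ≠ j) :
    (pCore 2 (centralizer ({tv hij} : Set (SLm ι F)))).map (Subgroup.subtype _) = QQ h hij := by
  apply le_antisymm
  · refine map_mono ?_
    haveI := Normal.map (inferInstance : (pCore 2 (centralizer ({tv hij} : Set (SLm ι F)))).Normal) _ (piS_surj h hij)
    rw [← Subgroup.map_eq_bot_iff]
    exact normal_pgroup_bot (p := 2) (by rw [h.card]) _ ((Solv.isPGroup_pCore 2 _).map _)
  · rw [Comp.map_pCore]
    exact Comp.le_Op (QQ_le h hij) (nn_QQ h hij) (pgroup_QQ h hij)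

def qm (a b : Mid i j → F) (c : F) : Matrix ι ι F := of fun k l =>
  if k = i then (if h : l ≠ i ∧ l ≠ j then a ⟨l, h⟩ else if l = j then c else 0)
  else if l = j then (if h : k ≠ i ∧ k ≠ j then b ⟨k, h⟩ else 0) else 0

theorem nq_qm (hij : i ≠ j) (a b : Mid i j → F) (c : F) : Nq i j (qm a b c) :=
  ⟨fun k l hk hl => by simp [qm, hk, hl], by simp [qm, hij], by simp [qm, hij.symm]⟩

def qEquiv (h : Two F) (hij : i ≠ j) : QQ h hij ≃ (Mid i j → F) × (Mid i j → F) × F where
  toFun g := (fun l => g.1.1 i l, fun k => g.1.1 k j, g.1.1 i j)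
  invFun x := ⟨mkSL h (1 + qm x.1 x.2.1 x.2.2) ((nq_qm hij _ _ _).unit hij), (mem_QQ h hij).2 (by
    show Nq i j (1 + qm x.1 x.2.1 x.2.2 - 1)
    rw [add_sub_cancel_left]; exact nq_qm hij _ _ _)⟩
  left_inv g := by
    have H := (mem_QQ h hij).1 g.2
    apply Subtype.ext; apply Subtype.ext
    show 1 + qm _ _ _ = g.1.1
    rw [← eq_sub_iff_add_eq']
    ext k l
    by_cases hk : k = i
    · subst hk
      by_cases hl : l = k
      · subst hl; rw [H.2.1]; simp [qm, hij]
      · by_cases hl' : l = j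
        · subst hl'; simp [qm, one_apply_ne hij]
        · simp [qm, hl, hl', one_apply_ne (Ne.symm hl)]
    · by_cases hl : l = j
      · subst hl
        by_cases hk' : k = l
        · subst hk'; rw [H.2.2]; simp [qm, hk]
        · simp [qm, hk, hk', one_apply_ne hk']
      · rw [H.1 k l hk hl]; simp [qm, hk, hl]
  right_inv x := by
    refine Prod.ext (funext fun l => ?_) (Prod.ext (funext fun k => ?_) ?_)
    · show (1 + qm x.1 x.2.1 x.2.2) i l = _
      simp [qm, l.2.1, l.2.2, one_apply_ne l.2.1.symm]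
    · show (1 + qm x.1 x.2.1 x.2.2) k j = _
      simp [qm, k.2.1, k.2.2, one_apply_ne k.2.2]
    · show (1 + qm x.1 x.2.1 x.2.2) i j = _
      simp [qm, one_apply_ne hij]

theorem card_QQ (h : Two F) (hij : i ≠ j) : Nat.card (QQ h hij) = 2 ^ (2 * Fintype.card (Mid i j) + 1) := by
  rw [Nat.card_congr (qEquiv h hij), Nat.card_prod, Nat.card_prod, Nat.card_fun, h.card,
    Nat.card_eq_fintype_card]
  ring

theorem card_C (h : Two F) (hij : i ≠ j) : Nat.card (centralizer ({tv hij} : Set (SLm ι F))) =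
    2 ^ (2 * Fintype.card (Mid i j) + 1) * Nat.card (SLm (Mid i j) F) := by
  rw [← card_QQ h hij, QQ, card_map_of_injective (Subgroup.subtype_injective _), mul_comm,
    card_eq_card_quotient_mul_card_subgroup (piS h hij).ker,
    Nat.card_congr (QuotientGroup.quotientKerEquivOfSurjective _ (piS_surj h hij)).toEquiv]

def colH (h : Two F) (hij : i ≠ j) : QQ h hij →* Multiplicative (Mid i j → F) where
  toFun g := Multiplicative.ofAdd fun k => g.1.1 k j
  map_one' := by ext k; exact one_apply_ne k.2.2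
  map_mul' g g' := by
    have H := (mem_QQ h hij).1 g.2
    have H' := (mem_QQ h hij).1 g'.2
    ext k
    show (g.1.1 * g'.1.1) k j = g.1.1 k j + g'.1.1 k j
    have e : g.1.1 * g'.1.1 = g.1.1 + g'.1.1 - 1 + (g.1.1 - 1) * (g'.1.1 - 1) := by noncomm_ring
    rw [e, H.mul hij H']
    simp [one_apply_ne k.2.2, single_apply_of_ne _ _ _ _ _ (fun e : i = k ∧ j = j => k.2.1 e.1.symm)]

theorem exists_E (h : Two F) (hij : i ≠ j) : ∃ E ≤ QQ h hij, IsElementaryAbelian 2 E ∧
    Nat.card E = 2 ^ (Fintype.card (Mid i j) + 1) := by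
  refine ⟨(colH h hij).ker.map (Subgroup.subtype _), map_subtype_le _, elem_two_of_mul_self ?_, ?_⟩
  · rintro _ ⟨g, hg, rfl⟩
    have H := (mem_QQ h hij).1 g.2
    have h0 : ∀ k : Mid i j, g.1.1 k j = 0 := fun k => congrFun (show colH h hij g = 1 from hg) k
    apply Subtype.ext
    show g.1.1 * g.1.1 = 1
    have e : g.1.1 + g.1.1 = 0 := by ext k l; exact h.add_self _
    have e1 : (1 : Matrix ι ι F) + 1 = 0 := by ext k l; exact h.add_self _
    have e2 : (g.1.1 - 1) * (g.1.1 - 1) = 0 := by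
      rw [H.mul hij H, sum_mid hij, H.2.1, H.2.2, Finset.sum_eq_zero fun m _ => by
        rw [Matrix.sub_apply g.1.1 1 m j, h0 m, one_apply_ne m.2.2]; simp]
      simp
    calc g.1.1 * g.1.1 = (g.1.1 - 1) * (g.1.1 - 1) + (g.1.1 + g.1.1) - (1 + 1) + 1 := by noncomm_ring
      _ = 1 := by rw [e, e1, e2]; simp
  · have s : Function.Surjective (colH h hij) := fun b =>
      ⟨(qEquiv h hij).symm (0, b.toAdd, 0), by
        have := congrArg (fun x => x.2.1) ((qEquiv h hij).apply_symm_apply (0, b.toAdd, 0))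
        exact this⟩
    have := card_eq_card_quotient_mul_card_subgroup (colH h hij).ker
    rw [Nat.card_congr (QuotientGroup.quotientKerEquivOfSurjective _ s).toEquiv, card_QQ,
      Nat.card_congr Multiplicative.toAdd, Nat.card_fun, h.card, Nat.card_eq_fintype_card] at this
    rw [card_map_of_injective (Subgroup.subtype_injective _)]
    apply Nat.eq_of_mul_eq_mul_left (Nat.two_pow_pos (Fintype.card (Mid i j)))
    rw [← this]; ring

def slCongr {κ : Type*} [Fintype κ] [DecidableEq κ] (e : ι ≃ κ) : SLm ι F ≃* SLm κ F where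
  toFun g := ⟨reindex e e g.1, by rw [det_reindex_self, g.2]⟩
  invFun g := ⟨reindex e.symm e.symm g.1, by rw [det_reindex_self, g.2]⟩
  left_inv g := Subtype.ext (by simp)
  right_inv g := Subtype.ext (by simp)
  map_mul' g g' := Subtype.ext (by
    show reindex e e (g.1 * g'.1) = reindex e e g.1 * reindex e e g'.1
    simp [submatrix_mul_equiv])

theorem exists_K (h : Two F) (hij : i ≠ j) : ∃ K ≤ centralizer ({tv hij} : Set (SLm ι F)), QQ h hij ⊓ K = ⊥ ∧
    QQ h hij ⊔ K = centralizer ({tv hij} : Set (SLm ι F)) ∧ Nonempty (K ≃* SLm (Mid i j) F) := by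
  have hK : (secS h hij).range ≤ centralizer ({tv hij} : Set (SLm ι F)) := by
    rintro _ ⟨N, rfl⟩; exact secS_mem h hij N
  refine ⟨(secS h hij).range, hK, eq_bot_iff.2 ?_, le_antisymm (sup_le (QQ_le h hij) hK) fun g hg => ?_,
    ⟨(MonoidHom.ofInjective fun a b e => ?_).symm⟩⟩
  · rintro _ ⟨⟨x, hx, e⟩, N, rfl⟩
    have : x = ⟨_, secS_mem h hij N⟩ := Subtype.ext e
    have h1 : piS h hij x = 1 := hx
    rw [this, piS_sec] at h1
    rw [h1, map_one]; exact one_mem _
  · have e : g = g * (secS h hij (piS h hij ⟨g, hg⟩))⁻¹ * secS h hij (piS h hij ⟨g, hg⟩) := by group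
    rw [e]
    refine mul_mem (mem_sup_left ⟨⟨g, hg⟩ * ⟨_, secS_mem h hij (piS h hij ⟨g, hg⟩)⟩⁻¹, ?_, rfl⟩)
      (mem_sup_right ⟨_, rfl⟩)
    show piS h hij _ = 1
    rw [map_mul, map_inv, piS_sec, mul_inv_cancel]
  · rw [← piS_sec h hij a, ← piS_sec h hij b]; congr 1; exact Subtype.ext e

section abstract
variable {G : Type*} [Group G] [Finite G]

theorem extra_of {p : ℕ} [hp : Fact p.Prime] {Q : Subgroup G} {z : G} (hQ : IsPGroup p Q) (hz : orderOf z = p)
    (h1 : Q ⊓ centralizer (Q : Set G) = zpowers z) (h2 : ⁅Q, Q⁆ ≤ zpowers z) (h3 : ∀ x ∈ Q, x ^ p ∈ zpowers z)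
    (h4 : ¬ Q ≤ zpowers z) : IsExtraspecial p Q := by
  have cz : Nat.card (zpowers z) = p := by rw [Nat.card_zpowers, hz]
  have e : ⁅Q, Q⁆ = zpowers z := by
    have : ⁅Q, Q⁆ ≠ ⊥ := fun e => h4 (h1 ▸ le_inf le_rfl (commutator_eq_bot_iff_le_centralizer.1 e))
    refine eq_of_le_of_card_ge h2 ?_
    rcases (Nat.dvd_prime hp.out).1 (cz ▸ card_dvd_of_le h2) with h | h
    · exact absurd (eq_bot_of_card_eq _ h) this
    · rw [cz, h]
  refine ⟨⟨hQ, map_injective Q.subtype_injective ?_, map_injective Q.subtype_injective ?_⟩, ?_⟩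
  · rw [map_center_eq, h1]
    exact le_antisymm (Solv.map_frattini_le_of_commutator_le_of_pow_mem h2 h3)
      (e ▸ Solv.commutator_le_map_frattini hQ.isNilpotent)
  · rw [map_center_eq, h1, map_commutator_eq', e]
  · rw [← card_map_of_injective Q.subtype_injective, map_center_eq, h1, cz]

theorem eq_of_mem_zp {z x : G} (hz : orderOf z = 2) (hx : x ∈ zpowers z) (h : x ≠ 1) : x = z := by
  classical
  obtain ⟨k, hk, rfl⟩ := Finset.mem_image.1 (mem_zpowers_iff_mem_range_orderOf.1 hx)
  rw [hz] at hk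
  have : k = 0 ∨ k = 1 := by have := Finset.mem_range.1 hk; omega
  rcases this with rfl | rfl
  · exact absurd (pow_zero z) h
  · exact pow_one z

theorem cent_zp (z : G) : centralizer (zpowers z : Set G) = centralizer {z} := by
  rw [zpowers_eq_closure, centralizer_closure]

theorem comm_le_of_sq {Q Z : Subgroup G} (h : ∀ x ∈ Q, x ^ 2 ∈ Z) : ⁅Q, Q⁆ ≤ Z :=
  commutator_le.2 fun a ha b hb => by
    have e : ⁅a, b⁆ = a ^ 2 * (a⁻¹ * b) ^ 2 * (b ^ 2)⁻¹ := by
      simp only [commutatorElement_def, pow_two]; group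
    rw [e]
    exact mul_mem (mul_mem (h a ha) (h _ (mul_mem (inv_mem ha) hb))) (inv_mem (h b hb))

/-- `[C_K(e), x] = 1` for `x` in a 2-subgroup normal in `C(e)` -/
theorem cent_odd {K R : Subgroup G} {e x : G} (hK : Odd (Nat.card K)) (hR : IsPGroup 2 R)
    (h1 : centralizer ({e} : Set G) ≤ normalizer (R : Set G)) (hx : x ∈ R) (hxK : x ∈ normalizer (K : Set G)) :
    K ⊓ centralizer {e} ≤ centralizer {x} := fun k hk => by
  replace hk := mem_inf.1 hk
  have h2 : K ⊓ R = ⊥ := by
    obtain ⟨n, hn⟩ := IsPGroup.iff_card.1 hR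
    exact (disjoint_of_coprime_natCard (by rw [hn]; exact (Nat.coprime_two_right.2 hK).pow_right n)).eq_bot
  have h3 : k * x * k⁻¹ * x⁻¹ ∈ K ⊓ R := ⟨by
      have := mul_mem hk.1 (conj_mem_of_mem_normalizer hxK (inv_mem hk.1))
      simpa [mul_assoc] using this,
    R.mul_mem (conj_mem_of_mem_normalizer (h1 hk.2) hx) (R.inv_mem hx)⟩
  rw [h2, mem_bot, mul_inv_eq_one, mul_inv_eq_iff_eq_mul] at h3
  exact mem_centralizer_singleton_iff.2 h3

theorem bot_of_three {K : Subgroup G} {a b : G} (ha : a ∈ normalizer (K : Set G)) (hb : b ∈ normalizer (K : Set G))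
    (a2 : a * a = 1) (b2 : b * b = 1) (h1 : K ⊓ centralizer {a} = ⊥) (h2 : K ⊓ centralizer {b} = ⊥)
    (h3 : K ⊓ centralizer {a * b} = ⊥) : K = ⊥ := eq_bot_iff.2 fun k hk => h3 ▸ ⟨hk, by
  have e1 := Solv.inverts_of_fpf hb h2 b2 hk
  have e2 := Solv.inverts_of_fpf ha h1 a2 (inv_mem hk)
  refine mem_centralizer_singleton_iff.2 ?_
  calc k * (a * b) = a * k⁻¹ * a⁻¹ * a * b := by rw [e2, inv_inv]; group
    _ = a * (b * k * b⁻¹) * b := by rw [e1]; group
    _ = a * b * k := by group⟩

theorem syl_of_center {z : G} (hz : orderOf z = 2) {T : Subgroup G} (hT : IsSyl 2 T (centralizer {z}))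
    (hzT : z ∈ T) (h : T ⊓ centralizer (T : Set G) ≤ zpowers z) : IsSyl 2 T ⊤ := by
  refine isSyl_of_maximal hT.pgroup le_top fun R hR _ hTR => ?_
  by_contra hc
  have h1 := lt_inf_normalizer hR (lt_of_le_not_ge hTR hc)
  refine h1.ne' (hT.eq_of_le (hR.to_le inf_le_left) (fun g hg => ?_) h1.le)
  have h2 : z ∈ T ⊓ centralizer (T : Set G) :=
    ⟨hzT, fun x hx => mem_centralizer_singleton_iff.1 (hT.le hx)⟩
  have h3 := h (conj_mem_of_mem_normalizer (mem_normalizer_inf hg.2 (mem_normalizer_centralizer hg.2)) h2)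
  have h4 := eq_of_mem_zp hz h3 (fun e => by
    have : z = 1 := by simpa [mul_inv_eq_one] using e
    rw [this, orderOf_one] at hz; omega)
  exact mem_centralizer_singleton_iff.2 (mul_inv_eq_iff_eq_mul.1 h4)

end abstract

theorem tv_mem_self (h : Two F) (hij : i ≠ j) : tv hij ∈ QQ h hij :=
  tv_mem_QQ h hij hij (Or.inl rfl) hij.symm hij

theorem zQ (h : Two F) (hij : i ≠ j) (m : Mid i j) :
    QQ h hij ⊓ centralizer (QQ h hij : Set (SLm ι F)) = zpowers (tv hij) :=
  le_antisymm (inf_le_right.trans (cent_QQ h hij m)) (zpowers_le.2 ⟨tv_mem_self h hij,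
    fun x hx => mem_centralizer_singleton_iff.1 (QQ_le h hij hx)⟩)

theorem extra_QQ (h : Two F) (hij : i ≠ j) (m : Mid i j) : IsExtraspecial 2 (QQ h hij) := by
  refine extra_of (pgroup_QQ h hij) (orderOf_tv hij h) (zQ h hij m) (comm_le_of_sq fun x => sq_mem h hij)
    (fun x => sq_mem h hij) fun e => ?_
  have := card_le_of_le e
  rw [card_QQ, Nat.card_zpowers, orderOf_tv hij h] at this
  have h1 : 0 < Fintype.card (Mid i j) := Fintype.card_pos_iff.2 ⟨m⟩
  have h2 : 2 ^ 2 ≤ 2 ^ (2 * Fintype.card (Mid i j) + 1) := Nat.pow_le_pow_right (by norm_num) (by omega)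
  omega

theorem odd_bot (h : Two F) (hij : i ≠ j) (m : Mid i j) (K : Subgroup (SLm ι F)) (hK : Odd (Nat.card K))
    (hQ : QQ h hij ≤ normalizer (K : Set (SLm ι F))) : K = ⊥ := by
  have him : i ≠ m := m.2.1.symm
  have hmj : (m : ι) ≠ j := m.2.2
  have h1 : K ⊓ centralizer {tv hij} = ⊥ := by
    have : K ⊓ centralizer {tv hij} ≤ zpowers (tv hij) := fun k hk => cent_QQ h hij m fun x hx =>
      (mem_centralizer_singleton_iff.1 (cent_odd hK (pgroup_QQ h hij) (nn_QQ h hij) hx (hQ hx) hk)).symm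
    have h3 : K ⊓ zpowers (tv hij) = ⊥ := (disjoint_of_coprime_natCard (by
      rw [Nat.card_zpowers, orderOf_tv hij h]; exact Nat.coprime_two_right.2 hK)).eq_bot
    exact eq_bot_iff.2 (h3 ▸ le_inf inf_le_left this)
  have h2 : K ⊓ centralizer {tv him} = ⊥ := eq_bot_iff.2 (h1 ▸ le_inf inf_le_left
    (cent_odd hK (pgroup_QQ h him) (nn_QQ h him) (tv_mem_QQ h him hij (Or.inl rfl) hij.symm him)
      (hQ (tv_mem_self h hij))))
  have m1 := tv_mem_QQ h hij him (Or.inl rfl) him.symm hij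
  have m2 := tv_mem_QQ h hij hmj (Or.inr rfl) hij.symm hmj
  refine bot_of_three (hQ (tv_mem_self h hij)) (hQ m1) (by rw [← pow_two, tv_pow hij h])
    (by rw [← pow_two, tv_pow him h]) h1 h2 ?_
  have e : tv hmj * tv him * (tv hmj)⁻¹ = (tv hij * tv him : SLm ι F) := by
    have c : ⁅(tv hmj : SLm ι F), tv him⁆ ∈ zpowers (tv hij) :=
      comm_le_of_sq (fun x => sq_mem h hij) (commutator_mem_commutator m2 m1)
    rw [← eq_of_mem_zp (orderOf_tv hij h) c fun e => ?_, commutatorElement_def]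
    · group
    · have := ((mem_C h him).1 (mem_centralizer_singleton_iff.2
        (commutatorElement_eq_one_iff_mul_comm.1 e))).2 j
      simp [tv_val, one_apply_ne hmj] at this
  rw [← e, ← cj_centralizer_singleton, ← cj_eq_of_mem_normalizer (hQ m2), ← cj_inf, h2]
  exact cj_eq_bot_iff.2 rfl

theorem large_QQ (h : Two F) (hij : i ≠ j) (m : Mid i j) : IsLargeExtraspecial (QQ h hij) := by
  refine ⟨extra_QQ h hij m, ?_, ?_, odd_bot h hij m⟩
  · rw [map_center_eq, zQ h hij m]
    exact le_antisymm (cent_QQ h hij m) ((zQ h hij m).ge.trans inf_le_right)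
  · rw [map_center_eq, zQ h hij m, cent_zp]; exact nn_QQ h hij

theorem exists_mid (hij : i ≠ j) (h : 3 ≤ Fintype.card ι) : Nonempty (Mid i j) :=
  Fintype.card_pos_iff.1 (by have := card_mid hij; omega)

theorem thm_1339 (h : Two F) (hij : i ≠ j) (h3 : 3 ≤ Fintype.card ι) :
    generalizedFittingSubgroup (centralizer ({tv hij} : Set (SLm ι F))) =
      pCore 2 (centralizer ({tv hij} : Set (SLm ι F))) := by
  obtain ⟨m⟩ := exists_mid hij h3
  rw [← Comp.charP_iff_fstar_subtype, Comp.CharP, ← Comp.map_pCore, Op_C h hij]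
  exact inf_le_right.trans ((cent_QQ h hij m).trans (zpowers_le.2 (tv_mem_self h hij)))

theorem thm_1717 (h : Two F) (hij : i ≠ j) (h3 : 3 ≤ Fintype.card ι) {G : Type*} [Group G] [Finite G] (z : G)
    (hz : orderOf z = 2) (e : centralizer ({z} : Set G) ≃* centralizer ({tv hij} : Set (SLm ι F)))
    (T : Sylow 2 (centralizer ({z} : Set G))) :
    ¬ 2 ∣ ((T : Subgroup (centralizer ({z} : Set G))).map (Subgroup.subtype _)).index := by
  obtain ⟨m⟩ := exists_mid hij h3
  have hT := isSyl_map_subtype T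
  have zc : z ∈ centralizer ({z} : Set G) := mem_centralizer_singleton_iff.2 rfl
  have key : ∀ x : centralizer ({z} : Set G), (∀ y ∈ (T : Subgroup _), y * x = x * y) → x ≠ 1 →
      (e x : SLm ι F) = tv hij := fun x hx h1 => by
    refine eq_of_mem_zp (orderOf_tv hij h) (cent_QQ h hij m fun y hy => ?_) fun e1 => h1 (e.injective ?_)
    · rw [← Op_C h hij] at hy
      obtain ⟨y, hy, rfl⟩ := hy
      rw [← Solv.map_pCore_equiv e] at hy
      obtain ⟨y, hy, rfl⟩ := hy
      have := congrArg (fun w => (e w : SLm ι F)) (hx y (Solv.pCore_le_sylow T hy))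
      simpa using this
    · rw [map_one]; exact Subtype.ext e1
  have zcen : ∀ y : centralizer ({z} : Set G), y * ⟨z, zc⟩ = ⟨z, zc⟩ * y := fun y =>
    Subtype.ext (mem_centralizer_singleton_iff.1 y.2)
  have z1 : (⟨z, zc⟩ : centralizer ({z} : Set G)) ≠ 1 := fun e => by
    have : z = 1 := congrArg Subtype.val e
    rw [this, orderOf_one] at hz; omega
  have hzT : z ∈ (T : Subgroup (centralizer ({z} : Set G))).map (Subgroup.subtype _) :=
    hT.le_of_normal (elem_isPGroup (elem_zpowers (by rw [← hz, pow_orderOf_eq_one]))) (zpowers_le.2 zc)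
      ((cent_zp z).ge.trans (centralizer_le_normalizer _)) (mem_zpowers z)
  have := (syl_of_center hz hT hzT ?_).not_dvd
  · rwa [relIndex_top_right] at this
  · rintro _ ⟨⟨x, hx, rfl⟩, hc⟩
    by_cases h1 : x = 1
    · rw [h1]; exact one_mem _
    · have := (key x (fun y hy => Subtype.ext (hc _ ⟨y, hy, rfl⟩)) h1).trans (key _ (fun y _ => zcen y) z1).symm
      rw [e.injective (Subtype.ext this)]; exact mem_zpowers z

end Cfsg.Agent.PU.Tv
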