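/-
Large extraspecial 2-subgroups: duality, symmetry, singular subgroups.
-/
import Cfsg.Agent.Lib.Transfer.PG
import Cfsg.Agent.Lib.PU.Tv1

set_option autoImplicit false
set_option linter.unusedSectionVars false
set_option linter.unusedVariables false
set_option linter.style.haveILetI false
set_option linter.unusedSimpArgs false

namespace Cfsg.Agent.PU

open Subgroup Cfsg.Agent.Transfer Cfsg.Agent.MS
open scoped commutatorElement

universe u
variable {G : Type u} [Group G] [Finite G]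
variable {A B K P Q R U X : Subgroup G} {a b g t u v x z : G}

theorem zp2 (hz : z * z = 1) (h : x ∈ zpowers z) : x = 1 ∨ x = z := by
  by_cases h1 : z = 1
  · rw [h1, zpowers_one_eq_bot] at h; exact Or.inl h
  by_cases h2 : x = 1
  · exact Or.inl h2
  exact Or.inr (Tv.eq_of_mem_zp (orderOf_eq_prime (by rw [pow_two, hz]) h1) h h2)

theorem inv_self (hz : z * z = 1) : z⁻¹ = z := inv_eq_of_mul_eq_one_right hz

theorem mem_four (ha : a * a = 1) (hb : b * b = 1) (h : a ∈ C1 b) (hx : x ∈ zpowers a ⊔ zpowers b) :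
    x = 1 ∨ x = a ∨ x = b ∨ x = a * b := by
  obtain ⟨c, hc, d, hd, rfl⟩ := (mem_sup_r (nn_of_cc (zpowers_le.2 (by rwa [cc_zpowers])))).1 hx
  rcases zp2 ha hc with rfl | rfl <;> rcases zp2 hb hd with rfl | rfl <;> simp

theorem es_of (h : IsExtraspecial 2 Q) (hz : z ∈ Q ⊓ CC Q) (h1 : z ≠ 1) : ES 2 z Q := by
  have h2 : #(Q ⊓ CC Q : Subgroup G) = 2 := by rw [← map_center_eq, card_subtype, h.2]
  have h3 : zpowers z = Q ⊓ CC Q := prime_eq_zpowers (h2 ▸ Nat.prime_two) hz h1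
  refine ⟨by rw [← Nat.card_zpowers, h3, h2], h3.symm, ?_, fun x hx => ?_⟩
  · rw [h3, ← map_center_eq, ← h.1.2.2, map_commutator_eq']
  · rw [h3, ← map_center_eq, ← h.1.2.1]; exact Solv.pow_mem_map_frattini h.1.1 hx

theorem es_z2 (h : ES 2 z Q) : z * z = 1 := by rw [← pow_two, ← h.ord, pow_orderOf_eq_one]

theorem es_pg (h : ES 2 z Q) : IsPGroup 2 Q := fun g => ⟨2, Subtype.ext (by
  show (g : G) ^ 2 ^ 2 = 1
  rw [show 2 ^ 2 = 2 * 2 from rfl, pow_mul]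
  rcases zp2 (es_z2 h) (h.pw g g.2) with e | e <;> rw [e]
  · exact one_pow 2
  · rw [pow_two, es_z2 h])⟩

theorem es_extra (h : ES 2 z Q) (h1 : ¬ Q ≤ zpowers z) : IsExtraspecial 2 Q :=
  Tv.extra_of (es_pg h) h.ord h.cen h.der h.pw h1

theorem es_C1 (h : ES 2 z Q) : Q ≤ C1 z := le_C1_iff.2 h.mem.2

theorem es_map {H : Type u} [Group H] [Finite H] (f : G →* H) (h : ES 2 z Q) (hf : Q ⊓ f.ker = ⊥) :
    ES 2 (f z) (Q.map f) := by
  have inj : ∀ x ∈ Q, f x = 1 → x = 1 := fun x hx e => eq_one_of_inf hf hx e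
  refine ⟨orderOf_eq_prime (by rw [← map_pow, pow_two, es_z2 h, map_one]) fun e => h.ne (inj z h.mem.1 e),
    le_antisymm ?_ (zpowers_le.2 ⟨mem_map_of_mem f h.mem.1, ?_⟩), ?_, ?_⟩
  · rintro _ ⟨⟨x, hx, rfl⟩, hc⟩
    rw [← MonoidHom.map_zpowers]
    refine mem_map_of_mem f (h.cen.le ⟨hx, fun y hy => commutatorElement_eq_one_iff_mul_comm.1
      (inj _ (der_le Q (commutator_mem_commutator hy hx)) ?_)⟩)
    rw [map_commutatorElement]
    exact commutatorElement_eq_one_iff_mul_comm.2 (hc _ ⟨y, hy, rfl⟩)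
  · rintro _ ⟨y, hy, rfl⟩
    rw [← map_mul, h.mem.2 y hy, map_mul]
  · rw [← Subgroup.map_commutator, ← MonoidHom.map_zpowers]; exact map_mono h.der
  · rintro _ ⟨y, hy, rfl⟩
    rw [← map_pow, ← MonoidHom.map_zpowers]; exact mem_map_of_mem f (h.pw y hy)

theorem es_cj (h : ES 2 z Q) (g : G) : ES 2 (g * z * g⁻¹) (cj g Q) :=
  es_map (MulAut.conj g).toMonoidHom h (by
    rw [(MonoidHom.ker_eq_bot_iff _).2 (MulAut.conj g).injective, inf_bot_eq])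

theorem es_nn (h : ES 2 z Q) (h1 : z ∈ A) (h2 : A ≤ Q) : Q ≤ NN A :=
  nn_of_comm_le' ((commutator_mono h2 le_rfl).trans (h.der.trans (zpowers_le.2 h1)))

theorem es_step (h : ES 2 z Q) (h1 : z ∈ A) (h2 : A ≤ Q) (hv : v ∈ Q) (hA : v ∉ A) :
    #(A ⊔ zpowers v : Subgroup G) = 2 * #A ∧
      #(Q ⊓ CC A : Subgroup G) ≤ 2 * #(Q ⊓ CC (A ⊔ zpowers v) : Subgroup G) := by
  constructor
  · rw [← card_mul_relIndex (le_sup_left : A ≤ A ⊔ zpowers v), Solv.relIndex_sup_zpowers_of_prime Nat.prime_two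
      (es_nn h h1 h2 hv) hA (zpowers_le.2 h1 (h.pw v hv)), mul_comm]
  · rw [cc_sup, cc_zpowers, ← inf_assoc, inf_comm _ (C1 v), ← card_inf_mul_relIndex (C1 v) (Q ⊓ CC A), mul_comm]
    refine Nat.mul_le_mul_right _ ?_
    by_cases hc : Q ⊓ CC A ≤ C1 v
    · rw [relIndex_eq_one.2 hc]; omega
    · rw [relIndex_C1_eq h.card_z (zpowers_le.2 (cc_anti inf_le_left h.mem.2))
        (fun y hy => h.der (commutator_mem_commutator hy.1 hv)) hc]

theorem es_mono (h : ES 2 z Q) (hB : B ≤ Q) (A : Subgroup G) : z ∈ A → A ≤ B →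
    #A * #(Q ⊓ CC A : Subgroup G) ≤ #B * #(Q ⊓ CC B : Subgroup G) := by
  induction A using WellFoundedGT.induction with
  | _ A ih =>
  intro h1 h2
  by_cases e : B ≤ A
  · rw [le_antisymm h2 e]
  obtain ⟨v, hv, hA⟩ := SetLike.not_le_iff_exists.1 e
  obtain ⟨c1, c2⟩ := es_step h h1 (h2.trans hB) (hB hv) hA
  refine le_trans ?_ (ih (A ⊔ zpowers v) (lt_of_le_of_ne le_sup_left fun e => hA (e ▸ mem_sup_right (mem_zpowers v)))
    (mem_sup_left h1) (sup_le h2 (zpowers_le.2 hv)))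
  rw [c1]; nlinarith

theorem es_dual (h : ES 2 z Q) (h1 : z ∈ A) (h2 : A ≤ Q) (hv : v ∈ Q) (hA : v ∉ A) :
    ∃ q ∈ Q ⊓ CC A, q * v * q⁻¹ = z * v := by
  have hn : ¬ Q ⊓ CC A ≤ C1 v := fun hc => by
    obtain ⟨c1, -⟩ := es_step h h1 h2 hv hA
    have e : Q ⊓ CC (A ⊔ zpowers v) = Q ⊓ CC A := by
      rw [cc_sup, cc_zpowers, ← inf_assoc, inf_eq_left.2 hc]
    have m1 := es_mono h h2 (zpowers z) (mem_zpowers z) (zpowers_le.2 h1)
    have m2 := es_mono h le_rfl (A ⊔ zpowers v) (mem_sup_left h1) (sup_le h2 (zpowers_le.2 hv))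
    rw [cc_zpowers, inf_eq_left.2 (es_C1 h), h.card_z] at m1
    rw [e, c1, h.cen, h.card_z] at m2
    have := card_pos' Q
    nlinarith
  obtain ⟨q, hq, hc⟩ := SetLike.not_le_iff_exists.1 hn
  refine ⟨q, hq, ?_⟩
  rcases zp2 (es_z2 h) (h.der (commutator_mem_commutator hq.1 hv)) with e | e
  · exact absurd (mem_C1.2 (commutatorElement_eq_one_iff_mul_comm.1 e)) hc
  · rw [← e, commutatorElement_def]; group

theorem es_ccc (h : ES 2 z Q) (h1 : z ∈ A) (h2 : A ≤ Q) : Q ⊓ CC (Q ⊓ CC A) ≤ A := fun v hv => by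
  by_contra hA
  obtain ⟨q, hq, e⟩ := es_dual h h1 h2 hv.1 hA
  rw [mem_CC.1 hv.2 q hq, mul_inv_cancel_right] at e
  exact h.ne (by simpa using e.symm)

theorem es_move (h : ES 2 z Q) (hv : v ∈ Q) (hA : v ∉ zpowers z) : ∃ q ∈ Q, q * v * q⁻¹ = z * v := by
  obtain ⟨q, hq, e⟩ := es_dual h (mem_zpowers z) (zpowers_le.2 h.mem.1) hv hA
  exact ⟨q, hq.1, e⟩

/-- an element acting trivially on `Q / ⟨z⟩` induces an inner automorphism -/
theorem es_inner (h : ES 2 z Q) {c : G} (hc : ∀ q ∈ Q, ⁅q, c⁆ ∈ zpowers z) : ∃ a ∈ Q, a⁻¹ * c ∈ CC Q := by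
  by_cases h1 : Q ≤ C1 c
  · exact ⟨1, one_mem _, by simpa using le_C1_iff.1 h1⟩
  have hz : z ∈ C1 c := by
    rcases zp2 (es_z2 h) (hc z h.mem.1) with e | e
    · exact mem_C1.2 (commutatorElement_eq_one_iff_mul_comm.1 e)
    · rw [commutatorElement_def, mul_assoc, mul_assoc, mul_eq_left, ← mul_assoc, conj_eq_one_iff, inv_eq_one] at e
      exact absurd e h.ne
  have i2 := relIndex_C1_eq h.card_z (zpowers_le.2 h.mem.2) hc h1
  obtain ⟨v, hv, hA⟩ := SetLike.not_le_iff_exists.1 h1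
  obtain ⟨q, hq, e⟩ := es_dual h (A := Q ⊓ C1 c) ⟨h.mem.1, hz⟩ inf_le_left hv fun e => hA e.2
  have e1 : Q ⊓ C1 c ⊔ zpowers v = Q := by
    refine eq_of_card_le (sup_le inf_le_left (zpowers_le.2 hv)) ?_
    rw [(es_step h (A := Q ⊓ C1 c) ⟨h.mem.1, hz⟩ inf_le_left hv fun e => hA e.2).1, ← card_inf_mul_relIndex (C1 c) Q, i2, inf_comm,
      mul_comm]
  refine ⟨q, hq.1, ?_⟩
  rw [← e1, cc_sup, cc_zpowers]
  refine mem_inf.2 ⟨mul_mem (inv_mem (mem_inf.1 hq).2) (le_C1_iff.1 inf_le_right), mem_C1_of_conj ?_⟩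
  have e2 : c * v * c⁻¹ = z * v := by
    rcases zp2 (es_z2 h) (hc v hv) with e | e
    · exact absurd (mem_C1.2 (commutatorElement_eq_one_iff_mul_comm.1 e)) hA
    · have : c * v * c⁻¹ = z⁻¹ * v := by rw [← e, commutatorElement_def]; group
      rw [this, inv_self (es_z2 h)]
  calc q⁻¹ * c * v * (q⁻¹ * c)⁻¹ = q⁻¹ * (c * v * c⁻¹) * q := by group
    _ = v := by rw [e2, ← e]; group

/-- the local part of the definition of a large extraspecial subgroup -/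
structure LX (z : G) (Q : Subgroup G) : Prop where
  es : ES 2 z Q
  nn : C1 z ≤ NN Q
  cc : CC Q ≤ Q

theorem LX.cj (h : LX z Q) (g : G) : LX (g * z * g⁻¹) (cj g Q) :=
  ⟨es_cj h.es g, by rw [← cj_centralizer_singleton]; exact nn_cj h.nn g, by
    rw [← cj_centralizer]; exact cj_mono g h.cc⟩

theorem LX.cz (h : LX z Q) : CC Q ≤ zpowers z := h.es.cen ▸ le_inf h.cc le_rfl

theorem LX.inner (h : LX z Q) {c : G} (hc : ∀ q ∈ Q, ⁅q, c⁆ ∈ zpowers z) : c ∈ Q := by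
  obtain ⟨a, ha, h1⟩ := es_inner h.es hc
  simpa using mul_mem ha (h.cc h1)

theorem LX.cj_eq (h : LX z Q) {k : G} (e : k * z * k⁻¹ = g * z * g⁻¹) : Transfer.cj k Q = Transfer.cj g Q := by
  have : g⁻¹ * k ∈ C1 z := mem_C1_of_conj (by
    calc g⁻¹ * k * z * (g⁻¹ * k)⁻¹ = g⁻¹ * (k * z * k⁻¹) * g := by group
      _ = z := by rw [e]; group)
  rw [show k = g * (g⁻¹ * k) by group, ← cj_cj, cj_nn (h.nn this)]

theorem es_der_P (h : ES 2 z Q) (h32 : 8 < #Q) (ht : t ∈ Q) (h1 : t ∉ zpowers z) :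
    z ∈ ⁅Q ⊓ C1 t, Q ⊓ C1 t⁆ := by
  obtain ⟨y, hy, e⟩ := h.exists_pair ht h1
  obtain ⟨s, c⟩ := h.sub ht hy e
  obtain ⟨x, hx, h2⟩ := s.exists_notMem (fun e => by rw [e] at c; omega)
  obtain ⟨w, hw, e⟩ := s.exists_pair hx h2
  exact e ▸ commutator_mem_commutator hx.1 hw.1

theorem conj_ne (h1 : z ≠ 1) : g * z * g⁻¹ ≠ 1 := fun e => h1 (conj_eq_one_iff.1 e)

theorem notMem_zp (hz : z * z = 1) (h1 : t ≠ 1) (h2 : t ≠ z) : t ∉ zpowers z := fun h => (zp2 hz h).elim h1 h2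

/-- symmetry of the relation `t ∈ Q_z` -/
theorem LX.sym (h : LX z Q) (h32 : 8 < #Q) (ht : g * z * g⁻¹ ∈ Q) : z ∈ Transfer.cj g Q := by
  have h' := h.cj g
  set t := g * z * g⁻¹ with tdef
  set Q' := Transfer.cj g Q with Qdef
  have z2 := es_z2 h.es
  have t2 := es_z2 h'.es
  by_cases htz : t = z
  · exact htz ▸ h'.es.mem.1
  have h1 : t ∉ zpowers z := notMem_zp z2 h'.es.ne htz
  have tz : t * z = z * t := mem_C1.1 (es_C1 h.es ht)
  by_contra hz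
  by_cases hW : ∃ x ∈ Q', x * z * x⁻¹ = t * z
  · obtain ⟨x, hx, e⟩ := hW
    obtain ⟨a, ha, e'⟩ := es_move h.es ht h1
    have az := conj_eq_of_C1 (es_C1 h.es ha)
    have xt := conj_eq_of_C1 (es_C1 h'.es hx)
    have k1 : a * x * a * z * (a * x * a)⁻¹ = t := by
      calc _ = a * (x * (a * z * a⁻¹) * x⁻¹) * a⁻¹ := by group
        _ = a * (t * z) * a⁻¹ := by rw [az, e]
        _ = (a * t * a⁻¹) * (a * z * a⁻¹) := by group
        _ = t := by rw [e', az, ← tz, mul_assoc, z2, mul_one]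
    have k2 : a * x * a * t * (a * x * a)⁻¹ = z := by
      calc _ = a * (x * (a * t * a⁻¹) * x⁻¹) * a⁻¹ := by group
        _ = a * ((x * z * x⁻¹) * (x * t * x⁻¹)) * a⁻¹ := by rw [e']; group
        _ = z := by rw [e, xt, tz, mul_assoc z, t2, mul_one, az]
    exact hz (by rw [Qdef, ← h.cj_eq k1, ← k2]; exact conj_mem_cj ht)
  have W : ∀ x ∈ Q', ⁅x, z⁆ ∈ zpowers t → x ∈ C1 z := fun x hx hc => by
    rcases zp2 t2 hc with e | e
    · exact mem_C1.2 (commutatorElement_eq_one_iff_mul_comm.1 e)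
    · exact absurd ⟨x, hx, by rw [← e, commutatorElement_def, inv_mul_cancel_right]⟩ hW
  have PC : Q ⊓ C1 t ≤ NN Q' := inf_le_right.trans h'.nn
  have zN : z ∈ NN Q' := PC ⟨h.es.mem.1, mem_C1.2 tz.symm⟩
  have QQ : Q ⊓ Q' ≤ zpowers t := fun y hy => by
    by_contra hy1
    by_cases h2 : y ∈ zpowers z ⊔ zpowers t
    · rcases mem_four z2 t2 (mem_C1.2 tz.symm) h2 with e | e | e | e
      · exact hy1 (e ▸ one_mem _)
      · exact hz (e ▸ hy.2)
      · exact hy1 (e ▸ mem_zpowers t)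
      · exact hz (by simpa using mul_mem (e ▸ hy.2 : z * t ∈ Q') (inv_mem h'.es.mem.1))
    · obtain ⟨q, hq, e⟩ := es_dual h.es (mem_sup_left (mem_zpowers z))
        (sup_le (zpowers_le.2 h.es.mem.1) (zpowers_le.2 ht)) hy.1 h2
      have := conj_mem_of_mem_normalizer (PC ⟨hq.1, cc_le_C1 (mem_sup_right (mem_zpowers t)) hq.2⟩) hy.2
      rw [e] at this
      exact hz (by simpa using mul_mem this (inv_mem hy.2))
  have tc : zpowers t ≤ CC Q' := zpowers_le.2 h'.es.mem.2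
  have DP : ⁅Q' ⊓ C1 z, Q ⊓ C1 t⁆ ≤ zpowers t := le_trans (le_inf
    ((commutator_mono le_rfl inf_le_left).trans (comm_le_right (inf_le_right.trans h.nn)))
    ((commutator_mono inf_le_left le_rfl).trans (comm_le_left PC))) QQ
  have s1 : ⁅⁅Q ⊓ C1 t, Q'⁆, Q' ⊓ C1 z⁆ ≤ ⊥ := by
    refine three_sub nn_bot nn_bot nn_bot ?_ ?_
    · refine (commutator_mono ((commutator_mono le_rfl inf_le_left).trans h'.es.der) inf_le_right).trans ?_
      exact (comm_eq_bot.2 (zpowers_le.2 (le_C1_iff.1 le_rfl))).le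
    · exact (commutator_mono DP le_rfl).trans (comm_eq_bot.2 tc).le
  have s2 : ⁅Q', zpowers z⁆ ≤ Q' ⊓ C1 z := commutator_le.2 fun x hx y hy => by
    rcases zp2 z2 hy with rfl | rfl
    · rw [commutatorElement_one_right]; exact one_mem _
    have m : ⁅x, y⁆ ∈ Q' := comm_le_left (zpowers_le.2 zN) (commutator_mem_commutator hx (mem_zpowers y))
    refine ⟨m, W _ m ?_⟩
    have : ⁅⁅x, y⁆, y⁆ = ⁅x, y⁆ ^ 2 := by
      simp only [commutatorElement_def, pow_two, mul_inv_rev, inv_inv, inv_self z2]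
      calc _ = x * y * x⁻¹ * (y * y) * y * x * y * x⁻¹ * y := by group
        _ = _ := by rw [z2]; group
    rw [this]; exact h'.es.pw _ m
  have s3 : Q' ⊓ CC (Q' ⊓ C1 z) ≤ Q' ⊓ C1 z := fun y hy => ⟨hy.1, W y hy.1 (by
    have k : ⁅⁅zpowers z, zpowers y⁆, Q'⁆ ≤ ⊥ := by
      refine three_sub nn_bot nn_bot nn_bot ?_ ?_
      · refine (commutator_mono ((commutator_mono (zpowers_le.2 hy.1) le_rfl).trans h'.es.der) le_rfl).trans ?_
        exact (comm_eq_bot.2 (zpowers_le.2 (by rw [cc_zpowers]; exact mem_C1.2 tz))).le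
      · exact (commutator_mono s2 le_rfl).trans (comm_eq_bot'.2 (zpowers_le.2 hy.2)).le
    rw [← commutatorElement_inv]
    exact inv_mem (h'.cz (comm_eq_bot.1 (le_bot_iff.1 k)
      (commutator_mem_commutator (mem_zpowers z) (mem_zpowers y)))))⟩
  have s4 : ⁅Q ⊓ C1 t, Q'⁆ ≤ Q' ⊓ C1 z := (le_inf (comm_le_right PC) (comm_eq_bot.1 (le_bot_iff.1 s1))).trans s3
  have nt : C1 t ≤ NN (zpowers t) := (cc_zpowers t).ge.trans (cc_le_nn _)
  have s5 : ⁅⁅Q ⊓ C1 t, Q ⊓ C1 t⁆, Q'⁆ ≤ zpowers t := by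
    refine three_sub (inf_le_right.trans nt) ((es_C1 h'.es).trans nt) (inf_le_right.trans nt)
      ((commutator_mono s4 le_rfl).trans DP) ?_
    rw [commutator_comm Q']; exact (commutator_mono s4 le_rfl).trans DP
  refine hz (h'.cc (le_C1_iff.1 fun x hx => W x hx ?_))
  rw [← commutatorElement_inv]
  exact inv_mem (s5 (commutator_mem_commutator (es_der_P h.es h32 ht h1) hx))

theorem LX.odd_bot (h : LX z Q) (hu : u ∈ Q) (h1 : u ∉ zpowers z) (u2 : u * u = 1) (hR : IsPGroup 2 R)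
    (h2 : C1 u ≤ NN R) (hz : z ∈ R) (hK : Odd #K) (hQ : Q ≤ NN K) : K = ⊥ := by
  have k1 : K ⊓ C1 z = ⊥ := by
    have : K ⊓ C1 z ≤ zpowers z := fun k hk => h.cz fun x hx =>
      (mem_C1.1 (Tv.cent_odd hK (es_pg h.es) h.nn hx (hQ hx) hk)).symm
    exact eq_bot_of_le (inf_of_coprime (by rw [h.es.card_z]; exact Nat.coprime_two_right.2 hK)) inf_le_left this
  have k2 : K ⊓ C1 u = ⊥ := eq_bot_of_le k1 inf_le_left (Tv.cent_odd hK hR h2 hz (hQ h.es.mem.1))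
  obtain ⟨q, hq, e⟩ := es_move h.es hu h1
  refine Tv.bot_of_three (hQ h.es.mem.1) (hQ hu) (es_z2 h.es) u2 k1 k2 ?_
  rw [← e, ← cj_centralizer_singleton, ← cj_nn (hQ hq), ← cj_inf, k2]
  exact cj_eq_bot_iff.2 rfl

theorem LX.large (h : LX z Q) (h0 : ¬ Q ≤ zpowers z) (hK : ∀ K : Subgroup G, Odd #K → Q ≤ NN K → K = ⊥) :
    IsLargeExtraspecial Q := by
  refine ⟨es_extra h.es h0, ?_, ?_, hK⟩
  · rw [map_center_eq]; exact (inf_eq_right.2 h.cc).symm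
  · rw [map_center_eq, h.es.cen, cc_zpowers]; exact h.nn

theorem lx_of_large (h : IsLargeExtraspecial Q) (hz : (center Q).map Q.subtype = zpowers z) : LX z Q := by
  have h1 : z ≠ 1 := fun e => by
    have := h.1.2
    rw [← card_subtype, hz, e, zpowers_one_eq_bot, card_bot] at this; omega
  refine ⟨es_of h.1 (by rw [← map_center_eq, hz]; exact mem_zpowers z) h1, ?_, h.2.1 ▸ map_subtype_le _⟩
  rw [← cc_zpowers, ← hz]; exact h.2.2.1

theorem lx_of_fstar (hz : orderOf z = 2) (hF : (generalizedFittingSubgroup (C1 z)).map (C1 z).subtype = Q)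
    (hQ : IsExtraspecial 2 Q) : LX z Q := by
  rw [Comp.map_fstar] at hF
  have z1 : z ≠ 1 := fun e => by rw [e, orderOf_one] at hz; omega
  have le : Q ≤ C1 z := hF ▸ Comp.Fstar_le _
  have c : C1 z ⊓ CC Q ≤ Q := hF ▸ Comp.inf_centralizer_Fstar_le _
  have m : z ∈ Q := c ⟨self_mem_C1 z, le_C1_iff.1 le⟩
  exact ⟨es_of hQ ⟨m, le_C1_iff.1 le⟩ z1, hF ▸ Comp.le_normalizer_Fstar_self _, fun x hx => c ⟨cc_le_C1 m hx, hx⟩⟩

theorem LX.mem_of_nn (h : LX z Q) (hK : ∀ K : Subgroup G, Odd #K → Q ≤ NN K → K = ⊥) (hX : Q ≤ NN X)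
    (h0 : X ≠ ⊥) : z ∈ X := by
  have ev : 2 ∣ #X := even_iff_two_dvd.1 (Nat.not_odd_iff_even.1 fun e => h0 (hK X e hX))
  obtain ⟨T, hT, hQT⟩ := exists_isSyl_ge (es_pg h.es) (le_sup_right : Q ≤ X ⊔ Q)
  have n : X ⊔ Q ≤ NN X := sup_le (le_nn X) hX
  have s := hT.inf_of_le_normalizer le_sup_left n
  have := nil_meet (nil_of_pg hT.pgroup) (inf_le_left : T ⊓ X ≤ T) (nn_inf (le_nn T) (hT.le.trans n))
    (fun e => s.not_dvd (by rwa [e, relIndex_bot_left]))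
  obtain ⟨x, hx, h1⟩ := exists_ne_one this
  rcases zp2 (es_z2 h.es) (h.cz (cc_anti hQT hx.2)) with e | e
  · exact absurd e h1
  · exact e ▸ hx.1.2

theorem LX.top_of (h : LX z Q) {N : Subgroup G} [N.Normal] (hN : C1 z ≤ N) : N = ⊤ := by
  obtain ⟨T, hT, hQT⟩ := exists_isSyl_ge (es_pg h.es) (es_C1 h.es)
  have c : T ⊓ CC T ≤ zpowers z := inf_le_right.trans ((cc_anti hQT).trans h.cz)
  have s := Tv.syl_of_center h.es.ord hT (hQT h.es.mem.1) c
  have f := frattini (s.mono (hT.le.trans hN) le_top) (le_top : N ≤ ⊤) nn_normal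
  rw [eq_top_iff, ← f]
  refine sup_le le_rfl (inf_le_right.trans fun g hg => hN ?_)
  have := c (conj_mem_of_mem_normalizer (mem_normalizer_inf hg (mem_normalizer_centralizer hg))
    ⟨hQT h.es.mem.1, le_C1_iff.1 hT.le⟩)
  exact mem_C1_of_conj ((zp2 (es_z2 h.es) this).resolve_left (conj_ne h.es.ne))

theorem LX.simple (h : LX z Q) (hK : ∀ K : Subgroup G, Odd #K → Q ≤ NN K → K = ⊥)
    (h1 : ∀ N : Subgroup G, N.Normal → z ∈ N → C1 z ≤ N) : IsSimpleGroup G := by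
  haveI : Nontrivial G := ⟨z, 1, h.es.ne⟩
  refine ⟨fun N hN => or_iff_not_imp_left.2 fun h0 => h.top_of (h1 N hN (h.mem_of_nn hK nn_normal h0))⟩

theorem LX.odd_bot' (h : LX z Q) (h32 : 8 < #Q) (ht : g * z * g⁻¹ ∈ Q) (h1 : g * z * g⁻¹ ≠ z) (K : Subgroup G)
    (hK : Odd #K) (hQ : Q ≤ NN K) : K = ⊥ :=
  h.odd_bot ht (notMem_zp (es_z2 h.es) (conj_ne h.es.ne) h1) (es_z2 (h.cj g).es) (es_pg (h.cj g).es) (h.cj g).nn
    (h.sym h32 ht) hK hQ

theorem lt_of_width {w : ℕ} (hw : 2 ≤ w) (hcard : #Q = 2 ^ (2 * w + 1)) : 8 < #Q := by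
  have : 2 ^ 5 ≤ 2 ^ (2 * w + 1) := Nat.pow_le_pow_right (by norm_num) (by omega)
  omega

theorem not_le_zp (h : ES 2 z Q) (h32 : 8 < #Q) : ¬ Q ≤ zpowers z := fun e => by
  have := card_le_of_le e; rw [h.card_z] at this; omega

theorem thm_5427 (z : G) (hz : orderOf z = 2) (Q : Subgroup G) (hF : (Cfsg.generalizedFittingSubgroup ↥(Subgroup.centralizer ({z} : Set G))).map (Subgroup.centralizer ({z} : Set G)).subtype = Q) (hQ : Cfsg.IsExtraspecial 2 ↥Q) (w : ℕ) (hw : 2 ≤ w) (hcard : Nat.card ↥Q = 2 ^ (2 * w + 1)) (K U : Subgroup G) (hU : U = Subgroup.closure {x : G | ∃ k ∈ K, x = k * z * k⁻¹}) (hUab : IsMulCommutative ↥U) (hgen : Subgroup.closure {x : G | ∃ c ∈ Subgroup.centralizer ({z} : Set G), ∃ u ∈ U, x = c * u * c⁻¹} = Subgroup.centralizer ({z} : Set G)) (h3 : (∃ k ∈ K, k * z * k⁻¹ ∈ Q ∧ k * z * k⁻¹ ≠ z) ∨ ∃ u ∈ U ⊓ Q, u ∉ Subgroup.zpowers z ∧ (∃ hz' : z ∈ Subgroup.centralizer ({u}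 : Set G), (⟨z, hz'⟩ : ↥(Subgroup.centralizer ({u} : Set G))) ∈ Cfsg.pCore 2 ↥(Subgroup.centralizer ({u} : Set G)))) : IsSimpleGroup G ∧ Cfsg.IsLargeExtraspecial Q := by
  have h := lx_of_fstar hz hF hQ
  have h32 := lt_of_width hw hcard
  have hK : ∀ K : Subgroup G, Odd #K → Q ≤ NN K → K = ⊥ := by
    rcases h3 with ⟨k, -, h1, h2⟩ | ⟨u, hu, h1, hz', h2⟩
    · exact h.odd_bot' h32 h1 h2
    · have e : U ≤ Solv.omegaAb 2 U hUab := by
        conv_lhs => rw [hU]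
        refine (closure_le _).2 ?_
        rintro _ ⟨k, hk, rfl⟩
        exact ⟨hU ▸ subset_closure ⟨k, hk, rfl⟩, by rw [pow_two]; exact es_z2 (h.cj k).es⟩
      refine fun K => h.odd_bot hu.2 h1 (by rw [← pow_two]; exact (e hu.1).2) (O_pg (C1 u)) (nn_O (le_nn _)) ?_
      rw [← map_pCore]; exact ⟨_, h2, rfl⟩
  refine ⟨h.simple hK fun N hN hzN => ?_, h.large (not_le_zp h.es h32) hK⟩
  refine hgen.ge.trans ((closure_le _).2 ?_)
  rintro _ ⟨c, -, u, hu, rfl⟩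
  refine hN.conj_mem _ ((hU.le.trans ((closure_le _).2 ?_)) hu) c
  rintro _ ⟨k, -, rfl⟩
  exact hN.conj_mem _ hzN k

theorem thm_5436 (z : G) (hz : orderOf z = 2) (Q : Subgroup (Subgroup.centralizer ({z} : Set G))) [Q.Normal] (hF : Cfsg.generalizedFittingSubgroup ↥(Subgroup.centralizer ({z} : Set G)) = Q) (hQ : Cfsg.IsExtraspecial 2 ↥Q) (w : ℕ) (hw : 2 ≤ w) (hcard : Nat.card ↥Q = 2 ^ (2 * w + 1)) (hnwc : ∃ g : G, (∃ hq : g * z * g⁻¹ ∈ Subgroup.centralizer ({z} : Set G), (⟨g * z * g⁻¹, hq⟩ : Subgroup.centralizer ({z} : Set G)) ∈ Q) ∧ g * z * g⁻¹ ≠ z) (hsimp : IsSimpleGroup (↥(Subgroup.centralizer ({z} : Set G)) ⧸ Q)) (hirr : ∀ W : Subgroup (Subgroup.centralizer ({z} : Set G)), W.Normal → W ≤ Q → (W = Q ∨ ∀ x ∈ W, (x : G) ∈ Subgroup.zpowers z)) (hwcl : Subgroup.closure {x : Subgroup.centralizer ({z} : Set G) | IsConj z (x : G)} ≠ Q) : IsSimpleGroup G := by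
  obtain ⟨g, ⟨hq, h1⟩, h2⟩ := hnwc
  have z1 : z ≠ 1 := fun e => by rw [e, orderOf_one] at hz; omega
  have zc : (⟨z, self_mem_C1 z⟩ : C1 z) ∈ CC Q := fun y _ => Subtype.ext (mem_C1.1 y.2)
  have es := es_map (C1 z).subtype (es_of hQ ⟨hF ▸ Comp.centralizer_fstar_le (hF ▸ zc), zc⟩
    (fun e => z1 (congrArg Subtype.val e))) (by rw [ker_subtype, inf_bot_eq])
  have h32 : 8 < #(Q.map (C1 z).subtype) := by rw [card_subtype]; exact lt_of_width hw hcard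
  have h := lx_of_fstar hz (congrArg _ hF) (es_extra es (not_le_zp es h32))
  refine h.simple (h.odd_bot' h32 ⟨_, h1, rfl⟩ h2) fun N hN hzN => ?_
  set W := Subgroup.closure {x : C1 z | IsConj z (x : G)} with hW
  haveI Wn : W.Normal := ⟨fun x hx k => by
    have : cj k W ≤ W := by
      rw [hW, cj, MonoidHom.map_closure]
      refine closure_mono ?_
      rintro _ ⟨y, hy, rfl⟩
      exact (show IsConj z (y : G) from hy).trans (isConj_iff.2 ⟨k, rfl⟩)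
    exact this (conj_mem_cj hx)⟩
  have QW : Q ≤ W := by
    rcases hirr (W ⊓ Q) inferInstance inf_le_right with e | e
    · exact e ▸ inf_le_left
    · exact absurd (e _ ⟨subset_closure (isConj_iff.2 ⟨g, rfl⟩), h1⟩) (notMem_zp (es_z2 h.es) (conj_ne z1) h2)
  have Wt : W = ⊤ := by
    rcases hsimp.eq_bot_or_eq_top_of_normal (W.map (QuotientGroup.mk' Q))
      (Normal.map Wn _ (QuotientGroup.mk'_surjective Q)) with e | e
    · rw [Subgroup.map_eq_bot_iff, QuotientGroup.ker_mk'] at e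
      exact absurd (le_antisymm e QW) hwcl
    · have := congrArg (comap (QuotientGroup.mk' Q)) e
      rwa [comap_map_eq, QuotientGroup.ker_mk', sup_eq_left.2 QW, comap_top] at this
  have : W ≤ N.subgroupOf (C1 z) := (closure_le _).2 fun x hx => by
    obtain ⟨k, hk⟩ := isConj_iff.1 (show IsConj z (x : G) from hx)
    show (x : G) ∈ N
    exact hk ▸ hN.conj_mem _ hzN k
  exact fun x hx => this (Wt ▸ mem_top (⟨x, hx⟩ : C1 z))

/-- singular subgroups -/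
structure SG (Qf : G → Subgroup G) (U : Subgroup G) : Prop where
  sq : ∀ u ∈ U, u * u = 1
  lx : ∀ u ∈ U, u ≠ 1 → LX u (Qf u)
  le : ∀ u ∈ U, u ≠ 1 → U ≤ Qf u
  cj : ∀ g u, Qf (g * u * g⁻¹) = cj g (Qf u)

theorem sg_of (Q : G → Subgroup G)
    (hQ : ∀ x : G, Q x = (Cfsg.pCore 2 ↥(Subgroup.centralizer ({x} : Set G))).map (Subgroup.centralizer ({x} : Set G)).subtype)
    (z : G) (hz : orderOf z = 2) (hE : Cfsg.IsExtraspecial 2 ↥(Q z))
    (hC : Subgroup.centralizer ((Q z : Subgroup G) : Set G) ≤ Q z)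
    (U : Subgroup G) (hU2 : ∀ u ∈ U, u * u = 1)
    (hS : ∀ u ∈ U, u ≠ 1 → ∃ g : G, g * z * g⁻¹ = u)
    (hO : ∀ u ∈ U, ∀ v ∈ U, u ≠ 1 → v ≠ 1 → v ∈ Q u) : SG Q U := by
  have e : ∀ x, Q x = O {2} (C1 x) := fun x => by rw [hQ, map_pCore]
  have c : ∀ g u, Q (g * u * g⁻¹) = cj g (Q u) := fun g u => by rw [e, e, cj_O, cj_centralizer_singleton]
  have le : Q z ≤ C1 z := e z ▸ O_le _ _
  have h : LX z (Q z) := ⟨es_of hE ⟨hC (le_C1_iff.1 le), le_C1_iff.1 le⟩ fun e => by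
    rw [e, orderOf_one] at hz; omega, e z ▸ nn_O (le_nn _), hC⟩
  refine ⟨hU2, fun u hu h1 => ?_, fun u hu h1 v hv => ?_, c⟩
  · obtain ⟨g, rfl⟩ := hS u hu h1
    rw [c]; exact h.cj g
  · by_cases h2 : v = 1
    · rw [h2]; exact one_mem _
    · exact hO u hu v hv h1 h2

variable {Qf : G → Subgroup G}

theorem SG.ab (h : SG Qf U) : U ≤ CC U := ab_cc (elem_two_of_mul_self h.sq).1

theorem SG.nn (h : SG Qf U) : (⨆ u ∈ ((U : Set G) \ {1}), Qf u) ≤ NN U :=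
  iSup₂_le fun u hu => es_nn (h.lx u hu.1 hu.2).es hu.1 (h.le u hu.1 hu.2)

theorem SG.thm_5598 (h : SG Qf U) (T : Set G) (hT : Subgroup.closure T = U) (hT1 : (1 : G) ∉ T) :
    (⨅ u ∈ ((U : Set G) \ {1}), Qf u) = ⨅ t ∈ T, Qf t := by
  refine le_antisymm (le_iInf₂ fun t ht => iInf₂_le t ⟨hT ▸ subset_closure ht, fun e => hT1 (e ▸ ht)⟩) fun x hx => ?_
  have key : ∀ u ∈ closure T, u = 1 ∨ x ∈ Qf u := by
    intro u hu
    induction hu using closure_induction with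
    | mem t ht => exact Or.inr (mem_iInf.1 (mem_iInf.1 hx t) ht)
    | one => exact Or.inl rfl
    | inv a ha ih => rwa [inv_self (h.sq a (hT ▸ ha))]
    | mul a b ha hb iha ihb =>
      rw [hT] at ha hb
      by_cases a1 : a = 1
      · rwa [a1, one_mul]
      by_cases b1 : b = 1
      · rwa [b1, mul_one]
      refine or_iff_not_imp_left.2 fun h1 => ?_
      replace iha := iha.resolve_left a1
      replace ihb := ihb.resolve_left b1
      by_cases xU : x ∈ U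
      · exact h.le _ (mul_mem ha hb) h1 xU
      have ea := (h.lx a ha a1).es
      have ab : a ≠ b := fun e => h1 (e ▸ h.sq a ha)
      have x2 : x * x = 1 := by
        rw [← pow_two]
        rcases zp2 (h.sq a ha) (ea.pw x iha) with e | e
        · exact e
        · exact (zp2 (h.sq b hb) ((h.lx b hb b1).es.pw x ihb)).resolve_right fun e' => ab (e.symm.trans e')
      obtain ⟨q, hq, e⟩ := es_dual ea (A := zpowers a ⊔ zpowers x) (mem_sup_left (mem_zpowers a))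
        (sup_le (zpowers_le.2 ea.mem.1) (zpowers_le.2 iha)) (h.le a ha a1 hb) fun hm => by
          rcases mem_four (h.sq a ha) x2 (mem_C1_comm.1 (es_C1 ea iha)) hm with e | e | e | e
          · exact b1 e
          · exact ab e.symm
          · exact xU (e ▸ hb)
          · exact xU (by simpa using mul_mem (inv_mem ha) (e ▸ hb : a * x ∈ U))
      rw [← e, h.cj, ← conj_eq_of_cc hq.2 (mem_sup_right (mem_zpowers x))]
      exact conj_mem_cj ihb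
  exact mem_iInf.2 fun u => mem_iInf.2 fun hu => (key u (hT ▸ hu.1)).resolve_left hu.2

theorem SG.thm_5597 (h : SG Qf U) {QU LU : Subgroup G} (hQU : QU = ⨅ u ∈ ((U : Set G) \ {1}), Qf u)
    (hLU : LU = ⨆ u ∈ ((U : Set G) \ {1}), Qf u) :
    (∀ g ∈ LU, ∀ x ∈ QU, g * x * g⁻¹ * x⁻¹ ∈ U) ∧
      ∀ x ∈ QU, x ∉ U → ∀ u ∈ U, ∃ g ∈ LU ⊓ CC U, g * x * g⁻¹ = x * u := by
  have le : ∀ u ∈ U, u ≠ 1 → QU ≤ Qf u := fun u hu h1 => hQU ▸ iInf₂_le u ⟨hu, h1⟩
  constructor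
  · have : LU ≤ Solv.centralMod QU U := hLU ▸ iSup₂_le fun u hu g hg =>
      ⟨es_nn (h.lx u hu.1 hu.2).es hu.1 (h.le u hu.1 hu.2) hg, fun x hx => zpowers_le.2 hu.1
        ((h.lx u hu.1 hu.2).es.der (commutator_mem_commutator hg (le u hu.1 hu.2 hx)))⟩
    exact fun g hg x hx => (this hg).2 x hx
  · intro x hx hU u hu
    by_cases h1 : u = 1
    · exact ⟨1, one_mem _, by simp [h1]⟩
    obtain ⟨q, hq, e⟩ := es_dual (h.lx u hu h1).es hu (h.le u hu h1) (le u hu h1 hx) hU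
    refine ⟨q, ⟨hLU ▸ (le_iSup₂ (f := fun u (_ : u ∈ ((U : Set G) \ {1})) => Qf u) u ⟨hu, h1⟩) hq.1, hq.2⟩, ?_⟩
    rw [e, mem_C1.1 (es_C1 (h.lx u hu h1).es (le u hu h1 hx))]

theorem SG.aut (h : SG Qf U) (W : Subgroup G) : W ≤ U → ∀ φ : U ≃* U, (∀ w : U, (w : G) ∈ W → φ w = w) →
    ∃ g ∈ (⨆ u ∈ ((U : Set G) \ {1}), Qf u), ∀ u : U, g * (u : G) * g⁻¹ = φ u := by
  induction W using WellFoundedGT.induction with
  | _ W ih =>
  intro hW φ hφ
  by_cases e : U ≤ W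
  · exact ⟨1, one_mem _, fun u => by simp [hφ u (e u.2)]⟩
  obtain ⟨v, hv, hvW⟩ := SetLike.not_le_iff_exists.1 e
  have lt : W < W ⊔ zpowers v := lt_of_le_of_ne le_sup_left fun e => hvW (e ▸ mem_sup_right (mem_zpowers v))
  have le : W ⊔ zpowers v ≤ U := sup_le hW (zpowers_le.2 hv)
  have fix : ∀ ψ : U ≃* U, (∀ w : U, (w : G) ∈ W → ψ w = w) → ψ ⟨v, hv⟩ = ⟨v, hv⟩ →
      ∀ w : U, (w : G) ∈ W ⊔ zpowers v → ψ w = w := fun ψ h1 h2 w hw => by
    obtain ⟨a, ha, b, hb, e⟩ := (mem_sup_l (nn_of_cc ((zpowers_le.2 hv).trans (h.ab.trans (cc_anti hW))))).1 hw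
    rcases zp2 (h.sq v hv) hb with rfl | rfl
    · exact h1 w (by rwa [e, mul_one])
    · rw [show w = ⟨a, hW ha⟩ * ⟨b, hv⟩ from Subtype.ext e, map_mul, h1 _ ha, h2]
  by_cases h1 : φ ⟨v, hv⟩ = ⟨v, hv⟩
  · exact ih _ lt le φ (fix φ hφ h1)
  set v' := φ ⟨v, hv⟩ with hv'
  have v'W : (v' : G) ∉ W := fun e => hvW (by
    have := φ.injective (hv'.symm.trans (hφ v' e).symm)
    have e2 : v = v' := congrArg Subtype.val this
    exact e2.symm ▸ e)
  have hu : (v' : G) * v ∈ U := mul_mem v'.2 hv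
  have u1 : (v' : G) * v ≠ 1 := fun e => h1 (Subtype.ext (by
    rw [eq_inv_of_mul_eq_one_left e, inv_self (h.sq v hv)]))
  obtain ⟨q, hq, e⟩ := es_dual (h.lx _ hu u1).es (A := W ⊔ zpowers (v' * v)) (mem_sup_right (mem_zpowers _))
    ((sup_le hW (zpowers_le.2 hu)).trans (h.le _ hu u1)) (h.le _ hu u1 hv) fun hm => by
      obtain ⟨a, ha, b, hb, e⟩ := (mem_sup_l (nn_of_cc ((zpowers_le.2 hu).trans (h.ab.trans (cc_anti hW))))).1 hm
      rcases zp2 (h.sq _ hu) hb with rfl | rfl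
      · exact hvW (by rwa [e, mul_one])
      · rw [← mul_assoc, eq_comm, mul_eq_right] at e
        exact v'W (eq_inv_of_mul_eq_one_right e ▸ inv_mem ha)
  rw [mul_assoc (v' : G), h.sq v hv, mul_one] at e
  have qL : q ∈ (⨆ u ∈ ((U : Set G) \ {1}), Qf u) :=
    (le_iSup₂ (f := fun u (_ : u ∈ ((U : Set G) \ {1})) => Qf u) _ ⟨hu, u1⟩) hq.1
  let ψ : U ≃* U := U.normalizerMonoidHom ⟨q, h.nn qL⟩
  have hψ : ∀ w : U, (ψ w : G) = q * w * q⁻¹ := fun w => rfl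
  obtain ⟨g, hg, e'⟩ := ih _ lt le (φ.trans ψ.symm) (fix _ (fun w hw => by
      rw [MulEquiv.trans_apply, hφ w hw, MulEquiv.symm_apply_eq]
      exact Subtype.ext (conj_eq_of_cc hq.2 (mem_sup_left hw)).symm) (by
      rw [MulEquiv.trans_apply, MulEquiv.symm_apply_eq]
      exact Subtype.ext e.symm))
  refine ⟨q * g, mul_mem qL hg, fun w => ?_⟩
  calc q * g * w * (q * g)⁻¹ = q * (g * w * g⁻¹) * q⁻¹ := by group
    _ = _ := by rw [e', ← hψ, MulEquiv.trans_apply, MulEquiv.apply_symm_apply]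

theorem SG.thm_5596 (h : SG Qf U) {QU LU : Subgroup G} (hQU : QU = ⨅ u ∈ ((U : Set G) \ {1}), Qf u)
    (hLU : LU = ⨆ u ∈ ((U : Set G) \ {1}), Qf u) (h0 : U ≠ ⊥) :
    U ≤ QU ∧ QU ≤ LU ∧ LU ≤ NN U ∧
      ∀ φ : ↥U ≃* ↥U, ∃ g ∈ LU, ∀ u : ↥U, g * (u : G) * g⁻¹ = ((φ u : ↥U) : G) := by
  subst hQU hLU
  obtain ⟨u, hu, h1⟩ := exists_ne_one h0
  refine ⟨le_iInf₂ fun u hu => h.le u hu.1 hu.2, (iInf₂_le u ⟨hu, h1⟩).trans
    (le_iSup₂ (f := fun u (_ : u ∈ ((U : Set G) \ {1})) => Qf u) u ⟨hu, h1⟩), h.nn, fun φ => h.aut ⊥ bot_le φ ?_⟩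
  intro w hw
  rw [show w = 1 from Subtype.ext hw, map_one]

end Cfsg.Agent.PU
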