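/-
Groups of local rank one type and failure of factorization modules for them.
-/
import Cfsg.Agent.Lib.Transfer.Thom
import Cfsg.Agent.Lib.MS.Base3

set_option autoImplicit false
set_option linter.unusedSectionVars false
set_option linter.unusedVariables false
set_option linter.style.haveILetI false
set_option linter.unusedSimpArgs false

namespace Cfsg.Agent.PU

open Subgroup Cfsg.Agent.Transfer Cfsg.Agent.MS
open scoped commutatorElement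

universe u
variable {G : Type u} [Group G] [Finite G] {p q : ℕ} [hp : Fact p.Prime]
variable {A B C D E H K L M N P Q R S T T' U V W X Y Z : Subgroup G} {a b g h s t v w x y z : G}

theorem sup_of_relIndex (h1 : A ≤ C) (h2 : B ≤ C) (h3 : B ≤ NN A) (h : A.relIndex C ≤ A.relIndex B) : A ⊔ B = C := by
  refine eq_of_card_le (sup_le h1 h2) ?_
  rw [← card_mul_relIndex h1, ← card_mul_relIndex (le_sup_left : A ≤ A ⊔ B), relIndex_sup_l h3]
  exact Nat.mul_le_mul_left _ h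
theorem relIndex_mono (h : B ≤ C) : A.relIndex B ≤ A.relIndex C :=
  relIndex_le_of_le_right h (relIndex_pos _ _).ne'
theorem comm_mem {x y : G} (hx : x ∈ A) (hy : y ∈ B) : ⁅x, y⁆ ∈ ⁅A, B⁆ := commutator_mem_commutator hx hy
theorem cm_r (a b c : G) : ⁅a, b * c⁆ = ⁅a, b⁆ * (b * ⁅a, c⁆ * b⁻¹) := by simp only [commutatorElement_def]; group
theorem cm_one (h : a * b = b * a) : ⁅a, b⁆ = 1 := commutatorElement_eq_one_iff_mul_comm.2 h
theorem arith3 {a b c d : ℕ} (h1 : d ≤ a) (h2 : a ≤ b) (h3 : b ≤ c) (h4 : c ≤ d) : a = d ∧ b = d ∧ c = d := by omega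

/-- elements moving `w` inside the coset of a subgroup centralized by `P` -/
def stab (P Z : Subgroup G) (h : Z ≤ CC P) (w : G) : Subgroup G where
  carrier := {g | g ∈ P ∧ ⁅w, g⁆ ∈ Z}
  one_mem' := ⟨one_mem _, by simp⟩
  mul_mem' := fun {a b} ha hb => ⟨mul_mem ha.1 hb.1, by
    rw [cm_r, conj_eq_of_cc (cc_symm h ha.1) hb.2]
    exact mul_mem ha.2 hb.2⟩
  inv_mem' := fun {a} ha => ⟨inv_mem ha.1, by
    have := conj_eq_of_cc (cc_symm h (inv_mem ha.1)) (inv_mem ha.2)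
    rw [show ⁅w, a⁻¹⁆ = a⁻¹ * ⁅w, a⁆⁻¹ * a⁻¹⁻¹ by simp only [commutatorElement_def]; group, this]
    exact inv_mem ha.2⟩

structure LS0 (p q : ℕ) (P Q K : Subgroup G) : Prop where
  QK : Q ≤ K
  KP : K ≤ P
  nQ : P ≤ NN Q
  nK : P ≤ NN K
  pg : IsPGroup p Q
  inf : ∀ {T}, IsSyl p T P → T ⊓ K = Q
  card : ∀ {T}, IsSyl p T P → Q.relIndex T = q
  gen : ∀ {T T' s}, IsSyl p T P → IsSyl p T' P → T ⊔ T' = P → s ∈ T → s ∉ Q → zpowers s ⊔ T' = P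
  ex : ∀ {T}, IsSyl p T P → ∃ g ∈ P, T ⊔ cj g T = P
  oppK : ∀ {T T' g}, IsSyl p T P → IsSyl p T' P → T ⊔ T' = P → g ∈ K → cj g T ⊔ T' = P

structure LS (p q : ℕ) (P Q K : Subgroup G) : Prop extends LS0 p q P Q K where
  ab : ∀ {T}, IsSyl p T P → ⁅T, T⁆ ≤ Q
  pw : ∀ {T x}, IsSyl p T P → x ∈ T → x ^ p ∈ Q
  irr : ∀ {T X}, IsSyl p T P → Q ≤ X → X ≤ T → P ⊓ NN T ≤ NN X → X = Q ∨ X = T
  core : ∀ {T N}, IsSyl p T P → N ≤ P → P ≤ NN N → N ⊔ T ≠ P → N ≤ K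
  ne : ∀ {T}, IsSyl p T P → K ⊔ T ≠ P

/-- the structure of a failure of factorization module -/
structure FS (p q : ℕ) (P Q K V : Subgroup G) : Prop where
  quad : ∀ {T}, IsSyl p T P → ⁅V, T⁆ ≤ CC T
  idx : ∀ {T}, IsSyl p T P → (CC T).relIndex V = q
  idx0 : ∀ {T}, IsSyl p T P → (CC P).relIndex (V ⊓ CC T) = q
  cz : ∀ {T v s}, IsSyl p T P → v ∈ V → s ∈ T → s ∉ Q → ⁅v, s⁆ ∈ CC P → v ∈ CC T
  sup : ∀ {T T'}, IsSyl p T P → IsSyl p T' P → T ⊔ T' = P → (V ⊓ CC T) ⊔ (V ⊓ CC T') = V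
  cv : ∀ {T v u}, IsSyl p T P → v ∈ V → v ∉ CC T → u ∈ V ⊓ CC T → ∃ t ∈ T, ∃ z ∈ V ⊓ CC P, u = z * ⁅v, t⁆
  cK : ⁅K, P⁆ ≤ CC V
  ne : ∀ {T}, IsSyl p T P → ¬ V ⊓ CC T ≤ CC P

namespace LS0
variable (l : LS0 p q P Q K)
include l

theorem QP : Q ≤ P := l.QK.trans l.KP
theorem QT (hT : IsSyl p T P) : Q ≤ T := l.inf hT ▸ inf_le_left
theorem cj (hT : IsSyl p T P) (hg : g ∈ P) : IsSyl p (cj g T) P := hT.cj_of_mem_normalizer (le_nn P hg)
theorem sylK (hT : IsSyl p T P) : IsSyl p Q K := l.inf hT ▸ hT.inf_of_le_normalizer l.KP l.nK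
theorem pgK (h1 : X ≤ K) (h2 : IsPGroup p X) : X ≤ Q := by
  obtain ⟨T, hT⟩ := exists_isSyl p P
  exact (l.sylK hT).le_of_le_normalizer h2 h1 ((h1.trans l.KP).trans l.nQ)
theorem gen' (hT : IsSyl p T P) (hT' : IsSyl p T' P) (h : T ⊔ T' = P) (h1 : A ≤ T) (h2 : ¬ A ≤ Q) :
    A ⊔ T' = P := by
  obtain ⟨s, hs, hs'⟩ := SetLike.not_le_iff_exists.1 h2
  exact le_antisymm (sup_le (h1.trans hT.le) hT'.le)
    ((l.gen hT hT' h (h1 hs) hs').ge.trans (sup_le_sup_right (zpowers_le.2 hs) _))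
theorem opp_cj (h : T ⊔ T' = P) (hg : g ∈ P) : Transfer.cj g T ⊔ Transfer.cj g T' = P := by
  rw [← cj_sup, h, cj_eq_of_mem hg]
theorem opp_cj' (hT : IsSyl p T P) (h : T ⊔ T' = P) (hg : g ∈ T) : T ⊔ Transfer.cj g T' = P := by
  have := l.opp_cj h (hT.le hg)
  rwa [cj_eq_of_mem hg] at this

theorem cz1 (hPV : P ≤ NN V) (hT : IsSyl p T P) (hT' : IsSyl p T' P)
    (h : T ⊔ T' = P) (hw : w ∈ V ⊓ CC T') (hs : s ∈ T) (hs' : s ∉ Q) (hc : ⁅w, s⁆ ∈ CC P) : w ∈ CC P := by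
  have h1 : P ≤ stab P (CC P) le_rfl w := (l.gen hT hT' h hs hs').ge.trans (sup_le
    (zpowers_le.2 ⟨hT.le hs, hc⟩) fun x hx => ⟨hT'.le hx, by
      rw [commutatorElement_eq_one_iff_mul_comm.2 (hw.2 x hx).symm]; exact one_mem _⟩)
  obtain ⟨g, hg, rfl⟩ := hT.exists_cj_eq hT'
  rw [← h, cc_sup]
  refine mem_inf.2 ⟨?_, hw.2⟩
  rw [← cj_centralizer, mem_cj, show g⁻¹ * w * g = ⁅w, g⁻¹⁆⁻¹ * w by simp only [commutatorElement_def]; group]
  exact mul_mem (inv_mem (cc_anti hT'.le (h1 (inv_mem hg)).2)) hw.2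

theorem ff0 (hV : IsMulCommutative V) (hVp : IsPGroup p V) (hPV : P ≤ NN V) (hQ : Q ≤ CC V) (hT : IsSyl p T P)
    (h1 : ⁅V, T⁆ ≤ CC T) (h2 : (CC T).relIndex V ≤ q) (h3 : ¬ V ⊓ CC T ≤ CC P) : FS p q P Q K V := by
  have all : ∀ {T'}, IsSyl p T' P → ⁅V, T'⁆ ≤ CC T' ∧ (CC T').relIndex V ≤ q ∧ ¬ V ⊓ CC T' ≤ CC P ∧
      (CC P).relIndex (V ⊓ CC T') = (CC P).relIndex (V ⊓ CC T) := fun {T'} hT' => by
    obtain ⟨g, hg, rfl⟩ := hT'.exists_cj_eq hT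
    have e1 : Transfer.cj g V = V := cj_nn (hPV hg)
    have e2 : Transfer.cj g (CC P) = CC P := cj_nn (nn_cc (le_nn P) hg)
    refine ⟨?_, ?_, fun e => h3 ?_, ?_⟩
    · rw [← e1, ← cj_commutator, ← cj_centralizer]; exact cj_mono g h1
    · rw [← e1, ← cj_centralizer, relIndex_cj]; exact h2
    · rwa [← e1, ← e2, ← cj_centralizer, ← cj_inf, cj_le_cj_iff] at e
    · rw [← relIndex_cj g (CC P) (V ⊓ CC T), e2, cj_inf, e1, cj_centralizer]
  have cc2 : ∀ {T T'}, T ⊔ T' = P → CC T ⊓ CC T' = CC P := fun h => by rw [← h, cc_sup]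
  -- counting for an opposite pair
  have cnt : ∀ {T T'}, IsSyl p T P → IsSyl p T' P → T ⊔ T' = P → ∀ w ∈ V ⊓ CC T', w ∉ CC P →
      (CC T).relIndex V = q ∧ (CC P).relIndex (V ⊓ CC T) = q ∧ (V ⊓ CC T) ⊔ (V ⊓ CC T') = V ∧
        ∀ u ∈ V ⊓ CC T, ∃ t ∈ T, ∃ z ∈ V ⊓ CC P, u = z * ⁅w, t⁆ := fun {T T'} hT hT' h w hw hw' => by
    have m : ∀ t ∈ T, ⁅w, t⁆ ∈ V ⊓ CC T := fun t ht =>
      ⟨comm_le_left (hT.le.trans hPV) (comm_mem hw.1 ht), (all hT).1 (comm_mem hw.1 ht)⟩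
    let φ : T →* G := MonoidHom.mk' (fun t => ⁅w, (t : G)⁆) fun a b => by
      rw [coe_mul, cm_r, conj_eq_of_cc (cc_symm (inf_le_right : V ⊓ CC T ≤ _) a.2) (m _ b.2)]
    have r : φ.range ≤ V ⊓ CC T := by rintro _ ⟨t, rfl⟩; exact m _ t.2
    have e : (CC P).relIndex φ.range = q := by
      rw [← index_comap, ← l.card hT, relIndex]
      congr 1
      ext t
      refine ⟨fun ht => ?_, fun ht => ?_⟩
      · by_contra ht'
        exact hw' (l.cz1 hPV hT hT' h hw t.2 ht' ht)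
      · change ⁅w, (t : G)⁆ ∈ CC P
        rw [cm_one (b := (t : G)) (hQ ht w hw.1)]; exact one_mem _
    have e' : (CC P).relIndex (V ⊓ CC T') = (CC T).relIndex (V ⊓ CC T') := by
      rw [← cc2 h, ← inf_relIndex_right, ← inf_relIndex_right (CC T)]
      congr 1
      rw [inf_assoc, inf_eq_right.2 (inf_le_right : V ⊓ CC T' ≤ CC T')]
    obtain ⟨a1, a2, a3⟩ := arith3 (e.ge.trans (relIndex_mono r))
      (((all hT).2.2.2.trans (all hT').2.2.2.symm).trans e').le (relIndex_mono (inf_le_left : V ⊓ CC T' ≤ V)) (all hT).2.1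
    refine ⟨a3, a1, sup_of_relIndex inf_le_left inf_le_left (ab_nn hV inf_le_left inf_le_left) ?_, fun u hu => ?_⟩
    · rw [inf_comm V (CC T), inf_relIndex_right, a3, ← a2]
      exact relIndex_le_of_le_left inf_le_left (relIndex_pos _ _).ne'
    · have : (V ⊓ CC P) ⊔ φ.range = V ⊓ CC T := by
        refine sup_of_relIndex (inf_le_inf_left _ (cc_anti hT.le)) r (ab_nn hV (r.trans inf_le_left) inf_le_left) ?_
        have e3 : (V ⊓ CC P).relIndex (V ⊓ CC T) = (CC P).relIndex (V ⊓ CC T) := by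
          rw [← inf_relIndex_right, ← inf_relIndex_right (CC P)]
          congr 1
          rw [inf_comm V, inf_assoc, ← inf_assoc V, inf_idem]
        rw [e3, a1, ← e]
        exact relIndex_le_of_le_left inf_le_right (relIndex_pos _ _).ne'
      obtain ⟨z, hz, _, ⟨t, rfl⟩, rfl⟩ := (mem_sup_l (ab_nn hV (r.trans inf_le_left) inf_le_left)).1 (this.ge hu)
      exact ⟨t, t.2, z, hz, rfl⟩
  have cnt' : ∀ {T T'}, IsSyl p T P → IsSyl p T' P → T ⊔ T' = P →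
      (CC T).relIndex V = q ∧ (CC P).relIndex (V ⊓ CC T) = q ∧ (V ⊓ CC T) ⊔ (V ⊓ CC T') = V := fun hT hT' h => by
    obtain ⟨w, hw, hw'⟩ := SetLike.not_le_iff_exists.1 (all hT').2.2.1
    have := cnt hT hT' h w hw hw'
    exact ⟨this.1, this.2.1, this.2.2.1⟩
  -- decomposition of a vector
  have dec : ∀ {T T'}, IsSyl p T P → IsSyl p T' P → T ⊔ T' = P → ∀ v ∈ V, v ∉ CC T → ∃ a ∈ V ⊓ CC T,
      ∃ w ∈ V ⊓ CC T', w ∉ CC P ∧ v = a * w ∧ ∀ t ∈ T, ⁅v, t⁆ = ⁅w, t⁆ := fun {T T'} hT hT' h v hv hv' => by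
    obtain ⟨a, ha, w, hw, rfl⟩ := (mem_sup_l (ab_nn hV inf_le_left inf_le_left)).1 ((cnt' hT hT' h).2.2.ge hv)
    refine ⟨a, ha, w, hw, fun e => hv' (mul_mem ha.2 (cc_anti hT.le e)), rfl, fun t ht => ?_⟩
    rw [commutatorElement_mul_left_eq_conj_mul, commutatorElement_eq_one_iff_mul_comm.2 (ha.2 t ht).symm, mul_one,
      conj_eq_of_cc (ab_cc hV ha.1) (comm_le_left (hT.le.trans hPV) (comm_mem hw.1 ht))]
  have cv : ∀ {T v u}, IsSyl p T P → v ∈ V → v ∉ CC T → u ∈ V ⊓ CC T → ∃ t ∈ T, ∃ z ∈ V ⊓ CC P, u = z * ⁅v, t⁆ :=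
    fun {T v u} hT hv hv' hu => by
      obtain ⟨g, hg, h⟩ := l.ex hT
      obtain ⟨a, ha, w, hw, hw', -, e⟩ := dec hT (l.cj hT hg) h v hv hv'
      obtain ⟨t, ht, z, hz, rfl⟩ := (cnt hT (l.cj hT hg) h w hw hw').2.2.2 u hu
      exact ⟨t, ht, z, hz, by rw [e t ht]⟩
  have cK : ∀ {T}, IsSyl p T P → ⁅K, T⁆ ≤ CC V := fun {T} hT => by
    obtain ⟨g, hg, h⟩ := l.ex hT
    have hT' := l.cj hT hg
    have n0 : K ≤ NN (V ⊓ CC T : Subgroup G) := fun k hk => mem_normalizer_of_cj_le (by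
      rw [cj_inf, cj_nn (hPV (l.KP hk)), cj_centralizer]
      intro v hv
      refine ⟨hv.1, by_contra fun hv' => hv' (cc_anti hT.le ?_)⟩
      obtain ⟨a, ha, w, hw, hw', rfl, -⟩ := dec hT hT' h v hv.1 hv'
      obtain ⟨t, ht, z, hz, e⟩ := (cnt hT hT' h w hw hw').2.2.2 a⁻¹ (inv_mem ha)
      rw [← cc2 (l.oppK hT (l.cj hT' (hT.le ht)) (l.opp_cj' hT h ht) hk)]
      refine ⟨hv.2, ?_⟩
      have e2 : a * w = t * w * t⁻¹ * z⁻¹ := by
        have h5 : t * w * t⁻¹ ∈ V := conj_mem_of_mem_normalizer (hPV (hT.le ht)) hw.1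
        rw [← inv_inv a, e, commutatorElement_def]
        calc (z * (w * t * w⁻¹ * t⁻¹))⁻¹ * w = t * w * t⁻¹ * (w⁻¹ * z⁻¹ * w⁻¹⁻¹) := by group
          _ = _ := by rw [conj_eq_of_cc (ab_cc hV (inv_mem hw.1)) (inv_mem hz.1)]
      rw [e2]
      exact mul_mem (cj_centralizer t _ ▸ conj_mem_cj hw.2) (Subgroup.inv_mem _ (cc_anti (l.cj hT' (hT.le ht)).le hz.2)))
    have k1 : ⁅K, T⁆ ≤ CC (V ⊓ CC T : Subgroup G) :=
      (commutator_mono le_rfl (cc_symm inf_le_right)).trans (comm_le_right (nn_cc n0))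
    have k0 : ⁅V, T⁆ ≤ V ⊓ CC T := le_inf (comm_le_left (hT.le.trans hPV)) (all hT).1
    have k2 : ⁅V, ⁅K, T⁆⁆ ≤ V ⊓ CC T := by
      rw [commutator_comm]
      refine three_sub (nn_of_cc (cc_symm inf_le_right)) (ab_nn hV le_rfl inf_le_left) n0 ?_ ?_
      · rw [commutator_comm T]; exact (commutator_mono k0 le_rfl).trans (comm_le_left n0)
      · exact (commutator_mono (comm_le_left (l.KP.trans hPV)) le_rfl).trans k0
    have k3 : ⁅K, T⁆ ≤ K := comm_le_left (hT.le.trans l.nK)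
    refine le_of_pg fun r hr _ S hS hS' => ?_
    haveI := Fact.mk hr
    by_cases e : r = p
    · subst e; exact (l.pgK (hS.trans k3) hS').trans hQ
    · exact cop_stable (pg_coprime_pg hS' (hVp.to_le inf_le_left) e) ((commutator_mono le_rfl hS).trans k2) (hS.trans k1)
  obtain ⟨g, hg, h⟩ := l.ex hT
  refine ⟨fun hT => (all hT).1, fun hT => ?_, fun hT => ?_, fun {T v s} hT hv hs hs' hc => ?_,
    fun hT hT' h => (cnt' hT hT' h).2.2, cv, ?_, fun hT => (all hT).2.2.1⟩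
  · obtain ⟨g, hg, h⟩ := l.ex hT
    exact (cnt' hT (l.cj hT hg) h).1
  · obtain ⟨g, hg, h⟩ := l.ex hT
    exact (cnt' hT (l.cj hT hg) h).2.1
  · obtain ⟨g, hg, h⟩ := l.ex hT
    by_contra hv'
    obtain ⟨a, ha, w, hw, hw', -, e⟩ := dec hT (l.cj hT hg) h v hv hv'
    exact hw' (l.cz1 hPV hT (l.cj hT hg) h hw hs hs' (e s hs ▸ hc))
  · rw [← h]
    exact comm_sup_r (hT.le.trans (nn_cc hPV)) ((l.cj hT hg).le.trans (nn_cc hPV)) (cK hT) (cK (l.cj hT hg))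

end LS0

theorem ms_sup (hV : IsMulCommutative V) (h : X ≤ NN Y) : ms V X * ms V Y ≤ ms V (X ⊔ Y) * ms V (X ⊓ Y) := by
  have h1 := card_sup_mul_card_inf h
  have h2 := card_sup_mul_card_inf (H := V ⊓ CC X) (N := V ⊓ CC Y) (ab_nn hV inf_le_left inf_le_left)
  have h3 : #((V ⊓ CC X) ⊔ (V ⊓ CC Y) : Subgroup G) ≤ #(V ⊓ CC (X ⊓ Y : Subgroup G) : Subgroup G) :=
    card_le_of_le (sup_le (inf_le_inf_left _ (cc_anti inf_le_left)) (inf_le_inf_left _ (cc_anti inf_le_right)))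
  have h4 : (V ⊓ CC X) ⊓ (V ⊓ CC Y) = V ⊓ CC (X ⊔ Y : Subgroup G) := by rw [cc_sup, inf_inf_distrib_left V (CC X)]
  rw [h4] at h2
  unfold ms
  calc _ = (#X * #Y) * (#(V ⊓ CC X : Subgroup G) * #(V ⊓ CC Y : Subgroup G)) := by ring
    _ ≤ _ := by
      rw [← h1, ← h2]
      calc _ = (#(X ⊔ Y : Subgroup G) * #(V ⊓ CC (X ⊔ Y : Subgroup G) : Subgroup G)) *
        (#(X ⊓ Y : Subgroup G) * #((V ⊓ CC X) ⊔ (V ⊓ CC Y) : Subgroup G)) := by ring
        _ ≤ _ := Nat.mul_le_mul_left _ (Nat.mul_le_mul_left _ h3)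

namespace LS
variable (l : LS p q P Q K)
include l

theorem nn_of (hT : IsSyl p T P) (h1 : Q ≤ X) (h2 : X ≤ T) : T ≤ NN X := nn_of_der_le ((l.ab hT).trans h1) h2
theorem ccK (hPV : P ≤ NN V) (hT : IsSyl p T P) (h3 : ¬ V ⊓ CC T ≤ CC P) : P ⊓ CC V ≤ K :=
  l.core hT inf_le_left (nn_inf (le_nn P) (nn_cc hPV)) fun e => h3 (by
    rw [← e, cc_sup]; exact inf_le_inf_right _ (cc_symm inf_le_right))
theorem ccQ (hPV : P ≤ NN V) (hT : IsSyl p T P) (h3 : ¬ V ⊓ CC T ≤ CC P) : T ⊓ CC V ≤ Q :=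
  l.inf hT ▸ le_inf inf_le_left ((inf_le_inf_right _ hT.le).trans (l.ccK hPV hT h3))

theorem ff1 (hV : IsMulCommutative V) (hVp : IsPGroup p V) (hPV : P ≤ NN V) (hQ : Q ≤ CC V) (hT : IsSyl p T P)
    (h3 : ¬ V ⊓ CC T ≤ CC P) (hA : A ≤ T) (hAQ : ¬ A ≤ Q) (h : #V * #(A ⊓ Q : Subgroup G) ≤ ms V A) :
    FS p q P Q K V := by
  have hQT := l.QT hT
  have c1 : ∀ B ≤ T, V ⊓ CC (B ⊔ Q : Subgroup G) = V ⊓ CC B := fun B hB => by
    rw [cc_sup, inf_comm (CC B), ← inf_assoc, inf_eq_left.2 (cc_symm hQ)]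
  obtain ⟨X, ⟨hX, hX'⟩, hm⟩ := Set.exists_max_image {X | Q ≤ X ∧ X ≤ T} (fun X => toLex (ms V X, #X))
    (Set.toFinite _) ⟨Q, le_rfl, hQT⟩
  have m1 : ∀ Y, Q ≤ Y → Y ≤ T → ms V Y ≤ ms V X := fun Y h1 h2 => by
    rcases Prod.Lex.toLex_le_toLex.1 (hm Y ⟨h1, h2⟩) with e | e
    exacts [e.le, e.1.le]
  have m2 : ∀ Y, Q ≤ Y → Y ≤ T → ms V X ≤ ms V Y → Y ≤ X := fun Y h1 h2 h4 => by
    have h5 := ms_sup hV (hX'.trans (l.nn_of hT h1 h2))
    have h6 := m1 _ (le_inf hX h1) (inf_le_left.trans hX')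
    have h7 : 0 < ms V X := Nat.mul_pos Nat.card_pos Nat.card_pos
    have h8 : ms V X ≤ ms V (X ⊔ Y) := Nat.le_of_mul_le_mul_right
      ((Nat.mul_le_mul_left _ h4).trans (h5.trans (Nat.mul_le_mul_left _ h6))) h7
    rcases Prod.Lex.toLex_le_toLex.1 (hm _ ⟨hX.trans le_sup_left, sup_le hX' h2⟩) with e | e
    · exact absurd h8 (not_le.2 e)
    · exact le_sup_right.trans (eq_of_card_le le_sup_left e.2).ge
  have hXT : X = T := by
    refine (l.irr hT hX hX' fun g hg => mem_normalizer_of_cj_le (m2 _ ?_ (cj_le hX' hg.2) ?_)).resolve_left fun e => ?_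
    · rw [← cj_nn (l.nQ hg.1)]; exact cj_mono g hX
    · unfold ms
      rw [card_cj, ← card_cj g (V ⊓ CC X), cj_inf, cj_centralizer, cj_nn (hPV hg.1)]
    · refine hAQ (le_sup_left.trans ((m2 (A ⊔ Q) le_sup_right (sup_le hA hQT) ?_).trans e.le))
      have h1 := card_sup_mul_card_inf (hA.trans (hT.le.trans l.nQ))
      unfold ms at h ⊢
      rw [e, c1 A hA, inf_eq_left.2 (cc_symm hQ)]
      refine Nat.le_of_mul_le_mul_right ?_ (Nat.card_pos (α := (A ⊓ Q : Subgroup G)))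
      calc _ = #Q * (#V * #(A ⊓ Q : Subgroup G)) := by ring
        _ ≤ #Q * (#A * #(V ⊓ CC A : Subgroup G)) := Nat.mul_le_mul_left _ h
        _ = (#A * #Q) * #(V ⊓ CC A : Subgroup G) := by ring
        _ = _ := by rw [← h1]; ring
  subst hXT
  have m3 : ∀ B ≤ X, ms V B ≤ ms V X := fun B hB => by
    refine le_trans ?_ (m1 (B ⊔ Q) le_sup_right (sup_le hB hQT))
    unfold ms
    rw [c1 B hB]
    exact Nat.mul_le_mul_right _ (card_le_of_le le_sup_left)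
  have hTV := hT.le.trans hPV
  obtain ⟨r1, -⟩ := replacement hV hTV ((l.ab hT).trans hQ) m3 le_rfl
  refine l.ff0 hV hVp hPV hQ hT ?_ ?_ h3
  · rcases l.irr (X := X ⊓ CC ⁅V, X⁆) hT (le_inf hQT (hQ.trans (cc_anti (comm_le_left hTV)))) inf_le_left
      (nn_inf inf_le_right (nn_cc (nn_comm (inf_le_left.trans hPV) inf_le_right))) with e | e
    · rw [e, inf_eq_left.2 (cc_symm hQ)] at r1
      have : ⁅V, X⁆ = ⊥ := by
        refine eq_bot_of_le_commutator_of_res (p := p) (A := X) (hVp.to_le (comm_le_left hTV)) (right_nn_comm _ _)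
          (by rw [res_eq_bot_of_isPGroup hT.pgroup]; exact bot_le) ?_
        nth_rewrite 1 [r1]
        rw [commutator_sup_left_of_le_centralizer inf_le_right (ab_nn hV inf_le_left (comm_le_left hTV))]
      rw [this]; exact bot_le
    · exact cc_symm (e.ge.trans inf_le_right)
  · have := m1 Q le_rfl hQT
    unfold ms at this
    rw [inf_eq_left.2 (cc_symm hQ), ← card_mul_relIndex hQT, l.card hT, ← card_inf_mul_relIndex (CC X) V,
      inf_comm V] at this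
    refine Nat.le_of_mul_le_mul_left (le_of_eq_of_le ?_ (this.trans_eq ?_))
      (Nat.mul_pos (card_pos' Q) (card_pos' (CC X ⊓ V)))
    · ring
    · ring

end LS

namespace FS
variable (l : LS0 p q P Q K) (f : FS p q P Q K V)
include f

theorem cs (hT : IsSyl p T P) (hv : v ∈ V) (hs : s ∈ T) (hs' : s ∉ Q) (h : v * s = s * v) : v ∈ CC T :=
  f.cz hT hv hs hs' (by rw [cm_one h]; exact one_mem _)
theorem cA (hT : IsSyl p T P) (hA : A ≤ T) (hA' : ¬ A ≤ Q) : V ⊓ CC A = V ⊓ CC T := by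
  obtain ⟨s, hs, hs'⟩ := SetLike.not_le_iff_exists.1 hA'
  exact le_antisymm (fun v hv => ⟨hv.1, f.cs hT hv.1 (hA hs) hs' (hv.2 s hs).symm⟩) (inf_le_inf_left _ (cc_anti hA))
theorem le_comm (hT : IsSyl p T P) (hN : N ≤ V) (h : ¬ N ≤ CC T) : V ⊓ CC T ≤ (V ⊓ CC P) ⊔ ⁅N, T⁆ := fun u hu => by
  obtain ⟨v, hv, hv'⟩ := SetLike.not_le_iff_exists.1 h
  obtain ⟨t, ht, z, hz, rfl⟩ := f.cv hT (hN hv) hv' hu
  exact mul_mem (mem_sup_left hz) (mem_sup_right (comm_mem hv ht))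
include l
theorem not_cc (hT : IsSyl p T P) : ¬ V ≤ CC T := fun e => by
  obtain ⟨g, hg, h⟩ := l.ex hT
  have h1 := f.idx hT
  have h2 := f.idx0 hT
  rw [relIndex_eq_one.2 e] at h1
  exact f.ne hT (relIndex_eq_one.1 (h2.trans h1.symm))
theorem comm_not (hT : IsSyl p T P) : ¬ ⁅V, T⁆ ≤ CC P := fun e =>
  f.ne hT ((f.le_comm hT le_rfl (f.not_cc l hT)).trans (sup_le inf_le_right e))
theorem irr (hPV : P ≤ NN V) (h1 : N ≤ V) (h2 : V ⊓ CC P ≤ N) (h3 : P ≤ NN N) : N ≤ CC P ∨ V ≤ N := by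
  obtain ⟨T, hT⟩ := exists_isSyl p P
  have key : ∀ {T}, IsSyl p T P → ¬ N ≤ CC P → ¬ N ≤ CC T := fun {T} hT h e => by
    obtain ⟨g, hg, h'⟩ := l.ex hT
    refine h ?_
    rw [← h']
    refine le_cc_sup e ?_
    rw [← cj_nn (h3 hg)]; exact cc_cj e g
  refine or_iff_not_imp_left.2 fun h => ?_
  obtain ⟨g, hg, h'⟩ := l.ex hT
  have k2 : ∀ {T}, IsSyl p T P → V ⊓ CC T ≤ N := fun hT =>
    (f.le_comm hT h1 (key hT h)).trans (sup_le h2 (comm_le_left (hT.le.trans h3)))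
  exact (f.sup hT (l.cj hT hg) h').ge.trans (sup_le (k2 hT) (k2 (l.cj hT hg)))
/-- an offender supplements the core -/
theorem off (hQ : Q ≤ CC V) (hT : IsSyl p T P) (hA : A ≤ T) (hA' : ¬ A ≤ Q) (h : (CC A).relIndex V ≤ Q.relIndex A) :
    Q ⊔ A = T := by
  refine sup_of_relIndex (l.QT hT) hA (hA.trans (hT.le.trans l.nQ)) ?_
  rwa [← inf_relIndex_right, inf_comm, f.cA hT hA hA', inf_comm, inf_relIndex_right, f.idx hT, ← l.card hT] at h

end FS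

end Cfsg.Agent.PU
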