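/-
Modules for `SL₂(k)`: quadratic modules are natural, and the block identity.
-/
import Cfsg.Agent.Lib.Transfer.SL2

set_option autoImplicit false
set_option linter.unusedSectionVars false
set_option linter.unusedVariables false
set_option linter.style.haveILetI false
set_option linter.unusedSimpArgs false

namespace Cfsg.Agent.PU

open Subgroup Cfsg.Agent.Transfer

variable {k : Type*} [Field k]

def nn (c : k) : SL2 k := upU c * loU (-c⁻¹) * upU c
def zz : SL2 k := nn 1 * nn 1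

theorem nn_00 {c : k} (h : c ≠ 0) : (nn c).1 0 0 = 0 := by simp [nn, sl2_mul, h]
theorem nn_01 {c : k} (h : c ≠ 0) : (nn c).1 0 1 = c := by simp [nn, sl2_mul, h]
theorem nn_10 {c : k} (h : c ≠ 0) : (nn c).1 1 0 = -c⁻¹ := by simp [nn, sl2_mul, h]
theorem nn_11 {c : k} (h : c ≠ 0) : (nn c).1 1 1 = 0 := by simp [nn, sl2_mul, h]

theorem nn_eq {c : k} (h : c ≠ 0) : nn c = loU (-c⁻¹) * upU c * loU (-c⁻¹) := by
  apply sl2_ext <;> simp [nn_00 h, nn_01 h, nn_10 h, nn_11 h, sl2_mul, h]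
theorem nn_up {c : k} (h : c ≠ 0) (s : k) : nn c * upU s = loU (-c⁻¹ ^ 2 * s) * nn c := by
  apply sl2_ext <;> simp [nn_00 h, nn_01 h, nn_10 h, nn_11 h, sl2_mul, h]
  field_simp
theorem nn_lo {c : k} (h : c ≠ 0) (s : k) : nn c * loU s = upU (-c ^ 2 * s) * nn c := by
  apply sl2_ext <;> simp [nn_00 h, nn_01 h, nn_10 h, nn_11 h, sl2_mul, h]
  field_simp
theorem nn_mul {a b : k} (ha : a ≠ 0) (hb : b ≠ 0) : nn a * nn (-1) * (nn b * nn (-1)) = nn (a * b) * nn (-1) := by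
  have h1 : (-1 : k) ≠ 0 := by simp
  have h2 := mul_ne_zero ha hb
  apply sl2_ext <;> simp [nn_00 ha, nn_01 ha, nn_10 ha, nn_11 ha, nn_00 hb, nn_01 hb, nn_10 hb, nn_11 hb,
    nn_00 h1, nn_01 h1, nn_10 h1, nn_11 h1, nn_00 h2, nn_01 h2, nn_10 h2, nn_11 h2, sl2_mul, mul_comm]
theorem zz_00 : (zz : SL2 k).1 0 0 = -1 := by simp [zz, sl2_mul, nn_00, nn_01, nn_10, nn_11]
theorem zz_01 : (zz : SL2 k).1 0 1 = 0 := by simp [zz, sl2_mul, nn_00, nn_01, nn_10, nn_11]
theorem zz_10 : (zz : SL2 k).1 1 0 = 0 := by simp [zz, sl2_mul, nn_00, nn_01, nn_10, nn_11]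
theorem zz_11 : (zz : SL2 k).1 1 1 = -1 := by simp [zz, sl2_mul, nn_00, nn_01, nn_10, nn_11]
theorem zz_comm (g : SL2 k) : zz * g = g * zz := by
  apply sl2_ext <;> simp [zz_00, zz_01, zz_10, zz_11, sl2_mul]
theorem zz_mul : (zz : SL2 k) * zz = 1 := by
  apply sl2_ext <;> simp [zz_00, zz_01, zz_10, zz_11, sl2_mul]
theorem nn_sq {c : k} (h : c ≠ 0) : nn c * nn c = zz := by
  apply sl2_ext <;> simp [zz_00, zz_01, zz_10, zz_11, nn_00 h, nn_01 h, nn_10 h, nn_11 h, sl2_mul, h]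
theorem mv0 (g : SL2 k) (v : Fin 2 → k) : g.1.mulVec v 0 = g.1 0 0 * v 0 + g.1 0 1 * v 1 := by
  simp [Matrix.mulVec, dotProduct, Fin.sum_univ_two]
theorem mv1 (g : SL2 k) (v : Fin 2 → k) : g.1.mulVec v 1 = g.1 1 0 * v 0 + g.1 1 1 * v 1 := by
  simp [Matrix.mulVec, dotProduct, Fin.sum_univ_two]
theorem v2_ext {u v : Fin 2 → k} (h0 : u 0 = v 0) (h1 : u 1 = v 1) : u = v := by
  ext i; fin_cases i <;> assumption
theorem zz_mv (v : Fin 2 → k) : (zz : SL2 k).1.mulVec v = -v := by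
  apply v2_ext <;> simp [mv0, mv1, zz_00, zz_01, zz_10, zz_11]
theorem mv_mul (g h : SL2 k) (v : Fin 2 → k) : (g * h).1.mulVec v = g.1.mulVec (h.1.mulVec v) := by
  rw [Matrix.SpecialLinearGroup.coe_mul, Matrix.mulVec_mulVec]
theorem mv_one (v : Fin 2 → k) : (1 : SL2 k).1.mulVec v = v := by simp
theorem eq_one_of_mv {g : SL2 k} (h : ∀ v, g.1.mulVec v = v) : g = 1 := by
  have h1 := h ![1, 0]
  have h2 := h ![0, 1]
  apply sl2_ext
  · simpa [mv0] using congrFun h1 0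
  · simpa [mv0] using congrFun h2 0
  · simpa [mv1] using congrFun h1 1
  · simpa [mv1] using congrFun h2 1

theorem sl2_ind {P : SL2 k → Prop} (h1 : ∀ t, P (upU t)) (h2 : ∀ t, P (loU t))
    (h3 : ∀ g h, P g → P h → P (g * h)) (g : SL2 k) : P g := by
  have e : Subgroup.closure (Set.range upU ∪ Set.range loU) = (⊤ : Subgroup (SL2 k)) :=
    sl2_eq_top_of_upU_loU (fun t => subset_closure (Or.inl ⟨t, rfl⟩)) fun t => subset_closure (Or.inr ⟨t, rfl⟩)
  refine closure_induction'' (p := fun g _ => P g) ?_ ?_ ?_ (fun g h _ _ => h3 g h) (e.ge (mem_top g))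
  · rintro _ (⟨t, rfl⟩ | ⟨t, rfl⟩)
    exacts [h1 t, h2 t]
  · rintro _ (⟨t, rfl⟩ | ⟨t, rfl⟩)
    · rw [upU_inv]; exact h1 _
    · rw [loU_inv]; exact h2 _
  · have := h1 0
    rwa [upU_eq_one.2 rfl] at this

section Mod
variable {W : Type*} [AddCommGroup W] [DistribMulAction (SL2 k) W]

variable (k) in
def F0 (w : W) : Prop := ∀ s : k, upU s • w = w
variable (k) in
def F1 (w : W) : Prop := ∀ s : k, loU s • w = w

theorem fix_of {w : W} (h0 : F0 k w) (h1 : F1 k w) (g : SL2 k) : g • w = w :=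
  sl2_ind (P := fun g => g • w = w) h0 h1 (fun g h a b => by rw [mul_smul, b, a]) g
theorem F0.add {v w : W} (h : F0 k v) (h' : F0 k w) : F0 k (v + w) := fun s => by rw [smul_add, h, h']
theorem F1.add {v w : W} (h : F1 k v) (h' : F1 k w) : F1 k (v + w) := fun s => by rw [smul_add, h, h']
theorem F0.neg {v : W} (h : F0 k v) : F0 k (-v) := fun s => by rw [smul_neg, h]
theorem F1.neg {v : W} (h : F1 k v) : F1 k (-v) := fun s => by rw [smul_neg, h]
theorem F0.sub {v w : W} (h : F0 k v) (h' : F0 k w) : F0 k (v - w) := fun s => by rw [smul_sub, h, h']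
theorem F1.sub {v w : W} (h : F1 k v) (h' : F1 k w) : F1 k (v - w) := fun s => by rw [smul_sub, h, h']
theorem F0.nsmul {v : W} (h : F0 k v) (m : ℕ) : F0 k (m • v) := fun s => by rw [smul_comm, h]
theorem F1.nsmul {v : W} (h : F1 k v) (m : ℕ) : F1 k (m • v) := fun s => by rw [smul_comm, h]
theorem F0.zz {v : W} (h : F0 k v) : F0 k ((zz : SL2 k) • v) := fun s => by
  rw [← mul_smul, ← zz_comm, mul_smul, h]
theorem F1.zz {v : W} (h : F1 k v) : F1 k ((zz : SL2 k) • v) := fun s => by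
  rw [← mul_smul, ← zz_comm, mul_smul, h]
theorem F1.lo {v : W} (h : F1 k v) (t : k) : F1 k (loU t • v) := by rw [h]; exact h
theorem F0.nn {v : W} (h : F0 k v) {c : k} (hc : c ≠ 0) : F1 k (nn c • v) := fun s => by
  have := nn_up hc (-c ^ 2 * s)
  rw [show -c⁻¹ ^ 2 * (-c ^ 2 * s) = s by field_simp] at this
  rw [← mul_smul, ← this, mul_smul, h]
theorem F1.nn {v : W} (h : F1 k v) {c : k} (hc : c ≠ 0) : F0 k (nn c • v) := fun s => by
  have := nn_lo hc (-c⁻¹ ^ 2 * s)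
  rw [show -c ^ 2 * (-c⁻¹ ^ 2 * s) = s by field_simp] at this
  rw [← mul_smul, ← this, mul_smul, h]

theorem quad_lo (hq : ∀ (t : k) (w : W), F0 k (upU t • w - w)) (t : k) (w : W) : F1 k (loU t • w - w) := by
  have h := (hq (-t) ((nn (1 : k))⁻¹ • w)).nn one_ne_zero
  rwa [smul_sub, ← mul_smul, nn_up one_ne_zero, mul_smul, smul_inv_smul, show -(1 : k)⁻¹ ^ 2 * -t = t by simp] at h
theorem quad_up (hq : ∀ (t : k) (w : W), F1 k (loU t • w - w)) (t : k) (w : W) : F0 k (upU t • w - w) := by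
  have h := (hq (-t) ((nn (1 : k))⁻¹ • w)).nn one_ne_zero
  rwa [smul_sub, ← mul_smul, nn_lo one_ne_zero, mul_smul, smul_inv_smul, show -(1 : k) ^ 2 * -t = t by simp] at h

/-- quadratic modules without fixed points: an equivariant copy of the natural module through each fixed vector -/
theorem nat_map (hq : ∀ (t : k) (w : W), F0 k (upU t • w - w)) (h0 : ∀ w : W, F0 k w → F1 k w → w = 0)
    {v : W} (hv : F0 k v) (hv0 : v ≠ 0) : ∃ θ : (Fin 2 → k) →+ W, Function.Injective θ ∧ θ ![1, 0] = v ∧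
      ∀ (g : SL2 k) u, θ (g.1.mulVec u) = g • θ u := by
  obtain ⟨X, hX⟩ : ∃ X : k → W → W, ∀ t w, X t w = upU t • w - w := ⟨_, fun _ _ => rfl⟩
  obtain ⟨Y, hY⟩ : ∃ Y : k → W → W, ∀ t w, Y t w = loU t • w - w := ⟨_, fun _ _ => rfl⟩
  have qX : ∀ t w, F0 k (X t w) := fun t w => hX t w ▸ hq t w
  have qY : ∀ t w, F1 k (Y t w) := fun t w => hY t w ▸ quad_lo hq t w
  have ex : ∀ t w, upU t • w = w + X t w := fun t w => by simp [hX]
  have ey : ∀ t w, loU t • w = w + Y t w := fun t w => by simp [hY]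
  have aX : ∀ s t w, X (s + t) w = X s w + X t w := fun s t w => by
    have := qX t w s
    rw [hX, smul_sub, ← mul_smul, upU_mul, sub_eq_iff_eq_add] at this
    simp only [hX, this]; abel
  have aY : ∀ s t w, Y (s + t) w = Y s w + Y t w := fun s t w => by
    have := qY t w s
    rw [hY, smul_sub, ← mul_smul, loU_mul, sub_eq_iff_eq_add] at this
    simp only [hY, this]; abel
  have X0 : ∀ w, X 0 w = 0 := fun w => by have := aX 0 0 w; simpa using this
  have Y0 : ∀ w, Y 0 w = 0 := fun w => by have := aY 0 0 w; simpa using this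
  have nX : ∀ t w, X (-t) w = -X t w := fun t w => by
    have := aX t (-t) w; rw [add_neg_cancel, X0] at this; exact (neg_eq_of_add_eq_zero_right this.symm).symm
  have nY : ∀ t w, Y (-t) w = -Y t w := fun t w => by
    have := aY t (-t) w; rw [add_neg_cancel, Y0] at this; exact (neg_eq_of_add_eq_zero_right this.symm).symm
  have Xn : ∀ t w, X t (-w) = -X t w := fun t w => by simp only [hX, smul_neg]; abel
  have Yn : ∀ t w, Y t (-w) = -Y t w := fun t w => by simp only [hY, smul_neg]; abel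
  -- action of `n c`
  have n0 : ∀ c, c ≠ 0 → ∀ w, F0 k w → X c (Y c⁻¹ w) = w ∧ nn c • w = -Y c⁻¹ w := fun c hc w hw => by
    have e : nn c • w = -Y c⁻¹ w + (w - X c (Y c⁻¹ w)) := by
      rw [nn, mul_smul, mul_smul, hw, ey, smul_add, hw, ex, nY, Xn]; abel
    have : w - X c (Y c⁻¹ w) = 0 := h0 _ (hw.sub (qX _ _)) (by
      have := (hw.nn hc).add (qY c⁻¹ w)
      rwa [e, show -Y c⁻¹ w + (w - X c (Y c⁻¹ w)) + Y c⁻¹ w = w - X c (Y c⁻¹ w) by abel] at this)
    exact ⟨(sub_eq_zero.1 this).symm, by rw [e, this, add_zero]⟩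
  have n1 : ∀ c, c ≠ 0 → ∀ w, F1 k w → Y c⁻¹ (X c w) = w ∧ nn c • w = X c w := fun c hc w hw => by
    have e : nn c • w = X c w + (w - Y c⁻¹ (X c w)) := by
      rw [nn_eq hc, mul_smul, mul_smul, hw, ex, smul_add, hw, ey, nY]; abel
    have : w - Y c⁻¹ (X c w) = 0 := h0 _ (by
      have := (hw.nn hc).sub (qX c w)
      rwa [e, show X c w + (w - Y c⁻¹ (X c w)) - X c w = w - Y c⁻¹ (X c w) by abel] at this)
      (hw.sub (qY _ _))
    exact ⟨(sub_eq_zero.1 this).symm, by rw [e, this, add_zero]⟩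
  have hA : ∀ c, c ≠ 0 → ∀ w, F0 k w → (nn c * nn (-1)) • w = X c (Y 1 w) := fun c hc w hw => by
    rw [mul_smul, (n0 _ (by simp) w hw).2, inv_neg, inv_one, nY, neg_neg, (n1 c hc _ (qY _ _)).2]
  have mA : ∀ a b, b ≠ 0 → ∀ w, F0 k w → X a (Y 1 (X b (Y 1 w))) = X (a * b) (Y 1 w) := fun a b hb w hw => by
    by_cases ha : a = 0
    · rw [ha, zero_mul, X0, X0]
    rw [← hA a ha _ (qX _ _), ← hA b hb w hw, ← mul_smul, nn_mul ha hb, hA _ (mul_ne_zero ha hb) w hw]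
  have A1 : ∀ w, F0 k w → X 1 (Y 1 w) = w := fun w hw => by
    have := (n0 1 one_ne_zero w hw).1
    rwa [inv_one] at this
  -- the key identity
  have key : ∀ t b w, F0 k w → X t (Y b w) = X (t * b) (Y 1 w) := fun t b w hw => by
    by_cases hb : b = 0
    · rw [hb, Y0, mul_zero, X0]; simp [hX]
    have e1 : Y 1 (X b (Y 1 w)) = Y b w := by
      have h1 := (n1 b⁻¹ (inv_ne_zero hb) _ (qY 1 (X b (Y 1 w)))).1
      rw [inv_inv] at h1
      rw [← h1, mA _ _ hb w hw, inv_mul_cancel₀ hb, A1 w hw]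
    rw [← e1, mA _ _ hb w hw]
  have key' : ∀ t a, Y t (X a (Y 1 v)) = Y (t * a) v := fun t a => by
    by_cases ht : t = 0
    · rw [ht, zero_mul, Y0, Y0]
    have := (n1 t⁻¹ (inv_ne_zero ht) _ (qY (t * a) v)).1
    rw [inv_inv] at this
    rw [← this, key t⁻¹ _ v hv, inv_mul_cancel_left₀ ht]
  refine ⟨AddMonoidHom.mk' (fun u => X (u 0) (Y 1 v) + Y (u 1) v) fun u u' => ?_, ?_, ?_, fun g => ?_⟩
  · simp only [Pi.add_apply, aX, aY]; abel
  · refine (injective_iff_map_eq_zero _).2 fun u hu => ?_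
    change X (u 0) (Y 1 v) + Y (u 1) v = 0 at hu
    have e1 : Y (u 1) v = 0 := h0 _ (by rw [eq_neg_of_add_eq_zero_right hu]; exact (qX _ _).neg) (qY _ _)
    rw [e1, add_zero] at hu
    apply v2_ext
    · by_contra h
      rw [← hA _ h v hv, smul_eq_zero_iff_eq] at hu
      exact hv0 hu
    · by_contra h
      have := (n0 _ (inv_ne_zero h) v hv).1
      rw [inv_inv, e1] at this
      exact hv0 (by simpa [hX] using this.symm)
  · change X 1 (Y 1 v) + Y 0 v = v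
    rw [A1 v hv, Y0, add_zero]
  · refine sl2_ind (P := fun g => ∀ u : Fin 2 → k, X (g.1.mulVec u 0) (Y 1 v) + Y (g.1.mulVec u 1) v =
      g • (X (u 0) (Y 1 v) + Y (u 1) v)) (fun t u => ?_) (fun t u => ?_) (fun g h a b u => ?_) g
    · simp only [mv0, mv1, upU_00, upU_01, upU_10, upU_11, one_mul, zero_mul, zero_add]
      rw [smul_add, qX, ex t (Y _ _), key t (u 1) v hv, aX]; abel
    · simp only [mv0, mv1, loU_00, loU_01, loU_10, loU_11, one_mul, zero_mul, add_zero]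
      rw [smul_add, qY, ey t (X _ _), key', aY]; abel
    · rw [mv_mul, a, b, mul_smul]

theorem exists_F0 (hq : ∀ (t : k) (w : W), F0 k (upU t • w - w)) (hnt : ∃ (g : SL2 k) (w : W), g • w ≠ w) :
    ∃ v : W, F0 k v ∧ v ≠ 0 := by
  by_contra h
  push Not at h
  obtain ⟨g, w, hw⟩ := hnt
  have h0 : ∀ w : W, F0 k w := fun w s => sub_eq_zero.1 (h _ (hq s w))
  refine hw (fix_of (h0 w) ?_ g)
  have := (h0 ((nn (1 : k))⁻¹ • w)).nn one_ne_zero
  rwa [smul_inv_smul] at this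

theorem nat_of_quad (hq : ∀ (t : k) (w : W), F0 k (upU t • w - w))
    (hirr : ∀ U : AddSubgroup W, (∀ (g : SL2 k) w, w ∈ U → g • w ∈ U) → U = ⊥ ∨ U = ⊤)
    (hnt : ∃ (g : SL2 k) (w : W), g • w ≠ w) :
    ∃ ψ : W ≃+ (Fin 2 → k), ∀ (g : SL2 k) w, ψ (g • w) = g.1.mulVec (ψ w) := by
  have h0 : ∀ w : W, F0 k w → F1 k w → w = 0 := fun w a b => by
    let U : AddSubgroup W := ⟨⟨⟨{w | ∀ g : SL2 k, g • w = w}, fun h h' g => by rw [smul_add, h, h']⟩,
      fun g => smul_zero g⟩, fun h g => by rw [smul_neg, h]⟩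
    rcases hirr U (fun g w hw => by rw [hw g]; exact hw) with e | e
    · exact AddSubgroup.mem_bot.1 (e.le (fix_of a b))
    · obtain ⟨g, w, hw⟩ := hnt
      exact absurd (e.ge (AddSubgroup.mem_top w) g) hw
  obtain ⟨v, hv, hv0⟩ := exists_F0 hq hnt
  obtain ⟨θ, h1, h2, h3⟩ := nat_map hq h0 hv hv0
  have h4 : Function.Surjective θ := AddMonoidHom.range_eq_top.1
    ((hirr θ.range (by rintro g _ ⟨u, rfl⟩; exact ⟨_, h3 g u⟩)).resolve_left fun e =>
      hv0 (AddSubgroup.mem_bot.1 (e.le ⟨_, h2⟩)))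
  refine ⟨(AddEquiv.ofBijective θ ⟨h1, h4⟩).symm, fun g w => ?_⟩
  obtain ⟨u, rfl⟩ := (AddEquiv.ofBijective θ ⟨h1, h4⟩).surjective w
  rw [AddEquiv.symm_apply_apply, AddEquiv.symm_apply_eq]
  exact (h3 g u).symm

/-- the block identity -/
theorem blk {p : ℕ} [hp : Fact p.Prime] [CharP k p] (h3 : p ≠ 3)
    (H : ∀ w : W, (zz : SL2 k) • w = -w → ∃ a b, F0 k a ∧ F1 k b ∧ (zz : SL2 k) • a = -a ∧
      (zz : SL2 k) • b = -b ∧ w = a + b) (t : k) {w : W} (hw : (zz : SL2 k) • w = -w) : F1 k (loU t • w - w) := by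
  have F10 : F1 k (0 : W) := fun s => smul_zero _
  by_cases ht : t = 0
  · rw [ht, show loU (0 : k) = 1 by apply sl2_ext <;> simp, one_smul, sub_self]; exact F10
  have zg : ∀ (g : SL2 k) (v : W), (zz : SL2 k) • v = -v → (zz : SL2 k) • g • v = -(g • v) := fun g v h => by
    rw [← mul_smul, zz_comm, mul_smul, h, smul_neg]
  have hc : -t⁻¹ ≠ 0 := by simpa using ht
  have e1 : -(-t⁻¹)⁻¹ = t := by simp
  have k3 : ∀ v : W, F0 k v → (zz : SL2 k) • v = -v → F1 k (loU t ^ 3 • v - v) := fun v hv hz => by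
    obtain ⟨a, b, ha, hb, za, zb, e⟩ := H _ (zg (loU t) v hz)
    obtain ⟨v', rfl⟩ : ∃ v', b = nn (-t⁻¹) • v' := ⟨_, (smul_inv_smul _ _).symm⟩
    have zv : (zz : SL2 k) • v' = -v' := by simpa using zg (nn (-t⁻¹))⁻¹ _ zb
    have r1 : nn (-t⁻¹) • v = a + upU (-t⁻¹) • nn (-t⁻¹) • v' := by
      rw [nn, e1, mul_smul, mul_smul, hv, e, smul_add, ha, nn, e1]
    have r2 : loU t • upU (-t⁻¹) • nn (-t⁻¹) • v' = -v' := by
      rw [← zv, ← nn_sq hc, mul_smul]
      nth_rewrite 2 [nn_eq hc]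
      rw [e1, mul_smul, mul_smul, hb]
    have r3 : F1 k (loU t • a - v') := by
      have := (hv.nn hc).lo t
      rwa [r1, smul_add, r2, ← sub_eq_add_neg] at this
    have r4 : F1 k (loU t • v' - v) := by
      have e2 : nn (-t⁻¹) • (loU t • v' - v) = -a := by
        rw [smul_sub, ← mul_smul, nn_lo hc, mul_smul, r1, show -(-t⁻¹) ^ 2 * t = -t⁻¹ by field_simp]; abel
      have := ha.neg.nn hc
      rw [← e2, ← mul_smul, nn_sq hc, smul_sub, zg _ _ zv, hz] at this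
      simpa [sub_eq_add_neg, add_comm] using this.neg
    have : loU t ^ 3 • v - v = loU t • (loU t • a - v') + (loU t • v' - v) + loU t • loU t • nn (-t⁻¹) • v' := by
      rw [pow_succ, pow_two, mul_smul, mul_smul, e]; simp only [smul_add, smul_sub]; abel
    rw [this]
    exact ((r3.lo t).add r4).add ((hb.lo t).lo t)
  obtain ⟨a, b, ha, hb, za, zb, rfl⟩ := H w hw
  have km : ∀ m : ℕ, F1 k ((loU t ^ 3) ^ m • a - a) := fun m => by
    induction m with
    | zero => simpa using F10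
    | succ m ih =>
      have : (loU t ^ 3) ^ (m + 1) • a - a = loU (((3 : ℕ) : k) * t) • ((loU t ^ 3) ^ m • a - a) + (loU t ^ 3 • a - a) := by
        rw [← loU_pow, pow_succ', mul_smul, smul_sub]; abel
      rw [this]
      exact (ih.lo _).add (k3 a ha za)
  have h3' : ((3 : ℕ) : k) ≠ 0 := fun e => h3
    ((Nat.prime_dvd_prime_iff_eq hp.out Nat.prime_three).1 ((CharP.cast_eq_zero_iff k p 3).1 e))
  obtain ⟨m, hm⟩ : ∃ m : ℕ, (m : k) * (3 : ℕ) = 1 := by
    obtain ⟨m, -, hm⟩ := Nat.exists_mul_mod_eq_one_of_coprime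
      ((Nat.coprime_primes Nat.prime_three hp.out).2 (Ne.symm h3)) hp.out.one_lt
    refine ⟨m, ?_⟩
    rw [← Nat.cast_mul, mul_comm, CharP.cast_eq_mod k p, hm, Nat.cast_one]
  have := km m
  rw [loU_pow, loU_pow, ← mul_assoc, hm, one_mul] at this
  rw [smul_add, hb, show loU t • a + b - (a + b) = loU t • a - a by abel]
  exact this

theorem exists_inv {p : ℕ} [hp : Fact p.Prime] (h2 : p ≠ 2) (hW : ∀ w : W, p • w = 0) :
    ∃ m : ℕ, ∀ w : W, m • (w + w) = w := by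
  obtain ⟨m, hm⟩ := hp.out.odd_of_ne_two h2
  refine ⟨m + 1, fun w => ?_⟩
  rw [← two_nsmul, ← mul_nsmul', show (m + 1) * 2 = p + 1 by omega, add_nsmul, hW, one_nsmul, zero_add]

theorem blk2 {p : ℕ} [hp : Fact p.Prime] [CharP k p] (h2 : p ≠ 2) (h3 : p ≠ 3) (hW : ∀ w : W, p • w = 0)
    {A B : W → Prop} (h1 : ∀ w, B (w + (zz : SL2 k) • w)) (hB : ∀ (g : SL2 k) u, B u → A (g • u - u))
    (hA : ∀ a, A a → (zz : SL2 k) • a = -a) (h4 : ∀ w : W, ∃ a b u, F0 k a ∧ F1 k b ∧ B u ∧ w = a + b + u)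
    (h5 : ∀ w, A w → ∃ a b, F0 k a ∧ F1 k b ∧ w = a + b) (t : k) (w : W) : F1 k (loU t • w - w) := by
  obtain ⟨m, hm⟩ := exists_inv h2 hW
  have zz2 : ∀ v : W, (zz : SL2 k) • (zz : SL2 k) • v = v := fun v => by rw [← mul_smul, zz_mul, one_smul]
  have zs : ∀ v : W, (zz : SL2 k) • (v - (zz : SL2 k) • v) = -(v - (zz : SL2 k) • v) := fun v => by
    rw [smul_sub, zz2, neg_sub]
  have zm : ∀ (j : ℕ) (v : W), (zz : SL2 k) • v = -v → (zz : SL2 k) • j • v = -(j • v) := fun j v h => by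
    rw [smul_comm, h, smul_neg]
  have H : ∀ w : W, (zz : SL2 k) • w = -w → ∃ a b, F0 k a ∧ F1 k b ∧ (zz : SL2 k) • a = -a ∧
      (zz : SL2 k) • b = -b ∧ w = a + b := fun w hw => by
    obtain ⟨a, b, u, ha, hb, hu, e⟩ := h4 w
    obtain ⟨a', b', ha', hb', e'⟩ := h5 _ (hB zz u hu)
    obtain ⟨c, d, hc, hd, e2⟩ : ∃ c d, F0 k c ∧ F1 k d ∧ w + w = c + d := by
      refine ⟨a - (zz : SL2 k) • a - a', b - (zz : SL2 k) • b - b', (ha.sub ha.zz).sub ha', (hb.sub hb.zz).sub hb', ?_⟩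
      have : w + w = w - (zz : SL2 k) • w := by rw [hw]; abel
      rw [this, e, smul_add, smul_add, eq_add_of_sub_eq e']; abel
    refine ⟨m • m • (c - (zz : SL2 k) • c), m • m • (d - (zz : SL2 k) • d), ((hc.sub hc.zz).nsmul m).nsmul m,
      ((hd.sub hd.zz).nsmul m).nsmul m, zm _ _ (zm _ _ (zs c)), zm _ _ (zm _ _ (zs d)), ?_⟩
    have : c - (zz : SL2 k) • c + (d - (zz : SL2 k) • d) = (w + w) + (w + w) := by
      have : (w + w) + (w + w) = (w + w) - (zz : SL2 k) • (w + w) := by rw [smul_add, hw]; abel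
      rw [this, e2, smul_add]; abel
    rw [← nsmul_add, ← nsmul_add, this, hm, hm]
  have e1 : loU t • (w + (zz : SL2 k) • w) = w + (zz : SL2 k) • w := by
    have h := hA _ (hB (loU t) _ (h1 w))
    have e : (zz : SL2 k) • (w + (zz : SL2 k) • w) = w + (zz : SL2 k) • w := by rw [smul_add, zz2, add_comm]
    rw [smul_sub, ← mul_smul, zz_comm, mul_smul, e, eq_neg_iff_add_eq_zero] at h
    rw [← sub_eq_zero, ← hm (_ - _), h, smul_zero]
  have := (blk h3 H t (zs w)).nsmul m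
  have e2 : loU t • (w - (zz : SL2 k) • w) - (w - (zz : SL2 k) • w) = (loU t • w - w) + (loU t • w - w) := by
    rw [smul_add] at e1
    rw [smul_sub, eq_sub_of_add_eq' e1]; abel
  rwa [e2, hm] at this

end Mod

end Cfsg.Agent.PU
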