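/-
Sylow subgroups of `SL₂(q)` and its central quotient; groups with such a quotient.
-/
import Cfsg.Agent.Lib.PU.LS
import Cfsg.Agent.Lib.PU.Nat1
import Cfsg.Agent.Lib.Perm.GL2b

set_option autoImplicit false
set_option linter.unusedSectionVars false
set_option linter.unusedVariables false
set_option linter.style.haveILetI false
set_option linter.unusedSimpArgs false

namespace Cfsg.Agent.PU

open Subgroup Cfsg.Agent.Transfer Cfsg.Agent.MS
open scoped commutatorElement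

universe u
section SL
variable {k : Type*} [Field k]

variable (k) in
def UU : Subgroup (SL2 k) where
  carrier := Set.range upU
  one_mem' := ⟨0, upU_eq_one.2 rfl⟩
  mul_mem' := by rintro _ _ ⟨s, rfl⟩ ⟨t, rfl⟩; exact ⟨_, (upU_mul s t).symm⟩
  inv_mem' := by rintro _ ⟨s, rfl⟩; exact ⟨_, (upU_inv s).symm⟩
variable (k) in
def LL : Subgroup (SL2 k) where
  carrier := Set.range loU
  one_mem' := ⟨0, by apply sl2_ext <;> simp⟩
  mul_mem' := by rintro _ _ ⟨s, rfl⟩ ⟨t, rfl⟩; exact ⟨_, (loU_mul s t).symm⟩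
  inv_mem' := by rintro _ ⟨s, rfl⟩; exact ⟨_, (loU_inv s).symm⟩

theorem up_mem (t : k) : upU t ∈ UU k := ⟨t, rfl⟩
theorem lo_mem (t : k) : loU t ∈ LL k := ⟨t, rfl⟩
theorem upU_inj : Function.Injective (upU : k → SL2 k) := fun s t e => by
  simpa using congrArg (fun g : SL2 k => g.1 0 1) e
theorem card_UU : #(UU k) = #k := (Nat.card_congr (Equiv.ofInjective _ upU_inj)).symm
theorem UU_sup : UU k ⊔ LL k = ⊤ :=
  sl2_eq_top_of_upU_loU (fun t => mem_sup_left (up_mem t)) fun t => mem_sup_right (lo_mem t)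
theorem UU_ab : IsMulCommutative (UU k) := ab_iff.2 (by
  rintro _ ⟨s, rfl⟩ _ ⟨t, rfl⟩; rw [upU_mul, upU_mul, add_comm])
theorem cj_nn_UU {c : k} (h : c ≠ 0) : cj (nn c) (UU k) = LL k := by
  refine le_antisymm (cj_le_iff.2 ?_) ?_
  · rintro _ ⟨s, rfl⟩; rw [nn_up h, mul_inv_cancel_right]; exact lo_mem _
  · rintro _ ⟨s, rfl⟩
    have := nn_up h (-c ^ 2 * s)
    rw [show -c⁻¹ ^ 2 * (-c ^ 2 * s) = s by field_simp] at this
    rw [mem_cj, mul_assoc, ← this, inv_mul_cancel_left]; exact up_mem _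
theorem cj_nn_LL {c : k} (h : c ≠ 0) : cj (nn c) (LL k) = UU k := by
  rw [← cj_nn_UU h, cj_cj, nn_sq h]
  exact cj_cc fun g _ => (zz_comm g).symm
theorem conj_up {g : SL2 k} (h : g.1 1 0 = 0) (t : k) : g * upU t * g⁻¹ = upU (g.1 0 0 ^ 2 * t) := by
  have := sl2_det g
  rw [h] at this
  apply sl2_ext <;> simp [sl2_mul, h]
  · linear_combination this
  · ring
  · linear_combination this
theorem conj_up10 (g : SL2 k) (t : k) : (g * upU t * g⁻¹).1 1 0 = -(g.1 1 0) ^ 2 * t := by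
  simp [sl2_mul]; ring
theorem cj_UU {g : SL2 k} (h : g.1 1 0 = 0) : cj g (UU k) = UU k := by
  have key : ∀ g : SL2 k, g.1 1 0 = 0 → cj g (UU k) ≤ UU k := fun g h => cj_le_iff.2 (by
    rintro _ ⟨s, rfl⟩; rw [conj_up h]; exact up_mem _)
  exact le_antisymm (key g h) (le_cj_iff_cj_inv_le.2 (key _ (by simp [h])))
theorem bruhat {g : SL2 k} (h : g.1 1 0 ≠ 0) : ∃ a, cj g (UU k) = cj (upU a) (LL k) := by
  refine ⟨g.1 0 0 / g.1 1 0, ?_⟩
  have : cj ((upU (g.1 0 0 / g.1 1 0) * nn 1)⁻¹ * g) (UU k) = UU k := cj_UU (by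
    simp [sl2_mul, nn_00, nn_01, nn_10, nn_11]
    field_simp; ring)
  rw [← cj_nn_UU one_ne_zero, cj_cj]
  conv_rhs => rw [← this, cj_cj, mul_inv_cancel_left]
theorem gen_up {s : k} (h : s ≠ 0) : zpowers (upU s) ⊔ LL k = ⊤ := by
  have h1 : nn s ∈ zpowers (upU s) ⊔ LL k := mul_mem (mul_mem (mem_sup_left (mem_zpowers _))
    (mem_sup_right (lo_mem _))) (mem_sup_left (mem_zpowers _))
  refine eq_top_iff.2 (UU_sup.ge.trans (sup_le ?_ le_sup_right))
  rw [← cj_nn_LL h]; exact cj_le' le_sup_right h1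
theorem center_of {g : SL2 k} (h : ∀ x : SL2 k, (x * g * x⁻¹).1 1 0 = 0) : g ∈ center (SL2 k) := by
  have h1 := h 1
  have h2 := h (nn 1)
  have h3 := h (loU 1)
  simp [sl2_mul, nn_00, nn_01, nn_10, nn_11] at h1 h2 h3
  refine sl2_mem_center.2 ⟨h2, h1, ?_⟩
  rw [h1, h2] at h3
  linear_combination h3
def dg (a : k) (h : a ≠ 0) : SL2 k := ⟨!![a, 0; 0, a⁻¹], by simp [Matrix.det_fin_two, h]⟩
theorem dg_up {a : k} (h : a ≠ 0) (t : k) : dg a h * upU t * (dg a h)⁻¹ = upU (a ^ 2 * t) := conj_up rfl t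
theorem exists_sq [Finite k] (a : k) : ∃ x y : k, a = x ^ 2 - y ^ 2 := by
  by_cases h : ringChar k = 2
  · obtain ⟨x, rfl⟩ := FiniteField.isSquare_of_char_two h a
    exact ⟨x, 0, by ring⟩
  · have := Ring.two_ne_zero h
    exact ⟨(a + 1) / 2, (a - 1) / 2, by field_simp; ring⟩
theorem span_sq [Finite k] {A : k → Prop} (h0 : A 0) (h1 : ∀ s t, A s → A t → A (s - t))
    (h2 : ∀ a s, a ≠ 0 → A s → A (a ^ 2 * s)) {s : k} (hs : A s) (hs0 : s ≠ 0) (t : k) : A t := by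
  have h3 : ∀ a, A (a ^ 2 * s) := fun a => by
    by_cases ha : a = 0
    · simpa [ha] using h0
    · exact h2 a s ha hs
  obtain ⟨x, y, e⟩ := exists_sq (t / s)
  have := h1 _ _ (h3 x) (h3 y)
  rwa [← sub_mul, ← e, div_mul_cancel₀ _ hs0] at this

variable [Finite k] {p : ℕ} [hp : Fact p.Prime] [CharP k p]

theorem exists_card : ∃ n, 1 ≤ n ∧ #k = p ^ n := by
  haveI := Fintype.ofFinite k
  obtain ⟨n, -, h⟩ := FiniteField.card k p
  exact ⟨n, n.2, by rw [Nat.card_eq_fintype_card, h]⟩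
theorem card_sl2 : #(SL2 k) = #k * ((#k + 1) * (#k - 1)) := by
  haveI := Fintype.ofFinite k
  rw [Nat.card_eq_fintype_card (α := k), ← mul_assoc]; exact Perm.GL2.card_SL2
theorem UU_elem : IsElementaryAbelian p (UU k) := ⟨UU_ab, by rintro _ ⟨t, rfl⟩; exact upU_pow_char t⟩
theorem syl_UU : IsSyl p (UU k) ⊤ := by
  refine ⟨le_top, elem_isPGroup UU_elem, ?_⟩
  have h := card_mul_relIndex (le_top : UU k ≤ ⊤)
  rw [card_top, card_sl2, card_UU] at h
  rw [Nat.eq_of_mul_eq_mul_left Nat.card_pos h]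
  obtain ⟨n, hn, e⟩ := exists_card (k := k) (p := p)
  have h1 : p ∣ #k := e ▸ dvd_pow_self p (by omega)
  have h2 : 0 < #k := Nat.card_pos
  intro h3
  rcases hp.out.dvd_mul.1 h3 with h4 | h4
  · exact hp.out.one_lt.ne' (Nat.dvd_one.1 ((Nat.dvd_add_right h1).1 h4))
  · have := (Nat.dvd_sub h1 h4)
    rw [show #k - (#k - 1) = 1 by omega] at this
    exact hp.out.one_lt.ne' (Nat.dvd_one.1 this)
theorem syl_LL : IsSyl p (LL k) ⊤ := by
  have := (syl_UU (k := k) (p := p)).cj (nn 1)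
  rwa [cj_nn_UU one_ne_zero, cj_top] at this
theorem center_eq_one {z : SL2 k} (hz : z ∈ center (SL2 k)) (h : z ^ p = 1) : z = 1 := by
  rcases sl2_center_cases hz with e | e
  · exact e
  by_cases h2 : p = 2
  · subst h2
    have : (-1 : k) = 1 := CharTwo.neg_eq 1
    apply sl2_ext <;> simp [e, this]
  · obtain ⟨m, hm⟩ := hp.out.odd_of_ne_two h2
    rwa [hm, pow_succ, pow_mul, pow_two, sl2_center_mul_self hz, one_pow, one_mul] at h

/-- `φ` presents `X` as `PSL₂(k)` -/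
structure PS {X : Type*} [Group X] (φ : SL2 k →* X) : Prop where
  surj : Function.Surjective φ
  ker : ∀ g, φ g = 1 ↔ g ∈ center (SL2 k)

variable {X : Type*} [Group X] [Finite X] {φ : SL2 k →* X}

theorem map_cj {Y : Type*} [Group Y] (f : Y →* X) (g : Y) (A : Subgroup Y) : (cj g A).map f = cj (f g) (A.map f) := by
  rw [cj, cj, map_map, map_map]; congr 1; ext x; simp

namespace PS
variable (h : PS φ)
include h

theorem map_top : (⊤ : Subgroup (SL2 k)).map φ = ⊤ := map_top_of_surjective _ h.surj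
theorem sylU : IsSyl p ((UU k).map φ) ⊤ := h.map_top ▸ syl_UU.map φ
theorem sylL : IsSyl p ((LL k).map φ) ⊤ := h.map_top ▸ syl_LL.map φ
theorem up_inj {s t : k} (e : φ (upU s) = φ (upU t)) : s = t := by
  have := (h.ker (upU s * (upU t)⁻¹)).1 (by rw [map_mul, map_inv, e, mul_inv_cancel])
  rw [upU_inv, upU_mul] at this
  simpa [sub_eq_zero, ← sub_eq_add_neg] using (sl2_mem_center.1 this).1
theorem cardU : #((UU k).map φ) = #k := by
  refine (card_map_of_inf_ker (S := UU k) (eq_bot_iff.2 ?_) le_rfl).trans card_UU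
  rintro _ ⟨⟨t, rfl⟩, ht⟩
  rw [h.up_inj (s := t) (t := 0) (by rw [upU_eq_one.2 rfl, map_one]; exact ht), upU_eq_one.2 rfl]; exact one_mem _
theorem zero10 {g : SL2 k} (hg : φ g ∈ (UU k).map φ) : g.1 1 0 = 0 := by
  obtain ⟨_, ⟨t, rfl⟩, e⟩ := hg
  have := sl2_mem_center.1 ((h.ker ((upU t)⁻¹ * g)).1 (by rw [map_mul, map_inv, e, inv_mul_cancel]))
  simpa [sl2_mul] using this.2.1
theorem zero10' {g : SL2 k} (hg : cj (φ g) ((UU k).map φ) = (UU k).map φ) : g.1 1 0 = 0 := by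
  have := h.zero10 (g := g * upU 1 * g⁻¹) (by
    rw [map_mul, map_mul, map_inv]; exact hg.le (conj_mem_cj (mem_map_of_mem φ (up_mem 1))))
  simpa [conj_up10] using this
theorem exists_cj {T : Subgroup X} (hT : IsSyl p T ⊤) : ∃ g, T = cj (φ g) ((UU k).map φ) := by
  obtain ⟨x, -, rfl⟩ := hT.exists_cj_eq h.sylU
  obtain ⟨g, rfl⟩ := h.surj x
  exact ⟨g, rfl⟩
theorem two {T T' : Subgroup X} (hT : IsSyl p T ⊤) (hT' : IsSyl p T' ⊤) (hne : T ≠ T') :
    ∃ x, T = cj x ((UU k).map φ) ∧ T' = cj x ((LL k).map φ) := by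
  obtain ⟨g, rfl⟩ := h.exists_cj hT
  obtain ⟨g', rfl⟩ := h.exists_cj hT'
  have h1 : (g⁻¹ * g').1 1 0 ≠ 0 := fun e => hne (by
    rw [← mul_inv_cancel_left g g', map_mul, ← cj_cj, ← map_cj φ (g⁻¹ * g'), cj_UU e])
  obtain ⟨a, ha⟩ := bruhat h1
  refine ⟨φ g * φ (upU a), ?_, ?_⟩
  · rw [← cj_cj, cj_eq_of_mem (mem_map_of_mem φ (up_mem a))]
  · rw [← cj_cj, ← map_cj φ (upU a), ← ha, map_cj, cj_cj, ← map_mul, mul_inv_cancel_left]
theorem U_ne_L : (UU k).map φ ≠ (LL k).map φ := fun e =>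
  one_ne_zero (h.zero10 (g := loU 1) (e.ge (mem_map_of_mem φ (lo_mem 1))))
theorem card {T : Subgroup X} (hT : IsSyl p T ⊤) : #T = #k := (hT.card_eq h.sylU).trans h.cardU
theorem elem {T : Subgroup X} (hT : IsSyl p T ⊤) : IsElementaryAbelian p T := by
  obtain ⟨g, rfl⟩ := h.exists_cj hT
  exact elem_map (elem_map UU_elem φ) _
theorem gen {T T' : Subgroup X} (hT : IsSyl p T ⊤) (hT' : IsSyl p T' ⊤) (hne : T ≠ T') {s : X} (hs : s ∈ T)
    (h1 : s ≠ 1) : zpowers s ⊔ T' = ⊤ := by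
  obtain ⟨x, rfl, rfl⟩ := h.two hT hT' hne
  obtain ⟨_, ⟨_, ⟨t, rfl⟩, rfl⟩, rfl⟩ := hs
  have ht : t ≠ 0 := by rintro rfl; exact h1 (by simp [upU_eq_one.2 rfl])
  change zpowers (x * φ (upU t) * x⁻¹) ⊔ _ = _
  rw [← cj_zpowers, ← cj_sup, ← MonoidHom.map_zpowers, ← Subgroup.map_sup, gen_up ht, h.map_top, cj_top]
theorem ex {T : Subgroup X} (hT : IsSyl p T ⊤) : ∃ x, T ≠ cj x T := by
  obtain ⟨g, rfl⟩ := h.exists_cj hT
  refine ⟨φ g * φ (nn 1) * (φ g)⁻¹, fun e => h.U_ne_L ?_⟩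
  rwa [cj_cj, inv_mul_cancel_right, ← cj_cj, cj_inj, ← map_cj, cj_nn_UU one_ne_zero] at e
theorem ne_top {T : Subgroup X} (hT : IsSyl p T ⊤) : T ≠ ⊤ := fun e => by
  obtain ⟨x, hx⟩ := h.ex hT
  exact hx (by rw [e, cj_top])
theorem sup {T T' : Subgroup X} (hT : IsSyl p T ⊤) (hT' : IsSyl p T' ⊤) (hne : T ≠ T') : T ⊔ T' = ⊤ := by
  obtain ⟨x, rfl, rfl⟩ := h.two hT hT' hne
  rw [← cj_sup, ← Subgroup.map_sup, UU_sup, h.map_top, cj_top]
theorem irr {T Y : Subgroup X} (hT : IsSyl p T ⊤) (h1 : Y ≤ T) (h2 : NN T ≤ NN Y) : Y = ⊥ ∨ Y = T := by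
  obtain ⟨g, rfl⟩ := h.exists_cj hT
  obtain ⟨Y, rfl⟩ : ∃ Y', Y = cj (φ g) Y' := ⟨_, (cj_cj_inv _ _).symm⟩
  rw [← cj_normalizer, ← cj_normalizer, cj_le_cj_iff] at h2
  rw [cj_le_cj_iff] at h1
  rw [cj_eq_bot_iff, cj_inj]
  refine or_iff_not_imp_left.2 fun h0 => le_antisymm h1 ?_
  obtain ⟨y, hy, hy1⟩ := exists_ne_one h0
  obtain ⟨_, ⟨s, rfl⟩, rfl⟩ := h1 hy
  rintro _ ⟨_, ⟨t, rfl⟩, rfl⟩
  refine span_sq (A := fun t => φ (upU t) ∈ Y) (by simp [upU_eq_one.2 rfl]) (fun s t a b => ?_) (fun a s ha b => ?_) hy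
    (by rintro rfl; exact hy1 (by simp [upU_eq_one.2 rfl])) t
  · rw [sub_eq_add_neg, ← upU_mul, ← upU_inv, map_mul, map_inv]; exact mul_mem a (inv_mem b)
  · rw [← dg_up ha, map_mul, map_mul, map_inv]
    exact conj_mem_of_mem_normalizer (h2 (mem_normalizer_iff_cj.2 (by rw [← map_cj, cj_UU rfl]))) b
theorem core {T N : Subgroup X} (hT : IsSyl p T ⊤) (h1 : ⊤ ≤ NN N) (h2 : N ⊔ T ≠ ⊤) : N = ⊥ := by
  have key : ∀ y ∈ N, cj y T = T := fun y hy => by_contra fun e => h2 (eq_top_iff.2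
    ((h.sup (by simpa using hT.cj y) hT e).ge.trans (sup_le (cj_le' le_sup_right (mem_sup_left hy)) le_sup_right)))
  obtain ⟨g, rfl⟩ := h.exists_cj hT
  refine eq_bot_iff.2 fun y hy => ?_
  obtain ⟨y, rfl⟩ := h.surj y
  refine (h.ker y).2 (center_of fun x => h.zero10' ?_)
  have := key _ (conj_mem_of_mem_normalizer (h1 (mem_top (φ g * φ x))) hy)
  rw [cj_cj, show φ g * φ x * φ y * (φ g * φ x)⁻¹ * φ g = φ g * φ (x * y * x⁻¹) by simp [mul_assoc], ← cj_cj,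
    cj_inj] at this
  exact this

end PS
end SL

variable {G : Type u} [Group G] [Finite G] {p : ℕ} [hp : Fact p.Prime]
variable {K L N P Q T T' V : Subgroup G} {g : G}

/-- `P/K ≅ PSL₂(k)`, with `K` not needed to generate over a Sylow subgroup -/
structure L2 (p : ℕ) (k : Type*) [Field k] (P K : Subgroup G) : Prop where
  ex : ∃ (X : Type u) (_ : Group X) (_ : Finite X) (π : P →* X) (φ : SL2 k →* X), QM K P π ∧ PS φ
  frat : ∀ {T L}, IsSyl p T P → T ≤ L → L ≤ P → K ⊔ L = P → L = P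

variable {k : Type*} [Field k] [Finite k] [CharP k p]

theorem L2.cj (h : L2 p k P K) (g : G) : L2 p k (cj g P) (cj g K) := by
  obtain ⟨X, _, _, π, φ, q, h1⟩ := h.ex
  refine ⟨⟨X, _, inferInstance, π.comp (cjEquiv g P).symm.toMonoidHom, φ, ⟨cj_mono g q.le,
    q.surj.comp (cjEquiv g P).symm.surjective, ?_⟩, h1⟩, fun {T L} hT a b c => ?_⟩
  · ext x
    obtain ⟨y, rfl⟩ := (cjEquiv g P).surjective x
    rw [MonoidHom.mem_ker, MonoidHom.comp_apply, MulEquiv.coe_toMonoidHom, MulEquiv.symm_apply_apply, ← MonoidHom.mem_ker,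
      q.ker, mem_subgroupOf, mem_subgroupOf]
    exact conj_mem_cj_iff.symm
  · have := hT.cj g⁻¹
    rw [cj_inv_cj] at this
    rw [← cj_cj_inv g L, h.frat this (cj_mono _ a) (cj_le_iff_le_cj_inv.2 (by rwa [inv_inv]))
      (by rw [← cj_inv_cj g K, ← cj_sup, c, cj_inv_cj])]

theorem L2.ls (h : L2 p k P K) : LS p #k P (O {p} P) K := by
  obtain ⟨X, _, _, π, φ, q, h1⟩ := h.ex
  have sy : ∀ {T}, IsSyl p T P → IsSyl p (im π T) ⊤ := fun hT => q.im_top ▸ im_syl hT le_rfl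
  have top : ∀ {T L}, IsSyl p T P → T ≤ L → L ≤ P → im π L = ⊤ → L = P := fun hT a b c =>
    h.frat hT a b (by rw [← q.pre_im b, c, q.pre_top])
  have ne : ∀ {T T'}, IsSyl p T P → IsSyl p T' P → T ⊔ T' = P → im π T ≠ im π T' := fun hT hT' e e' =>
    h1.ne_top (sy hT') (by rw [← q.im_top, ← congrArg (im π) e, im_sup hT.le hT'.le, e', sup_idem])
  have core : ∀ {T N}, IsSyl p T P → N ≤ P → P ≤ NN N → N ⊔ T ≠ P → N ≤ K := fun hT a b c =>
    (q.im_eq_bot a).1 (h1.core (sy hT) (q.im_top ▸ im_nn le_rfl a b) fun e =>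
      c (top hT le_sup_right (sup_le a hT.le) (by rw [im_sup a hT.le, e])))
  have neT : ∀ {T}, IsSyl p T P → K ⊔ T ≠ P := fun hT e => h1.ne_top (sy hT) (by rw [← q.im_sup_N hT.le, e, q.im_top])
  have QK : O {p} P ≤ K := by
    obtain ⟨T, hT⟩ := exists_isSyl p P
    refine core hT (O_le _ _) (nn_O (le_nn P)) fun e => neT hT ?_
    rw [sup_eq_right.2 (O_le_syl hT)] at e
    rw [e, sup_eq_right.2 q.le]
  have inf : ∀ {T}, IsSyl p T P → T ⊓ K = O {p} P := fun {T} hT => by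
    refine le_antisymm (le_O (inf_le_left.trans hT.le) ?_ (pi1_of_pg (hT.pgroup.to_le inf_le_left)))
      (le_inf (O_le_syl hT) QK)
    exact (h.frat hT (le_inf hT.le (nn_inf (le_nn T) (hT.le.trans q.nn))) inf_le_left
      (frattini (hT.inf_of_le_normalizer q.le q.nn) q.le q.nn)).ge.trans inf_le_right
  have mem : ∀ {T s}, (hT : IsSyl p T P) → (hs : s ∈ T) → π ⟨s, hT.le hs⟩ = 1 → s ∈ O {p} P := fun hT hs e =>
    (inf hT).le ⟨hs, (q.eq_one_iff _).1 e⟩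
  refine ⟨⟨QK, q.le, nn_O (le_nn P), q.nn, O_pg P, inf, fun hT => ?_, fun {T T' s} hT hT' e hs hs' => ?_,
    fun {T} hT => ?_, fun {T T' g} hT hT' e hg => ?_⟩, fun hT => ?_, fun {T x} hT hx => ?_, fun {T Y} hT a b c => ?_,
    core, neT⟩
  · rw [← inf hT, inf_relIndex_left, ← q.card_im hT.le, h1.card (sy hT)]
  · refine top hT' le_sup_right (sup_le (zpowers_le.2 (hT.le hs)) hT'.le) ?_
    rw [im_sup (zpowers_le.2 (hT.le hs)) hT'.le, im_zpowers (hT.le hs)]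
    exact h1.gen (sy hT) (sy hT') (ne hT hT' e) (mem_im_of hs _) fun e => hs' (mem hT hs e)
  · obtain ⟨x, hx⟩ := h1.ex (sy hT)
    obtain ⟨g, rfl⟩ := q.surj x
    have hT' := hT.cj_of_mem_normalizer (le_nn P g.2)
    refine ⟨g, g.2, top hT le_sup_left (sup_le hT.le hT'.le) ?_⟩
    rw [im_sup hT.le hT'.le]
    exact h1.sup (sy hT) (sy hT') (by rwa [im_cj g.2 hT.le])
  · have hT'' := hT.cj_of_mem_normalizer (le_nn P (q.le hg))
    refine top hT' le_sup_right (sup_le hT''.le hT'.le) ?_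
    rw [im_sup hT''.le hT'.le, im_cj (q.le hg) hT.le, (q.eq_one_iff _).2 hg, cj_one, ← im_sup hT.le hT'.le, e, q.im_top]
  · rw [← inf hT]
    exact le_inf (der_le _) ((q.cc_iff hT.le hT.le).1 (ab_cc (h1.elem (sy hT)).1))
  · refine mem hT (pow_mem hx p) ?_
    rw [← (h1.elem (sy hT)).2 _ (mem_im_of hx (hT.le hx)), ← map_pow]; rfl
  · have b' := b.trans hT.le
    have e1 : (K ⊔ Y) ⊓ T = Y := by
      rw [sup_comm, dedekind' b (b'.trans q.nn), inf_comm, inf hT, sup_eq_left.2 a]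
    suffices hh : NN (im π T) ≤ NN (im π Y) by
      rcases h1.irr (sy hT) (im_mono b) hh with e | e
      · exact Or.inl (le_antisymm ((inf hT).le.trans' (le_inf b ((q.im_eq_bot b').1 e))) a)
      · exact Or.inr (le_antisymm b (e1.le.trans' (le_inf ((q.im_le_iff hT.le b').1 e.ge) le_rfl)))
    · intro x hx
      obtain ⟨g, rfl⟩ := q.surj x
      have h2 : (g : G) ∈ NN (K ⊔ T : Subgroup G) := (q.nn_iff (zpowers_le.2 g.2) hT.le).1
        (by rw [im_zpowers g.2]; exact zpowers_le.2 hx) (mem_zpowers _)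
      obtain ⟨d', hd', n, hn, e⟩ := (hT.mono le_sup_right (sup_le q.le hT.le)).frattini h2
      obtain ⟨d, hc, t, ht, rfl⟩ := (mem_sup_l (hT.le.trans q.nn)).1 hd'
      have h3 : t * n ∈ P ⊓ NN T := ⟨by
        have := mul_mem (inv_mem (q.le hc)) g.2
        rwa [e, mul_assoc, inv_mul_cancel_left] at this, mul_mem (le_nn T ht) hn⟩
      have h4 : π g = π ⟨t * n, h3.1⟩ := by
        rw [show g = ⟨d, q.le hc⟩ * ⟨t * n, h3.1⟩ from Subtype.ext (by rw [e, mul_assoc]; rfl), map_mul,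
          (q.eq_one_iff _).2 hc, one_mul]
      rw [h4]
      exact im_nn inf_le_left b' c (mem_im_of h3 _)

end Cfsg.Agent.PU
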