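/-
Sections as modules; recognition of natural `SL₂(q)`-sections.
-/
import Cfsg.Agent.Lib.PU.SL
import Cfsg.Agent.Lib.Root.SL2
import Cfsg.Prelude.Def_BaumannBlocks

set_option autoImplicit false
set_option linter.unusedSectionVars false
set_option linter.unusedVariables false
set_option linter.style.haveILetI false
set_option linter.unusedSimpArgs false

namespace Cfsg.Agent.PU

open Subgroup Cfsg.Agent.Transfer Cfsg.Agent.MS
open scoped commutatorElement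

universe u
variable {G : Type u} [Group G] [Finite G] {p q : ℕ} [hp : Fact p.Prime]
variable {A B C K L N P Q T T' U V : Subgroup G} {g u v : G}

/-- `ψ` identifies the section `V/N` with the module `W` -/
structure Sec (P V N : Subgroup G) {Γ : Type*} [Group Γ] (ρ : P →* Γ) {W : Type*} [AddCommGroup W]
    [DistribMulAction Γ W] (ψ : G → W) : Prop where
  nn : P ≤ NN V
  le : N ≤ V
  add : ∀ u ∈ V, ∀ v ∈ V, ψ (u * v) = ψ u + ψ v
  ker : ∀ u ∈ V, ψ u = 0 ↔ u ∈ N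
  surj : ∀ w, ∃ u ∈ V, ψ u = w
  act : ∀ e : P, ∀ u ∈ V, ψ (e * u * (e : G)⁻¹) = ρ e • ψ u

theorem exists_sec {Γ : Type*} [Group Γ] {ρ : P →* Γ} (hρ : Function.Surjective ρ) (hN : N ≤ V) (hPV : P ≤ NN V)
    (hPN : P ≤ NN N) (hab : ⁅V, V⁆ ≤ N) (hk : ∀ e : P, ρ e = 1 → ∀ v ∈ V, ⁅(e : G), v⁆ ∈ N) :
    ∃ (W : Type u) (_ : AddCommGroup W) (_ : DistribMulAction Γ W) (ψ : G → W), Sec P V N ρ ψ := by
  classical
  obtain ⟨Y, _, _, f, q⟩ := exists_qm hN (nn_of_der_le hab hN)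
  have hc : ∀ a b : Y, a * b = b * a := fun a b => by
    have := (q.cc_iff le_rfl le_rfl).2 hab
    rw [q.im_top] at this
    exact (this (mem_top b) a (mem_top a))
  letI : CommGroup Y := { mul_comm := hc }
  let ψ : G → Additive Y := fun g => if h : g ∈ V then Additive.ofMul (f ⟨g, h⟩) else 0
  have e : ∀ g (h : g ∈ V), ψ g = Additive.ofMul (f ⟨g, h⟩) := fun g h => dif_pos h
  have add : ∀ u ∈ V, ∀ v ∈ V, ψ (u * v) = ψ u + ψ v := fun u hu v hv => by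
    rw [e _ (mul_mem hu hv), e _ hu, e _ hv, ← ofMul_mul, ← map_mul]; rfl
  have ker : ∀ u ∈ V, ψ u = 0 ↔ u ∈ N := fun u hu => by rw [e _ hu, ofMul_eq_zero, q.eq_one_iff]
  have surj : ∀ w, ∃ u ∈ V, ψ u = w := fun w => by
    obtain ⟨u, hu⟩ := q.surj w.toMul
    exact ⟨u, u.2, by rw [e _ u.2]; exact congrArg Additive.ofMul hu⟩
  have cm : ∀ (e : P), ∀ u ∈ V, e * u * (e : G)⁻¹ ∈ V := fun e u hu => conj_mem_of_mem_normalizer (hPV e.2) hu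
  have eq : ∀ u ∈ V, ∀ v ∈ V, u * v⁻¹ ∈ N → ψ u = ψ v := fun u hu v hv h => by
    rw [← inv_mul_cancel_right u v, add _ (hN h) _ hv, (ker _ (hN h)).2 h, zero_add]
  have eq' : ∀ u ∈ V, ∀ v ∈ V, ψ u = ψ v → u * v⁻¹ ∈ N := fun u hu v hv h => by
    have := add _ (mul_mem hu (inv_mem hv)) _ hv
    rw [inv_mul_cancel_right, h, right_eq_add] at this
    exact (ker _ (mul_mem hu (inv_mem hv))).1 this
  have key : ∀ (a b : P), ρ a = ρ b → ∀ u ∈ V, ∀ v ∈ V, ψ u = ψ v →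
      ψ (a * u * (a : G)⁻¹) = ψ (b * v * (b : G)⁻¹) := fun a b h u hu v hv h' => by
    refine eq _ (cm a u hu) _ (cm b v hv) ?_
    have h1 := conj_mem_of_mem_normalizer (hPN a.2) (eq' u hu v hv h')
    have h2 := hk (a * b⁻¹) (by rw [map_mul, map_inv, h, mul_inv_cancel]) _ (cm b v hv)
    have := mul_mem h1 h2
    rwa [show a * (u * v⁻¹) * (a : G)⁻¹ * ⁅((a * b⁻¹ : P) : G), b * v * (b : G)⁻¹⁆ =
      a * u * (a : G)⁻¹ * (b * v * (b : G)⁻¹)⁻¹ by simp only [commutatorElement_def, coe_mul, coe_inv]; group] at this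
  choose σ hσ using hρ
  choose τ hτ hτ' using surj
  have act : ∀ (e : P), ∀ u ∈ V, ψ (e * u * (e : G)⁻¹) = ψ (σ (ρ e) * τ (ψ u) * (σ (ρ e) : G)⁻¹) := fun e u hu =>
    key _ _ (hσ _).symm _ hu _ (hτ _) (hτ' _).symm
  letI : DistribMulAction Γ (Additive Y) :=
    { smul := fun g w => ψ (σ g * τ w * (σ g : G)⁻¹)
      one_smul := fun w => by
        change ψ _ = w
        rw [key _ 1 (by rw [hσ, map_one]) _ (hτ w) _ (hτ w) rfl]; simpa using hτ' w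
      mul_smul := fun g h w => by
        change ψ _ = ψ (σ g * τ (ψ _) * _)
        rw [key _ (σ g * σ h) (by rw [hσ, map_mul, hσ, hσ]) _ (hτ w) _ (hτ w) rfl,
          key (σ g) (σ g) rfl _ (hτ _) _ (cm _ _ (hτ w)) (hτ' _)]
        congr 1; simp [mul_assoc]
      smul_zero := fun g => by
        change ψ _ = 0
        exact (ker _ (cm _ _ (hτ 0))).2 (conj_mem_of_mem_normalizer (hPN (σ g).2) ((ker _ (hτ 0)).1 (hτ' 0)))
      smul_add := fun g a b => by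
        change ψ _ = ψ _ + ψ _
        rw [← add _ (cm _ _ (hτ a)) _ (cm _ _ (hτ b)), key _ _ rfl _ (hτ _) _ (mul_mem (hτ a) (hτ b))
          (by rw [add _ (hτ a) _ (hτ b), hτ', hτ', hτ'])]
        congr 1; group }
  exact ⟨Additive Y, inferInstance, inferInstance, ψ, hPV, hN, add, ker, fun w => ⟨τ w, hτ w, hτ' w⟩, act⟩

namespace Sec
variable {Γ : Type*} [Group Γ] {ρ : P →* Γ} {W : Type*} [AddCommGroup W] [DistribMulAction Γ W] {ψ : G → W}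
variable (s : Sec P V N ρ ψ)
include s

theorem one : ψ 1 = 0 := (s.ker 1 (one_mem _)).2 (one_mem _)
theorem inv (hu : u ∈ V) : ψ u⁻¹ = -ψ u := by
  have := s.add _ hu _ (inv_mem hu)
  rw [mul_inv_cancel, s.one] at this
  exact (neg_eq_of_add_eq_zero_right this.symm).symm
theorem pow (hu : u ∈ V) (n : ℕ) : ψ (u ^ n) = n • ψ u := by
  induction n with
  | zero => simpa using s.one
  | succ n ih => rw [pow_succ, s.add _ (pow_mem hu n) _ hu, ih, succ_nsmul]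
theorem cm (e : P) (hu : u ∈ V) : e * u * (e : G)⁻¹ ∈ V := conj_mem_of_mem_normalizer (s.nn e.2) hu
theorem comm (e : P) (hu : u ∈ V) : ψ ⁅(e : G), u⁆ = ρ e • ψ u - ψ u := by
  rw [commutatorElement_def, s.add _ (s.cm e hu) _ (inv_mem hu), s.act e u hu, s.inv hu, sub_eq_add_neg]
theorem comm_mem (e : P) (hu : u ∈ V) : ⁅(e : G), u⁆ ∈ V := mul_mem (s.cm e hu) (inv_mem hu)
theorem fix_iff (e : P) (hu : u ∈ V) : ρ e • ψ u = ψ u ↔ ⁅(e : G), u⁆ ∈ N := by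
  rw [← s.ker _ (s.comm_mem e hu), s.comm e hu, sub_eq_zero]
theorem eq_iff (hu : u ∈ V) (hv : v ∈ V) : ψ u = ψ v ↔ u * v⁻¹ ∈ N := by
  rw [← s.ker _ (mul_mem hu (inv_mem hv)), s.add _ hu _ (inv_mem hv), s.inv hv, ← sub_eq_add_neg, sub_eq_zero]
/-- preimage of a subgroup of the module -/
def pull (X : AddSubgroup W) : Subgroup G where
  carrier := {u | u ∈ V ∧ ψ u ∈ X}
  one_mem' := ⟨one_mem _, by rw [s.one]; exact zero_mem _⟩
  mul_mem' := fun ha hb => ⟨mul_mem ha.1 hb.1, by rw [s.add _ ha.1 _ hb.1]; exact add_mem ha.2 hb.2⟩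
  inv_mem' := fun ha => ⟨inv_mem ha.1, by rw [s.inv ha.1]; exact neg_mem ha.2⟩
def hom : V →* Multiplicative W := MonoidHom.mk' (fun u => Multiplicative.ofAdd (ψ u)) fun a b => by
  rw [coe_mul, s.add _ a.2 _ b.2, ofAdd_add]
theorem hom_surj : Function.Surjective s.hom := fun w => by
  obtain ⟨u, hu, e⟩ := s.surj w.toAdd
  exact ⟨⟨u, hu⟩, congrArg Multiplicative.ofAdd e⟩
theorem card : N.relIndex V = #W := by
  have : s.hom.ker = N.subgroupOf V := by ext u; exact s.ker u u.2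
  rw [relIndex, ← this, index_ker, MonoidHom.range_eq_top.2 s.hom_surj, card_top]; rfl
theorem irr (hirr : ∀ X, N ≤ X → X ≤ V → P ≤ NN X → X ≤ N ∨ V ≤ X) (X : AddSubgroup W)
    (hX : ∀ (e : P) w, w ∈ X → ρ e • w ∈ X) : X = ⊥ ∨ X = ⊤ := by
  rcases hirr (s.pull X) (fun u hu => ⟨s.le hu, by rw [(s.ker u (s.le hu)).2 hu]; exact zero_mem _⟩) (fun u hu => hu.1)
    (fun e he => mem_normalizer_of_conj_mem fun u hu => ⟨s.cm ⟨e, he⟩ hu.1, by
      rw [s.act ⟨e, he⟩ u hu.1]; exact hX _ _ hu.2⟩) with e | e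
  · refine Or.inl (eq_bot_iff.2 fun w hw => ?_)
    obtain ⟨u, hu, rfl⟩ := s.surj w
    exact (s.ker u hu).2 (e ⟨hu, hw⟩)
  · refine Or.inr (eq_top_iff.2 fun w _ => ?_)
    obtain ⟨u, hu, rfl⟩ := s.surj w
    exact (e hu).2

end Sec

variable {k : Type*} [Field k]

theorem nat_sec' {Γ : Type*} [Group Γ] {ρ : P →* Γ} (hρ : Function.Surjective ρ) {φ : SL2 k →* Γ}
    (hφ : Function.Surjective φ) (hN : N ≤ V) (hPV : P ≤ NN V) (hPN : P ≤ NN N) (hab : ⁅V, V⁆ ≤ N)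
    (hk : ∀ e : P, ρ e = 1 → ∀ v ∈ V, ⁅(e : G), v⁆ ∈ N) (hT : ∀ t, ∃ e : P, (e : G) ∈ T ∧ ρ e = φ (upU t))
    (hq : ⁅⁅V, T⁆, T⁆ ≤ N) (hirr : ∀ X, N ≤ X → X ≤ V → P ≤ NN X → X ≤ N ∨ V ≤ X) (hnt : ¬ ⁅V, P⁆ ≤ N) :
    ∃ (e : SL2 k ≃* Γ) (ψ : G → Fin 2 → k), (∀ g, e g = φ g) ∧ Sec P V N (e.symm.toMonoidHom.comp ρ) ψ := by
  obtain ⟨W, _, _, ψ, s⟩ := exists_sec hρ hN hPV hPN hab hk
  letI : DistribMulAction (SL2 k) W := DistribMulAction.compHom W φ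
  have e : ∀ (g : SL2 k) (w : W), g • w = φ g • w := fun _ _ => rfl
  obtain ⟨θ, hθ⟩ := nat_of_quad (k := k) (W := W) (fun t w s' => by
      obtain ⟨a, ha, ha'⟩ := hT t
      obtain ⟨b, hb, hb'⟩ := hT s'
      obtain ⟨u, hu, rfl⟩ := s.surj w
      rw [e, e, ← ha', ← hb', ← s.comm a hu, s.fix_iff b (s.comm_mem a hu)]
      exact hq (by rw [commutator_comm, commutator_comm V]; exact comm_mem hb (comm_mem ha hu)))
    (fun X hX => s.irr hirr X fun a w hw => by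
      obtain ⟨g, hg⟩ := hφ (ρ a)
      rw [← hg]; exact hX g w hw)
    (by
      by_contra h
      push Not at h
      refine hnt ?_
      rw [commutator_comm]
      refine commutator_le.2 fun a ha u hu => (s.fix_iff ⟨a, ha⟩ hu).1 ?_
      obtain ⟨g, hg⟩ := hφ (ρ ⟨a, ha⟩)
      rw [← hg]; exact h g _)
  have inj : Function.Injective φ := (injective_iff_map_eq_one φ).2 fun g hg => eq_one_of_mv fun v => by
    obtain ⟨w, rfl⟩ := θ.surjective v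
    rw [← hθ, e, hg, one_smul]
  refine ⟨MulEquiv.ofBijective φ ⟨inj, hφ⟩, fun g => θ (ψ g), fun _ => rfl, hPV, hN,
    fun u hu v hv => by rw [s.add u hu v hv, map_add], fun u hu => by rw [map_eq_zero_iff _ θ.injective, s.ker u hu],
    fun w => ?_, fun a u hu => ?_⟩
  · obtain ⟨u, hu, h⟩ := s.surj (θ.symm w)
    exact ⟨u, hu, by rw [h, θ.apply_symm_apply]⟩
  · rw [s.act a u hu]
    refine Eq.trans ?_ (hθ _ _)
    rw [e]
    congr 2
    exact ((MulEquiv.ofBijective φ ⟨inj, hφ⟩).apply_symm_apply _).symm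

theorem nat_sec {ρ : P →* SL2 k} (hρ : Function.Surjective ρ)
    (hN : N ≤ V) (hPV : P ≤ NN V) (hPN : P ≤ NN N) (hab : ⁅V, V⁆ ≤ N)
    (hk : ∀ e : P, ρ e = 1 → ∀ v ∈ V, ⁅(e : G), v⁆ ∈ N) (hT : ∀ t, ∃ e : P, (e : G) ∈ T ∧ ρ e = upU t)
    (hq : ⁅⁅V, T⁆, T⁆ ≤ N) (hirr : ∀ X, N ≤ X → X ≤ V → P ≤ NN X → X ≤ N ∨ V ≤ X) (hnt : ¬ ⁅V, P⁆ ≤ N) :
    ∃ ψ : G → Fin 2 → k, Sec P V N ρ ψ := by
  obtain ⟨e, ψ, h1, h2⟩ := nat_sec' hρ (φ := MonoidHom.id _) Function.surjective_id hN hPV hPN hab hk hT hq hirr hnt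
  have : e.symm.toMonoidHom.comp ρ = ρ := MonoidHom.ext fun a => by
    change e.symm (ρ a) = ρ a
    rw [MulEquiv.symm_apply_eq, h1]; rfl
  exact ⟨ψ, this ▸ h2⟩

theorem Sec.acts {ρ : P →* SL2 k} {ψ : G → Fin 2 → k} (s : Sec P V N ρ ψ) :
    ActsAsSL2OnSection k ρ.range P V N :=
  ⟨s.nn, s.le, ρ, s.hom, rfl, s.hom_surj, fun u => s.ker u u.2, fun e u => ⟨⟨_, s.cm e u.2⟩, rfl, s.act e u u.2⟩⟩
theorem Sec.acts_top {ρ : P →* SL2 k} {ψ : G → Fin 2 → k} (s : Sec P V N ρ ψ) (h : Function.Surjective ρ) :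
    ActsAsSL2OnSection k ⊤ P V N := MonoidHom.range_eq_top.2 h ▸ s.acts
theorem Sec.eq_one {ρ : P →* SL2 k} {ψ : G → Fin 2 → k} (s : Sec P V N ρ ψ) (e : P)
    (h : ∀ u ∈ V, ⁅(e : G), u⁆ ∈ N) : ρ e = 1 := eq_one_of_mv fun v => by
  obtain ⟨u, hu, rfl⟩ := s.surj v
  exact (s.fix_iff e hu).2 (h u hu)
theorem Sec.natural {ρ : P →* SL2 k} {ψ : G → Fin 2 → k} (s : Sec P V ⊥ ρ ψ) (h : Function.Surjective ρ) :
    IsNaturalSL2Module k V P := by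
  refine ⟨s.nn, ρ, AddEquiv.ofBijective (MonoidHom.toAdditiveLeft s.hom) ⟨?_, s.hom_surj⟩, h, ?_,
    fun e u => ⟨⟨_, s.cm e u.2⟩, rfl, s.act e u u.2⟩⟩
  · exact (injective_iff_map_eq_zero _).2 fun u hu => Subtype.ext ((s.ker _ u.toMul.2).1 hu)
  · ext e
    refine ⟨fun he u hu => ?_, fun he => s.eq_one e fun u hu => cm_one (he u hu).symm⟩
    have := (s.fix_iff e hu).1 (by rw [he, one_smul])
    exact (commutatorElement_eq_one_iff_mul_comm.1 this).symm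
theorem sec_of_acts {R : Subgroup (SL2 k)} (h : ActsAsSL2OnSection k R P V N) :
    ∃ (ρ : P →* SL2 k) (ψ : G → Fin 2 → k), ρ.range = R ∧ Sec P V N ρ ψ := by
  classical
  obtain ⟨h1, h2, ρ, ψ, h3, h4, h5, h6⟩ := h
  have e : ∀ g (h : g ∈ V), (if h : g ∈ V then (ψ ⟨g, h⟩).toAdd else 0) = (ψ ⟨g, h⟩).toAdd := fun g h => dif_pos h
  refine ⟨ρ, fun g => if h : g ∈ V then (ψ ⟨g, h⟩).toAdd else 0, h3, h1, h2, fun u hu v hv => ?_, fun u hu => ?_,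
    fun w => ?_, fun a u hu => ?_⟩
  · rw [e _ (mul_mem hu hv), e _ hu, e _ hv, ← toAdd_mul, ← map_mul]; rfl
  · rw [e _ hu]; exact h5 ⟨u, hu⟩
  · obtain ⟨u, hu⟩ := h4 (Multiplicative.ofAdd w)
    exact ⟨u, u.2, by rw [e _ u.2]; exact congrArg Multiplicative.toAdd hu⟩
  · obtain ⟨w, hw, hw'⟩ := h6 a ⟨u, hu⟩
    rw [← hw, e _ w.2, e _ hu]; exact hw'
theorem sec_of_natural (h : IsNaturalSL2Module k V P) :
    ∃ (ρ : P →* SL2 k) (ψ : G → Fin 2 → k), Function.Surjective ρ ∧ ρ.ker = (CC V).subgroupOf P ∧ Sec P V ⊥ ρ ψ := by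
  classical
  obtain ⟨h1, ρ, ψ, h3, h4, h6⟩ := h
  have e : ∀ g (h : g ∈ V), (if h : g ∈ V then ψ (Additive.ofMul ⟨g, h⟩) else 0) = ψ (Additive.ofMul ⟨g, h⟩) :=
    fun g h => dif_pos h
  refine ⟨ρ, fun g => if h : g ∈ V then ψ (Additive.ofMul ⟨g, h⟩) else 0, h3, h4, h1, bot_le, fun u hu v hv => ?_,
    fun u hu => ?_, fun w => ?_, fun a u hu => ?_⟩
  · rw [e _ (mul_mem hu hv), e _ hu, e _ hv, ← map_add]; rfl
  · rw [e _ hu, map_eq_zero_iff _ ψ.injective, ofMul_eq_zero, mem_bot]; exact Subtype.ext_iff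
  · obtain ⟨u, hu⟩ := ψ.surjective w
    exact ⟨u.toMul, u.toMul.2, by rw [e _ u.toMul.2]; exact hu⟩
  · obtain ⟨w, hw, hw'⟩ := h6 a ⟨u, hu⟩
    rw [← hw, e _ w.2, e _ hu]; exact hw'

variable [Finite k] [CharP k p]

/-- `ρ` presents `P/C` as `SL₂(k)`, with `T` upper and `T'` lower triangular -/
structure Rho (P C T T' : Subgroup G) (ρ : P →* SL2 k) : Prop where
  surj : Function.Surjective ρ
  ker : ∀ e : P, ρ e = 1 ↔ (e : G) ∈ C
  up : ∀ e : P, (e : G) ∈ T → ρ e ∈ UU k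
  up' : ∀ t, ∃ e : P, (e : G) ∈ T ∧ ρ e = upU t
  lo : ∀ e : P, (e : G) ∈ T' → ρ e ∈ LL k
  lo' : ∀ t, ∃ e : P, (e : G) ∈ T' ∧ ρ e = loU t

theorem L2.rho (h : L2 p k P K) (h1 : O {p} P ≤ C) (h2 : C ≤ K) (h3 : P ≤ NN C) (h4 : ⁅K, P⁆ ≤ C)
    (hT : IsSyl p T P) (hT' : IsSyl p T' P) (ho : T ⊔ T' = P)
    (hN : N ≤ V) (hPV : P ≤ NN V) (hPN : P ≤ NN N) (hab : ⁅V, V⁆ ≤ N) (hk : ⁅C, V⁆ ≤ N)
    (hq : ⁅⁅V, T⁆, T⁆ ≤ N) (hirr : ∀ X, N ≤ X → X ≤ V → P ≤ NN X → X ≤ N ∨ V ≤ X) (hnt : ¬ ⁅V, P⁆ ≤ N) :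
    ∃ (ρ : P →* SL2 k) (ψ : G → Fin 2 → k), Rho P C T T' ρ ∧ Sec P V N ρ ψ := by
  have l := h.ls
  obtain ⟨X, _, _, π, φ, q, s⟩ := h.ex
  obtain ⟨Y, _, _, f, r⟩ := exists_qm (h2.trans q.le) h3
  have sy : ∀ {T}, IsSyl p T P → IsSyl p (im π T) ⊤ := fun hT => q.im_top ▸ im_syl hT le_rfl
  obtain ⟨x, e1, e2⟩ := s.two (sy hT) (sy hT') fun e =>
    s.ne_top (sy hT') (by rw [← q.im_top, ← congrArg (im π) ho, im_sup hT.le hT'.le, e, sup_idem])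
  let φ₁ : SL2 k →* X := (MulAut.conj x).toMonoidHom.comp φ
  rw [Transfer.cj, map_map] at e1 e2
  have uq : ∀ {T₁ T₂}, IsSyl p T₁ P → IsSyl p T₂ P → ∀ a b : P, (a : G) ∈ T₁ → (b : G) ∈ T₂ → π a = π b →
      f a = f b := fun a1 a2 a b ha hb e => by
    have c1 : ((a * b⁻¹ : P) : G) ∈ K := (q.eq_one_iff _).1 (by
      change π (a * b⁻¹) = 1; rw [map_mul, map_inv, e, mul_inv_cancel])
    have c2 : Commute (f (a * b⁻¹)) (f b) :=
      ((r.cc_iff q.le le_rfl).2 h4 (mem_im_of c1 _) _ (mem_im_of b.2 _)).symm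
    have c3 : ∀ {T}, IsSyl p T P → ∀ a : P, (a : G) ∈ T → f a ^ p = 1 := fun hT a ha => by
      rw [← map_pow]; exact (r.eq_one_iff _).2 (h1 (l.pw hT ha))
    have c4 := c2.mul_pow p
    rw [← map_mul, inv_mul_cancel_right, c3 a1 a ha, c3 a2 b hb, mul_one] at c4
    have c5 : f (a * b⁻¹) = 1 := by
      refine orderOf_eq_one_iff.1 (((Nat.dvd_prime hp.out).1 (orderOf_dvd_of_pow_eq_one c4.symm)).resolve_right
        fun e => (l.sylK hT).not_dvd ?_)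
      refine (e ▸ orderOf_dvd (mem_im_of (f := f) c1 (q.le c1))).trans ?_
      rw [r.card_im q.le]
      exact relIndex_dvd_of_le_left K h1
    rwa [map_mul, map_inv, mul_inv_eq_one] at c5
  have m1 : ∀ t, ∃ e : P, (e : G) ∈ T ∧ π e = φ₁ (upU t) := fun t => e1.ge (mem_map_of_mem _ (up_mem t))
  have m2 : ∀ t, ∃ e : P, (e : G) ∈ T' ∧ π e = φ₁ (loU t) := fun t => e2.ge (mem_map_of_mem _ (lo_mem t))
  choose a ha ha' using m1
  choose b hb hb' using m2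
  let R : Chev.Rk1 k Y :=
    { x := fun t => f (a t)
      y := fun t => f (b t)
      add_x := fun t u => by
        rw [← map_mul]
        exact uq hT hT _ _ (mul_mem (ha t) (ha u)) (ha _) (by rw [map_mul, ha', ha', ha', ← map_mul, upU_mul])
      add_y := fun t u => by
        rw [← map_mul]
        exact uq hT' hT' _ _ (mul_mem (hb t) (hb u)) (hb _) (by rw [map_mul, hb', hb', hb', ← map_mul, loU_mul])
      nx := fun c t => by
        rw [← mul_inv_eq_iff_eq_mul, ← map_mul, ← map_mul, ← map_mul, ← map_inv, ← map_mul]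
        refine uq (l.cj hT (a c * b (-(c : k)⁻¹) * a c).2) hT' _ _ (conj_mem_cj (ha t)) (hb _) ?_
        simp only [map_mul, map_inv, ha', hb']
        rw [← map_mul, ← map_mul, ← map_mul, ← map_inv, ← map_mul]
        congr 1
        exact mul_inv_eq_iff_eq_mul.2 (nn_up c.ne_zero t) }
  obtain ⟨φ', hφ⟩ := R.exists_hom (Root.rk1_hm R)
  have u1 : ∀ t, φ' (upU t) = f (a t) := fun t => (hφ _ t).1 rfl
  have u2 : ∀ t, φ' (loU t) = f (b t) := fun t => (hφ _ t).2 rfl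
  have v1 : ∀ e : P, (e : G) ∈ T → ∃ t, f e = φ' (upU t) := fun e he => by
    obtain ⟨_, ⟨t, rfl⟩, ht⟩ := e1.le ⟨e, he, rfl⟩
    exact ⟨t, (uq hT hT _ _ he (ha t) (by rw [ha']; exact ht.symm)).trans (u1 t).symm⟩
  have v2 : ∀ e : P, (e : G) ∈ T' → ∃ t, f e = φ' (loU t) := fun e he => by
    obtain ⟨_, ⟨t, rfl⟩, ht⟩ := e2.le ⟨e, he, rfl⟩
    exact ⟨t, (uq hT' hT' _ _ he (hb t) (by rw [hb']; exact ht.symm)).trans (u2 t).symm⟩
  have sj : Function.Surjective φ' := MonoidHom.range_eq_top.1 (eq_top_iff.2 (by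
    rw [← r.im_top, ← congrArg (im f) ho, im_sup hT.le hT'.le]
    refine sup_le ?_ ?_
    · rintro _ ⟨e, he, rfl⟩; obtain ⟨t, ht⟩ := v1 e he; exact ⟨_, ht.symm⟩
    · rintro _ ⟨e, he, rfl⟩; obtain ⟨t, ht⟩ := v2 e he; exact ⟨_, ht.symm⟩))
  obtain ⟨e, ψ, w1, w2⟩ := nat_sec' r.surj sj hN hPV hPN hab
    (fun e he v hv => hk (comm_mem ((r.eq_one_iff e.2).1 he) hv)) (fun t => ⟨a t, ha t, (u1 t).symm⟩) hq hirr hnt
  have w3 : ∀ (c : P) g, f c = φ' g → (e.symm.toMonoidHom.comp f) c = g := fun c g h => by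
    change e.symm (f c) = g
    rw [MulEquiv.symm_apply_eq, w1, h]
  refine ⟨_, ψ, ⟨e.symm.surjective.comp r.surj, fun c => ?_, fun c hc => ?_, fun t => ⟨a t, ha t, w3 _ _ (u1 t).symm⟩,
    fun c hc => ?_, fun t => ⟨b t, hb t, w3 _ _ (u2 t).symm⟩⟩, w2⟩
  · rw [← r.eq_one_iff c.2]; exact map_eq_one_iff _ e.symm.injective
  · obtain ⟨t, ht⟩ := v1 c hc; exact ⟨t, (w3 _ _ ht).symm⟩
  · obtain ⟨t, ht⟩ := v2 c hc; exact ⟨t, (w3 _ _ ht).symm⟩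

end Cfsg.Agent.PU
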