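/-
Pushing up: critical pairs in the coset graph.
-/
import Cfsg.Agent.Lib.PU.Rho

set_option autoImplicit false
set_option linter.unusedSectionVars false
set_option linter.unusedVariables false
set_option linter.style.haveILetI false
set_option linter.unusedSimpArgs false

namespace Cfsg.Agent.PU

open Subgroup Cfsg.Agent.Transfer Cfsg.Agent.MS
open scoped commutatorElement

universe u
variable {G : Type u} [Group G] [Finite G] {p q : ℕ} [hp : Fact p.Prime]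
variable {A B C D K L N P Q R T T' T₁ T₂ U V X α β γ δ α' : Subgroup G} {a c g n s u v : G}

abbrev oz (p : ℕ) (T : Subgroup G) : Subgroup G := omegaOneCenter p T
abbrev Qv (p : ℕ) (P : Subgroup G) : Subgroup G := O {p} P
def Zv (p : ℕ) (P : Subgroup G) : Subgroup G := sSup {X | ∃ T, IsSyl p T P ∧ X = oz p T}

theorem cc_of_gen (e : A ⊔ B = P) (h1 : X ≤ CC A) (h2 : X ≤ CC B) : X ≤ CC P := e ▸ le_cc_sup h1 h2
theorem nn_of_gen (e : A ⊔ B = P) (h1 : A ≤ X) (h2 : B ≤ X) : P ≤ X := e ▸ sup_le h1 h2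
theorem mem_oz : u ∈ oz p T ↔ (u ∈ T ∧ u ∈ CC T) ∧ u ^ p = 1 := mem_omegaOne_iff (comm_inf_centralizer T)
theorem oz_le : oz p T ≤ T := fun _ h => (mem_oz.1 h).1.1
theorem oz_cc : oz p T ≤ CC T := fun _ h => (mem_oz.1 h).1.2
theorem oz_elem : IsElementaryAbelian p (oz p T) := elem_omegaOne (comm_inf_centralizer T)
theorem cj_oz (g : G) : cj g (oz p T) = oz p (cj g T) := by
  rw [oz, oz, omegaOneCenter, omegaOneCenter, cj_omegaOne, cj_inf_centralizer]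
theorem nn_oz (h : A ≤ NN T) : A ≤ NN (oz p T) := nn_omega (nn_inf h (nn_cc h))
theorem oz_le_Zv (hT : IsSyl p T P) : oz p T ≤ Zv p P := le_sSup ⟨T, hT, rfl⟩
theorem Zv_le (h : ∀ T, IsSyl p T P → oz p T ≤ X) : Zv p P ≤ X := sSup_le (by rintro _ ⟨T, hT, rfl⟩; exact h T hT)
theorem cj_Zv (g : G) (P : Subgroup G) : cj g (Zv p P) = Zv p (cj g P) := by
  have key : ∀ (g : G) (P : Subgroup G), cj g (Zv p P) ≤ Zv p (cj g P) := fun g P =>
    cj_le_iff_le_cj_inv.2 (Zv_le fun T hT => cj_le_iff_le_cj_inv.1 (by rw [cj_oz]; exact oz_le_Zv (hT.cj g)))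
  refine le_antisymm (key g P) (le_cj_iff_cj_inv_le.2 ?_)
  simpa [cj_inv_cj] using key g⁻¹ (cj g P)
theorem nn_Zv (h : A ≤ NN P) : A ≤ NN (Zv p P) := fun g hg => mem_normalizer_iff_cj.2 (by rw [cj_Zv, cj_nn (h hg)])

variable {k : Type*} [Field k] [Finite k] [CharP k p]

theorem L2.dich (h : L2 p k P K) (hT : IsSyl p T P) (hT' : IsSyl p T' P) : T ⊔ T' = P ∨ K ⊔ T = K ⊔ T' := by
  obtain ⟨X, _, _, π, φ, q, s⟩ := h.ex
  have sy : ∀ {T}, IsSyl p T P → IsSyl p (im π T) ⊤ := fun hT => q.im_top ▸ im_syl hT le_rfl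
  by_cases e : im π T = im π T'
  · exact Or.inr (by rw [← q.pre_im hT.le, e, q.pre_im hT'.le])
  · refine Or.inl (h.frat hT le_sup_left (sup_le hT.le hT'.le) ?_)
    rw [← q.pre_im (sup_le hT.le hT'.le), im_sup hT.le hT'.le, s.sup (sy hT) (sy hT') e, q.pre_top]
theorem L2.opp (h : L2 p k P K) (hT : IsSyl p T P) (hT' : IsSyl p T' P) (ho : T ⊔ T' = P) (ha : a ∈ T)
    (ha' : a ∉ Qv p P) : T' ⊔ Transfer.cj a T' = P := by
  have l := h.ls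
  refine (h.dich hT' (l.cj hT' (hT.le ha))).resolve_right fun e => ?_
  have h1 : P ≤ NN (K ⊔ T' : Subgroup G) := by
    rw [← l.gen hT hT' ho ha ha']
    refine sup_le (zpowers_le.2 (mem_normalizer_iff_cj.2 ?_)) (nn_of_le le_sup_right)
    rw [cj_sup, cj_nn (l.nK (hT.le ha)), e]
  obtain ⟨g, hg, h2⟩ := l.ex hT'
  exact l.ne hT' (le_antisymm (sup_le l.KP hT'.le) (h2.ge.trans (sup_le le_sup_right (cj_le le_sup_right (h1 hg)))))

variable (p k) in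
/-- the pushing up hypothesis for a subgroup of the ambient group -/
structure PH (P : Subgroup G) : Prop where
  ex : ∃ K, L2 p k P K
  ch : P ⊓ CC (Qv p P) ≤ Qv p P
  nz : ∀ {T R}, IsSyl p T P → R ≤ T → P ≤ NN R → NN T ≤ NN R → R = ⊥

theorem syl_of_cj (hT : IsSyl p T (cj g P)) : IsSyl p (cj g⁻¹ T) P := cj_inv_cj g P ▸ hT.cj g⁻¹
theorem Qv_le (hT : IsSyl p T P) : Qv p P ≤ T := O_le_syl hT
theorem nn_Qv (h : A ≤ NN P) : A ≤ NN (Qv p P) := nn_O h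

namespace PH
variable (h : PH p k P)
include h

theorem cj (g : G) : PH p k (cj g P) := by
  obtain ⟨K, hK⟩ := h.ex
  refine ⟨⟨_, hK.cj g⟩, by rw [Qv, ← cj_O, ← cj_centralizer, ← cj_inf]; exact cj_mono g h.ch, fun {T R} hT a b c => ?_⟩
  refine cj_eq_bot_iff.1 (h.nz (syl_of_cj hT) (cj_mono _ a) ?_ ?_)
  · simpa [cj_inv_cj] using nn_cj b g⁻¹
  · rw [← cj_normalizer]; exact nn_cj c _
theorem ne_bot (hT : IsSyl p T P) : T ≠ ⊥ := fun e => by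
  obtain ⟨K, hK⟩ := h.ex
  obtain ⟨g, hg, h1⟩ := hK.ls.ex hT
  rw [e, cj_bot, sup_idem] at h1
  exact hK.ls.ne hT (le_antisymm (sup_le hK.ls.KP hT.le) (h1.ge.trans bot_le))
theorem oz_ne (hT : IsSyl p T P) : oz p T ≠ ⊥ := omegaOne_center_ne_bot hT.pgroup (h.ne_bot hT)
theorem Z_le_oz : Zv p P ≤ oz p (Qv p P) := Zv_le fun T hT => fun u hu =>
  have h1 := cc_anti (Qv_le hT) (oz_cc hu)
  mem_oz.2 ⟨⟨h.ch ⟨hT.le (oz_le hu), h1⟩, h1⟩, (mem_oz.1 hu).2⟩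
theorem ZQ : Zv p P ≤ Qv p P := h.Z_le_oz.trans oz_le
theorem QZ : Qv p P ≤ CC (Zv p P) := cc_symm (h.Z_le_oz.trans oz_cc)
theorem ZT (hT : IsSyl p T P) : Zv p P ≤ T := h.ZQ.trans (Qv_le hT)
theorem elem : IsElementaryAbelian p (Zv p P) := elem_mono oz_elem h.Z_le_oz
theorem ab : IsMulCommutative (Zv p P) := h.elem.1
theorem nZ : P ≤ NN (Zv p P) := nn_Zv (le_nn P)
theorem inf_cc (hT : IsSyl p T P) : Zv p P ⊓ CC T = oz p T :=
  le_antisymm (fun u hu => mem_oz.2 ⟨⟨h.ZT hT hu.1, hu.2⟩, h.elem.2 u hu.1⟩) (le_inf (oz_le_Zv hT) oz_cc)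
theorem not_cc (hT : IsSyl p T P) : ¬ Zv p P ⊓ CC T ≤ CC P := fun e => h.oz_ne hT
  (h.nz hT oz_le (nn_of_cc (cc_symm (h.inf_cc hT ▸ e))) (nn_oz le_rfl))
theorem ccQ (hT : IsSyl p T P) : T ⊓ CC (Zv p P) ≤ Qv p P := by
  obtain ⟨K, hK⟩ := h.ex
  exact hK.ls.ccQ h.nZ hT (h.not_cc hT)
theorem fs (hK : L2 p k P K) : FS p #k P (Qv p P) K (Zv p P) := by
  obtain ⟨T, hT⟩ := exists_isSyl p P
  have : ¬ thompsonSubgroupOf p T ≤ Qv p P := fun e => J_ne_bot (Or.inl rfl) hT.pgroup (h.ne_bot hT)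
    (h.nz hT (J_le _) (by
      rw [← J_eq_of_le e (Qv_le hT)]; exact (nn_Qv (le_nn P)).trans (normalizer_le_normalizer_J _))
      (normalizer_le_normalizer_J _))
  rw [J_le_iff] at this
  push Not at this
  obtain ⟨A, hA, hA'⟩ := this
  refine hK.ls.ff1 h.ab (elem_isPGroup h.elem) h.nZ h.QZ hT (h.not_cc hT) hA.le hA' ?_
  have := (hA.bestOffender h.elem (h.ZT hT)).1 (A ⊓ Qv p P) inf_le_left
  rwa [inf_eq_left.2 (cc_symm (inf_le_right.trans h.QZ)), mul_comm] at this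
theorem exfs : ∃ K, L2 p k P K ∧ LS p #k P (Qv p P) K ∧ FS p #k P (Qv p P) K (Zv p P) :=
  h.ex.imp fun K hK => ⟨hK, hK.ls, h.fs hK⟩
theorem gen (hT : IsSyl p T P) (hT' : IsSyl p T' P) (e : T ⊔ T' = P) (h1 : A ≤ T) (h2 : ¬ A ≤ Qv p P) :
    A ⊔ T' = P := by
  obtain ⟨K, -, l, -⟩ := h.exfs
  exact l.gen' hT hT' e h1 h2
theorem cA (hT : IsSyl p T P) (h1 : A ≤ T) (h2 : ¬ A ≤ Qv p P) : Zv p P ⊓ CC A = oz p T := by
  obtain ⟨K, -, l, f⟩ := h.exfs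
  rw [f.cA hT h1 h2, h.inf_cc hT]
theorem comm_le (hT : IsSyl p T P) : ⁅Zv p P, T⁆ ≤ oz p T := by
  obtain ⟨K, -, l, f⟩ := h.exfs
  exact (h.inf_cc hT).le.trans' (le_inf (comm_le_left (hT.le.trans h.nZ)) (f.quad hT))
theorem comm_not (hT : IsSyl p T P) : ¬ ⁅Zv p P, T⁆ ≤ CC P := by
  obtain ⟨K, -, l, f⟩ := h.exfs
  exact f.comm_not l.toLS0 hT

variable (h' : PH p k α')
include h'

theorem cp1 (hT' : IsSyl p T' α') (h2 : Zv p P ≤ T') (h3 : ¬ Zv p P ≤ Qv p α') : ¬ Zv p α' ≤ Qv p P := fun e =>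
  h3 ((h'.ccQ hT').trans' (le_inf h2 (cc_symm (e.trans h.QZ))))
theorem cp2 (hT : IsSyl p T P) (hT' : IsSyl p T' α') (h1 : Zv p α' ≤ T) (h2 : Zv p P ≤ T')
    (h3 : ¬ Zv p P ≤ Qv p α') : Qv p P ⊔ Zv p α' = T := by
  obtain ⟨K, -, l, f⟩ := h.exfs
  obtain ⟨K', -, l', f'⟩ := h'.exfs
  refine sup_of_relIndex (Qv_le hT) h1 (h1.trans (hT.le.trans l.nQ)) ?_
  have : Qv p P ⊓ Zv p α' = CC T' ⊓ Zv p α' := by
    rw [inf_comm (CC T'), ← f'.cA hT' h2 h3]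
    exact le_antisymm (le_inf inf_le_right (inf_le_left.trans h.QZ))
      (le_inf ((inf_le_inf_right _ h1).trans (h.ccQ hT)) inf_le_left)
  rw [l.card hT, ← inf_relIndex_right, this, inf_relIndex_right, f'.idx hT']
theorem cp3 (hT : IsSyl p T P) (hT' : IsSyl p T' α') (h1 : Zv p α' ≤ T) (h2 : Zv p P ≤ T')
    (h3 : ¬ Zv p P ≤ Qv p α') : ⁅Zv p P, T⁆ = ⁅Zv p P, Zv p α'⁆ := by
  rw [← h.cp2 h' hT hT' h1 h2 h3,
    commutator_sup_right_of_le_centralizer h.QZ (h1.trans (hT.le.trans (nn_Qv (le_nn P))))]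
theorem cp4 (hT : IsSyl p T P) (hT' : IsSyl p T' α') (h1 : Zv p α' ≤ T) (h2 : Zv p P ≤ T')
    (h3 : ¬ Zv p P ≤ Qv p α') : ⁅Zv p α', T'⁆ = ⁅Zv p P, T⁆ := by
  rw [h.cp3 h' hT hT' h1 h2 h3, h'.cp3 h hT' hT h2 h1 (h.cp1 h' hT' h2 h3), commutator_comm]
theorem shift (hT : IsSyl p T P) (hT' : IsSyl p T' α') (h1 : Zv p α' ≤ T) (h2 : Zv p P ≤ T')
    (h3 : ¬ Zv p P ≤ Qv p α') (a1 : IsSyl p T₁ P) (a2 : IsSyl p T₁ δ) (ho : T ⊔ T₁ = P) (h4 : Zv p δ ≤ T') :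
    P ≤ NN (Zv p δ ⊔ Zv p P : Subgroup G) := by
  refine (h.gen hT a1 ho h1 (h.cp1 h' hT' h2 h3)).ge.trans (sup_le (nn_of_comm_le' ?_)
    (nn_sup (a2.le.trans (nn_Zv (le_nn δ))) (a1.le.trans h.nZ)))
  refine (commutator_mono (sup_le h4 h2) le_rfl).trans ?_
  rw [commutator_comm, h.cp4 h' hT hT' h1 h2 h3]
  exact (comm_le_left (hT.le.trans h.nZ)).trans le_sup_right

end PH

def Vx (P α : Subgroup G) : Prop := ∃ h, α = cj h P
theorem Vx.cj (h : Vx P α) (g : G) : Vx P (cj g α) := by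
  obtain ⟨x, rfl⟩ := h
  exact ⟨_, cj_cj _ _ _⟩
theorem Vx.ph (h : Vx P α) (h' : PH p k P) : PH p k α := by
  obtain ⟨x, rfl⟩ := h
  exact h'.cj x

theorem exists_nb (h : PH p k P) (hα : Vx P α) (hT : IsSyl p T α) : ∃ δ T₁, Vx P δ ∧ IsSyl p T₁ δ ∧ IsSyl p T₁ α ∧
    T₁ ⊔ T = α ∧ ¬ α ≤ NN (Zv p δ ⊔ Zv p α : Subgroup G) := by
  have a := hα.ph h
  obtain ⟨δ, h1, h2, h3⟩ : ∃ δ, Vx P δ ∧ IsSyl p T δ ∧ ¬ α ≤ NN (Zv p δ ⊔ Zv p α : Subgroup G) := by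
    by_contra e
    push Not at e
    have m : ∀ δ, Vx P δ → IsSyl p T δ → Zv p δ ≤ sSup {X | ∃ δ, Vx P δ ∧ IsSyl p T δ ∧ X = Zv p δ} :=
      fun δ a b => le_sSup ⟨δ, a, b, rfl⟩
    refine a.oz_ne hT (le_bot_iff.1 ((oz_le_Zv hT).trans ((m α hα hT).trans_eq (a.nz hT (sSup_le ?_)
      (fun g hg => mem_normalizer_of_cj_le (cj_le_iff_le_cj_inv.2 (sSup_le ?_)))
      (fun g hg => mem_normalizer_of_cj_le (cj_le_iff_le_cj_inv.2 (sSup_le ?_)))))))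
    · rintro _ ⟨δ, b, c, rfl⟩; exact (b.ph h).ZT c
    · rintro _ ⟨δ, b, c, rfl⟩
      exact cj_le_iff_le_cj_inv.1 ((cj_le le_sup_left (e δ b c hg)).trans (sup_le (m δ b c) (m α hα hT)))
    · rintro _ ⟨δ, b, c, rfl⟩
      exact cj_le_iff_le_cj_inv.1 (by rw [cj_Zv]; exact m _ (b.cj g) (cj_nn hg ▸ c.cj g))
  obtain ⟨K, -, l, -⟩ := a.exfs
  obtain ⟨g, hg, e⟩ := l.ex hT
  refine ⟨cj g δ, cj g T, h1.cj g, h2.cj g, l.cj hT hg, by rw [sup_comm, e], fun e' => h3 ?_⟩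
  have := nn_cj e' g⁻¹
  rwa [cj_eq_of_mem (inv_mem hg), cj_sup, ← cj_Zv, cj_inv_cj, cj_nn (a.nZ (inv_mem hg))] at this

variable (p) in
def Wk (P : Subgroup G) (w t : ℕ → Subgroup G) : Prop :=
  ∀ i, Vx P (w i) ∧ IsSyl p (t i) (w i) ∧ IsSyl p (t i) (w (i + 1))
variable (p) in
def Mn (P : Subgroup G) (b : ℕ) : Prop :=
  ∀ w t, Wk p P w t → ∀ i j, i < j + b → j < i + b → Zv p (w i) ≤ Qv p (w j)
def cons (a : Subgroup G) (w : ℕ → Subgroup G) : ℕ → Subgroup G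
  | 0 => a
  | i + 1 => w i

theorem Wk.cons {w t : ℕ → Subgroup G} (h : Wk p P w t) (h1 : Vx P δ) (h2 : IsSyl p T δ) (h3 : IsSyl p T (w 0)) :
    Wk p P (cons δ w) (cons T t) := fun i => by
  cases i with
  | zero => exact ⟨h1, h2, h3⟩
  | succ i => exact h i

theorem exists_crit (h : PH p k P) : ∃ b w t, Mn p P (b + 1) ∧ Wk p P w t ∧ ¬ Zv p (w 0) ≤ Qv p (w (b + 1)) := by
  classical
  have ex : ∃ b, ∃ w t i j, Wk p P w t ∧ i ≤ j + b ∧ j ≤ i + b ∧ ¬ Zv p (w i) ≤ Qv p (w j) := by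
    by_contra e
    push Not at e
    obtain ⟨T, hT⟩ := exists_isSyl p P
    have m : ∀ w t i, Wk p P w t → w 0 = P → Zv p (w i) ≤ sSup {X | ∃ w t i, Wk p P w t ∧ w 0 = P ∧ X = Zv p (w i)} :=
      fun w t i a b => le_sSup ⟨w, t, i, a, b, rfl⟩
    have c : ∀ (g : G) w t, Wk p P w t → Wk p P (fun i => cj g (w i)) (fun i => cj g (t i)) := fun g w t a i =>
      ⟨(a i).1.cj g, (a i).2.1.cj g, (a i).2.2.cj g⟩
    have v : Vx P P := ⟨1, (cj_one P).symm⟩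
    refine h.oz_ne hT (le_bot_iff.1 ((oz_le_Zv hT).trans
      ((m (fun _ => P) (fun _ => T) 0 (fun _ => ⟨v, hT, hT⟩) rfl).trans_eq (h.nz hT (sSup_le ?_)
      (fun g hg => mem_normalizer_of_cj_le (cj_le_iff_le_cj_inv.2 (sSup_le ?_)))
      (fun g hg => mem_normalizer_of_cj_le (cj_le_iff_le_cj_inv.2 (sSup_le ?_)))))))
    · rintro _ ⟨w, t, i, a, b, rfl⟩
      exact (e i w t i 0 a (by omega) (by omega)).trans (by rw [b]; exact Qv_le hT)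
    · rintro _ ⟨w, t, i, a, b, rfl⟩
      refine cj_le_iff_le_cj_inv.1 ?_
      rw [cj_Zv]
      exact m (fun i => cj g (w i)) _ i (c g w t a) (by simp only [b, cj_eq_of_mem hg])
    · rintro _ ⟨w, t, i, a, b, rfl⟩
      refine cj_le_iff_le_cj_inv.1 ?_
      rw [cj_Zv]
      exact m (cons P fun i => cj g (w i)) _ (i + 1) ((c g w t a).cons v hT (by simp only [b]; exact cj_nn hg ▸ hT.cj g)) rfl
  obtain ⟨w, t, i, j, a, h1, h2, h3⟩ := Nat.find_spec ex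
  have mn : Mn p P (Nat.find ex) := fun w t a i j h1 h2 => by_contra fun e =>
    Nat.find_min ex (m := Nat.find ex - 1) (by omega) ⟨w, t, i, j, a, by omega, by omega, e⟩
  generalize Nat.find ex = b at *
  obtain ⟨b, rfl⟩ : ∃ c, b = c + 1 := by
    refine Nat.exists_eq_add_one_of_ne_zero ?_
    rintro rfl
    exact h3 ((show i = j by omega) ▸ ((a i).1.ph h).ZQ)
  by_cases e : j = i + (b + 1)
  · subst e
    exact ⟨b, fun n => w (i + n), fun n => t (i + n), mn, fun n => a (i + n), h3⟩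
  by_cases e' : i = j + (b + 1)
  · subst e'
    exact ⟨b, fun n => w (j + n), fun n => t (j + n), mn, fun n => a (j + n), ((a _).1.ph h).cp1 ((a _).1.ph h)
      (a j).2.1 ((mn w t a _ (j + 1) (by omega) (by omega)).trans (Qv_le (a j).2.2)) h3⟩
  exact absurd (mn w t a i j (by omega) (by omega)) h3

theorem exists_good (h : PH p k P) {b : ℕ} (mn : Mn p P (b + 1))
    (e : ∃ w t, Wk p P w t ∧ ¬ Zv p (w 0) ≤ Qv p (w (b + 1))) (m : ℕ) :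
    ∃ w t, Wk p P w t ∧ (∀ i ≤ m, ¬ Zv p (w i) ≤ Qv p (w (i + (b + 1)))) ∧ ∀ i < m, t i ⊔ t (i + 1) = w (i + 1) ∧
      ¬ w (i + 1) ≤ NN (Zv p (w i) ⊔ Zv p (w (i + 1)) : Subgroup G) := by
  induction m with
  | zero =>
    obtain ⟨w, t, a, c⟩ := e
    exact ⟨w, t, a, fun i hi => by obtain rfl : i = 0 := by omega
                                   simpa using c, fun i hi => by omega⟩
  | succ m ih =>
    obtain ⟨w, t, a, h1, h2⟩ := ih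
    obtain ⟨δ, T₁, b1, b2, b3, b4, b5⟩ := exists_nb h (a 0).1 (a 0).2.1
    refine ⟨_, _, a.cons b1 b2 b3, fun i hi => ?_, fun i hi => ?_⟩
    · cases i with
      | zero =>
        have := h1 0 (by omega)
        rw [zero_add] at this ⊢
        exact fun c => b5 (((a 0).1.ph h).shift ((a (b + 1)).1.ph h) (a 0).2.1 (a b).2.2
          ((mn w t a _ 1 (by omega) (by omega)).trans (Qv_le (a 0).2.2))
          ((mn w t a 0 b (by omega) (by omega)).trans (Qv_le (a b).2.1)) this b3 b2 (by rw [sup_comm, b4])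
          (le_trans c (Qv_le (a b).2.1)))
      | succ i =>
        rw [show i + 1 + (b + 1) = (i + (b + 1)) + 1 by omega]
        exact h1 i (by omega)
    · cases i with
      | zero => exact ⟨b4, b5⟩
      | succ i => exact h2 i (by omega)

variable (p k) in
structure Cfg1 (α β T : Subgroup G) : Prop where
  pa : PH p k α
  pb : PH p k β
  sa : IsSyl p T α
  sb : IsSyl p T β
  cr : ¬ Zv p β ≤ Qv p α

variable (p k) in
structure Cfg2 (α β δ T T₂ : Subgroup G) (n : G) : Prop where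
  pa : PH p k α
  pb : PH p k β
  pd : PH p k δ
  sa : IsSyl p T α
  sb : IsSyl p T β
  sb' : IsSyl p T₂ β
  sd : IsSyl p T₂ δ
  hn : n ∈ α
  oa : T ⊔ cj n T = α
  ob : T ⊔ T₂ = β
  m1 : Zv p α ≤ Qv p β
  m2 : Zv p β ≤ Qv p α
  m3 : Zv p β ≤ Qv p δ
  m4 : Zv p δ ≤ Qv p β
  c1 : ¬ Zv p (cj n β) ≤ Qv p β
  c2 : ¬ Zv p δ ≤ Qv p α
  c3 : ∀ a ∈ β, T₂ ⊔ cj a T₂ = β → ¬ Zv p (cj a δ) ≤ Qv p δ

theorem exists_cfg' (h : PH p k P) : ∃ α, Vx P α ∧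
    ((∃ β T, Vx P β ∧ Cfg1 p k α β T) ∨ ∃ β δ T T₂ n, Cfg2 p k α β δ T T₂ n) := by
  obtain ⟨b, w, t, mn, e⟩ := exists_crit h
  rcases b with _ | b
  · exact ⟨w 1, (e.1 1).1, Or.inl ⟨w 0, t 0, (e.1 0).1, (e.1 1).1.ph h, (e.1 0).1.ph h, (e.1 0).2.2, (e.1 0).2.1, e.2⟩⟩
  obtain ⟨w, t, a, h1, h2⟩ := exists_good h mn ⟨w, t, e⟩ (b + 3)
  have ph := fun i => (a i).1.ph h
  have mq : ∀ i j, i < j + (b + 1 + 1) → j < i + (b + 1 + 1) → Zv p (w i) ≤ Qv p (w j) := mn w t a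
  -- the reversed shift
  have rev : ∀ i, i ≤ 1 → ∀ n ∈ w (i + b + 2), t (i + b + 1) ⊔ cj n (t (i + b + 1)) = w (i + b + 2) →
      ¬ Zv p (cj n (w (i + b + 1))) ≤ Qv p (w (i + 1)) := fun i hi n hn ho c => by
    have z1 := (mq i (i + b + 1) (by omega) (by omega)).trans (Qv_le (a _).2.1)
    have z2 := (mq (i + b + 2) (i + 1) (by omega) (by omega)).trans (Qv_le (a i).2.2)
    have z3 := (ph i).cp1 (ph (i + b + 2)) (a (i + b + 1)).2.2 z1 (h1 i (by omega))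
    have := (ph (i + b + 2)).shift (ph i) (a (i + b + 1)).2.2 (a i).2.1 z1 z2 z3
      ((a (i + b + 1)).2.2.cj_of_mem_normalizer (le_nn _ hn)) ((a (i + b + 1)).2.1.cj n) ho (c.trans (Qv_le (a i).2.2))
    refine (h2 (i + b + 1) (by omega)).2 ?_
    have := nn_cj this n⁻¹
    rwa [cj_eq_of_mem (inv_mem hn), cj_sup, ← cj_Zv, cj_inv_cj, cj_nn ((ph _).nZ (inv_mem hn))] at this
  obtain ⟨K, -, l, -⟩ := (ph (b + 3)).exfs
  obtain ⟨n, hn, ho⟩ := l.ex (a (b + 2)).2.2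
  have c1 := rev 1 le_rfl n (by rwa [show 1 + b + 2 = b + 3 by omega])
    (by rwa [show 1 + b + 2 = b + 3 by omega, show 1 + b + 1 = b + 2 by omega])
  rw [show 1 + b + 1 = b + 2 by omega] at c1
  rcases b with _ | b
  · refine ⟨w 3, (a 3).1, Or.inr ⟨w 2, w 1, t 2, t 1, n, ph 3, ph 2, ph 1, (a 2).2.2, (a 2).2.1, (a 1).2.2, (a 1).2.1, hn, ho,
      by rw [sup_comm]; exact (h2 1 (by omega)).1, mq _ _ (by omega) (by omega), mq _ _ (by omega) (by omega),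
      mq _ _ (by omega) (by omega), mq _ _ (by omega) (by omega), c1, h1 1 (by omega), rev 0 (by omega)⟩⟩
  exfalso
  have s1 := (a (b + 3)).2.2.cj_of_mem_normalizer (le_nn _ hn)
  have s2 := (a (b + 3)).2.1.cj n
  have z1 : Zv p (cj n (w (b + 3))) ≤ Qv p (w 3) := by
    have := mn (fun i => if i ≤ b + 4 then w i else cj n (w (b + 3)))
      (fun i => if i ≤ b + 3 then t i else cj n (t (b + 3))) (fun i => ?_) (b + 5) 3 (by omega) (by omega)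
    · simpa using this
    by_cases e1 : i ≤ b + 3
    · simpa [e1, show i ≤ b + 4 by omega] using a i
    by_cases e2 : i = b + 4
    · subst e2; simpa using ⟨(a _).1, s1, s2⟩
    · simpa [e1, show ¬ i ≤ b + 4 by omega] using ⟨(a _).1.cj n, s2⟩
  have z2 := (mq 2 (b + 4) (by omega) (by omega)).trans (Qv_le s1)
  have z3 := ((ph (b + 3)).cj n).cp3 (ph 2) s2 (a 2).2.1 z2 (z1.trans (Qv_le (a 2).2.2)) c1
  have z4 : ⁅Zv p (cj n (w (b + 3))), cj n (t (b + 3))⁆ ≤ Zv p (w 2) := by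
    rw [z3]; exact comm_le_right ((z1.trans (Qv_le (a 2).2.2)).trans ((a 2).2.1.le.trans (ph 2).nZ))
  have z5 : ⁅Zv p (cj n (w (b + 3))), cj n (t (b + 3))⁆ ≤ CC (w (b + 4)) := by
    exact cc_of_gen ((ph (b + 4)).gen (a (b + 3)).2.2 s1 ho
      ((mq 1 (b + 3) (by omega) (by omega)).trans (Qv_le (a _).2.1))
      (by simpa [show 1 + (b + 1 + 1 + 1) = b + 4 by omega] using h1 1 (by omega))) (z4.trans ((mq 2 1 (by omega) (by omega)).trans (ph 1).QZ))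
      ((((ph (b + 3)).cj n).comm_le s2).trans oz_cc)
  have z6 : ⁅Zv p (cj n (w (b + 3))), cj n (t (b + 3))⁆ = ⁅Zv p (w (b + 3)), t (b + 3)⁆ := by
    rw [← cj_cc (cc_symm z5 (inv_mem hn)), cj_commutator, cj_Zv, cj_inv_cj, cj_inv_cj]
  rw [z6] at z4
  exact (ph (b + 3)).comm_not (a (b + 3)).2.1 (cc_of_gen ((ph (b + 3)).gen (a (b + 2)).2.2 (a (b + 3)).2.1
    (h2 (b + 2) (by omega)).1 ((mq 0 (b + 2) (by omega) (by omega)).trans (Qv_le (a _).2.1))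
    (by simpa using h1 0 (by omega))) (z4.trans ((mq 2 0 (by omega) (by omega)).trans (ph 0).QZ))
    (((ph (b + 3)).comm_le (a (b + 3)).2.1).trans oz_cc))

theorem Cfg1.cj (h : Cfg1 p k α β T) (g : G) : Cfg1 p k (cj g α) (cj g β) (cj g T) :=
  ⟨h.pa.cj g, h.pb.cj g, h.sa.cj g, h.sb.cj g, by rw [← cj_Zv, Qv, ← cj_O, cj_le_cj_iff]; exact h.cr⟩
theorem Cfg2.cj (h : Cfg2 p k α β δ T T₂ n) (g : G) :
    Cfg2 p k (cj g α) (cj g β) (cj g δ) (cj g T) (cj g T₂) (g * n * g⁻¹) := by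
  have e : ∀ (a : G) (X : Subgroup G), Transfer.cj (g * a * g⁻¹) (Transfer.cj g X) = Transfer.cj g (Transfer.cj a X) :=
    fun a X => by rw [cj_cj, cj_cj, inv_mul_cancel_right]
  have m : ∀ X Y : Subgroup G, Zv p (Transfer.cj g X) ≤ Qv p (Transfer.cj g Y) ↔ Zv p X ≤ Qv p Y := fun X Y => by
    rw [← cj_Zv, Qv, ← cj_O, cj_le_cj_iff]
  refine ⟨h.pa.cj g, h.pb.cj g, h.pd.cj g, h.sa.cj g, h.sb.cj g, h.sb'.cj g, h.sd.cj g, conj_mem_cj h.hn,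
    by rw [e, ← cj_sup, h.oa], by rw [← cj_sup, h.ob], (m _ _).2 h.m1, (m _ _).2 h.m2, (m _ _).2 h.m3, (m _ _).2 h.m4,
    by rw [e, m]; exact h.c1, by rw [m]; exact h.c2, ?_⟩
  rintro _ ⟨a, ha, rfl⟩ h1
  change _ ⊔ Transfer.cj (g * a * g⁻¹) _ = _ at h1
  change ¬ Zv p (Transfer.cj (g * a * g⁻¹) _) ≤ _
  rw [e, ← cj_sup, cj_inj] at h1
  rw [e, m]; exact h.c3 a ha h1

theorem exists_cfg (h : PH p k P) (hT : IsSyl p T P) :
    (∃ β, Vx P β ∧ Cfg1 p k P β T) ∨ ∃ β δ T₂ n, Cfg2 p k P β δ T T₂ n := by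
  obtain ⟨_, ⟨x, rfl⟩, ⟨β, T', a, b⟩ | ⟨β, δ, T', T₂, n, b⟩⟩ := exists_cfg' h
  · have c := b.cj x⁻¹
    rw [cj_inv_cj] at c
    obtain ⟨g, hg, rfl⟩ := hT.exists_cj_eq c.sa
    have d := c.cj g
    rw [cj_eq_of_mem hg] at d
    exact Or.inl ⟨_, (a.cj _).cj _, d⟩
  · have c := b.cj x⁻¹
    rw [cj_inv_cj] at c
    obtain ⟨g, hg, rfl⟩ := hT.exists_cj_eq c.sa
    have d := c.cj g
    rw [cj_eq_of_mem hg] at d
    exact Or.inr ⟨_, _, _, _, d⟩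

end Cfsg.Agent.PU
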