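/-
Pushing up: critical distance one.
-/
import Cfsg.Agent.Lib.PU.Walk

set_option autoImplicit false
set_option linter.unusedSectionVars false
set_option linter.unusedVariables false
set_option linter.style.haveILetI false
set_option linter.unusedSimpArgs false

namespace Cfsg.Agent.PU

open Subgroup Cfsg.Agent.Transfer Cfsg.Agent.MS
open scoped commutatorElement

universe u
variable {G : Type u} [Group G] [Finite G] {p q : ℕ} [hp : Fact p.Prime]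
variable {A B C D K L N P Q R T T' T₁ T₂ U V W X Y α β γ δ α' : Subgroup G} {a b c g n s u v : G}

theorem comm_prod (h : A ≤ CC B) (h1 : X ≤ A) (h2 : Y ≤ B) : ⁅X ⊔ Y, A ⊔ B⁆ = ⁅X, A⁆ ⊔ ⁅Y, B⁆ := by
  refine le_antisymm ?_ (sup_le (commutator_mono le_sup_left le_sup_left) (commutator_mono le_sup_right le_sup_right))
  have a1 : A ≤ NN (⁅X, A⁆ ⊔ ⁅Y, B⁆ : Subgroup G) :=
    nn_sup (right_nn_comm _ _) (nn_of_cc (h.trans (cc_anti (comm_le h2 le_rfl))))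
  have a2 : B ≤ NN (⁅X, A⁆ ⊔ ⁅Y, B⁆ : Subgroup G) :=
    nn_sup (nn_of_cc ((cc_symm h).trans (cc_anti (comm_le h1 le_rfl)))) (right_nn_comm _ _)
  refine comm_sup_l (h1.trans a1) (h2.trans a2) (comm_sup_r a1 a2 le_sup_left ?_) (comm_sup_r a1 a2 ?_ le_sup_right)
  · rw [comm_eq_bot.2 (h1.trans h)]; exact bot_le
  · rw [comm_eq_bot.2 (h2.trans (cc_symm h))]; exact bot_le
theorem lcs_le (A : Subgroup G) (m : ℕ) : A.lowerCentralSeries m ≤ A := A.lowerCentralSeries_antitone (Nat.zero_le m)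
theorem lcs_sup (h : A ≤ CC B) (m : ℕ) :
    (A ⊔ B).lowerCentralSeries m = A.lowerCentralSeries m ⊔ B.lowerCentralSeries m := by
  induction m with
  | zero => rfl
  | succ m ih => rw [Subgroup.lowerCentralSeries_succ, ih, comm_prod h (lcs_le A m) (lcs_le B m)]; rfl
theorem lcs_mono (h : A ≤ B) (m : ℕ) : A.lowerCentralSeries m ≤ B.lowerCentralSeries m := by
  induction m with
  | zero => exact h
  | succ m ih => exact commutator_mono ih h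
theorem nn_lcs (h : A ≤ NN B) (m : ℕ) : A ≤ NN (B.lowerCentralSeries m) := by
  induction m with
  | zero => exact h
  | succ m ih => exact nn_comm ih h
theorem mul_pow_cent {x y z : G} (h1 : Commute z x) (h2 : Commute z y) (h : y * x = z * (x * y)) (m : ℕ) :
    (x * y) ^ m = z ^ (m.choose 2) * (x ^ m * y ^ m) := by
  have e : ∀ m : ℕ, y ^ m * x = z ^ m * (x * y ^ m) := fun m => by
    induction m with
    | zero => simp
    | succ m ih =>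
      rw [pow_succ', mul_assoc, ih, ← mul_assoc, ← (h2.pow_left m).eq, mul_assoc, ← mul_assoc y, h, pow_succ]
      simp only [mul_assoc]
  induction m with
  | zero => simp
  | succ m ih =>
    rw [pow_succ, ih, Nat.choose_succ_succ' m 1, Nat.choose_one_right, add_comm m, pow_add]
    calc _ = z ^ m.choose 2 * (x ^ m * (y ^ m * x) * y) := by simp only [mul_assoc]
      _ = _ := by
        rw [e, ← mul_assoc (x ^ m), ← ((h1.pow_left m).pow_right m).eq]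
        simp only [mul_assoc, pow_succ]
theorem iter_le (hQ : Q ⊔ D = P) (h1 : P ≤ NN Q) (h2 : P ≤ NN X) (h3 : P ≤ NN N) (hN : N ≤ P) (hX : X ≤ Q)
    (h : ⁅X, D⁆ ≤ N) (m : ℕ) :
    iterCommutator X P m ≤ (Q.lowerCentralSeries m ⊓ X) ⊔ N := by
  induction m with
  | zero => exact le_sup_left.trans' (le_inf hX le_rfl)
  | succ m ih =>
    have a1 : P ≤ NN ((Q.lowerCentralSeries (m + 1) ⊓ X) ⊔ N : Subgroup G) := nn_sup (nn_inf (nn_lcs h1 _) h2) h3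
    have qP : Q ≤ P := hQ ▸ le_sup_left
    refine (commutator_mono ih le_rfl).trans (comm_sup_l ((inf_le_right.trans (hX.trans qP)).trans a1)
      (hN.trans a1) ?_ ((comm_le_left h3).trans le_sup_right))
    · nth_rewrite 1 [← hQ]
      refine comm_sup_r (qP.trans a1) ((hQ ▸ le_sup_right : D ≤ P).trans a1) (le_sup_left.trans' (le_inf
        (commutator_mono inf_le_left le_rfl) ((commutator_mono inf_le_right le_rfl).trans (comm_le_left (qP.trans h2)))))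
        (((commutator_mono inf_le_right le_rfl).trans h).trans le_sup_right)

/-- chief factor of the subgroup `P` -/
def Chief (P U W : Subgroup G) : Prop :=
  W < U ∧ P ≤ NN U ∧ P ≤ NN W ∧ ∀ N, P ≤ NN N → W ≤ N → N ≤ U → N = W ∨ N = U

theorem Chief.comm_le (h : Chief P U W) (hQ : IsPGroup p Q) (h1 : U ≤ Q) (h2 : Q ≤ P) (h3 : P ≤ NN Q) : ⁅U, Q⁆ ≤ W := by
  rcases h.2.2.2 (W ⊔ ⁅U, Q⁆) (nn_sup h.2.2.1 (nn_comm h.2.1 h3)) le_sup_left
    (sup_le h.1.le (comm_le_left (h2.trans h.2.1))) with e | e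
  · exact le_sup_right.trans e.le
  · exact absurd (le_of_le_sup_commutator hQ h1 (h.1.le.trans h1) (h2.trans h.2.2.1) e.ge) h.1.not_ge
theorem Chief.descend (h : Chief P U W) (hQ : IsPGroup p Q) (h1 : U ≤ Q) (h3 : P ≤ NN Q) (hD : Q ⊔ D = P)
    (hN : P ≤ NN N) (h4 : ⁅U, D⁆ ≤ W ⊔ (U ⊓ N)) (h5 : ¬ ⁅U, P⁆ ≤ W) : W ⊔ (U ⊓ N) = U := by
  have qP : Q ≤ P := hD ▸ le_sup_left
  refine (h.2.2.2 _ (nn_sup h.2.2.1 (nn_inf h.2.1 hN)) le_sup_left (sup_le h.1.le inf_le_left)).resolve_left fun e => h5 ?_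
  nth_rewrite 1 [← hD]
  exact comm_sup_r (qP.trans h.2.2.1) ((hD ▸ le_sup_right : D ≤ P).trans h.2.2.1) (h.comm_le hQ h1 qP h3) (h4.trans e.le)

variable {k : Type*} [Field k] [Finite k] [CharP k p]

namespace PH
variable (h : PH p k P)
include h

theorem lcs_triv (hT : IsSyl p T P) {m : ℕ} (h1 : T.lowerCentralSeries m ≤ (Qv p P).lowerCentralSeries m) :
    T.lowerCentralSeries m = ⊥ :=
  h.nz hT (lcs_le T m) (le_antisymm h1 (lcs_mono (Qv_le hT) m) ▸ nn_lcs (nn_Qv (le_nn P)) m) (nn_lcs le_rfl m)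
theorem pow_triv (hT : IsSyl p T P) {m : ℕ} (h1 : ∀ x ∈ T, ∃ d ∈ Qv p P, x ^ m = d ^ m) : ∀ x ∈ T, x ^ m = 1 := by
  have nn : ∀ X : Subgroup G, NN X ≤ NN (closure {y | ∃ x ∈ X, y = x ^ m}) := fun X g hg =>
    mem_normalizer_of_cj_le (cj_le_iff_le_cj_inv.2 ((closure_le _).2 (by
      rintro _ ⟨x, hx, rfl⟩
      refine mem_cj.2 (subset_closure ⟨g * x * g⁻¹, conj_mem_of_mem_normalizer hg hx, ?_⟩)
      rw [inv_inv, conj_pow])))
  have e : closure {y | ∃ x ∈ T, y = x ^ m} = closure {y | ∃ x ∈ Qv p P, y = x ^ m} := by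
    congr 1; ext y
    exact ⟨fun ⟨x, hx, e⟩ => (h1 x hx).imp fun d hd => ⟨hd.1, e.trans hd.2⟩, fun ⟨x, hx, e⟩ => ⟨x, Qv_le hT hx, e⟩⟩
  have := h.nz hT (R := closure {y | ∃ x ∈ T, y = x ^ m}) ((closure_le _).2 (by rintro _ ⟨x, hx, rfl⟩; exact pow_mem hx m))
    (e ▸ (nn_Qv (le_nn P)).trans (nn _)) (nn T)
  exact fun x hx => mem_bot.1 (this.le (subset_closure ⟨x, hx, rfl⟩))
theorem exists_D (hT : IsSyl p T P) (hA : Qv p P ⊔ A = T) (h1 : N ≤ P) (h2 : P ≤ NN N) (h3 : X ≤ P) (h4 : P ≤ NN X)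
    (h5 : ⁅X, A⁆ ≤ N) : ∃ D, P ≤ NN D ∧ Qv p P ⊔ D = P ∧ res p P ≤ D ∧ ⁅X, D⁆ ≤ N := by
  obtain ⟨Y, _, _, f, q⟩ := exists_qm h1 h2
  have aP : A ≤ P := (hA ▸ le_sup_right : A ≤ T).trans hT.le
  have n1 : P ≤ NN (pre f (CC (im f X))) := q.nn_pre le_rfl (nn_cc (im_nn le_rfl h3 h4))
  have a1 : A ≤ pre f (CC (im f X)) := (le_pre_iff aP).2 (cc_symm ((q.cc_iff h3 aP).2 h5))
  have e : Qv p P ⊔ pre f (CC (im f X)) = P := by
    obtain ⟨K, -, l, -⟩ := h.exfs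
    obtain ⟨g, hg, e⟩ := l.ex hT
    have t1 : T ≤ Qv p P ⊔ pre f (CC (im f X)) := hA.ge.trans (sup_le_sup_left a1 _)
    exact le_antisymm (sup_le (O_le _ _) (pre_le _ _)) (nn_of_gen e t1 (cj_le t1 (nn_sup l.nQ n1 hg)))
  refine ⟨_, n1, e, ?_, (q.cc_iff h3 (pre_le _ _)).1 (by rw [q.im_pre]; exact cc_symm le_rfl)⟩
  obtain ⟨m, hm⟩ := (IsPGroup.iff_card.1 (O_pg (p := p) P))
  obtain ⟨j, -, hj⟩ := (Nat.dvd_prime_pow hp.out).1 (hm ▸ relIndex_dvd (pre f (CC (im f X))) (Qv p P))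
  refine res_le_of_relIndex n1 (n := j) ?_
  rw [← hj, ← relIndex_sup_l ((O_le _ _).trans n1), sup_comm, e]
/-- a normal subgroup whose elements of order prime to `p` centralize the core -/
theorem le_Q (h1 : N ≤ P) (h2 : P ≤ NN N) (h3 : ∀ r, r.Prime → r ≠ p → ∀ S ≤ N, IsPGroup r S → S ≤ CC (Qv p P)) :
    N ≤ Qv p P := by
  refine le_O h1 h2 fun r hr hd => by_contra fun e => ?_
  haveI := Fact.mk hr
  obtain ⟨S, hS, hc⟩ := exists_card_eq hr hd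
  have h4 := h.ch.trans' (le_inf (hS.trans h1) (h3 r hr e S hS (pg_of_card hc)))
  have h5 := pg_coprime_pg (pg_of_card hc) ((O_pg P).to_le h4) e
  rw [hc, Nat.coprime_self] at h5
  exact hr.one_lt.ne' h5
theorem le_res {r : ℕ} {S : Subgroup G} (hr : r.Prime) (e : r ≠ p) (h1 : S ≤ P) (h2 : IsPGroup r S) : S ≤ res p P := by
  haveI := Fact.mk hr
  intro x hx
  obtain ⟨m, hm⟩ := IsPGroup.iff_card.1 h2
  exact mem_res (h1 hx) (Nat.Coprime.coprime_dvd_left (hm ▸ orderOf_dvd hx)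
    (Nat.Coprime.pow_left _ ((Nat.coprime_primes hr hp.out).2 e)))
theorem chief : Chief P (Zv p P) (Zv p P ⊓ CC P) := by
  obtain ⟨K, -, l, f⟩ := h.exfs
  obtain ⟨T, hT⟩ := exists_isSyl p P
  refine ⟨lt_of_le_of_ne inf_le_left fun e => f.ne hT (inf_le_left.trans (e.ge.trans inf_le_right)), h.nZ,
    nn_inf h.nZ (nn_cc (le_nn P)), fun N a b c => (f.irr l.toLS0 h.nZ c b a).imp
      (fun e => le_antisymm (le_inf c e) b) (le_antisymm c)⟩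
theorem not_cent : ¬ ⁅Zv p P, P⁆ ≤ Zv p P ⊓ CC P := fun e => by
  obtain ⟨T, hT⟩ := exists_isSyl p P
  exact h.comm_not hT ((commutator_mono le_rfl hT.le).trans (e.trans inf_le_right))
theorem rho (hK : L2 p k P K) (h4 : ⁅K, P⁆ ≤ Qv p P) (hT : IsSyl p T P) (hT' : IsSyl p T' P) (ho : T ⊔ T' = P) :
    ∃ (ρ : P →* SL2 k) (ψ : G → Fin 2 → k), Rho P (Qv p P) T T' ρ ∧ Sec P (Zv p P) (Zv p P ⊓ CC P) ρ ψ :=
  hK.rho le_rfl hK.ls.QK hK.ls.nQ h4 hT hT' ho inf_le_left h.nZ h.chief.2.2.1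
    (by rw [ab_iff_der.1 h.ab]; exact bot_le) (by rw [comm_eq_bot.2 h.QZ]; exact bot_le)
    (by rw [comm_eq_bot.2 ((h.comm_le hT).trans oz_cc)]; exact bot_le)
    (fun X a b c => (h.chief.2.2.2 X c a b).imp Eq.le Eq.ge) h.not_cent

end PH

namespace Cfg1
variable (h : Cfg1 p k α β T)
include h

theorem za : Zv p α ≤ T := h.pa.ZT h.sa
theorem zb : Zv p β ≤ T := h.pb.ZT h.sb
theorem symm : Cfg1 p k β α T := ⟨h.pb, h.pa, h.sb, h.sa, h.pb.cp1 h.pa h.sa h.zb h.cr⟩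
theorem t1 : Qv p α ⊔ Zv p β = T := h.pa.cp2 h.pb h.sa h.sb h.zb h.za h.symm.cr
theorem r1 : ⁅Zv p α, T⁆ = ⁅Zv p α, Zv p β⁆ := h.pa.cp3 h.pb h.sa h.sb h.zb h.za h.symm.cr
theorem r2 : ⁅Zv p β, T⁆ = ⁅Zv p α, T⁆ := h.pa.cp4 h.pb h.sa h.sb h.zb h.za h.symm.cr
theorem q1 : Zv p α ⊔ (Qv p α ⊓ Qv p β) = Qv p α := by
  rw [inf_comm, ← dedekind h.pa.ZQ ((Qv_le h.sb).trans (h.sa.le.trans h.pa.nZ)), sup_comm, h.symm.t1,
    inf_eq_right.2 (Qv_le h.sa)]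
theorem tD : (Zv p α ⊔ Zv p β) ⊔ (Qv p α ⊓ Qv p β) = T := by rw [sup_right_comm, h.q1, h.t1]
theorem cD : Zv p α ⊔ Zv p β ≤ CC (Qv p α ⊓ Qv p β : Subgroup G) :=
  cc_symm (le_cc_sup (inf_le_left.trans h.pa.QZ) (inf_le_right.trans h.pb.QZ))
theorem cL : ⁅Zv p α ⊔ Zv p β, T⁆ ≤ ⁅Zv p α, T⁆ :=
  comm_sup_l (left_nn_comm _ _) (h.zb.trans (right_nn_comm _ _)) le_rfl h.r2.le
theorem cl2 : T.lowerCentralSeries 2 = ⊥ := by
  refine h.pa.lcs_triv h.sa ?_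
  nth_rewrite 1 [← h.tD]
  rw [lcs_sup h.cD]
  refine sup_le ?_ (lcs_mono inf_le_left 2)
  have : ⁅⁅Zv p α ⊔ Zv p β, T⁆, T⁆ = ⊥ := comm_eq_bot.2 ((h.cL.trans (h.pa.comm_le h.sa)).trans oz_cc)
  exact (commutator_mono (commutator_mono le_rfl (sup_le h.za h.zb)) (sup_le h.za h.zb)).trans (this.le.trans bot_le)
theorem cl1 : T.lowerCentralSeries 1 ≠ ⊥ := fun e =>
  h.pa.comm_not h.sa (((commutator_mono h.za le_rfl).trans e.le).trans bot_le)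
theorem pw {m : ℕ} (h1 : p ∣ m) (h2 : p ∣ m.choose 2) : ∀ x ∈ T, x ^ m = 1 := by
  refine h.pa.pow_triv h.sa fun x hx => ?_
  obtain ⟨y, hy, d, hd, rfl⟩ := (mem_sup_r (nn_of_cc h.cD)).1 (h.tD.ge hx)
  obtain ⟨a, ha, b, hb, rfl⟩ := (mem_sup_l (h.zb.trans (h.sa.le.trans h.pa.nZ))).1 hy
  refine ⟨d, hd.1, ?_⟩
  have c : ⁅b, a⁆ ∈ oz p T := h.pb.comm_le h.sb (comm_mem hb (h.za ha))
  obtain ⟨i, rfl⟩ := h1
  obtain ⟨j, hj⟩ := h2
  rw [(show Commute (a * b) d from (h.cD hy d hd).symm).mul_pow, mul_pow_cent (z := ⁅b, a⁆) (oz_cc c a (h.za ha)).symm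
    (oz_cc c b (h.zb hb)).symm (by simp [commutatorElement_def, mul_assoc]), hj, pow_mul, pow_mul, pow_mul,
    (mem_oz.1 c).2, h.pa.elem.2 a ha, h.pb.elem.2 b hb]
  simp
theorem qz : ⁅Qv p α, Zv p β⁆ ≤ Zv p α := by
  nth_rewrite 1 [← h.q1]
  rw [commutator_sup_left_of_le_centralizer (inf_le_right.trans h.pb.QZ) (inf_le_left.trans (nn_of_cc h.pa.QZ))]
  exact comm_le_left (h.zb.trans (h.sa.le.trans h.pa.nZ))
theorem exD : ∃ D, α ≤ NN D ∧ Qv p α ⊔ D = α ∧ res p α ≤ D ∧ ⁅Qv p α, D⁆ ≤ Zv p α :=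
  h.pa.exists_D h.sa h.t1 (h.za.trans h.sa.le) h.pa.nZ (O_le _ _) (nn_Qv (le_nn α)) h.qz
theorem ccZ : α ⊓ CC (Zv p α) ≤ Qv p α := by
  obtain ⟨D, -, -, h1, h2⟩ := h.exD
  refine h.pa.le_Q inf_le_left (nn_inf (le_nn α) (nn_cc h.pa.nZ)) fun r hr e S a b => ?_
  haveI := Fact.mk hr
  exact cop_stable (pg_coprime_pg b (elem_isPGroup h.pa.elem) e)
    ((commutator_mono le_rfl ((h.pa.le_res hr e (a.trans inf_le_left) b).trans h1)).trans h2) (a.trans inf_le_right)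
theorem cK (hK : L2 p k α K) : ⁅K, α⁆ ≤ Qv p α :=
  h.ccZ.trans' (le_inf (comm_le hK.ls.KP le_rfl) (h.pa.fs hK).cK)
theorem iter : iterCommutator (Qv p α) α 2 ≤ Zv p α := by
  obtain ⟨D, -, h0, -, h2⟩ := h.exD
  refine (iter_le h0 (nn_Qv (le_nn α)) (nn_Qv (le_nn α)) h.pa.nZ (h.za.trans h.sa.le) le_rfl h2 2).trans (sup_le ?_ le_rfl)
  exact (inf_le_left.trans ((lcs_mono (Qv_le h.sa) 2).trans h.cl2.le)).trans bot_le

end Cfg1

end Cfsg.Agent.PU
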