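/-
Pushing up: critical distance two.
-/
import Cfsg.Agent.Lib.PU.B1

set_option autoImplicit false
set_option linter.unusedSectionVars false
set_option linter.unusedVariables false
set_option linter.style.haveILetI false
set_option linter.unusedSimpArgs false

namespace Cfsg.Agent.PU

open Subgroup Cfsg.Agent.Transfer Cfsg.Agent.MS
open scoped commutatorElement

universe u
variable {G : Type u} [Group G] [Finite G] {p q : ℕ} [hp : Fact p.Prime]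
variable {A B C D K L N P Q R T T' T₁ T₂ U V W X Y α β γ δ α' : Subgroup G} {a b c g n s u v : G}

theorem exists_syl_im {Y : Type u} [Group Y] [Finite Y] {f : P →* Y} (r : QM N P f) {S : Subgroup Y}
    (hS : IsSyl p S ⊤) : ∃ T, IsSyl p T P ∧ im f T = S := by
  obtain ⟨T, hT⟩ := exists_isSyl p P
  obtain ⟨x, -, rfl⟩ := hS.exists_cj_eq (r.im_top ▸ im_syl hT le_rfl)
  obtain ⟨g, rfl⟩ := r.surj x
  exact ⟨_, hT.cj_of_mem_normalizer (le_nn P g.2), im_cj g.2 hT.le⟩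

theorem LS0.im (l : LS0 p q P Q K) {Y : Type u} [Group Y] [Finite Y] {f : P →* Y} (r : QM N P f) (h : N ≤ Q) :
    LS0 p q ⊤ (im f Q) (im f K) := by
  have top : ∀ {T T'}, IsSyl p T P → IsSyl p T' P → MS.im f T ⊔ MS.im f T' = ⊤ → T ⊔ T' = P := fun hT hT' e => by
    rw [← r.pre_im' (sup_le hT.le hT'.le) ((h.trans (l.QT hT)).trans le_sup_left), im_sup hT.le hT'.le, e, r.pre_top]
  refine ⟨im_mono l.QK, le_top, r.im_top ▸ im_nn le_rfl l.QP l.nQ, r.im_top ▸ im_nn le_rfl l.KP l.nK, im_pg l.pg,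
    fun hS => ?_, fun hS => ?_, fun hS hS' e hs0 hs' => ?_, fun hS => ?_, fun hS hS' e hg0 => ?_⟩
  · obtain ⟨T, hT, rfl⟩ := exists_syl_im r hS
    rw [← r.im_inf hT.le l.KP (h.trans (l.QT hT)), l.inf hT]
  · obtain ⟨T, hT, rfl⟩ := exists_syl_im r hS
    rw [r.relIndex_im l.QP hT.le h, l.card hT]
  · obtain ⟨T, hT, rfl⟩ := exists_syl_im r hS
    obtain ⟨T', hT', rfl⟩ := exists_syl_im r hS'
    obtain ⟨s, hs, rfl⟩ := hs0
    rw [← im_zpowers s.2, ← im_sup (zpowers_le.2 s.2) hT'.le,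
      l.gen (s := s) hT hT' (top hT hT' e) hs fun e => hs' (mem_im_of e _), r.im_top]
  · obtain ⟨T, hT, rfl⟩ := exists_syl_im r hS
    obtain ⟨g, hg, e⟩ := l.ex hT
    exact ⟨f ⟨g, hg⟩, mem_top _, by rw [← im_cj hg hT.le, ← im_sup hT.le (l.cj hT hg).le, e, r.im_top]⟩
  · obtain ⟨T, hT, rfl⟩ := exists_syl_im r hS
    obtain ⟨T', hT', rfl⟩ := exists_syl_im r hS'
    obtain ⟨g, hg, rfl⟩ := hg0
    rw [← im_cj g.2 hT.le, ← im_sup (l.cj hT g.2).le hT'.le, l.oppK (g := g) hT hT' (top hT hT' e) hg, r.im_top]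

theorem pow_mem_der {m : ℕ} : ∃ S, (∀ A ≤ L, (∀ x ∈ A, x ^ m = 1) → A ≤ S) ∧ ∀ x ∈ S, x ^ m ∈ ⁅L, L⁆ := by
  obtain ⟨Y, _, _, f, r⟩ := exists_qm (der_le L) (left_nn_comm L L)
  have hc : ∀ a b : Y, a * b = b * a := fun a b => by
    have := (r.cc_iff le_rfl le_rfl).2 le_rfl
    rw [r.im_top] at this
    exact (this (mem_top b) a (mem_top a))
  letI : CommGroup Y := { mul_comm := hc }
  refine ⟨pre f (powMonoidHom m).ker, fun A hA h => (le_pre_iff hA).2 ?_, fun x hx => ?_⟩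
  · rintro _ ⟨x, hx, rfl⟩
    change f x ^ m = 1
    rw [← map_pow, show x ^ m = 1 from Subtype.ext (h x hx), map_one]
  · obtain ⟨h1, h2⟩ := mem_pre.1 hx
    exact (r.eq_one_iff (pow_mem h1 m)).1 ((map_pow f ⟨x, h1⟩ m).trans (MonoidHom.mem_ker.1 h2))

theorem engel {x y : G} (h1 : (x * y) ^ 3 = 1) (h2 : (x * y⁻¹) ^ 3 = 1) (h3 : y ^ 3 = 1) :
    y⁻¹ * x * y * x = x * (y⁻¹ * x * y) := by
  have a1 : x * y * x = y⁻¹ * x⁻¹ * y⁻¹ := by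
    rw [← one_mul (y⁻¹ * x⁻¹ * y⁻¹), ← h1]; simp only [pow_succ, pow_zero]; group
  have a2 : x * y⁻¹ * x = y * x⁻¹ * y := by
    rw [← one_mul (y * x⁻¹ * y), ← h2]; simp only [pow_succ, pow_zero]; group
  have a3 : y * y = y⁻¹ := eq_inv_of_mul_eq_one_left (by rw [← h3]; simp only [pow_succ, pow_zero]; group)
  calc _ = y⁻¹ * (x * y * x) := by group
    _ = (y * y)⁻¹ * x⁻¹ * y⁻¹ := by rw [a1]; group
    _ = y * x⁻¹ * (y * y) := by rw [a3, inv_inv]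
    _ = (x * y⁻¹ * x) * y := by rw [a2]; group
    _ = _ := by group

variable {k : Type*} [Field k] [Finite k] [CharP k p]

theorem Sec.zz_mem {ρ : P →* SL2 k} {ψ : G → Fin 2 → k} (s : Sec P V N ρ ψ) {z : P} (hz : ρ z = zz) (hv : v ∈ V) :
    v * (z * v * (z : G)⁻¹) ∈ N := by
  refine (s.ker _ (mul_mem hv (s.cm z hv))).1 ?_
  rw [s.add _ hv _ (s.cm z hv), s.act z v hv, hz]
  exact add_eq_zero_iff_eq_neg.2 (neg_eq_iff_eq_neg.1 (zz_mv _).symm)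

theorem odd_inf (h2 : p ≠ 2) (hV : IsElementaryAbelian p V) {ρ : P →* SL2 k} (hρ : Function.Surjective ρ)
    (hk : ∀ e : P, ρ e = 1 → (e : G) ∈ CC V) {ψ : G → Fin 2 → k} (s : Sec P V (V ⊓ CC P) ρ ψ) :
    ⁅V, P⁆ ⊓ CC P = ⊥ := by
  obtain ⟨W, _, _, θ, r⟩ := exists_sec (N := ⊥) hρ bot_le s.nn nn_bot (ab_iff_der.1 hV.1).le
    fun e he v hv => cm_one (hk e he v hv).symm
  obtain ⟨z, hz⟩ := hρ zz
  obtain ⟨m, hm⟩ := exists_inv (W := W) h2 fun w => by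
    obtain ⟨u, hu, rfl⟩ := r.surj w
    rw [← r.pow hu, hV.2 u hu, r.one]
  let Y : AddSubgroup W := ⟨⟨⟨{w | (zz : SL2 k) • w = -w}, fun h h' => by
    rw [Set.mem_ofPred_eq, smul_add, h, h', neg_add]⟩, by simp⟩, fun h => by rw [Set.mem_ofPred_eq, smul_neg, h]⟩
  have h1 : ⁅P, V⁆ ≤ r.pull Y := commutator_le.2 fun e he v hv => ⟨r.comm_mem ⟨e, he⟩ hv, by
    have h3 := s.zz_mem hz hv
    have h4 := (r.fix_iff ⟨e, he⟩ h3.1).2 (cm_one (h3.2 e he))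
    rw [r.add _ hv _ (r.cm z hv), r.act z v hv, hz, smul_add, ← mul_smul, ← zz_comm, mul_smul] at h4
    change (zz : SL2 k) • θ ⁅((⟨e, he⟩ : P) : G), v⁆ = -θ ⁅((⟨e, he⟩ : P) : G), v⁆
    rw [r.comm ⟨e, he⟩ hv, smul_sub, eq_sub_of_add_eq' h4]; abel⟩
  rw [commutator_comm]
  refine eq_bot_iff.2 fun x hx => ?_
  obtain ⟨h3, h4⟩ := h1 hx.1
  change (zz : SL2 k) • θ x = -θ x at h4
  rw [← hz, (r.fix_iff z h3).2 (cm_one (hx.2 z z.2)), eq_neg_iff_add_eq_zero] at h4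
  exact (r.ker x h3).1 (by rw [← hm (θ x), h4, smul_zero])

namespace Cfg2
variable (h : Cfg2 p k α β δ T T₂ n)
include h

theorem pg : PH p k (Transfer.cj n β) := h.pb.cj n
theorem sa' : IsSyl p (Transfer.cj n T) α := h.sa.cj_of_mem_normalizer (le_nn α h.hn)
theorem sg : IsSyl p (Transfer.cj n T) (Transfer.cj n β) := h.sb.cj n
theorem g1 : Zv p α ≤ Qv p (Transfer.cj n β) := by
  rw [← cj_nn (h.pa.nZ h.hn), Qv, ← cj_O]; exact cj_mono n h.m1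
theorem g2 : Zv p (Transfer.cj n β) ≤ Qv p α := by
  rw [← cj_Zv]; exact cj_le h.m2 (nn_Qv (le_nn α) h.hn)
theorem z1 : Zv p β ≤ Transfer.cj n T := h.m2.trans (Qv_le h.sa')
theorem zm : Zv p (Transfer.cj n β) ≤ T := h.g2.trans (Qv_le h.sa)
theorem z0 : Zv p α ≤ T₂ := h.m1.trans (Qv_le h.sb')
theorem z2 : Zv p δ ≤ T := h.m4.trans (Qv_le h.sb)
theorem a1 : Qv p (Transfer.cj n β) ⊔ Zv p β = Transfer.cj n T := h.pg.cp2 h.pb h.sg h.sb h.z1 h.zm h.c1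
theorem a2 : Qv p β ⊔ Zv p (Transfer.cj n β) = T :=
  h.pb.cp2 h.pg h.sb h.sg h.zm h.z1 (h.pg.cp1 h.pb h.sb h.zm h.c1)
theorem a3 : ⁅Zv p β, T⁆ = ⁅Zv p (Transfer.cj n β), Transfer.cj n T⁆ := h.pg.cp4 h.pb h.sg h.sb h.z1 h.zm h.c1
theorem a4 : ⁅Zv p β, T⁆ ≤ Zv p α ⊓ CC α :=
  le_inf ((h.pb.comm_le h.sb).trans (oz_le_Zv h.sa)) (cc_of_gen h.oa ((h.pb.comm_le h.sb).trans oz_cc)
    (h.a3.le.trans ((h.pg.comm_le h.sg).trans oz_cc)))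
theorem b1 : Qv p δ ⊔ Zv p α = T₂ := h.pd.cp2 h.pa h.sd h.sa h.z0 h.z2 h.c2
theorem b2 : Qv p α ⊔ Zv p δ = T := h.pa.cp2 h.pd h.sa h.sd h.z2 h.z0 (h.pd.cp1 h.pa h.sa h.z2 h.c2)
theorem b3 : ⁅Zv p α, T⁆ = ⁅Zv p δ, T₂⁆ := h.pd.cp4 h.pa h.sd h.sa h.z0 h.z2 h.c2
theorem b4 : ⁅Zv p α, T⁆ ≤ CC β :=
  cc_of_gen h.ob ((h.pa.comm_le h.sa).trans oz_cc) (h.b3.le.trans ((h.pd.comm_le h.sd).trans oz_cc))
theorem b5 : ⁅Qv p β, Zv p δ⁆ ≤ ⁅Zv p α, T⁆ := by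
  rw [h.b3, commutator_comm]; exact commutator_mono le_rfl (Qv_le h.sb')
theorem b6 : ⁅Qv p β, Zv p δ⁆ ≤ Zv p α := h.b5.trans (comm_le_left (h.sa.le.trans h.pa.nZ))

omit h in
abbrev Cv (p : ℕ) (α β : Subgroup G) (n : G) : Subgroup G := Qv p α ⊓ Qv p β ⊓ Qv p (Transfer.cj n β)

theorem zC : Zv p α ≤ Cv p α β n := le_inf (le_inf h.pa.ZQ h.m1) h.g1
theorem CQ : Cv p α β n ≤ Qv p α := inf_le_left.trans inf_le_left
theorem Cα : Cv p α β n ≤ α := h.CQ.trans (O_le _ _)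
theorem q0 : Zv p (Transfer.cj n β) ⊔ (Qv p α ⊓ Qv p β) = Qv p α := by
  rw [inf_comm, ← dedekind' h.g2 (h.zm.trans (h.sb.le.trans (nn_Qv (le_nn β)))), sup_comm, h.a2,
    inf_eq_right.2 (Qv_le h.sa)]
theorem q1 : Zv p β ⊔ Cv p α β n = Qv p α ⊓ Qv p β := by
  rw [Cv, inf_comm, ← dedekind' (le_inf h.m2 h.pb.ZQ) (h.z1.trans (h.sg.le.trans (nn_Qv (le_nn _)))), sup_comm, h.a1,
    inf_eq_right.2 (inf_le_left.trans (Qv_le h.sa'))]
theorem nC : α ≤ NN (Cv p α β n) := by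
  have e : Qv p α ≤ NN (Cv p α β n) := nn_inf (nn_inf (le_nn _) (nn_Qv (nn_of_le ((Qv_le h.sa).trans h.sb.le))))
    (nn_Qv (nn_of_le ((Qv_le h.sa').trans h.sg.le)))
  refine nn_of_gen h.oa (nn_of_gen h.b2 e (nn_of_comm_le' (((commutator_mono (inf_le_left.trans inf_le_right)
    le_rfl).trans h.b6).trans h.zC))) ?_
  rw [← h.b2, cj_sup, cj_nn (nn_Qv (le_nn α) h.hn)]
  refine sup_le e (nn_of_comm_le' ((commutator_mono inf_le_right le_rfl).trans (le_trans ?_ h.zC)))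
  rw [Qv, ← cj_O, ← cj_commutator]
  exact cj_le h.b6 (h.pa.nZ h.hn)
theorem exD : ∃ D, α ≤ NN D ∧ Qv p α ⊔ D = α ∧ res p α ≤ D ∧ ⁅Cv p α β n, D⁆ ≤ Zv p α :=
  h.pa.exists_D h.sa h.b2 (h.pa.ZQ.trans (O_le _ _)) h.pa.nZ h.Cα h.nC
    ((commutator_mono (inf_le_left.trans inf_le_right) le_rfl).trans h.b6)
theorem tt : ⁅T, T⁆ ≤ Qv p α ⊓ Qv p β := by
  obtain ⟨K, -, l, -⟩ := h.pa.exfs
  obtain ⟨K', -, l', -⟩ := h.pb.exfs
  exact le_inf (l.ab h.sa) (l'.ab h.sb)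
theorem qq : ⁅Qv p α, Qv p α⁆ ≤ Cv p α β n := by
  obtain ⟨K', -, l', -⟩ := h.pg.exfs
  exact le_inf ((der_mono (Qv_le h.sa)).trans h.tt) ((der_mono (Qv_le h.sa')).trans (l'.ab h.sg))
theorem q01 : ⁅Qv p α ⊓ Qv p β, T⁆ ≤ Cv p α β n := by
  rw [← h.q1]
  exact comm_sup_l ((h.m2.trans (O_le _ _)).trans h.nC) (le_nn _) (h.a4.trans (inf_le_left.trans h.zC))
    (comm_le_left (h.sa.le.trans h.nC))
theorem quad : ⁅⁅Qv p α, T⁆, T⁆ ≤ Cv p α β n :=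
  (commutator_mono ((commutator_mono (Qv_le h.sa) le_rfl).trans h.tt) le_rfl).trans h.q01
theorem not_cent' : ¬ ⁅Zv p β, α⁆ ≤ Cv p α β n := fun e => h.c1 (by
  rw [← cj_Zv]
  refine (cj_le le_sup_left (nn_of_comm_le' (K := Zv p β ⊔ Cv p α β n) ?_ h.hn)).trans (h.q1.le.trans inf_le_right)
  have n1 : Zv p β ⊔ Cv p α β n ≤ NN (Cv p α β n) := (sup_le (h.m2.trans (O_le _ _)) h.Cα).trans h.nC
  exact (comm_sup_l (le_sup_left.trans n1) (le_nn _) e (comm_le_left h.nC)).trans le_sup_right)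
theorem not_cent : ¬ ⁅Qv p α, α⁆ ≤ Cv p α β n := fun e => h.not_cent' ((commutator_mono h.m2 le_rfl).trans e)
theorem idx : (Qv p β).relIndex (Qv p α) ≤ #k := by
  obtain ⟨K', -, l', -⟩ := h.pb.exfs
  exact (relIndex_mono (Qv_le h.sa)).trans (l'.card h.sb).le
theorem top (hK : L2 p k α K) : Chief α (Qv p α) (Cv p α β n) ∧ ⁅Qv p α, ⁅K, α⁆⁆ ≤ Cv p α β n := by
  obtain ⟨Y, _, _, f, r⟩ := exists_qm h.Cα h.nC
  have l := hK.ls.toLS0.im r h.CQ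
  have qa : Qv p α ≤ α := O_le _ _
  have sy : IsSyl p (im f T) ⊤ := r.im_top ▸ im_syl h.sa le_rfl
  have c0 := (r.cc_iff qa qa).2 h.qq
  have c1 : im f (Qv p α ⊓ Qv p β) ≤ CC (im f T) := (r.cc_iff (inf_le_left.trans qa) h.sa.le).2 h.q01
  have f1 := l.ff0 (ab_iff.2 c0) l.pg l.nQ c0 sy (by
      rw [← im_comm qa h.sa.le]; exact (r.cc_iff (comm_le qa h.sa.le) h.sa.le).2 h.quad)
    (by
      refine (relIndex_le_of_le_left c1 (relIndex_pos _ _).ne').trans ?_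
      rw [r.relIndex_im (inf_le_left.trans qa) qa inf_le_left, inf_relIndex_left]; exact h.idx)
    (fun e => h.not_cent' ((r.cc_iff (h.m2.trans qa) le_rfl).1 (r.im_top.symm ▸ e.trans'
      (le_inf (im_mono h.m2) ((im_mono (le_inf h.m2 h.pb.ZQ)).trans c1)))))
  have z : im f (Qv p α) ⊓ CC (⊤ : Subgroup Y) = ⊥ := by
    have e1 := card_inf_mul_relIndex (CC (im f T)) (im f (Qv p α))
    have e2 := card_inf_mul_relIndex (CC (⊤ : Subgroup Y)) (im f (Qv p α) ⊓ CC (im f T))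
    rw [f1.idx sy, r.card_im qa, inf_comm] at e1
    rw [f1.idx0 sy, ← inf_assoc, inf_eq_left.2 (inf_le_left.trans (cc_anti le_top)), inf_comm] at e2
    have e3 : (Cv p α β n).relIndex (Qv p α) ≤ #k * #k := by
      refine relIndex_inf_le.trans (Nat.mul_le_mul (by rw [inf_relIndex_left]; exact h.idx) ?_)
      rw [← cj_nn (nn_Qv (p := p) (le_nn α) h.hn), Qv, Qv, ← cj_O, relIndex_cj]; exact h.idx
    rw [← e1, ← e2, mul_assoc] at e3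
    exact card_eq_one.1 (le_antisymm (Nat.le_of_mul_le_mul_right (by rwa [one_mul])
      (Nat.mul_pos Nat.card_pos Nat.card_pos)) Nat.card_pos)
  refine ⟨⟨lt_of_le_of_ne h.CQ fun e => h.not_cent ((comm_le_left (nn_Qv (le_nn α))).trans e.ge), nn_Qv (le_nn α), h.nC,
    fun N a b c => ?_⟩, ?_⟩
  · refine (f1.irr l l.nQ (im_mono c) (z.le.trans bot_le) (r.im_top ▸ im_nn le_rfl (c.trans qa) a)).imp
      (fun e => le_antisymm ((r.im_eq_bot (c.trans qa)).1 (le_bot_iff.1 (z.le.trans' (le_inf (im_mono c) e)))) b)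
      fun e => le_antisymm c (((r.im_le_iff qa (c.trans qa)).1 e).trans (sup_le b le_rfl))
  · refine (r.cc_iff qa (comm_le hK.ls.KP le_rfl)).1 (cc_symm ?_)
    rw [im_comm hK.ls.KP le_rfl, r.im_top]; exact f1.cK
theorem cK (hK : L2 p k α K) : ⁅K, α⁆ ≤ Qv p α := by
  obtain ⟨D, -, -, h1, h2⟩ := h.exD
  refine h.pa.le_Q (comm_le hK.ls.KP le_rfl) (right_nn_comm _ _) fun r hr e S a b => ?_
  haveI := Fact.mk hr
  refine cop_stable (pg_coprime_pg b ((O_pg α).to_le h.CQ) e) ((commutator_mono le_rfl a).trans (h.top hK).2) ?_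
  exact cop_stable (pg_coprime_pg b (elem_isPGroup h.pa.elem) e) ((commutator_mono le_rfl
    ((h.pa.le_res hr e (a.trans (comm_le hK.ls.KP le_rfl)) b).trans h1)).trans h2) (a.trans (h.pa.fs hK).cK)
theorem key (ha : a ∈ Zv p (Transfer.cj n β)) (ha' : a ∉ Qv p β) (hc : c ∈ Zv p δ) (hc' : c ∉ Qv p α) :
    ⁅⁅a, c⁆, c⁆ ≠ 1 := fun e => by
  obtain ⟨K, hK⟩ := h.pb.ex
  obtain ⟨K', -, -, f⟩ := h.pd.exfs
  have hβ := h.sb.le (h.zm ha)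
  have h1 := h.c3 a hβ (hK.opp h.sb h.sb' h.ob (h.zm ha) ha')
  have h2 : Zv p (Transfer.cj a δ) ≤ T₂ := by
    rw [← cj_Zv]; exact (cj_le h.m4 (nn_Qv (le_nn β) hβ)).trans (Qv_le h.sb')
  have h3 := (h.pd.cj a).cA (h.sd.cj a) (h.m4.trans (Qv_le (h.sb'.cj_of_mem_normalizer (le_nn β hβ))))
    ((h.pd.cj a).cp1 h.pd h.sd h2 h1)
  have h4 : c ∉ CC T₂ := fun e => hc' (h.pa.ccQ h.sa ⟨h.z2 hc, cc_anti h.z0 e⟩)
  have h5 : a * c * a⁻¹ ∈ Zv p (Transfer.cj a δ) := cj_Zv (p := p) a δ ▸ conj_mem_cj hc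
  refine h4 (f.cs h.sd hc (h2 h5) (fun e => h4 ?_) ?_)
  · have := h3.le ⟨h5, h.pd.QZ e⟩
    rw [← cj_oz, conj_mem_cj_iff] at this
    exact oz_cc this
  · have := commutatorElement_eq_one_iff_mul_comm.1 e
    rw [show a * c * a⁻¹ = ⁅a, c⁆ * c by simp [commutatorElement_def], ← mul_assoc, ← this]
theorem exk : ∃ a ∈ Zv p (Transfer.cj n β), a ∉ Qv p β ∧ ∃ c ∈ Zv p δ, ⁅⁅a, c⁆, c⁆ ≠ 1 := by
  obtain ⟨a, ha, ha'⟩ := SetLike.not_le_iff_exists.1 h.c1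
  obtain ⟨c, hc, hc'⟩ := SetLike.not_le_iff_exists.1 h.c2
  exact ⟨a, ha, ha', c, hc, h.key ha ha' hc hc'⟩
theorem ne_two : p ≠ 2 := by
  rintro rfl
  obtain ⟨a, ha, ha', c, hc, e⟩ := h.exk
  obtain ⟨K', -, -, f⟩ := h.pb.exfs
  have u := h.tt (comm_mem (h.zm ha) (h.z2 hc))
  have x := h.b4 (h.b5 (comm_mem u.2 hc))
  have a2 : a⁻¹ = a := inv_eq_of_mul_eq_one_right (pow_two a ▸ h.pg.elem.2 a ha)
  have c2 : c⁻¹ = c := inv_eq_of_mul_eq_one_right (pow_two c ▸ h.pd.elem.2 c hc)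
  have e1 : ⁅⁅a, c⁆, c⁆ = ⁅⁅a, c⁆, a⁆ := by
    calc _ = ⁅a, c⁆ * (c * c⁻¹⁻¹ * a * c⁻¹ * a⁻¹ * c⁻¹) := by simp only [commutatorElement_def]; group
      _ = ⁅a, c⁆ * (a * c * a * c⁻¹ * (a⁻¹ * a⁻¹)) := by
        nth_rewrite 1 [c2]
        nth_rewrite 3 [a2]
        rw [mul_inv_cancel, inv_mul_cancel, c2, a2]; group
      _ = _ := by simp only [commutatorElement_def]; group
  obtain ⟨z, hz, d, hd, e2⟩ := (mem_sup_r ((h.m2.trans (O_le _ _)).trans h.nC)).1 (h.q1.ge u)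
  have e3 : ⁅⁅a, c⁆, a⁆ = ⁅z, a⁆ := by
    rw [e2, commutatorElement_mul_left_eq_conj_mul, cm_one (h.pg.QZ hd.2 a ha).symm]; simp
  rw [e1, e3] at e x
  exact e (cm_one (f.cz h.sb hz (h.zm ha) ha' x a (h.zm ha)).symm)
theorem three : p = 3 := by
  by_contra h3
  obtain ⟨K, hK, l, fs⟩ := h.pa.exfs
  have qa : Qv p α ≤ α := O_le _ _
  obtain ⟨ρ, ψ₀, r, s₀⟩ := h.pa.rho hK (h.cK hK) h.sa' h.sa (by rw [sup_comm, h.oa])
  obtain ⟨ψ₁, s₁⟩ := nat_sec r.surj h.CQ l.nQ h.nC h.qq (fun e he v hv => h.qq (comm_mem ((r.ker e).1 he) hv)) r.up'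
    (by
      rw [← cj_nn (l.nQ h.hn), ← cj_commutator, ← cj_commutator]; exact cj_le h.quad (h.nC h.hn))
    (fun X a b c => ((h.top hK).1.2.2.2 X c a b).imp Eq.le Eq.ge) h.not_cent
  have nq : Zv p α ⊓ CC α ≤ Qv p α := inf_le_left.trans h.pa.ZQ
  obtain ⟨Y, _, _, f, q⟩ := exists_qm (nq.trans qa) h.pa.chief.2.2.1
  obtain ⟨V, v1, v2, v3, v4, v5⟩ : ∃ V, V ≤ Qv p α ∧ α ≤ NN V ∧ ⁅Qv p α, V⁆ ≤ Zv p α ⊓ CC α ∧
      (∀ x ∈ V, x ^ p ∈ Zv p α ⊓ CC α) ∧ ∀ A ≤ Qv p α, ⁅A, Qv p α⁆ ≤ Zv p α ⊓ CC α → (∀ x ∈ A, x ^ p = 1) → A ≤ V := by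
    refine ⟨pre f (oz p (im f (Qv p α))), (pre_mono oz_le).trans (q.pre_im' qa nq).le,
      q.nn_pre le_rfl (nn_oz (im_nn le_rfl qa l.nQ)), (q.cc_iff qa (pre_le _ _)).1 (by
        rw [q.im_pre]; exact cc_symm oz_cc), fun x hx => ?_, fun A a b c => (le_pre_iff (a.trans qa)).2 fun y hy => ?_⟩
    · obtain ⟨h1, h2⟩ := mem_pre.1 hx
      exact (q.eq_one_iff (pow_mem h1 p)).1 ((map_pow f ⟨x, h1⟩ p).trans (mem_oz.1 h2).2)
    · refine mem_oz.2 ⟨⟨im_mono a hy, (q.cc_iff (a.trans qa) qa).2 b hy⟩, ?_⟩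
      obtain ⟨x, hx, rfl⟩ := hy
      rw [← map_pow, show x ^ p = 1 from Subtype.ext (c x hx), map_one]
  have w0 : Zv p α ≤ V := v5 _ h.pa.ZQ (by rw [comm_eq_bot'.2 h.pa.QZ]; exact bot_le) h.pa.elem.2
  have w1 : Zv p β ≤ V := v5 _ h.m2 ((commutator_mono le_rfl (Qv_le h.sa)).trans h.a4) h.pb.elem.2
  have w2 : Zv p (Transfer.cj n β) ≤ V := v5 _ h.g2
    ((commutator_mono le_rfl (Qv_le h.sa')).trans (h.a3.ge.trans h.a4)) h.pg.elem.2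
  obtain ⟨W, _, _, ψ, s⟩ := exists_sec r.surj (inf_le_left.trans w0) v2 h.pa.chief.2.2.1
    ((commutator_mono v1 le_rfl).trans v3) fun e he v hv => v3 (comm_mem ((r.ker e).1 he) hv)
  obtain ⟨z, hz⟩ := r.surj zz
  obtain ⟨D, d0, d1, -, d2⟩ := h.exD
  have d3 : ⁅α, V ⊓ Cv p α β n⁆ ≤ Zv p α := by
    nth_rewrite 1 [← d1]
    exact comm_sup_l (qa.trans h.pa.nZ) ((d1 ▸ le_sup_right : D ≤ α).trans h.pa.nZ)
      ((commutator_mono le_rfl inf_le_left).trans (v3.trans inf_le_left))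
      (by rw [commutator_comm]; exact (commutator_mono inf_le_right le_rfl).trans d2)
  have f0 : ∀ x ∈ V, (∀ t ∈ Transfer.cj n T, ⁅x, t⁆ ∈ Zv p α ⊓ CC α) → F0 k (ψ x) := fun x hx e t => by
    obtain ⟨b, hb, hb'⟩ := r.up' t
    rw [← hb', s.fix_iff b hx, ← commutatorElement_inv]; exact inv_mem (e b hb)
  have f1 : ∀ x ∈ V, (∀ t ∈ T, ⁅x, t⁆ ∈ Zv p α ⊓ CC α) → F1 k (ψ x) := fun x hx e t => by
    obtain ⟨b, hb, hb'⟩ := r.lo' t
    rw [← hb', s.fix_iff b hx, ← commutatorElement_inv]; exact inv_mem (e b hb)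
  obtain ⟨a, ha, -, c, hc, e⟩ := h.exk
  have hc' := h.sa.le (h.z2 hc)
  obtain ⟨t, ht⟩ := r.lo ⟨c, hc'⟩ (h.z2 hc)
  have := blk2 (k := k) (W := W) h.ne_two h3 (A := fun w => ∃ u ∈ Zv p α, ψ u = w)
    (B := fun w => ∃ u ∈ V ⊓ Cv p α β n, ψ u = w) (fun w => ?_) (fun w => ?_) ?_ ?_ (fun w => ?_) ?_ t (ψ a) t
  · rw [ht, ← s.comm ⟨c, hc'⟩ (w2 ha), s.fix_iff _ (s.comm_mem ⟨c, hc'⟩ (w2 ha))] at this
    have u := h.tt (comm_mem (h.zm ha) (h.z2 hc))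
    refine e (mem_bot.1 ((odd_inf h.ne_two h.pa.elem r.surj (fun e he => h.pa.QZ ((r.ker e).1 he)) s₀).le
      ⟨commutator_mono le_rfl h.sa.le (h.b5 (comm_mem u.2 hc)), ?_⟩))
    have e2 := conj_eq_of_cc (cc_symm (inf_le_right : Zv p α ⊓ CC α ≤ _) (qa u.1)) this
    rw [show ⁅⁅a, c⁆, c⁆ = ⁅a, c⁆ * ⁅c, ⁅c, a⁆⁆ * ⁅a, c⁆⁻¹ by simp only [commutatorElement_def]; group, e2]
    exact this.2
  · obtain ⟨u, hu, rfl⟩ := s.surj w
    rw [← s.pow hu]; exact (s.ker _ (pow_mem hu p)).2 (v4 u hu)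
  · obtain ⟨u, hu, rfl⟩ := s.surj w
    exact ⟨_, ⟨mul_mem hu (s.cm z hu), s₁.zz_mem hz (v1 hu)⟩, by rw [s.add _ hu _ (s.cm z hu), s.act z u hu, hz]⟩
  · rintro g _ ⟨u, hu, rfl⟩
    obtain ⟨e, rfl⟩ := r.surj g
    exact ⟨_, d3 (comm_mem e.2 hu), s.comm e hu.1⟩
  · rintro _ ⟨u, hu, rfl⟩
    have := (s.ker _ (mul_mem (w0 hu) (s.cm z (w0 hu)))).2 (s₀.zz_mem hz hu)
    rw [s.add _ (w0 hu) _ (s.cm z (w0 hu)), s.act z u (w0 hu), hz] at this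
    exact eq_neg_of_add_eq_zero_right this
  · obtain ⟨u, hu, rfl⟩ := s.surj w
    obtain ⟨x, hx, y0, hy0, rfl⟩ := (mem_sup_l (inf_le_left.trans ((Qv_le h.sa').trans (h.sg.le.trans h.pg.nZ)))).1
      (h.q0.ge (v1 hu))
    obtain ⟨y, hy, d, hd, rfl⟩ := (mem_sup_r ((h.m2.trans qa).trans h.nC)).1 (h.q1.ge hy0)
    have hd' : d ∈ V := by
      have := mul_mem (inv_mem (w1 hy)) (mul_mem (inv_mem (w2 hx)) hu)
      rwa [inv_mul_cancel_left, inv_mul_cancel_left] at this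
    exact ⟨ψ x, ψ y, ψ d, f0 x (w2 hx) fun t ht => h.a4 (h.a3.ge (comm_mem hx ht)),
      f1 y (w1 hy) fun t ht => h.a4 (comm_mem hy ht), ⟨d, ⟨hd', hd⟩, rfl⟩, by
        rw [s.add _ (w2 hx) _ (mul_mem (w1 hy) hd'), s.add _ (w1 hy) _ hd', add_assoc]⟩
  · rintro _ ⟨u, hu, rfl⟩
    obtain ⟨x, hx, y, hy, rfl⟩ := (mem_sup_l (ab_nn h.pa.ab inf_le_left inf_le_left)).1
      ((fs.sup h.sa' h.sa (by rw [sup_comm, h.oa])).ge hu)
    exact ⟨ψ x, ψ y, f0 x (w0 hx.1) fun t ht => by rw [cm_one (hx.2 t ht).symm]; exact one_mem _,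
      f1 y (w0 hy.1) fun t ht => by rw [cm_one (hy.2 t ht).symm]; exact one_mem _, s.add _ (w0 hx.1) _ (w0 hy.1)⟩

omit h in
abbrev Lv (p : ℕ) (α β δ : Subgroup G) (n : G) : Subgroup G :=
  (Zv p (Transfer.cj n β) ⊔ (Zv p β ⊔ Zv p α)) ⊔ Zv p δ

theorem c0 : Zv p α ⊔ (Qv p δ ⊓ Cv p α β n) = Cv p α β n := by
  rw [← dedekind' h.zC (h.z0.trans (h.sd.le.trans (nn_Qv (le_nn _)))), sup_comm, h.b1,
    inf_eq_right.2 ((inf_le_left.trans inf_le_right).trans (Qv_le h.sb'))]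
theorem tD : Lv p α β δ n ⊔ (Qv p δ ⊓ Cv p α β n) = T := by
  rw [Lv, sup_right_comm, sup_assoc (Zv p (Transfer.cj n β)), sup_assoc (Zv p β), h.c0, h.q1, h.q0, h.b2]
theorem cD : Lv p α β δ n ≤ CC (Qv p δ ⊓ Cv p α β n : Subgroup G) :=
  cc_symm (le_cc_sup (le_cc_sup ((inf_le_right.trans inf_le_right).trans h.pg.QZ) (le_cc_sup
    ((inf_le_right.trans (inf_le_left.trans inf_le_right)).trans h.pb.QZ) ((inf_le_right.trans h.CQ).trans h.pa.QZ)))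
    (inf_le_left.trans h.pd.QZ))
theorem LT : Lv p α β δ n ≤ T := h.tD ▸ le_sup_left
theorem mq : ⁅Qv p α, Zv p (Transfer.cj n β) ⊔ (Zv p β ⊔ Zv p α)⁆ ≤ oz p T := by
  have n1 : T ≤ NN (oz p T) := nn_oz (le_nn T)
  have z1 := h.m2.trans (Qv_le h.sa)
  have z0 := h.pa.ZT h.sa
  refine comm_sup_r (h.zm.trans n1) ((sup_le z1 z0).trans n1) ?_ (comm_sup_r (z1.trans n1) (z0.trans n1) ?_ ?_)
  · rw [commutator_comm]
    exact (commutator_mono le_rfl (Qv_le h.sa')).trans (h.a3.ge.trans (h.pb.comm_le h.sb))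
  · rw [commutator_comm]
    exact (commutator_mono le_rfl (Qv_le h.sa)).trans (h.pb.comm_le h.sb)
  · rw [comm_eq_bot.2 h.pa.QZ]; exact bot_le
theorem lq : ⁅Qv p α ⊓ Qv p β, Lv p α β δ n⁆ ≤ oz p T := by
  have n1 : Lv p α β δ n ≤ NN (oz p T) := h.LT.trans (nn_oz (le_nn T))
  exact comm_sup_r (le_sup_left.trans n1) (le_sup_right.trans n1) ((commutator_mono inf_le_left le_rfl).trans h.mq)
    ((commutator_mono inf_le_right le_rfl).trans (h.b5.trans (h.pa.comm_le h.sa)))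
theorem l3 : ⁅⁅⁅Lv p α β δ n, Lv p α β δ n⁆, Lv p α β δ n⁆, Lv p α β δ n⁆ = ⊥ :=
  comm_eq_bot.2 (((commutator_mono ((der_mono h.LT).trans h.tt) le_rfl).trans h.lq).trans (oz_cc.trans (cc_anti h.LT)))
theorem cl3 : T.lowerCentralSeries 3 = ⊥ := by
  refine h.pa.lcs_triv h.sa ?_
  nth_rewrite 1 [← h.tD]
  rw [lcs_sup h.cD]
  exact sup_le (h.l3.le.trans bot_le) (lcs_mono (inf_le_right.trans h.CQ) 3)
theorem cl2 : T.lowerCentralSeries 2 ≠ ⊥ := fun e => by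
  obtain ⟨a, ha, -, c, hc, e'⟩ := h.exk
  exact e' (mem_bot.1 (e.le (comm_mem (comm_mem (h.zm ha) (h.z2 hc)) (h.z2 hc))))
theorem pw : ∀ x ∈ T, x ^ 9 = 1 := by
  obtain rfl := h.three
  have ab : IsMulCommutative (⁅Lv 3 α β δ n, Lv 3 α β δ n⁆ : Subgroup G) := ab_iff_der.2 (le_bot_iff.1
    (three_sub (B := ⁅Lv 3 α β δ n, Lv 3 α β δ n⁆) nn_bot nn_bot nn_bot
      (by rw [commutator_comm (Lv 3 α β δ n) ⁅_, _⁆]; exact h.l3.le) h.l3.le))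
  have n1 : Lv 3 α β δ n ≤ NN (omegaOne 3 ⁅Lv 3 α β δ n, Lv 3 α β δ n⁆) := nn_omega (left_nn_comm _ _)
  have mq : Zv 3 (Transfer.cj n β) ⊔ (Zv 3 β ⊔ Zv 3 α) ≤ Qv 3 α := sup_le h.g2 (sup_le h.m2 h.pa.ZQ)
  have e1 : ⁅Zv 3 (Transfer.cj n β) ⊔ (Zv 3 β ⊔ Zv 3 α), Zv 3 δ⁆ ≤ omegaOne 3 ⁅Lv 3 α β δ n, Lv 3 α β δ n⁆ :=
    commutator_le.2 fun m hm c hc => mem_omegaOne (comm_mem (mem_sup_left hm) (mem_sup_right hc)) (by
      have u := h.tt (comm_mem (Qv_le h.sa (mq hm)) (h.z2 hc))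
      have z : ⁅c, ⁅m, c⁆⁆ ∈ oz 3 T := by
        rw [← commutatorElement_inv]; exact inv_mem (h.pa.comm_le h.sa (h.b5 (comm_mem u.2 hc)))
      have := mul_pow_cent (z := ⁅c, ⁅m, c⁆⁆) (oz_cc z _ (Qv_le h.sa u.1)).symm (oz_cc z _ (h.z2 hc)).symm
        (by simp only [commutatorElement_def]; group) 3
      rw [show ⁅m, c⁆ * c = m * c * m⁻¹ by simp [commutatorElement_def], conj_pow, h.pd.elem.2 c hc,
        show Nat.choose 3 2 = 3 from rfl, (mem_oz.1 z).2] at this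
      simpa using this.symm)
  have e2 : ⁅Lv 3 α β δ n, Lv 3 α β δ n⁆ ≤ omegaOne 3 ⁅Lv 3 α β δ n, Lv 3 α β δ n⁆ := by
    refine comm_sup_l (le_sup_left.trans n1) (le_sup_right.trans n1)
      (comm_sup_r (le_sup_left.trans n1) (le_sup_right.trans n1) (fun x hx => ?_) e1)
      (comm_sup_r (le_sup_left.trans n1) (le_sup_right.trans n1) (by rwa [commutator_comm]) ?_)
    · exact mem_omegaOne (der_mono le_sup_left hx) (mem_oz.1 (h.mq (commutator_mono mq le_rfl hx))).2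
    · rw [ab_iff_der.1 h.pd.ab]; exact bot_le
  obtain ⟨S, s1, s2⟩ := pow_mem_der (L := Lv 3 α β δ n) (m := 3)
  have s3 : Lv 3 α β δ n ≤ S := sup_le (sup_le (s1 _ (le_sup_left.trans le_sup_left) h.pg.elem.2)
    (sup_le (s1 _ ((le_sup_left.trans le_sup_right).trans le_sup_left) h.pb.elem.2)
      (s1 _ ((le_sup_right.trans le_sup_right).trans le_sup_left) h.pa.elem.2))) (s1 _ le_sup_right h.pd.elem.2)
  refine h.pa.pow_triv h.sa fun x hx => ?_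
  obtain ⟨y, hy, d, hd, rfl⟩ := (mem_sup_r (nn_of_cc h.cD)).1 (h.tD.ge hx)
  refine ⟨d, h.CQ hd.2, ?_⟩
  rw [(show Commute y d from (h.cD hy d hd).symm).mul_pow, show 9 = 3 * 3 from rfl, pow_mul y,
    ((mem_omegaOne_iff ab).1 (e2 (s2 y (s3 hy)))).2, one_mul]
theorem not_exp : ¬ ∀ x ∈ T, x ^ 3 = 1 := fun e => by
  obtain ⟨a, ha, -, c, hc, e'⟩ := h.exk
  have h1 := h.zm ha
  have h2 := h.z2 hc
  have := engel (x := c) (y := a⁻¹) (e _ (mul_mem h2 (inv_mem h1))) (e _ (mul_mem h2 (inv_mem (inv_mem h1))))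
    (e _ (inv_mem h1))
  refine e' (cm_one ?_)
  rw [inv_inv] at this
  rw [commutatorElement_def, ← mul_assoc, inv_mul_cancel_right, eq_mul_inv_iff_mul_eq, this]
theorem iter : iterCommutator (Cv p α β n) α 3 ≤ Zv p α := by
  obtain ⟨D, -, h0, -, h2⟩ := h.exD
  refine (iter_le h0 (nn_Qv (le_nn α)) h.nC h.pa.nZ (h.zC.trans h.Cα) h.CQ h2 3).trans (sup_le ?_ le_rfl)
  exact (inf_le_left.trans ((lcs_mono (Qv_le h.sa) 3).trans h.cl3.le)).trans bot_le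
theorem cfq (c : Chief α U W) (h1 : U ≤ Qv p α) (h2 : ¬ ⁅U, α⁆ ≤ W) : ⁅⁅U, T⁆, T⁆ ≤ W := by
  obtain ⟨D, d0, d1, -, d2⟩ := h.exD
  have nU := h.sa.le.trans c.2.1
  have nW := h.sa.le.trans c.2.2.1
  have uW : U ≤ NN W := (h1.trans (O_le _ _)).trans c.2.2.1
  rcases c.2.2.2 (W ⊔ (U ⊓ Cv p α β n)) (nn_sup c.2.2.1 (nn_inf c.2.1 h.nC)) le_sup_left
    (sup_le c.1.le inf_le_left) with e | e
  · exact (le_sup_right.trans e.le).trans' (le_inf ((commutator_mono (comm_le_left nU) le_rfl).trans (comm_le_left nU))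
      ((commutator_mono (commutator_mono h1 le_rfl) le_rfl).trans h.quad))
  have dα : D ≤ α := d1 ▸ le_sup_right
  have n1 : ∀ X, α ≤ NN X → U ≤ NN (W ⊔ X : Subgroup G) := fun X hX => nn_sup uW ((h1.trans (O_le _ _)).trans hX)
  have e2 := c.descend (O_pg α) h1 (nn_Qv (le_nn α)) d1 h.pa.nZ (by
    nth_rewrite 1 [← e]
    have := n1 _ (nn_inf c.2.1 h.pa.nZ)
    exact comm_sup_l (c.1.le.trans this) (inf_le_left.trans this) ((comm_le_left (dα.trans c.2.2.1)).trans le_sup_left)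
      (le_sup_right.trans' (le_inf ((commutator_mono inf_le_left le_rfl).trans (comm_le_left (dα.trans c.2.1)))
        ((commutator_mono inf_le_right le_rfl).trans d2)))) h2
  have e3 : ⁅U, T⁆ ≤ W ⊔ (U ⊓ oz p T) := by
    nth_rewrite 1 [← e2]
    have : U ≤ NN (W ⊔ (U ⊓ oz p T) : Subgroup G) := nn_sup uW (nn_inf (le_nn U) ((h1.trans (Qv_le h.sa)).trans (nn_oz (le_nn T))))
    exact comm_sup_l (c.1.le.trans this) (inf_le_left.trans this) ((comm_le_left nW).trans le_sup_left)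
      (le_sup_right.trans' (le_inf ((commutator_mono inf_le_left le_rfl).trans (comm_le_left nU))
        ((commutator_mono inf_le_right le_rfl).trans (h.pa.comm_le h.sa))))
  refine (commutator_mono e3 le_rfl).trans (comm_sup_l (le_nn W) (inf_le_left.trans uW) (comm_le_left nW) ?_)
  rw [comm_eq_bot.2 (inf_le_right.trans oz_cc)]; exact bot_le

end Cfg2

end Cfsg.Agent.PU
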