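/-
Pushing up: the main theorems.
-/
import Cfsg.Agent.Lib.PU.B2

set_option autoImplicit false
set_option linter.unusedSectionVars false
set_option linter.unusedVariables false
set_option linter.style.haveILetI false
set_option linter.unusedSimpArgs false

namespace Cfsg.Agent.PU

open Subgroup Cfsg.Agent.Transfer Cfsg.Agent.MS
open scoped commutatorElement

universe u
variable {G : Type u} [Group G] [Finite G] {p q : ℕ} [hp : Fact p.Prime]
variable {A B C D K L M N P Q R S T T' U V W X Y : Subgroup G} {a b c g n s u v : G}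
variable {k : Type*} [Field k] [Finite k] [CharP k p]

theorem PH.thmA (h : PH p k P) (hT : IsSyl p T P) : ∃ (T' : Subgroup G) (ρ : P →* SL2 k), Rho P (Qv p P) T T' ρ ∧
    ∀ U W, Chief P U W → U ≤ Qv p P → ¬ ⁅U, P⁆ ≤ W → ⁅⁅U, T⁆, T⁆ ≤ W := by
  obtain ⟨K, hK⟩ := h.ex
  obtain ⟨g, hg, e⟩ := hK.ls.ex hT
  rcases exists_cfg h hT with ⟨β, -, c⟩ | ⟨β, δ, T₂, n, c⟩
  · obtain ⟨ρ, -, r, -⟩ := h.rho hK (c.cK hK) hT (hK.ls.cj hT hg) e
    exact ⟨_, ρ, r, fun U W _ a _ => (commutator_mono (commutator_mono (a.trans (Qv_le hT)) le_rfl) le_rfl).trans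
      (c.cl2.le.trans bot_le)⟩
  · obtain ⟨ρ, -, r, -⟩ := h.rho hK (c.cK hK) hT (hK.ls.cj hT hg) e
    exact ⟨_, ρ, r, fun U W => c.cfq⟩

theorem Cfg1.expo {α β : Subgroup G} (c : Cfg1 p k α β T) :
    (p = 2 → Monoid.exponent T = 4) ∧ (p ≠ 2 → Monoid.exponent T = p) := by
  have ne : ¬ IsMulCommutative T := fun e => c.cl1 (ab_iff_der.1 e)
  have dv : ∀ {m}, p ∣ m → p ∣ m.choose 2 → Monoid.exponent T ∣ m := fun a b =>
    Monoid.exponent_dvd_of_forall_pow_eq_one fun x => Subtype.ext (c.pw a b x x.2)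
  refine ⟨?_, fun h2 => ((Nat.dvd_prime hp.out).1 (dv dvd_rfl (hp.out.dvd_choose_self two_ne_zero
    (lt_of_le_of_ne hp.out.two_le (Ne.symm h2))))).resolve_left fun e => ?_⟩
  · rintro rfl
    obtain ⟨i, hi, e⟩ := (Nat.dvd_prime_pow Nat.prime_two (m := 2)).1 (dv (m := 4) (by decide) (by decide))
    rw [e]
    by_contra e'
    have : Monoid.exponent T ∣ 2 := by
      rw [e]; interval_cases i <;> simp at e' ⊢
    exact ne ⟨⟨fun a b => (Commute.of_orderOf_dvd_two (fun g => (Monoid.order_dvd_exponent g).trans this) a b).eq⟩⟩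
  · haveI := Monoid.exp_eq_one_iff.1 e
    exact ne ⟨⟨fun a b => Subsingleton.elim _ _⟩⟩
theorem Cfg2.expo {α β δ T₂ : Subgroup G} (c : Cfg2 p k α β δ T T₂ n) : Monoid.exponent T = 9 := by
  obtain ⟨i, hi, e⟩ := (Nat.dvd_prime_pow Nat.prime_three (m := 2)).1
    (Monoid.exponent_dvd_of_forall_pow_eq_one (G := T) fun x => Subtype.ext (c.pw x x.2))
  rw [e]
  by_contra e'
  have : Monoid.exponent T ∣ 3 := by
    rw [e]; interval_cases i <;> simp at e' ⊢
  exact c.not_exp fun x hx => congrArg Subtype.val (Monoid.exponent_dvd_iff_forall_pow_eq_one.1 this ⟨x, hx⟩)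

theorem exists_amb (S : Subgroup G) : ∃ f : G →* Equiv.Perm G, Function.Injective f ∧
    ∀ σ : MulAut S, ∃ h, ∀ s : S, h * f s * h⁻¹ = f (σ s) := by
  let f : G →* Equiv.Perm G := MonoidHom.mk' (fun g => Equiv.mulRight g⁻¹) fun a b => by
    rw [mul_inv_rev, Equiv.mulRight_mul]
  let r : G → G := fun x => (QuotientGroup.mk x : G ⧸ S).out
  have m : ∀ x, (r x)⁻¹ * x ∈ S := fun x => QuotientGroup.eq.1 (QuotientGroup.out_eq' _)
  have e : ∀ x (s : S), r (x * s) = r x := fun x s => by simp only [r, QuotientGroup.mk_mul_of_mem x s.2]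
  let φ : MulAut S → G → G := fun σ x => r x * σ ⟨_, m x⟩
  have e2 : ∀ σ x (s : S), φ σ (x * s) = φ σ x * σ s := fun σ x s => by
    simp only [φ]
    rw [show (⟨_, m (x * s)⟩ : S) = ⟨_, m x⟩ * s from Subtype.ext (by simp [e, mul_assoc]), map_mul, e, coe_mul, mul_assoc]
  have e3 : ∀ σ τ x, φ σ (φ τ x) = r x * σ (τ ⟨_, m x⟩) := fun σ τ x => by
    rw [e2]
    congr 1
    simp only [φ]
    have : r (r x) = r x := by rw [← e (r x) ⟨_, m x⟩, mul_inv_cancel_left]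
    rw [show (⟨_, m (r x)⟩ : S) = 1 from Subtype.ext (by simp [this]), map_one, this]; simp
  refine ⟨f, (injective_iff_map_eq_one f).2 fun g hg => by simpa [f] using congrArg (fun x : Equiv.Perm G => x 1) hg,
    fun σ => ⟨⟨φ σ, φ σ⁻¹, fun x => by rw [e3]; simp, fun x => by rw [e3]; simp⟩, fun s => ?_⟩⟩
  rw [mul_inv_eq_iff_eq_mul]
  ext x
  change φ σ (x * ((s⁻¹ : S) : G)) = φ σ x * _
  rw [e2, map_inv]; rfl

section Map
variable {H : Type u} [Group H] [Finite H] {f : G →* H} (hf : Function.Injective f)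
include hf

omit hf in
theorem exists_map {T : Subgroup H} (h : T ≤ P.map f) : ∃ T₀ ≤ P, T = T₀.map f :=
  ⟨T.comap f ⊓ P, inf_le_right, le_antisymm (fun x hx => by
    obtain ⟨y, hy, rfl⟩ := h hx; exact ⟨y, ⟨hx, hy⟩, rfl⟩) (map_le_iff_le_comap.2 inf_le_left)⟩
theorem syl_of_map (h : IsSyl p (T.map f) (P.map f)) : IsSyl p T P :=
  ⟨(map_le_map_iff_of_injective hf).1 h.le, h.pgroup.of_equiv (T.equivMapOfInjective f hf).symm,
    relIndex_map_map_of_injective T P hf ▸ h.not_dvd⟩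
theorem map_nn : A.map f ≤ NN (B.map f) ↔ A ≤ NN B :=
  ⟨fun h => nn_of_comm_le' ((map_le_map_iff_of_injective hf).1 (by rw [map_commutator]; exact comm_le_left h)),
    fun h => nn_of_comm_le' (by rw [← map_commutator]; exact map_mono (comm_le_left h))⟩
theorem map_cc : A.map f ≤ CC (B.map f) ↔ A ≤ CC B := by
  rw [← comm_eq_bot, ← comm_eq_bot, ← map_commutator, map_eq_bot_iff_of_injective _ hf]
theorem map_Qv : (Qv p P).map f = Qv p (P.map f) :=
  map_O f (by rw [(MonoidHom.ker_eq_bot_iff f).2 hf, inf_bot_eq]; exact IsPi.bot)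
theorem L2.map (h : L2 p k P K) : L2 p k (P.map f) (K.map f) := by
  obtain ⟨X, _, _, π, φ, q, h1⟩ := h.ex
  refine ⟨⟨X, _, inferInstance, π.comp (P.equivMapOfInjective f hf).symm.toMonoidHom, φ, ⟨map_mono q.le,
    q.surj.comp (P.equivMapOfInjective f hf).symm.surjective, ?_⟩, h1⟩, fun {T L} hT a b c => ?_⟩
  · ext x
    obtain ⟨y, rfl⟩ := (P.equivMapOfInjective f hf).surjective x
    rw [MonoidHom.mem_ker, MonoidHom.comp_apply, MulEquiv.coe_toMonoidHom, MulEquiv.symm_apply_apply, ← MonoidHom.mem_ker,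
      q.ker, mem_subgroupOf, mem_subgroupOf]
    exact (mem_map_iff_mem hf).symm
  · obtain ⟨T, -, rfl⟩ := exists_map hT.le
    obtain ⟨L, hL, rfl⟩ := exists_map b
    rw [h.frat (syl_of_map hf hT) ((map_le_map_iff_of_injective hf).1 a) hL
      (map_injective hf (by rw [Subgroup.map_sup, c]))]
theorem ph_of_map (h : L2 p k P K) (h1 : P ⊓ CC (Qv p P) ≤ Qv p P) (hS : IsSyl p S P)
    (h2 : ∀ R ≤ S, P ≤ NN R → NN (S.map f) ≤ NN (R.map f) → R = ⊥) : PH p k (P.map f) := by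
  refine ⟨⟨_, h.map hf⟩, ?_, fun {T R} hT a b c => ?_⟩
  · rw [← map_Qv hf]
    rintro _ ⟨⟨x, hx, rfl⟩, hx'⟩
    exact mem_map_of_mem f (h1 ⟨hx, (map_cc hf).1 ((MonoidHom.map_zpowers f x).le.trans (zpowers_le.2 hx'))
      (mem_zpowers x)⟩)
  · obtain ⟨g, hg, rfl⟩ := hT.exists_cj_eq (hS.map f)
    rw [← cj_nn (b hg), cj_le_cj_iff] at a
    rw [← cj_nn (b hg), ← cj_normalizer, ← cj_normalizer, cj_le_cj_iff] at c
    obtain ⟨R, hR, rfl⟩ := exists_map a
    rw [h2 R hR ((map_nn hf).1 b) c, Subgroup.map_bot]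
theorem chief_map : Chief (P.map f) (U.map f) (W.map f) ↔ Chief P U W := by
  refine and_congr (map_lt_map_iff_of_injective hf) (and_congr (map_nn hf) (and_congr (map_nn hf)
    ⟨fun h N a b c => (h _ ((map_nn hf).2 a) (map_mono b) (map_mono c)).imp (fun e => map_injective hf e)
      fun e => map_injective hf e, fun h N a b c => ?_⟩))
  obtain ⟨N, hN, rfl⟩ := exists_map c
  exact (h N ((map_nn hf).1 a) ((map_le_map_iff_of_injective hf).1 b) hN).imp (congrArg _) (congrArg _)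
omit hf in
theorem map_iter (m : ℕ) : (iterCommutator A B m).map f = iterCommutator (A.map f) (B.map f) m := by
  induction m with
  | zero => rfl
  | succ m ih => exact (map_commutator _ _ f).trans (congrArg (fun X => ⁅X, B.map f⁆) ih)
end Map

theorem chief_top : Chief ⊤ U W ↔ IsChiefFactor U W := by
  simp only [Chief, IsChiefFactor, top_le_iff, normalizer_eq_top_iff]
theorem Qv_top : Qv p (⊤ : Subgroup G) = pCore p G := by
  rw [Qv, O_top, Solv.pCore_eq_piCore]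

theorem l2_top [K.Normal] (e : G ⧸ K ≃* Matrix.ProjectiveSpecialLinearGroup (Fin 2) k)
    (h : ∀ {T L}, IsSyl p T ⊤ → T ≤ L → K ⊔ T ≠ ⊤ → K ⊔ L = ⊤ → L = ⊤) : L2 p k ⊤ K := by
  have q : QM K ⊤ ((QuotientGroup.mk' K).comp (⊤ : Subgroup G).subtype) :=
    ⟨le_top, (QuotientGroup.mk'_surjective K).comp fun x => ⟨⟨x, mem_top x⟩, rfl⟩, by
      ext x; simp [mem_subgroupOf]⟩
  have s : PS (e.symm.toMonoidHom.comp (QuotientGroup.mk' _)) :=
    ⟨e.symm.surjective.comp (QuotientGroup.mk'_surjective _), fun g => by simp⟩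
  exact ⟨⟨_, _, inferInstance, _, _, q, s⟩, fun hT a _ c => h hT a (fun e => s.ne_top (p := p)
    (q.im_top ▸ im_syl hT le_rfl) (by rw [← q.im_sup_N hT.le, e, q.im_top])) c⟩
theorem l2_of_max [K.Normal] (e : G ⧸ K ≃* Matrix.ProjectiveSpecialLinearGroup (Fin 2) k) (S : Sylow p G)
    (h : ∃! M : Subgroup G, IsCoatom M ∧ (S : Subgroup G) ≤ M) : L2 p k ⊤ K := by
  refine l2_top e fun {T L} hT a b c => by_contra fun d => ?_
  obtain ⟨g, -, rfl⟩ := hT.exists_cj_eq (isSyl_top S)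
  obtain ⟨M, hM, hu⟩ := h
  have key : ∀ X, X ≠ ⊤ → cj g S ≤ X → X ≤ cj g M := fun X h1 h2 => by
    obtain ⟨M', h3, h4⟩ := (eq_top_or_exists_le_coatom (cj g⁻¹ X)).resolve_left fun e => h1 (by
      rw [← cj_cj_inv g X, e, cj_top])
    rw [le_cj_iff_cj_inv_le, ← hu M' ⟨h3, (cj_le_iff_le_cj_inv.1 h2).trans h4⟩]; exact h4
  refine hM.1.1 (cj_inj.1 ((eq_top_iff.2 (c.ge.trans (sup_le (le_sup_left.trans (key _ b le_sup_right))
    (key _ d a)))).trans (cj_top g).symm))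
theorem l2_of_pg [K.Normal] (e : G ⧸ K ≃* Matrix.ProjectiveSpecialLinearGroup (Fin 2) k) (h : IsPGroup p K) :
    L2 p k ⊤ K :=
  l2_top e fun hT a _ c => by rwa [sup_eq_right.2 ((hT.le_of_normal h le_top nn_normal).trans a)] at c

theorem exists_ph (h : L2 p k (⊤ : Subgroup G) K) (h1 : CC (pCore p G) ≤ pCore p G) (S : Sylow p G)
    (hd : ∀ T : Subgroup (S : Subgroup G), T ≠ ⊥ → T.Characteristic → ¬ (T.map (S : Subgroup G).subtype).Normal) :
    ∃ f : G →* Equiv.Perm G, Function.Injective f ∧ PH p k ((⊤ : Subgroup G).map f) := by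
  obtain ⟨f, hf, h2⟩ := exists_amb (S : Subgroup G)
  refine ⟨f, hf, ph_of_map hf h (by rw [Qv_top]; exact inf_le_right.trans h1) (isSyl_top S) fun R a b c => ?_⟩
  by_contra e
  refine hd (R.subgroupOf S) (fun e' => e (by rw [← map_subgroupOf_eq_of_le a, e', Subgroup.map_bot]))
    (characteristic_iff_map_le.2 fun σ => ?_) (by rw [map_subgroupOf_eq_of_le a]; exact normalizer_eq_top_iff.1 (top_le_iff.1 b))
  obtain ⟨x, hx⟩ := h2 σ
  rintro _ ⟨s, hs, rfl⟩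
  have : x ∈ NN ((S : Subgroup G).map f) := mem_normalizer_of_conj_mem (by
    rintro _ ⟨t, ht, rfl⟩; rw [hx ⟨t, ht⟩]; exact mem_map_of_mem f (σ _).2)
  have := conj_mem_of_mem_normalizer (c this) (mem_map_of_mem f (show (s : G) ∈ R from hs))
  rwa [hx, mem_map_iff_mem hf] at this

theorem nat_chief [W.Normal] {ρ : G →* SL2 k} (hρ : Function.Surjective ρ) (hk : IsPGroup p ρ.ker)
    (hT : ∀ t, ∃ e ∈ T, ρ e = upU t) (c : IsChiefFactor U W) (h1 : U ≤ ρ.ker) (h2 : ¬ ⁅U, ⊤⁆ ≤ W) (h3 : ⁅⁅U, T⁆, T⁆ ≤ W) :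
    IsNaturalSL2Module k (U.map (QuotientGroup.mk' W)) ⊤ := by
  have c' := chief_top.2 c
  have h4 := c'.comm_le hk h1 le_top nn_normal
  have bt : ∀ X : Subgroup G, X.map (QuotientGroup.mk' W) ≤ ⊥ ↔ X ≤ W := fun X => by
    rw [le_bot_iff, Subgroup.map_eq_bot_iff, QuotientGroup.ker_mk']
  have sj : Function.Surjective ((QuotientGroup.lift W ρ (c.1.le.trans h1)).comp (⊤ : Subgroup (G ⧸ W)).subtype) :=
    fun g => by obtain ⟨x, rfl⟩ := hρ g; exact ⟨⟨x, mem_top _⟩, rfl⟩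
  haveI := c.2.1
  obtain ⟨ψ, s⟩ := nat_sec (V := U.map (QuotientGroup.mk' W)) (T := T.map (QuotientGroup.mk' W)) sj bot_le
    (by haveI := c.2.1.map _ (QuotientGroup.mk'_surjective W); exact nn_normal) nn_bot
    (by rw [← map_commutator, bt]; exact (commutator_mono le_rfl h1).trans h4)
    (fun e he v hv => by
      obtain ⟨e, he'⟩ := e
      obtain ⟨e, rfl⟩ := QuotientGroup.mk'_surjective W e
      obtain ⟨v, hv, rfl⟩ := hv
      refine (bt _).2 ((commutator_comm _ _).le.trans h4) ?_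
      rw [map_commutator]; exact comm_mem (mem_map_of_mem _ he) (mem_map_of_mem _ hv))
    (fun t => by
      obtain ⟨e, he, he'⟩ := hT t
      exact ⟨⟨e, mem_top _⟩, mem_map_of_mem _ he, he'⟩)
    (by rwa [← map_commutator, ← map_commutator, bt])
    (fun X _ b d => by
      haveI := normalizer_eq_top_iff.1 (top_le_iff.1 d)
      have e := map_comap_eq_self_of_surjective (QuotientGroup.mk'_surjective W) X
      refine (c.2.2.2 (X.comap (QuotientGroup.mk' W)) inferInstance (QuotientGroup.le_comap_mk' W X) ?_).imp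
        (fun e' => by rw [← e, bt, e']) fun e' => by rw [← e, e']
      exact (comap_mono b).trans (by rw [QuotientGroup.comap_map_mk', sup_eq_right.2 c.1.le]))
    (by rwa [← map_top_of_surjective _ (QuotientGroup.mk'_surjective W), ← map_commutator, bt])
  exact s.natural sj

theorem thm_2764 (h : L2 p k (⊤ : Subgroup G) K) (h1 : CC (pCore p G) ≤ pCore p G) (S : Sylow p G)
    (hd : ∀ T : Subgroup (S : Subgroup G), T ≠ ⊥ → T.Characteristic → ¬ (T.map (S : Subgroup G).subtype).Normal) :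
    Nonempty (G ⧸ pCore p G ≃* SL2 k) ∧ ∀ (U W : Subgroup G) [W.Normal], U ≤ pCore p G → IsChiefFactor U W →
      ¬ ⁅U, (⊤ : Subgroup G)⁆ ≤ W → IsNaturalSL2Module k (U.map (QuotientGroup.mk' W)) (⊤ : Subgroup (G ⧸ W)) := by
  obtain ⟨f, hf, h2⟩ := exists_ph h h1 S hd
  obtain ⟨T', ρ, r, h3⟩ := h2.thmA ((isSyl_top S).map f)
  rw [← map_Qv hf, Qv_top] at r h3
  let ι : G →* (⊤ : Subgroup G).map f := f.codRestrict _ fun g => mem_map_of_mem f (mem_top g)
  have sj : Function.Surjective (ρ.comp ι) := r.surj.comp (by rintro ⟨_, g, -, rfl⟩; exact ⟨g, rfl⟩)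
  have ke : (ρ.comp ι).ker = pCore p G := by ext g; exact (r.ker (ι g)).trans (mem_map_iff_mem hf)
  refine ⟨⟨(QuotientGroup.quotientMulEquivOfEq ke.symm).trans (QuotientGroup.quotientKerEquivOfSurjective _ sj)⟩,
    fun U W _ a b c => nat_chief (T := S) sj (by rw [ke, ← Qv_top]; exact O_pg _) (fun t => ?_) b (ke ▸ a) c ?_⟩
  · obtain ⟨⟨_, he'⟩, ⟨e, he, rfl⟩, h4⟩ := r.up' t
    exact ⟨e, he, h4⟩
  · rw [← map_le_map_iff_of_injective hf, map_commutator, map_commutator]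
    exact h3 _ _ ((chief_map hf).2 (chief_top.2 b)) (map_mono a) (by
      rwa [← map_commutator, map_le_map_iff_of_injective hf])

theorem thm_2765 (h : L2 p k (⊤ : Subgroup G) K) (h1 : CC (pCore p G) ≤ pCore p G) (S : Sylow p G)
    (hd : ∀ T : Subgroup (S : Subgroup G), T ≠ ⊥ → T.Characteristic → ¬ (T.map (S : Subgroup G).subtype).Normal) :
    ((S : Subgroup G).lowerCentralSeries 2 = ⊥ ∧ (S : Subgroup G).lowerCentralSeries 1 ≠ ⊥ ∧
      (p = 2 → Monoid.exponent ↥(S : Subgroup G) = 4) ∧ (p ≠ 2 → Monoid.exponent ↥(S : Subgroup G) = p) ∧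
      (∃ U W : Subgroup G, W ≤ U ∧ U ≤ (pCore p G) ∧ IsChiefFactor U W ∧ ¬ ⁅U, (⊤ : Subgroup G)⁆ ≤ W ∧
        (∃ k : ℕ, iterCommutator W ⊤ k = ⊥) ∧ (∃ k : ℕ, iterCommutator (pCore p G) ⊤ k ≤ U))) ∨
    (p = 3 ∧ (S : Subgroup G).lowerCentralSeries 3 = ⊥ ∧ (S : Subgroup G).lowerCentralSeries 2 ≠ ⊥ ∧
      Monoid.exponent ↥(S : Subgroup G) = 9 ∧ (∃ U₁ W₁ U₂ W₂ : Subgroup G, W₁ ≤ U₁ ∧ U₁ ≤ W₂ ∧ W₂ ≤ U₂ ∧
        U₂ ≤ (pCore p G) ∧ IsChiefFactor U₁ W₁ ∧ IsChiefFactor U₂ W₂ ∧ ¬ ⁅U₁, (⊤ : Subgroup G)⁆ ≤ W₁ ∧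
        ¬ ⁅U₂, (⊤ : Subgroup G)⁆ ≤ W₂ ∧ (∃ k : ℕ, iterCommutator W₁ ⊤ k = ⊥) ∧
        (∃ k : ℕ, iterCommutator W₂ ⊤ k ≤ U₁) ∧ (∃ k : ℕ, iterCommutator (pCore p G) ⊤ k ≤ U₂))) := by
  obtain ⟨f, hf, h2⟩ := exists_ph h h1 S hd
  have hQ : Qv p ((⊤ : Subgroup G).map f) = (pCore p G).map f := by rw [← map_Qv hf, Qv_top]
  have ex : Monoid.exponent ((S : Subgroup G).map f) = Monoid.exponent (S : Subgroup G) :=
    (Monoid.exponent_eq_of_mulEquiv ((S : Subgroup G).equivMapOfInjective f hf)).symm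
  have lc : ∀ m, ((S : Subgroup G).map f).lowerCentralSeries m = ⊥ ↔ (S : Subgroup G).lowerCentralSeries m = ⊥ :=
    fun m => by rw [← map_lowerCentralSeries, map_eq_bot_iff_of_injective _ hf]
  have le : ∀ {A B : Subgroup G}, A.map f ≤ B.map f ↔ A ≤ B := map_le_map_iff_of_injective hf
  obtain ⟨U, hU, eU⟩ := exists_map (hQ ▸ h2.ZQ)
  obtain ⟨W, hW, eW⟩ := exists_map (P := U) (T := Zv p ((⊤ : Subgroup G).map f) ⊓ CC ((⊤ : Subgroup G).map f))
    (inf_le_left.trans eU.le)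
  have c1 := h2.chief
  have c2 := h2.not_cent
  have c3 : iterCommutator W ⊤ 1 = ⊥ := by
    rw [← map_eq_bot_iff_of_injective _ hf, map_iter, ← eW]; exact comm_eq_bot.2 inf_le_right
  rw [eW, eU] at c1 c2
  rw [chief_map hf, chief_top] at c1
  rw [← map_commutator, le] at c2
  rcases exists_cfg h2 ((isSyl_top S).map f) with ⟨β, -, c⟩ | ⟨β, δ, T₂, n, c⟩
  · exact Or.inl ⟨(lc 2).1 c.cl2, fun e => c.cl1 ((lc 1).2 e), ex ▸ c.expo.1, ex ▸ c.expo.2, U, W, hW, hU, c1, c2, ⟨1, c3⟩,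
      2, by rw [← le, map_iter, ← hQ, ← eU]; exact c.iter⟩
  · obtain ⟨C, hC, eC⟩ := exists_map (hQ ▸ c.CQ)
    have d1 := (c.top (h.map hf)).1
    have d2 := c.not_cent
    rw [eC, hQ] at d1 d2
    rw [chief_map hf, chief_top] at d1
    rw [← map_commutator, le] at d2
    exact Or.inr ⟨c.three, (lc 3).1 c.cl3, fun e => c.cl2 ((lc 2).2 e), ex ▸ c.expo, U, W, _, C,  hW,
      by rw [← le, ← eU, ← eC]; exact c.zC, hC, le_rfl, c1, d1, c2, d2, ⟨1, c3⟩,
      ⟨3, by rw [← le, map_iter, ← eC, ← eU]; exact c.iter⟩, 0, le_rfl⟩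

theorem charP_of {𝔽 : Type*} [Field 𝔽] [Fintype 𝔽] {m : ℕ} (h : Fintype.card 𝔽 = p ^ m) : CharP 𝔽 p :=
  charP_of_card_eq_prime_pow h

end Cfsg.Agent.PU
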