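/-
Baumann's argument for groups with an `L₂(q)` quotient.
-/
import Cfsg.Agent.Lib.PU.Main

set_option autoImplicit false
set_option linter.unusedSectionVars false
set_option linter.unusedVariables false
set_option linter.style.haveILetI false
set_option linter.unusedSimpArgs false

namespace Cfsg.Agent.PU

open Subgroup Cfsg.Agent.Transfer Cfsg.Agent.MS
open scoped commutatorElement

universe u
variable {G : Type u} [Group G] [Finite G] {p q n : ℕ} [hp : Fact p.Prime]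
variable {A B C K L N P Q T T' U V : Subgroup G} {g u v : G}

/-- `Ω₁ Z J(T)` -/
abbrev oj (n : ℕ) (T : Subgroup G) : Subgroup G := omegaOne n (centerThompsonOf n T)

omit hp in
theorem mem_oz' : u ∈ oz n T ↔ (u ∈ T ∧ u ∈ CC T) ∧ u ^ n = 1 := mem_omegaOne_iff (comm_inf_centralizer T)
omit hp in
theorem mem_oj : u ∈ oj n T ↔ u ∈ T ∧ u ∈ CC (thompsonSubgroupOf n T) ∧ u ^ n = 1 :=
  (mem_omegaOne_iff (comm_ZJ T)).trans ⟨fun h => ⟨ZJ_le T h.1, h.1.2, h.2⟩, fun h => ⟨mem_ZJ h.1 h.2.1 h.2.2, h.2.2⟩⟩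
omit hp in
theorem nn_oj (h : A ≤ NN T) : A ≤ NN (oj n T) := nn_omega (h.trans (normalizer_le_normalizer_ZJ T))
omit hp in
theorem oj_elem : IsElementaryAbelian n (oj n T) := elem_omegaOne (comm_ZJ T)
omit hp in
theorem cc_oj (h : MaxE n T A) : A ≤ CC (oj n T) := cc_symm fun u hu => cc_anti h.le_J (mem_oj.1 hu).2.1

namespace LS
variable (l : LS p q P Q K) (ch : P ⊓ CC Q ≤ Q) (hT : IsSyl p T P)
include l ch hT

theorem oz_inf : oz n Q ⊓ CC T = oz n T := by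
  ext u
  rw [mem_inf, mem_oz', mem_oz']
  exact ⟨fun h => ⟨⟨l.QT hT h.1.1.1, h.2⟩, h.1.2⟩, fun h => have := cc_anti (l.QT hT) h.1.2
    ⟨⟨⟨ch ⟨hT.le h.1.1, this⟩, this⟩, h.2⟩, h.1.2⟩⟩

variable (h3 : ¬ oz n T ≤ CC P)
include h3

theorem bau0 (h : thompsonSubgroupOf n T ≤ Q) : P ≤ NN (baumannSubgroupOf n T) := by
  have h1 : P ≤ NN (oj n T) := by
    have := nn_oj (n := n) l.nQ
    rwa [oj, centerThompsonOf, J_eq_of_le h (l.QT hT)] at this
  have h2 := l.ccQ h1 hT fun e => h3 (e.trans' (le_inf (omegaOne_center_le_ZJ T) fun u hu => (mem_oz'.1 hu).1.2))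
  have : baumannSubgroupOf n T = Q ⊓ CC (oj n T) := le_antisymm (le_inf h2 inf_le_right) (inf_le_inf_right _ (l.QT hT))
  rw [this]; exact nn_inf l.nQ (nn_cc h1)

theorem bau1 (hA : MaxE n T A) (hA' : ¬ A ≤ Q) : FS p q P Q K (oz n Q) ∧ Q ⊔ A = T ∧ MaxE n T (oz n Q ⊔ (A ⊓ Q)) := by
  have e : IsElementaryAbelian n (oz n Q) := elem_omegaOne (comm_inf_centralizer Q)
  have vQ : oz n Q ≤ Q := fun u hu => (mem_oz'.1 hu).1.1
  have qV : Q ≤ CC (oz n Q) := cc_symm fun u hu => (mem_oz'.1 hu).1.2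
  have vT := vQ.trans (l.QT hT)
  have h1 := (hA.bestOffender e vT).1 (A ⊓ Q) inf_le_left
  rw [inf_eq_left.2 (cc_symm (inf_le_right.trans qV)), mul_comm] at h1
  have f := l.ff1 e.1 (l.pg.to_le vQ) (nn_omega (nn_inf l.nQ (nn_cc l.nQ))) qV hT (by rwa [l.oz_inf ch hT]) hA.le hA' h1
  have c1 := card_inf_mul_relIndex (CC A) (oz n Q)
  have c2 := card_inf_mul_relIndex Q A
  rw [inf_comm] at c1 c2
  have h2 := f.off l.toLS0 qV hT hA.le hA' (by
    rw [← c1, ← c2, mul_assoc, mul_comm, mul_comm (relIndex _ _), mul_assoc, mul_assoc,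
      Nat.mul_le_mul_left_iff Nat.card_pos, Nat.mul_le_mul_right_iff Nat.card_pos] at h1
    exact h1)
  refine ⟨f, h2, hA.of_card_le (sup_le vT (inf_le_left.trans hA.le)) (elem_sup e (elem_mono hA.elem inf_le_left)
    (cc_symm (inf_le_right.trans qV))) (Nat.le_of_mul_le_mul_right (c := #(oz n Q ⊓ CC A : Subgroup G)) ?_ Nat.card_pos)⟩
  have c3 := card_sup_mul_card_inf (nn_of_cc (cc_symm (inf_le_right.trans qV : A ⊓ Q ≤ _)))
  rw [← inf_assoc, inf_eq_left.2 (inf_le_left.trans vQ), ← hA.inf_centralizer_eq e vT] at c3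
  have c4 : (CC A).relIndex (oz n Q) = Q.relIndex A := by
    rw [← inf_relIndex_left, f.cA hT hA.le hA', inf_relIndex_left, f.idx hT, ← l.card hT, ← h2,
      relIndex_sup_l (hA.le.trans (hT.le.trans l.nQ))]
  rw [c3, ← c1, ← c2, c4]; exact le_of_eq (by ring)

theorem bau2 (hA : MaxE n T A) (hA' : ¬ A ≤ Q) (hg : g ∈ P) (ho : T ⊔ cj g T = P) :
    P ≤ NN (oz n Q ⊔ oj n T : Subgroup G) ∧ oj n T ≤ Q ∧ oj n T ≤ (oj n T ⊓ cj g (oj n T)) ⊔ oz n Q := by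
  obtain ⟨f, h1, h2⟩ := l.bau1 ch hT h3 hA hA'
  have vQ : oz n Q ≤ Q := fun u hu => (mem_oz'.1 hu).1.1
  have qV : Q ≤ CC (oz n Q) := cc_symm fun u hu => (mem_oz'.1 hu).1.2
  have nV : P ≤ NN (oz n Q) := nn_omega (nn_inf l.nQ (nn_cc l.nQ))
  have aQ := sup_le vQ (inf_le_right : A ⊓ Q ≤ Q)
  have h4 := h2.mono aQ (l.QT hT)
  have vW : oz n Q ≤ oj n Q := omegaOne_center_le_ZJ Q
  have xQ : oj n T ≤ Q := (l.ccQ nV hT (by rwa [l.oz_inf ch hT])).trans' (le_inf (fun u hu => (mem_oj.1 hu).1)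
    (cc_symm (le_sup_left.trans (cc_oj h2))))
  have xW : oj n T ≤ oj n Q := fun u hu => mem_oj.2 ⟨xQ hu, cc_anti (J_mono_of_maxE h2 aQ (l.QT hT)) (mem_oj.1 hu).2.1,
    (mem_oj.1 hu).2.2⟩
  have wA : ⁅oj n Q, A⁆ ≤ oz n Q := by
    refine (commutator_mono (fun u hu => h4.mem_of_J (mem_oj.1 hu).1 (mem_oj.1 hu).2.1 (mem_oj.1 hu).2.2) le_rfl).trans ?_
    rw [commutator_sup_left_of_le_centralizer (inf_le_left.trans (ab_cc hA.elem.1)) (nn_of_cc (inf_le_right.trans qV))]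
    exact comm_le_left (hA.le.trans (hT.le.trans nV))
  have nU : P ≤ NN (oz n Q ⊔ oj n T : Subgroup G) := by
    refine nn_of_gen (l.gen' (l.cj hT hg) hT ((sup_comm _ _).trans ho) (cj_mono g hA.le) fun e => hA' ?_) (nn_of_comm_le' ?_)
      (nn_sup (hT.le.trans nV) (nn_oj (le_nn T)))
    · rwa [← cj_nn (l.nQ hg), cj_le_cj_iff] at e
    · refine (commutator_mono (sup_le vW xW) le_rfl).trans (le_sup_left.trans' ?_)
      rw [← cj_nn (nn_oj l.nQ hg), ← cj_nn (nV hg), ← cj_commutator]; exact cj_mono g wA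
  have vX : ∀ {T}, IsSyl p T P → oz n Q ⊓ CC T ≤ oj n T := fun hT => (l.oz_inf ch hT).le.trans (omegaOne_center_le_ZJ _)
  refine ⟨nU, xQ, fun x hx => ?_⟩
  have e1 : cj g (oj n T) = oj n (cj g T) := by rw [oj, cj_omegaOne, cj_ZJ]
  have hx' : x ∈ oz n Q ⊔ cj g (oj n T) := by
    rw [← cj_nn (nV hg), ← cj_sup, cj_nn (nU hg)]; exact mem_sup_right hx
  obtain ⟨v, hv, y, hy, rfl⟩ := (mem_sup_l ((cj_le' (xQ.trans l.QP) hg).trans nV)).1 hx'
  rw [← f.sup hT (l.cj hT hg) ho] at hv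
  obtain ⟨a, ha, b, hb, rfl⟩ := (mem_sup_l (ab_nn (elem_omegaOne (n := n) (comm_inf_centralizer Q)).1
    inf_le_left inf_le_left)).1 hv
  rw [sup_comm, mul_assoc]
  refine mul_mem (mem_sup_left ha.1) (mem_sup_right ⟨?_, mul_mem (e1.ge (vX (l.cj hT hg) hb)) hy⟩)
  have := mul_mem (inv_mem (vX hT ha)) hx
  rwa [mul_assoc, inv_mul_cancel_left] at this

theorem bau3 (h : ¬ thompsonSubgroupOf n T ≤ Q) (hg : g ∈ P) (ho : T ⊔ cj g T = P) {B L : Subgroup G}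
    (hB : B = baumannSubgroupOf n T) (hL : L = B ⊔ cj g B) : FS p q P Q K (oz n Q) ∧ B ⊔ Q = T ∧ L ⊔ Q = P ∧ P ≤ NN L ∧
      T ⊓ L = B ∧ ⁅oj n T, T⁆ ≤ CC L := by
  rw [J_le_iff] at h
  push Not at h
  obtain ⟨A, hA, hA'⟩ := h
  obtain ⟨f, h1, -⟩ := l.bau1 ch hT h3 hA hA'
  obtain ⟨nU, xQ, h2⟩ := l.bau2 ch hT h3 hA hA' hg ho
  have qV : Q ≤ CC (oz n Q) := cc_symm fun u hu => (mem_oz'.1 hu).1.2
  have b1 : B ≤ T := hB ▸ inf_le_left
  have b2 : B ≤ CC (oj n T) := hB ▸ inf_le_right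
  have b3 : B ⊔ Q = T := le_antisymm (sup_le b1 (l.QT hT)) (h1.ge.trans (sup_le le_sup_right
    (le_sup_left.trans' (hB ▸ le_inf hA.le (cc_oj hA)))))
  have b4 : T ≤ NN B := hB ▸ nn_inf (le_nn T) (nn_cc (nn_oj (le_nn T)))
  have c1 : L ⊔ Q = P := by rw [hL, sup_sup_distrib_right, b3, ← ho, ← b3, cj_sup, cj_nn (l.nQ hg)]
  have c2 : Q ≤ NN L := hL ▸ nn_sup ((l.QT hT).trans b4) (by rw [← cj_nn (l.nQ hg), ← cj_normalizer]; exact cj_mono g ((l.QT hT).trans b4))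
  have c3 : L ≤ CC (oj n T ⊓ cj g (oj n T) : Subgroup G) := hL ▸ sup_le (b2.trans (cc_anti inf_le_left))
    (((cj_mono g b2).trans (cj_centralizer _ _).le).trans (cc_anti inf_le_right))
  refine ⟨f, b3, c1, nn_of_gen c1 (le_nn L) c2, ?_, ?_⟩
  · rw [← b3, dedekind (hL ▸ le_sup_left) ((l.QT hT).trans b4), sup_eq_left, hB]
    exact le_inf (inf_le_left.trans (l.QT hT)) (cc_symm (h2.trans (sup_le (cc_symm (inf_le_right.trans c3))
      (cc_symm (inf_le_left.trans qV)))))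
  · rw [← b3]
    nth_rewrite 1 [b3]
    rw [commutator_sup_right_of_le_centralizer b2 ((l.QT hT).trans b4)]
    refine (commutator_mono h2 le_rfl).trans ?_
    rw [commutator_sup_left_of_le_centralizer (cc_symm qV) (nn_of_cc ((cc_symm qV).trans (cc_anti (inf_le_left.trans xQ))))]
    exact (commutator_mono (cc_symm c3) le_rfl).trans (comm_le_left (nn_cc c2))

end LS

theorem FS.pow_cc (f : FS p q P Q K V) (l : LS0 p q P Q K) (hV : IsMulCommutative V) (hVp : IsPGroup p V) (hPV : P ≤ NN V)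
    (hv : v ∈ V) : v ^ p ∈ CC P := by
  let N : Subgroup G := ⟨⟨⟨{v | v ∈ V ∧ v ^ p ∈ CC P}, fun {a b} ha hb => ⟨mul_mem ha.1 hb.1, by
    rw [Commute.mul_pow (ab_cc hV hb.1 a ha.1)]; exact mul_mem ha.2 hb.2⟩⟩, one_mem _, by simp⟩,
    fun {a} ha => ⟨inv_mem ha.1, by rw [inv_pow]; exact inv_mem ha.2⟩⟩
  obtain ⟨T, hT⟩ := exists_isSyl p P
  rcases f.irr l hPV (N := N) (fun _ h => h.1) (fun _ h => ⟨h.1, pow_mem h.2 p⟩) (fun g hg =>
    mem_normalizer_of_conj_mem fun u hu => ⟨conj_mem_of_mem_normalizer (hPV hg) hu.1, by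
      rw [conj_pow]; exact conj_mem_of_mem_normalizer (nn_cc (le_nn P) hg) hu.2⟩) with e | e
  · refine absurd (fun u hu => ?_) (f.ne hT)
    obtain ⟨m, hm⟩ := hVp ⟨u, hu.1⟩
    have : ∀ m, u ^ p ^ m ∈ CC P → u ∈ CC P := fun m => by
      induction m with
      | zero => simp
      | succ m ih => exact fun h => ih (e ⟨pow_mem hu.1 _, by rwa [← pow_mul, ← pow_succ]⟩)
    exact this m (by rw [show u ^ p ^ m = 1 from congrArg Subtype.val hm]; exact one_mem _)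
  · exact (e hv).2

variable {k : Type*} [Field k] [Finite k] [CharP k p]

theorem bau_eq (T : Subgroup G) : T ⊓ CC (centerThompsonAOf T) = baumannSubgroupOf 0 T := by
  rw [baumannSubgroupOf, omegaOne_zero, ZJA_eq]
theorem normal_of_nn (h : ⊤ ≤ NN A) : A.Normal := normalizer_eq_top_iff.1 (eq_top_iff.2 h)
theorem normal_of_cc (h : A ≤ CC (⊤ : Subgroup G)) : A.Normal := normal_of_nn (nn_of_cc (cc_symm h))

section
variable (h : L2 p k (⊤ : Subgroup G) K) (h1 : CC (pCore p G) ≤ pCore p G) (S : Sylow p G)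
include h h1
theorem ch_top : ⊤ ⊓ CC (Qv p (⊤ : Subgroup G)) ≤ Qv p ⊤ := by rwa [Qv_top, top_inf_eq]

theorem thm_2768 (hZ : ¬ ((S : Subgroup G) ⊓ CC (S : Subgroup G)).Normal) (hB : B = (S : Subgroup G) ⊓ CC (centerThompsonAOf (S : Subgroup G))) :
    ∃ P : Sylow p (normalClosure (B : Set G)), (P : Subgroup (normalClosure (B : Set G))) = B.subgroupOf _ := by
  rw [bau_eq] at hB
  have hS := isSyl_top S
  have h3 : ¬ oz 0 (S : Subgroup G) ≤ CC (⊤ : Subgroup G) := fun e => hZ (normal_of_cc (by rwa [oz, omegaOneCenter, omegaOne_zero] at e))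
  refine IsSyl.exists_sylow_sub ?_
  by_cases hJ : thompsonSubgroupOf 0 (S : Subgroup G) ≤ Qv p ⊤
  · haveI : B.Normal := normal_of_nn (hB ▸ h.ls.bau0 (ch_top h h1) hS h3 hJ)
    rw [normalClosure_eq_self]
    exact ⟨le_rfl, S.2.to_le (hB ▸ inf_le_left), by simpa using hp.out.one_lt.ne'⟩
  obtain ⟨g, hg, ho⟩ := h.ls.ex hS
  obtain ⟨-, -, -, a, b, -⟩ := h.ls.bau3 (ch_top h h1) hS h3 hJ hg ho hB rfl
  haveI := normal_of_nn a
  rw [show normalClosure (B : Set G) = B ⊔ cj g B from le_antisymm (normalClosure_le_normal (le_sup_left : B ≤ _))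
    (sup_le le_normalClosure (cj_le le_normalClosure (nn_normal (mem_top g))))]
  have := isSyl_inf_normal S (B ⊔ cj g B)
  rwa [b] at this

theorem thm_2769 : (⁅centerThompsonAOf (S : Subgroup G), (S : Subgroup G)⁆ ⊓ ((S : Subgroup G) ⊓ CC (S : Subgroup G))).Normal ∨
    ((S : Subgroup G) ⊓ CC (centerThompsonAOf (S : Subgroup G))).Normal := by
  rw [bau_eq]
  have hS := isSyl_top S
  by_cases h3 : oz 0 (S : Subgroup G) ≤ CC (⊤ : Subgroup G)
  · exact Or.inl (normal_of_cc (inf_le_right.trans (by rwa [oz, omegaOneCenter, omegaOne_zero] at h3)))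
  by_cases hJ : thompsonSubgroupOf 0 (S : Subgroup G) ≤ Qv p ⊤
  · exact Or.inr (normal_of_nn (h.ls.bau0 (ch_top h h1) hS h3 hJ))
  obtain ⟨g, hg, ho⟩ := h.ls.ex hS
  obtain ⟨-, -, a, -, -, b⟩ := h.ls.bau3 (ch_top h h1) hS h3 hJ hg ho rfl rfl
  rw [oj, omegaOne_zero, ← ZJA_eq] at b
  exact Or.inl (normal_of_cc (cc_of_gen a (inf_le_left.trans b)
    (inf_le_right.trans (inf_le_right.trans (cc_anti (h.ls.QT hS))))))

theorem thm_2770 : (powerClosure p 1 ((S : Subgroup G) ⊓ CC (S : Subgroup G))).Normal ∨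
    ((S : Subgroup G) ⊓ CC (centerThompsonAOf (S : Subgroup G))).Normal := by
  rw [bau_eq]
  have hS := isSyl_top S
  by_cases h3 : oz 0 (S : Subgroup G) ≤ CC (⊤ : Subgroup G)
  · rw [oz, omegaOneCenter, omegaOne_zero] at h3
    exact Or.inl (normal_of_cc ((closure_le _).2 (by rintro _ ⟨x, hx, rfl⟩; exact pow_mem (h3 hx) _)))
  by_cases hJ : thompsonSubgroupOf 0 (S : Subgroup G) ≤ Qv p ⊤
  · exact Or.inr (normal_of_nn (h.ls.bau0 (ch_top h h1) hS h3 hJ))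
  obtain ⟨g, hg, ho⟩ := h.ls.ex hS
  obtain ⟨f, -⟩ := h.ls.bau3 (ch_top h h1) hS h3 hJ hg ho rfl rfl
  refine Or.inl (normal_of_cc ((closure_le _).2 ?_))
  rintro _ ⟨x, hx, rfl⟩
  rw [pow_one]
  exact f.pow_cc h.ls.toLS0 (elem_omegaOne (comm_inf_centralizer _)).1 (h.ls.pg.to_le fun u hu => (mem_oz'.1 hu).1.1)
    (nn_omega (nn_inf h.ls.nQ (nn_cc h.ls.nQ))) ((h.ls.oz_inf (ch_top h h1) hS).ge (mem_oz'.2 ⟨hx, pow_zero x⟩)).1
end

end Cfsg.Agent.PU
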