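/-
The Chermak-Delgado lattice of a subgroup, inside an ambient group.
-/
import Cfsg.Agent.Lib.PU.Bau
import Cfsg.Agent.Lib.Transfer.CD

set_option autoImplicit false
set_option linter.unusedSectionVars false
set_option linter.unusedVariables false
set_option linter.style.haveILetI false
set_option linter.unusedSimpArgs false

namespace Cfsg.Agent.PU

open Subgroup Cfsg.Agent.Transfer Cfsg.Agent.MS
open scoped commutatorElement

universe u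
variable {G : Type u} [Group G] [Finite G]
variable {A B Q R S T X Y : Subgroup G} {g x : G}

/-- member of the Chermak-Delgado lattice of `S` -/
structure LG (S X : Subgroup G) : Prop where
  le : X ≤ S
  max : ∀ Y ≤ S, #Y * #(S ⊓ CC Y : Subgroup G) ≤ #X * #(S ⊓ CC X : Subgroup G)
/-- centrally large in `S` -/
def CL (S X : Subgroup G) : Prop := LG S X ∧ S ⊓ CC X ≤ X
def MCL (S X : Subgroup G) : Prop := CL S X ∧ ∀ Y ≤ X, CL S Y → Y = X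

theorem map_cc_sub (X : Subgroup S) : (CC X).map S.subtype = S ⊓ CC (X.map S.subtype) := by
  have := map_inf_centralizer (inf_ker_eq_bot_of_injective S.subtype_injective ⊤) (le_top : (⊤ : Subgroup S) ≤ ⊤)
    (le_top : X ≤ ⊤)
  rwa [top_inf_eq, ← MonoidHom.range_eq_map, range_subtype] at this
theorem ex_sub (h : X ≤ S) : ∃ Y : Subgroup S, X = Y.map S.subtype := ⟨_, (map_subgroupOf_eq_of_le h).symm⟩
theorem sub_le {X Y : Subgroup S} : X.map S.subtype ≤ Y.map S.subtype ↔ X ≤ Y := map_subtype_le_map_subtype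
theorem lg_iff {X : Subgroup S} : LG S (X.map S.subtype) ↔ IsCentralizerLarge X := by
  refine ⟨fun h => CD.large_of_le ?_, fun h => ⟨map_subtype_le _, fun Y hY => ?_⟩⟩
  · obtain ⟨Y, hY⟩ := CD.exists_large (G := S)
    have := h.max _ (map_subtype_le Y)
    rwa [← map_cc_sub, ← map_cc_sub, card_subtype, card_subtype, card_subtype, card_subtype, hY] at this
  · obtain ⟨Y, rfl⟩ := ex_sub hY
    rw [← map_cc_sub, ← map_cc_sub, card_subtype, card_subtype, card_subtype, card_subtype, h]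
    exact CD.le_max Y
theorem cl_iff {X : Subgroup S} : CL S (X.map S.subtype) ↔ IsCentrallyLarge X := by
  rw [CL, lg_iff, ← map_cc_sub, sub_le, CD.cl_iff]
theorem mcl_iff {X : Subgroup S} : MCL S (X.map S.subtype) ↔ IsMinimalCentrallyLarge X := by
  refine and_congr cl_iff ⟨fun h Y h1 h2 => map_injective S.subtype_injective (h _ (sub_le.2 h1) (cl_iff.2 h2)),
    fun h Y h1 h2 => ?_⟩
  obtain ⟨Y, rfl⟩ := ex_sub h2.1.le
  rw [h Y (sub_le.1 h1) (cl_iff.1 h2)]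
theorem maxE_iff {X : Subgroup S} : MaxE 0 S (X.map S.subtype) ↔ X ∈ maxAbelianSubgroups S := by
  rw [maxE_map_subtype, maxAbelian_eq]

namespace LG
variable (h : LG S X)
include h
theorem of_le (h1 : Y ≤ S) (h2 : #X * #(S ⊓ CC X : Subgroup G) ≤ #Y * #(S ⊓ CC Y : Subgroup G)) : LG S Y :=
  ⟨h1, fun Z hZ => (h.max Z hZ).trans h2⟩
theorem eq (h' : LG S Y) : #X * #(S ⊓ CC X : Subgroup G) = #Y * #(S ⊓ CC Y : Subgroup G) :=
  le_antisymm (h'.max X h.le) (h.max Y h'.le)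
theorem pp : LG S (S ⊓ CC X) ∧ S ⊓ CC (S ⊓ CC X : Subgroup G) = X := by
  obtain ⟨X, rfl⟩ := ex_sub h.le
  have := CD.large_cc (lg_iff.1 h)
  rw [← map_cc_sub, ← map_cc_sub, this.2]; exact ⟨lg_iff.2 this.1, rfl⟩
theorem perp : LG S (S ⊓ CC X) := h.pp.1
theorem perp2 : S ⊓ CC (S ⊓ CC X : Subgroup G) = X := h.pp.2
theorem two (h' : LG S Y) : #(X ⊔ Y : Subgroup G) * #(X ⊓ Y : Subgroup G) = #X * #Y ∧ LG S (X ⊔ Y) ∧ LG S (X ⊓ Y) ∧
    S ⊓ CC (X ⊓ Y : Subgroup G) = (S ⊓ CC X) ⊔ (S ⊓ CC Y) ∧ ∀ x ∈ X ⊔ Y, ∃ a ∈ X, ∃ b ∈ Y, x = a * b := by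
  obtain ⟨X, rfl⟩ := ex_sub h.le
  obtain ⟨Y, rfl⟩ := ex_sub h'.le
  obtain ⟨a, b, c, d⟩ := CD.large_two (lg_iff.1 h) (lg_iff.1 h')
  rw [← Subgroup.map_sup, ← map_inf_eq _ _ _ S.subtype_injective, ← map_cc_sub, ← map_cc_sub, ← map_cc_sub, d,
    card_subtype, card_subtype, card_subtype, card_subtype, lg_iff, lg_iff]
  refine ⟨a, b, c, Subgroup.map_sup _ _ _, ?_⟩
  rintro _ ⟨x, hx, rfl⟩
  obtain ⟨a, ha, b, hb, rfl⟩ := CD.large_mem (lg_iff.1 h) (lg_iff.1 h') hx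
  exact ⟨a, mem_map_of_mem _ ha, b, mem_map_of_mem _ hb, rfl⟩
theorem card (h' : LG S Y) : #(X ⊔ Y : Subgroup G) * #(X ⊓ Y : Subgroup G) = #X * #Y := (h.two h').1
theorem sup (h' : LG S Y) : LG S (X ⊔ Y) := (h.two h').2.1
theorem inf (h' : LG S Y) : LG S (X ⊓ Y) := (h.two h').2.2.1
theorem perp_inf (h' : LG S Y) : S ⊓ CC (X ⊓ Y : Subgroup G) = (S ⊓ CC X) ⊔ (S ⊓ CC Y) := (h.two h').2.2.2.1
theorem mem (h' : LG S Y) (hx : x ∈ X ⊔ Y) : ∃ a ∈ X, ∃ b ∈ Y, x = a * b := (h.two h').2.2.2.2 x hx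
theorem ded (h' : LG S Y) {Z : Subgroup G} (h1 : X ≤ Z) : (X ⊔ Y) ⊓ Z = X ⊔ (Y ⊓ Z) := by
  refine le_antisymm (fun x hx => ?_) (sup_le (le_inf le_sup_left h1) (inf_le_inf_right _ le_sup_right))
  obtain ⟨a, ha, b, hb, rfl⟩ := h.mem h' hx.1
  exact mul_mem (mem_sup_left ha) (mem_sup_right ⟨hb, (mul_mem_cancel_left (h1 ha)).1 hx.2⟩)
theorem cj (g : G) : LG (cj g S) (cj g X) := ⟨cj_mono g h.le, fun Y hY => by
  have := h.max _ (le_cj_iff_cj_inv_le.1 hY)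
  rwa [← card_cj g, ← card_cj g (S ⊓ _), ← card_cj g X, ← card_cj g (S ⊓ CC X), cj_inf_centralizer, cj_inf_centralizer,
    cj_cj_inv] at this⟩
theorem cj' (hg : g ∈ NN S) : LG S (Transfer.cj g X) := cj_nn hg ▸ h.cj g
theorem center_le : S ⊓ CC S ≤ X := (inf_le_inf_left _ (cc_anti inf_le_left)).trans h.perp2.le
/-- passing to a centrally large subgroup -/
theorem down (hT : CL S T) (h1 : X ≤ T) (h2 : T ⊓ CC T ≤ X) : LG T X ∧ S ⊓ CC X = T ⊓ CC X := by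
  have e : S ⊓ CC X = T ⊓ CC X := le_antisymm (le_inf (hT.1.perp2.le.trans' (inf_le_inf_left _ (cc_anti
    ((le_inf hT.2 inf_le_right).trans h2)))) inf_le_right) (inf_le_inf_right _ hT.1.le)
  exact ⟨⟨h1, fun Y hY => e ▸ (Nat.mul_le_mul_left _ (card_le_of_le (inf_le_inf_right _ hT.1.le))).trans
    (h.max Y (hY.trans hT.1.le))⟩, e⟩
end LG

theorem CL.cen (h : CL S T) : S ⊓ CC T = T ⊓ CC T := le_antisymm (le_inf h.2 inf_le_right) (inf_le_inf_right _ h.1.le)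
theorem CL.self (h : CL S T) : CL T T := ⟨(h.1.down h le_rfl inf_le_left).1, inf_le_left⟩
theorem LG.up (h : LG T X) (hT : CL S T) : LG S X := hT.1.of_le (h.le.trans hT.1.le) (by
  rw [hT.cen, hT.self.1.eq h]; exact Nat.mul_le_mul_left _ (card_le_of_le (inf_le_inf_right _ hT.1.le)))
theorem CL.up (h : CL T X) (hT : CL S T) : CL S X :=
  ⟨h.1.up hT, ((h.1.up hT).down hT h.1.le h.1.center_le).2.le.trans h.2⟩
theorem CL.down (h : CL S X) (hT : CL S T) (h1 : X ≤ T) : CL T X :=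
  ⟨(h.1.down hT h1 (h.2.trans' (inf_le_inf hT.1.le (cc_anti h1)))).1, h.2.trans' (inf_le_inf_right _ hT.1.le)⟩
theorem MCL.up (h : MCL T X) (hT : CL S T) : MCL S X :=
  ⟨h.1.up hT, fun Y h1 h2 => h.2 Y h1 (h2.down hT (h1.trans h.1.1.le))⟩
theorem MCL.down (h : MCL S X) (hT : CL S T) (h1 : X ≤ T) : MCL T X :=
  ⟨h.1.down hT h1, fun Y h1 h2 => h.2 Y h1 (h2.up hT)⟩
theorem CL.cj (h : CL S X) (g : G) : CL (cj g S) (cj g X) :=
  ⟨h.1.cj g, by rw [← cj_inf_centralizer]; exact cj_mono g h.2⟩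
theorem MCL.cj (h : MCL S X) (g : G) : MCL (cj g S) (cj g X) := ⟨h.1.cj g, fun Y h1 h2 => by
  rw [← h.2 _ (le_cj_iff_cj_inv_le.1 h1) (cj_inv_cj g S ▸ h2.cj g⁻¹), cj_cj_inv]⟩
theorem CL.ex (h : CL S X) : ∃ R ≤ X, MCL S R := by
  obtain ⟨X, rfl⟩ := ex_sub h.1.le
  obtain ⟨R, h1, h2⟩ := CD.exists_mcl_le (cl_iff.1 h)
  exact ⟨_, sub_le.2 h1, mcl_iff.2 h2⟩
theorem MCL.eq (h : MCL S Q) (h' : CL S R) : (Q ⊓ R) ⊔ (S ⊓ CC Q) = Q := by
  obtain ⟨Q, rfl⟩ := ex_sub h.1.1.le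
  obtain ⟨R, rfl⟩ := ex_sub h'.1.le
  rw [← map_cc_sub, ← map_inf_eq _ _ _ S.subtype_injective, ← Subgroup.map_sup, CD.mcl_eq (mcl_iff.1 h) (cl_iff.1 h')]
theorem MCL.der (h : MCL S Q) (h' : MCL S R) : ⁅Q, Q⁆ = ⁅R, R⁆ ∧ #Q = #R := by
  obtain ⟨Q, rfl⟩ := ex_sub h.1.1.le
  obtain ⟨R, rfl⟩ := ex_sub h'.1.1.le
  rw [← map_commutator, ← map_commutator, CD.mcl_der (mcl_iff.1 h) (mcl_iff.1 h'), card_subtype, card_subtype]
  exact ⟨rfl, (CD.mcl_card (mcl_iff.1 h) (mcl_iff.1 h')).1⟩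
theorem CL.mcl (h : CL S R) (h' : MCL S Q) (e : #R ≤ #Q) : MCL S R := by
  obtain ⟨R', h1, h2⟩ := h.ex
  rwa [← eq_of_le_of_card_ge h1 (e.trans (h'.der h2).2.le)]
theorem cl_self (h : S ≤ CC (centerThompsonAOf S)) : CL S S := by
  obtain ⟨Q, hQ⟩ := CD.exists_cl (G := S)
  have := cl_iff.2 (CD.cl_J hQ)
  rwa [le_antisymm (map_subtype_le _) ((map_mono (CD.tilde_le hQ)).trans' ?_)] at this
  rw [map_cc_sub, map_inf_eq _ _ _ S.subtype_injective, map_cc_sub]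
  exact le_inf le_rfl (h.trans (cc_anti (inf_le_inf_left _ inf_le_right)))

variable {p q : ℕ} [hp : Fact p.Prime] {K P : Subgroup G}

theorem oz0 (T : Subgroup G) : oz 0 T = T ⊓ CC T := omegaOne_zero _

/-- the situation `J̃(T) = T`, `Z(T)` not central -/
structure GP (p q : ℕ) (P Q K T : Subgroup G) : Prop where
  l : LS p q P Q K
  ch : P ⊓ CC Q ≤ Q
  syl : IsSyl p T P
  f : FS p q P Q K (Q ⊓ CC Q)
  cT : CL T T
  cQ : CL T Q

theorem LS.gl (l : LS p q P Q K) (ch : P ⊓ CC Q ≤ Q) (hT : IsSyl p T P) (h : T ≤ CC (centerThompsonAOf T))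
    (h3 : ¬ T ⊓ CC T ≤ CC P) : GP p q P Q K T := by
  rw [← oz0] at h3
  have hJ : ¬ thompsonSubgroupOf 0 T ≤ Q := fun e => by
    have := l.bau0 ch hT h3 e
    rw [← bau_eq, inf_eq_left.2 h] at this
    obtain ⟨g, hg, e⟩ := l.ex hT
    rw [cj_nn (this hg), sup_idem] at e
    exact l.ne hT (by rw [e, sup_eq_right.2 l.KP])
  obtain ⟨g, hg, ho⟩ := l.ex hT
  have f := (l.bau3 ch hT h3 hJ hg ho rfl rfl).1
  have e := l.oz_inf (n := 0) ch hT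
  rw [oz0] at f
  rw [oz0, oz0] at e
  have c := cl_self h
  have e1 : T ⊓ CC Q = Q ⊓ CC Q := le_antisymm (le_inf (ch.trans' (inf_le_inf_right _ hT.le)) inf_le_right)
    (inf_le_inf_right _ (l.QT hT))
  refine ⟨l, ch, hT, f, c, c.1.of_le (l.QT hT) ?_, e1.le.trans inf_le_left⟩
  rw [e1, ← card_mul_relIndex (l.QT hT), ← card_inf_mul_relIndex (CC T) (Q ⊓ CC Q), inf_comm (CC T), e, l.card hT, f.idx hT]
  exact le_of_eq (by ring)

namespace GP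
variable (h : GP p q P Q K T)
include h
theorem QT : Q ≤ T := h.l.QT h.syl
theorem nV : P ≤ NN (Q ⊓ CC Q : Subgroup G) := nn_inf h.l.nQ (nn_cc h.l.nQ)
theorem QV : Q ≤ CC (Q ⊓ CC Q : Subgroup G) := cc_symm inf_le_right
theorem lV : LG T (Q ⊓ CC Q) := h.cQ.cen ▸ h.cQ.1.perp
theorem pV : T ⊓ CC (Q ⊓ CC Q : Subgroup G) = Q := by rw [← h.cQ.cen, h.cQ.1.perp2]
theorem ZT : (Q ⊓ CC Q) ⊓ CC T = T ⊓ CC T := by
  have := h.l.oz_inf (n := 0) h.ch h.syl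
  rwa [oz0, oz0] at this
theorem cA (h1 : A ≤ T) (h2 : ¬ A ≤ Q) : (Q ⊓ CC Q) ⊓ CC A = T ⊓ CC T := by rw [h.f.cA h.syl h1 h2, h.ZT]
theorem sup (h1 : LG T X) (h2 : ¬ X ≤ Q) : Q ⊔ X = T := by
  rw [← (h.cQ.1.sup h1).perp2, cc_sup, ← inf_assoc, h.cQ.cen, h.cA h1.le h2, h.cT.1.perp2]
theorem idx (h1 : LG T X) (h2 : ¬ X ≤ Q) : #(X ⊓ Q : Subgroup G) * q = #X := by
  have := h.cQ.1.card h1
  rw [h.sup h1 h2, ← card_mul_relIndex h.QT, h.l.card h.syl, mul_assoc, inf_comm, mul_comm q] at this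
  exact Nat.eq_of_mul_eq_mul_left Nat.card_pos this
theorem cardV : #(T ⊓ CC T : Subgroup G) * q = #(Q ⊓ CC Q : Subgroup G) := by
  rw [← card_inf_mul_relIndex (CC T) (Q ⊓ CC Q), inf_comm (CC T), h.ZT, h.f.idx h.syl]
theorem cc_of_nn (h1 : X ≤ T ⊓ CC T) (h2 : P ≤ NN X) : X ≤ CC P := by
  obtain ⟨g, hg, e⟩ := h.l.ex h.syl
  refine cc_of_gen e (h1.trans inf_le_right) ?_
  rw [← cj_nn (h2 hg), ← cj_centralizer]; exact cj_mono g (h1.trans inf_le_right)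
theorem cen_not (hR : MCL T R) (h1 : ¬ R ≤ Q) : ¬ T ⊓ CC R ≤ Q := fun e => h1 ((hR.eq h.cQ).ge.trans (sup_le inf_le_right e))
theorem inf_V (hR : MCL T R) (h1 : ¬ R ≤ Q) : R ⊓ (Q ⊓ CC Q) = T ⊓ CC T :=
  le_antisymm ((h.cA inf_le_left (h.cen_not hR h1)).le.trans' (le_inf inf_le_right (inf_le_left.trans
    (cc_symm inf_le_right)))) (le_inf hR.1.1.center_le (h.ZT.ge.trans inf_le_left))
theorem nn_der (hR : MCL T R) : P ≤ NN (⁅R, R⁆ : Subgroup G) := by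
  obtain ⟨X, h1, h2⟩ := h.cQ.self.ex
  rw [(hR.der (h2.up h.cQ)).1]
  refine fun g hg => mem_normalizer_iff_cj.2 ?_
  rw [cj_commutator]
  exact ((cj_nn (h.l.nQ hg) ▸ h2.cj g).der h2).1
theorem der_cc (hR : MCL T R) (h1 : ¬ R ≤ Q) : (T ⊓ CC T) ⊓ ⁅R, R⁆ ≤ CC P :=
  (h.cc_of_nn ((h.inf_V hR h1).le.trans' (inf_le_inf_right _ (der_le R))) (nn_inf (h.nn_der hR) h.nV)).trans'
    (le_inf inf_le_right (inf_le_left.trans (h.ZT.ge.trans inf_le_left)))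
theorem nn_sSup {s : Subgroup G → Prop} {φ : Subgroup G → Subgroup G} (h1 : ∀ g ∈ P, ∀ X, φ (cj g X) = cj g (φ X))
    (h2 : ∀ g ∈ P, ∀ X ≤ Q, s X → s (cj g X)) (h3 : ∀ X, s X → ∃ Y ≤ Q, s Y ∧ φ X ≤ φ Y) :
    P ≤ NN (sSup {Z | ∃ X, s X ∧ Z = φ X}) := fun g hg => mem_normalizer_of_cj_le (cj_le_iff_le_cj_inv.2 (sSup_le (by
  rintro _ ⟨X, hX, rfl⟩
  obtain ⟨Y, a, b, c⟩ := h3 X hX
  exact c.trans (cj_le_iff_le_cj_inv.1 (le_sSup ⟨_, h2 g hg Y a b, (h1 g hg Y).symm⟩)))))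
theorem mcl_cj (hg : g ∈ P) (h1 : X ≤ Q) (h2 : MCL T X) : MCL T (cj g X) :=
  (cj_nn (h.l.nQ hg) ▸ (h2.down h.cQ h1).cj g).up h.cQ
end GP

theorem exists_mho (p : ℕ) (hA : IsMulCommutative A) : ∃ M : Subgroup G, (∀ y, y ∈ M ↔ ∃ a ∈ A, a ^ p = y) ∧
    #(omegaOne p A) * #M = #A := by
  let φ : A →* G := MonoidHom.mk' (fun a => (a : G) ^ p) fun a b => Commute.mul_pow (ab_cc hA b.2 a a.2) p
  refine ⟨φ.range, fun y => ⟨fun ⟨a, h⟩ => ⟨a, a.2, h⟩, fun ⟨a, h, e⟩ => ⟨⟨a, h⟩, e⟩⟩, ?_⟩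
  rw [← index_ker, ← φ.ker.card_mul_index, ← Nat.card_congr (subgroupOfEquivOfLe (omegaOne_le (n := p) A)).toEquiv]
  congr 3; ext a; rw [mem_subgroupOf, mem_omegaOne_iff hA]; exact and_iff_right a.2
/-- Frattini subgroup, in the ambient group -/
def fr (X : Subgroup G) : Subgroup G := (frattini X).map X.subtype
theorem map_fr {H : Type*} [Group H] (hX : IsPGroup p X) (f : G →* H) : (fr X).map f = (frattini (X.map f)).map (X.map f).subtype := by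
  rw [← Solv.map_frattini_eq_of_isPGroup hX (f.subgroupMap_surjective X), fr, map_map, map_map]; rfl
theorem fr_le (h1 : ⁅X, X⁆ ≤ Y) (h2 : ∀ x ∈ X, x ^ p ∈ Y) : fr X ≤ Y := Solv.map_frattini_le_of_commutator_le_of_pow_mem h1 h2
theorem der_le_fr (h : IsPGroup p X) : ⁅X, X⁆ ≤ fr X := Solv.commutator_le_map_frattini h.isNilpotent
theorem pow_mem_fr (h : IsPGroup p X) (hx : x ∈ X) : x ^ p ∈ fr X := Solv.pow_mem_map_frattini h hx

theorem FS.pow_eq {V : Subgroup G} (f : FS p q P Q K V) (l : LS0 p q P Q K) (hV : IsMulCommutative V) (hVp : IsPGroup p V)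
    (hPV : P ≤ NN V) (hx : x ∈ V) : ∃ z ∈ V ⊓ CC P, x ^ p = z ^ p := by
  have c : ∀ {a b}, a ∈ V → b ∈ V → (a * b) ^ p = a ^ p * b ^ p := fun ha hb => Commute.mul_pow (ab_cc hV hb _ ha) p
  let N : Subgroup G := ⟨⟨⟨{v | v ∈ V ∧ ∃ z ∈ V ⊓ CC P, v ^ p = z ^ p}, fun ⟨ha, y, hy, e⟩ ⟨hb, z, hz, e'⟩ =>
    ⟨mul_mem ha hb, _, mul_mem hy hz, by rw [c ha hb, c hy.1 hz.1, e, e']⟩⟩, one_mem _, 1, one_mem _, rfl⟩,
    fun ⟨ha, y, hy, e⟩ => ⟨inv_mem ha, _, inv_mem hy, by rw [inv_pow, inv_pow, e]⟩⟩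
  obtain ⟨T, hT⟩ := exists_isSyl p P
  refine (((f.irr l hPV (N := N) (fun _ h => h.1) (fun v h => ⟨h.1, v, h, rfl⟩) fun g hg =>
    mem_normalizer_of_conj_mem fun u ⟨hu, z, hz, e⟩ => ⟨conj_mem_of_mem_normalizer (hPV hg) hu, z, hz, by
      rw [conj_pow, e, (pow_mem hz.2 p) g hg, mul_inv_cancel_right]⟩).resolve_left fun e => f.comm_not l hT
        (e.trans' ?_)) hx).2
  rw [commutator_comm]
  refine commutator_le.2 fun t ht v hv => ?_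
  have m := conj_mem_of_mem_normalizer (hPV (hT.le ht)) hv
  refine ⟨mul_mem m (inv_mem hv), 1, one_mem _, ?_⟩
  rw [commutatorElement_def, c m (inv_mem hv), conj_pow, f.pow_cc l hV hVp hPV hv t (hT.le ht)]; simp

theorem GP.repl (h : GP p q P Q K T) (hR : MCL T R) (h1 : ¬ R ≤ Q) (hm : ∀ Y, MCL T Y → #(oz p Y) ≤ #(oz p R)) :
    ∃ Y ≤ Q, (MCL T Y ∧ #(oz p Y) = #(oz p R)) ∧ fr R ≤ fr Y := by
  have l1 := (hR.1.1.inf h.cQ.1).sup h.lV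
  have vQ : Q ⊓ CC Q ≤ Q := inf_le_left
  have e1 : T ⊓ CC ((R ⊓ Q) ⊔ (Q ⊓ CC Q) : Subgroup G) = (Q ⊓ CC Q) ⊔ ((T ⊓ CC R) ⊓ Q) := by
    rw [cc_sup, inf_inf_distrib_left, h.pV, hR.1.1.perp_inf h.cQ.1, h.cQ.cen, sup_comm, h.lV.ded hR.1.1.perp vQ]
  have c1 : CL T ((R ⊓ Q) ⊔ (Q ⊓ CC Q)) := ⟨l1, e1.le.trans (sup_le le_sup_right
    (le_sup_left.trans' (inf_le_inf_right _ hR.1.2)))⟩
  have e2 : #((R ⊓ Q) ⊔ (Q ⊓ CC Q) : Subgroup G) = #R := by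
    have := (hR.1.1.inf h.cQ.1).card h.lV
    rw [inf_assoc, inf_eq_right.2 vQ, h.inf_V hR h1, ← h.cardV, ← mul_assoc, mul_right_comm, h.idx hR.1.1 h1] at this
    exact Nat.eq_of_mul_eq_mul_right Nat.card_pos this
  have m := c1.mcl hR e2.le
  have e3 := l1.eq hR.1.1
  rw [e2, Nat.mul_right_inj Nat.card_pos.ne', c1.cen, hR.1.cen] at e3
  obtain ⟨M, a1, a2⟩ := exists_mho p (ab_center R)
  obtain ⟨M', b1, b2⟩ := exists_mho p (ab_center ((R ⊓ Q) ⊔ (Q ⊓ CC Q)))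
  have zR : T ⊓ CC T ≤ T ⊓ CC R := inf_le_inf_left _ (cc_anti hR.1.1.le)
  have key : ∀ y ∈ M', ∃ a ∈ (T ⊓ CC R) ⊓ Q, a ^ p = y := fun y hy => by
    obtain ⟨a, ha, rfl⟩ := (b1 y).1 hy
    rw [← c1.cen, e1] at ha
    obtain ⟨v, hv, z, hz, rfl⟩ := (mem_sup_l (inf_le_right.trans (nn_of_cc h.QV))).1 ha
    obtain ⟨c, hc, e⟩ := h.f.pow_eq h.l.toLS0 (ab_center Q) (h.l.pg.to_le vQ) h.nV hv
    refine ⟨c * z, mul_mem ⟨zR (h.ZT.le ⟨hc.1, cc_anti h.syl.le hc.2⟩), hc.1.1⟩ hz, ?_⟩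
    rw [Commute.mul_pow (hc.1.2 z hz.2).symm, Commute.mul_pow (hv.2 z hz.2).symm, e]
  have le : M' ≤ M := fun y hy => (a1 y).2 ((key y hy).imp fun a ha => ⟨hR.1.cen.le ha.1.1, ha.2⟩)
  have h2 := hm _ m
  have h3 := b2.trans (e3.trans a2.symm)
  have h4 : #M ≤ #M' := by
    by_contra e
    exact absurd h3 (Nat.mul_lt_mul_of_le_of_lt h2 (not_le.1 e) Nat.card_pos).ne
  have e4 := eq_of_le_of_card_ge le h4
  have pg := h.syl.pgroup.to_le l1.le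
  refine ⟨_, sup_le inf_le_right vQ, ⟨m, ?_⟩, fr_le (p := p) ((hR.der m).1.le.trans (der_le_fr pg)) fun r hr => ?_⟩
  · rw [e4] at h3; exact Nat.eq_of_mul_eq_mul_right Nat.card_pos h3
  · obtain ⟨a, ha, z, hz, rfl⟩ := (mem_sup_l (inf_le_right.trans (nn_of_cc (cc_anti inf_le_left)))).1 ((hR.eq h.cQ).ge hr)
    obtain ⟨y, hy, e⟩ := key _ (e4.ge ((a1 _).2 ⟨z, hR.1.cen.le hz, rfl⟩))
    rw [Commute.mul_pow (hz.2 a ha.1), ← e]
    exact mul_mem (pow_mem_fr pg (mem_sup_left ha)) (pow_mem_fr pg (mem_sup_left ⟨hR.1.2 hy.1, hy.2⟩))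

theorem pu_gp (hE : IsPushingUpSituation p S) (hJ : S ≤ CC (centerThompsonAOf S)) (h : ¬ (S ⊓ CC S).Normal) :
    ∃ q K, GP p q ⊤ (Qv p ⊤) K S := by
  obtain ⟨-, ⟨S, rfl⟩, h1, h2, K, _, k, _, _, n, hk, ⟨e⟩⟩ := hE
  haveI := charP_of hk
  have l := l2_of_max e S h2
  exact ⟨_, K, l.ls.gl (ch_top l h1) (isSyl_top S) hJ fun e => h (normal_of_cc e)⟩

theorem map_sSup_sub (s : Set (Subgroup S)) {t : Subgroup G → Prop} (h : ∀ X : Subgroup S, t (X.map S.subtype) ↔ X ∈ s)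
    (h' : ∀ X, t X → X ≤ S) : (sSup s).map S.subtype = sSup {Z | ∃ X, t X ∧ Z = X} := by
  refine le_antisymm (map_le_iff_le_comap.2 (sSup_le fun X hX => map_le_iff_le_comap.1 (le_sSup ⟨_, (h X).2 hX, rfl⟩)))
    (sSup_le ?_)
  rintro X ⟨_, hX, rfl⟩
  obtain ⟨X, rfl⟩ := ex_sub (h' X hX)
  exact map_mono (le_sSup ((h X).1 hX))

omit hp in
theorem mcl_char {H : Type*} [Group H] [Finite H] {Q : Subgroup H} (hQ : IsMinimalCentrallyLarge Q) (e : H ≃* H) :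
    IsMinimalCentrallyLarge (Q.map e.toMonoidHom) := by
  have key : ∀ (e : H ≃* H) (Q : Subgroup H), IsCentrallyLarge Q → IsCentrallyLarge (Q.map e.toMonoidHom) := fun e Q h => by
    have := (e.subgroupMap Q).symm
    exact Eq.trans (congrArg₂ _ (Nat.card_congr this.toEquiv) (Nat.card_congr (centerCongr this).toEquiv)) h
  refine ⟨key e Q hQ.1, fun R h1 h2 => ?_⟩
  rw [← hQ.2 _ (by simpa [map_map] using map_mono (f := e.symm.toMonoidHom) h1) (key e.symm R h2), map_map]; simp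

theorem thm_2990 (hE : IsPushingUpSituation p S) (hJ : S ≤ CC (centerThompsonAOf S)) {Q : Subgroup S}
    (hQ : IsMinimalCentrallyLarge Q) : ((S ⊓ CC S) ⊓ (⁅Q, Q⁆).map S.subtype).Normal ∨
      ((minimalCentrallyLargeJoin S).map S.subtype).Normal := by
  by_cases h : (S ⊓ CC S).Normal
  · obtain ⟨-, ⟨S, rfl⟩, h1, h2, K, _, k, _, _, n, hk, ⟨e⟩⟩ := hE
    haveI := charP_of hk
    have l := (l2_of_max e S h2).ls
    obtain ⟨g, hg, e⟩ := l.ex (isSyl_top S)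
    refine Or.inl (normal_of_cc (inf_le_left.trans (cc_of_gen e inf_le_right ?_)))
    rw [← cj_eq_of_normal g (_ ⊓ _), ← cj_centralizer]; exact cj_mono g inf_le_right
  obtain ⟨q, K, h⟩ := pu_gp hE hJ h
  by_cases h1 : ∀ R, MCL S R → R ≤ Qv p ⊤
  · rw [minimalCentrallyLargeJoin, map_sSup_sub {R | IsMinimalCentrallyLarge R} (t := MCL S) (fun X => mcl_iff) fun X h => h.1.1.le]
    exact Or.inr (normal_of_nn (h.nn_sSup (φ := id) (fun _ _ _ => rfl) (fun g hg X => h.mcl_cj hg)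
      fun X hX => ⟨X, h1 X hX, hX, le_rfl⟩))
  push Not at h1
  obtain ⟨R, hR, h1⟩ := h1
  rw [map_commutator, ((mcl_iff.2 hQ).der hR).1]
  exact Or.inl (normal_of_cc (h.der_cc hR h1))

omit hp in
theorem le_mz {H : Type*} [Group H] [Finite H] {Q : Subgroup H} (h : IsMinimalCentrallyLarge Q) :
    #(oz p Q) ≤ maxOmegaCenterOfMinimalCL p H :=
  le_csSup ⟨#H, by rintro _ ⟨Y, -, rfl⟩; exact card_le_card_group _⟩ ⟨Q, h, rfl⟩
omit hp in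
theorem exists_mz {H : Type u} [Group H] [Finite H] : ∃ Q : Subgroup H, IsMinimalCentrallyLarge Q ∧
    #(oz p Q) = maxOmegaCenterOfMinimalCL p H := by
  obtain ⟨R, hR⟩ := CD.exists_cl (G := H)
  obtain ⟨Q, -, hQ⟩ := CD.exists_mcl_le hR
  exact Nat.sSup_mem (s := {k : ℕ | ∃ Q : Subgroup H, IsMinimalCentrallyLarge Q ∧ #(omegaOneCenter p Q) = k}) ⟨_, Q, hQ, rfl⟩
    ⟨#H, by rintro _ ⟨Y, -, rfl⟩; exact card_le_card_group _⟩
omit hp in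
theorem card_oz_sub (X : Subgroup S) : #(oz p (X.map S.subtype)) = #(oz p X) := by
  have k0 := inf_ker_eq_bot_of_injective S.subtype_injective
  rw [oz, omegaOneCenter, ← map_inf_centralizer (k0 ⊤) le_top le_top, ← map_omegaOne (k0 _), card_subtype]; rfl

theorem thm_2989a (hE : IsPushingUpSituation p S) (hJ : S ≤ CC (centerThompsonAOf S)) :
    (S ⊓ CC S).Normal ∨ ((frattiniOfMinimalCLJoin p S).map S.subtype).Normal := by
  refine or_iff_not_imp_left.2 fun h => ?_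
  obtain ⟨q, K, h⟩ := pu_gp hE hJ h
  have e : (frattiniOfMinimalCLJoin p S).map S.subtype =
      sSup {Z | ∃ X, (MCL S X ∧ #(oz p X) = maxOmegaCenterOfMinimalCL p S) ∧ Z = fr X} := by
    rw [frattiniOfMinimalCLJoin, Subgroup.map_iSup]
    refine le_antisymm (iSup_le fun X => le_sSup ⟨_, ⟨mcl_iff.2 X.2.1, (card_oz_sub _).trans X.2.2⟩,
      map_fr (h.syl.pgroup.to_subgroup _) _⟩) (sSup_le ?_)
    rintro _ ⟨X, ⟨h1, h2⟩, rfl⟩
    obtain ⟨X, rfl⟩ := ex_sub h1.1.1.le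
    exact le_iSup_of_le ⟨X, mcl_iff.1 h1, (card_oz_sub _).symm.trans h2⟩ (map_fr (h.syl.pgroup.to_subgroup _) _).ge
  rw [e]
  refine normal_of_nn fun g hg => ?_
  refine mem_normalizer_of_cj_le (cj_le_iff_le_cj_inv.2 (sSup_le ?_))
  rintro _ ⟨X, hX, rfl⟩
  obtain ⟨Y, a, b, c⟩ : ∃ Y ≤ Qv p ⊤, (MCL S Y ∧ #(oz p Y) = #(oz p X)) ∧ fr X ≤ fr Y := by
    by_cases h1 : X ≤ Qv p ⊤
    · exact ⟨X, h1, ⟨hX.1, rfl⟩, le_rfl⟩
    refine h.repl hX.1 h1 fun Y hY => ?_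
    obtain ⟨Y, rfl⟩ := ex_sub hY.1.1.le
    rw [hX.2, card_oz_sub]; exact le_mz (mcl_iff.1 hY)
  refine c.trans (cj_le_iff_le_cj_inv.1 (le_sSup ⟨_, ⟨h.mcl_cj hg a b.1, ?_⟩, map_fr (h.l.pg.to_le a) _⟩))
  rw [← hX.2, ← b.2, ← cj_oz, card_cj]

theorem thm_2989b {H : Type u} [Group H] [Finite H] (hH : IsPGroup p H) (h : frattiniOfMinimalCLJoin p H = ⊥) :
    (∀ Q : Subgroup H, IsMinimalCentrallyLarge Q ↔ Q ∈ maxAbelianSubgroups H) ∧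
      ∃ A ∈ maxAbelianSubgroups H, IsElementaryAbelian p A := by
  obtain ⟨Q, h1, h2⟩ := exists_mz (p := p) (H := H)
  have h3 : fr Q ≤ ⊥ := h.le.trans' (le_iSup_of_le ⟨Q, h1, h2⟩ le_rfl)
  have h4 := ab_iff_der.2 (le_bot_iff.1 ((der_le_fr (hH.to_subgroup Q)).trans h3))
  exact ⟨fun R => CD.mcl_iff h1 h4, Q, (CD.mcl_iff h1 h4).1 h1, h4, fun x hx => h3 (pow_mem_fr (hH.to_subgroup Q) hx)⟩

end Cfsg.Agent.PU
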