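/-
Miscellaneous small results: Z-groups, prime graphs, coprime orbits, the dihedral lemma.
-/
import Cfsg.Agent.Lib.MS.Base3
import Cfsg.Agent.Lib.Solv.Frob2
import Cfsg.Agent.Lib.Solv.Fact
import Cfsg.Agent.Lib.Solv.PGrp
import Cfsg.Agent.Lib.Transfer.Stab

set_option autoImplicit false
set_option linter.unusedSectionVars false
set_option linter.unusedVariables false
set_option linter.style.haveILetI false
set_option linter.unusedSimpArgs false

namespace Cfsg.Agent.PU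

open Subgroup Cfsg.Agent.Transfer Cfsg.Agent.MS
open scoped commutatorElement

universe u
variable {G : Type u} [Group G] [Finite G]
variable {A B H K L M P Q : Subgroup G} {a b g x y : G}

theorem thm_3379 (hZ : ∀ (p : ℕ) [Fact p.Prime] (P : Sylow p G), IsCyclic (P : Subgroup G)) :
    ∃ (x y : G) (n m r : ℕ), Subgroup.closure {x, y} = ⊤ ∧ orderOf x = n ∧ orderOf y = m ∧
      x⁻¹ * y * x = y ^ r ∧ Nat.Coprime (r - 1) m ∧ Nat.Coprime n m ∧ 1 ≤ r ∧ r ^ n % m = 1 % m := by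
  haveI : IsZGroup G := ⟨fun p hp P => by haveI := Fact.mk hp; exact hZ p P⟩
  obtain ⟨y, hy, ey⟩ := exists_zpowers (IsZGroup.isCyclic_commutator (G := G))
  have cop := IsZGroup.coprime_commutator_index G
  obtain ⟨H, hH⟩ := Subgroup.exists_right_complement'_of_coprime cop
  haveI : IsCyclic (G ⧸ commutator G) := IsZGroup.isCyclic_abelianization
  obtain ⟨x, hx, ex⟩ := exists_zpowers (A := H) (isCyclic_of_surjective _ hH.symm.QuotientMulEquiv.surjective)
  have top : zpowers x ⊔ zpowers y = ⊤ := by rw [← ex, ← ey, sup_comm, hH.sup_eq_top]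
  have h1 : x⁻¹ * y * x ∈ zpowers y := ey ▸ inv_conj_mem_of_mem_normalizer (nn_normal (mem_top x)) hy
  obtain ⟨r, hr⟩ := (mem_powers_iff_mem_zpowers.2 h1 : _)
  have hr' : x⁻¹ * y * x = y ^ (r + orderOf y) := by rw [pow_add, pow_orderOf_eq_one, mul_one]; exact hr.symm
  have pos := orderOf_pos y
  refine ⟨x, y, _, _, r + orderOf y, by rw [closure_pair_eq, top], rfl, rfl, hr', ?_, ?_, by omega, ?_⟩
  · have le : zpowers (y ^ (r + orderOf y - 1)) ≤ commutator G := zpowers_le.2 (pow_mem hy _)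
    haveI := Solv.normal_of_le_isCyclic (IsZGroup.isCyclic_commutator G) le
    let f := QuotientGroup.mk' (zpowers (y ^ (r + orderOf y - 1)))
    have c : f x ∈ C1 (f y) := by
      have : f (y ^ (r + orderOf y)) = f y := by
        refine (congrArg f (pow_sub_one_mul (n := r + orderOf y) (by omega) y).symm).trans ?_
        rw [map_mul, show f _ = 1 from (QuotientGroup.eq_one_iff _).2 (mem_zpowers _), one_mul]
      rw [← hr', map_mul, map_mul, map_inv, mul_assoc, inv_mul_eq_iff_eq_mul] at this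
      exact mem_C1.2 this.symm
    have ab := ab_iff_der.1 (comm_sup (ab_of_cyc (cyc_zpowers (f x))) (ab_of_cyc (cyc_zpowers (f y)))
      (by rw [cc_zpowers]; exact zpowers_le.2 c))
    rw [← MonoidHom.map_zpowers, ← MonoidHom.map_zpowers, ← Subgroup.map_sup, top, ← Subgroup.map_commutator,
      Subgroup.map_eq_bot_iff, QuotientGroup.ker_mk'] at ab
    exact mem_zpowers_pow_iff.1 (ab hy)
  · rw [← Nat.card_zpowers, ← Nat.card_zpowers, ← ex, ← ey, ← hH.symm.index_eq_card]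
    exact cop.symm
  · have : ∀ k, (x ^ k)⁻¹ * y * x ^ k = y ^ (r + orderOf y) ^ k := fun k => by
      induction k with
      | zero => simp
      | succ k ih =>
        have e : (x ^ (k + 1))⁻¹ * y * x ^ (k + 1) = (x ^ k)⁻¹ * (x⁻¹ * y * x) * x ^ k := by group
        rw [e, hr', pow_succ, pow_mul, ← ih]
        simpa using (conj_pow (a := (x ^ k)⁻¹) (b := y) (i := r + orderOf y)).symm
    have h := this (orderOf x)
    rw [pow_orderOf_eq_one, inv_one, one_mul, mul_one] at h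
    exact pow_eq_pow_iff_modEq.1 (h.symm.trans (pow_one y).symm)

theorem ord_mul {p q : ℕ} (hp : p.Prime) (hq : q.Prime) (hpq : p ≠ q) (h : A ≤ CC B) (h1 : p ∣ #A) (h2 : q ∣ #B) :
    ∃ x : G, orderOf x = p * q := by
  obtain ⟨X, hX, cX⟩ := exists_card_eq hp h1
  obtain ⟨Y, hY, cY⟩ := exists_card_eq hq h2
  obtain ⟨x, hx, ex⟩ := exists_zpowers (prime_cyc (cX ▸ hp))
  obtain ⟨y, hy, ey⟩ := exists_zpowers (prime_cyc (cY ▸ hq))
  rw [ex, Nat.card_zpowers] at cX; rw [ey, Nat.card_zpowers] at cY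
  exact ⟨x * y, by rw [Commute.orderOf_mul_eq_mul_orderOf_of_coprime (h (hX hx) y (hY hy)).symm
    (cX ▸ cY ▸ (Nat.coprime_primes hp hq).2 hpq), cX, cY]⟩

theorem card_div (h : K ≤ M) : #M / #K = K.relIndex M := by
  rw [← card_mul_relIndex h, Nat.mul_div_cancel_left _ (card_pos' K)]

theorem three_edge (K M : Subgroup G) [K.Normal] [M.Normal] (hKM : K ≤ M)
    {p q r : ℕ} (hp : p.Prime) (hq : q.Prime) (hr : r.Prime) (hpq : p ≠ q) (hpr : p ≠ r) (hqr : q ≠ r)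
    (hpK : p ∣ #K) (hqM : q ∣ K.relIndex M) (hrG : r ∣ M.relIndex ⊤) :
    (∃ x : G, orderOf x = p * q) ∨ (∃ x : G, orderOf x = p * r) ∨ (∃ x : G, orderOf x = q * r) := by
  by_contra! h
  haveI := Fact.mk hp; haveI := Fact.mk hq
  obtain ⟨P, hP⟩ := exists_isSyl p K
  obtain ⟨Q, hQ⟩ := exists_isSyl q (M ⊓ NN P)
  have e1 := frattini hP hKM nn_normal
  have e2 := frattini hP le_top nn_normal
  have e3 := frattini hQ inf_le_right (nn_inf nn_normal (le_nn _))
  have q1 : q ∣ #Q := pg_dvd hQ.pgroup (syl_ne_bot hQ (by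
    rw [← e1, relIndex_sup_l nn_normal] at hqM; exact hqM.trans (relIndex_dvd _ _)))
  have e4 : M ⊔ (NN P ⊓ NN Q) = ⊤ := eq_top_iff.2 (e2.ge.trans (sup_le (hKM.trans le_sup_left)
    (inf_le_right.trans (e3.ge.trans (sup_le_sup_right inf_le_left _)))))
  obtain ⟨X, hX, cX⟩ := exists_card_eq hr (H := NN P ⊓ NN Q) (by
    rw [← e4, relIndex_sup_l nn_normal] at hrG; exact hrG.trans (relIndex_dvd _ _))
  have P0 := syl_ne_bot hP hpK
  have reg : ∀ Y : Subgroup G, (∀ s, s.Prime → s ∣ #Y → s = q ∨ s = r) → Reg P Y := fun Y hY =>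
    reg_of_prime fun Z hZ pZ => by_contra fun e => by
      obtain ⟨x, hx⟩ := ord_mul hp pZ (by rcases hY _ pZ (card_dvd hZ) with e | e <;> omega) inf_le_right
        (pg_dvd (hP.pgroup.to_le inf_le_left) e) dvd_rfl
      rcases hY _ pZ (card_dvd hZ) with e | e <;> rw [e] at hx
      exacts [h.1 x hx, h.2.1 x hx]
  set E := omegaOne q (Q ⊓ CC Q)
  have EQ : E ≤ Q := (omega_le _ _).trans inf_le_left
  have EP : E ≤ NN P := EQ.trans (hQ.le.trans inf_le_right)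
  have cE : #E = q := by
    have cyc : IsCyclic E := by_contra fun nc => P0 (le_bot_iff.1 (cop_gen (omega_elem (ab_center Q)).1 nc EP
      (pg_coprime_pg (hQ.pgroup.to_le EQ) hP.pgroup hpq.symm) fun a ha a1 => (reg E (fun s hs hd => .inl
        (pi1_of_pg (hQ.pgroup.to_le EQ) s hs hd)) a ha a1).le))
    have := omega_cyc cyc (pg_dvd (hQ.pgroup.to_le EQ) (omega_ne_bot (pg_dvd (hQ.pgroup.to_le inf_le_left)
      (by simpa using nil_meet (nil_of_pg hQ.pgroup) le_rfl (le_nn _) (ne_bot_of_dvd hq q1)))))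
    rwa [le_antisymm (omega_le _ _) (le_omega le_rfl (omega_elem (ab_center Q)))] at this
  have XE : X ≤ NN E := nn_omega (nn_inf (hX.trans inf_le_right) (nn_cc (hX.trans inf_le_right)))
  have cEX : #(E ⊔ X : Subgroup G) = q * r := by
    rw [card_sup_l XE (inf_of_coprime (cE ▸ cX ▸ (Nat.coprime_primes hq hr).2 hqr)), cE, cX]
  obtain ⟨x, -, ex⟩ := exists_zpowers (Solv.isCyclic_of_fpf_of_card_mul_primes (sup_le EP (hX.trans inf_le_left))
    (reg _ fun s hs hd => by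
      rw [cEX] at hd
      exact (hs.dvd_mul.1 hd).imp (Nat.prime_dvd_prime_iff_eq hs hq).1 (Nat.prime_dvd_prime_iff_eq hs hr).1) P0 hq hr cEX)
  exact h.2.2 x (by rw [← Nat.card_zpowers, ← ex, cEX])

theorem one_prime {σ : Set ℕ} (hσ : ∀ s ∈ σ, s.Prime) [K.Normal] [L.Normal] (hK : Group.IsSolvable K) (hL : L ≤ K)
    (h1 : ∀ s ∈ σ, ¬ s ∣ #L) (h2 : ∃ s ∈ σ, s ∣ #K) :
    ∃ M : Subgroup G, M.Normal ∧ L ≤ M ∧ M ≤ K ∧ ∃ a ∈ σ, a ∣ #M ∧ ∀ s ∈ σ, s ∣ #M → s = a := by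
  obtain ⟨N, n1, ⟨n2, n3, n4⟩, n5⟩ := Solv.exists_maximal_ge
    (P := fun N : Subgroup G => N.Normal ∧ N ≤ K ∧ ∀ s ∈ σ, ¬ s ∣ #N) ⟨inferInstance, hL, h1⟩
  obtain ⟨Q, _, _, f, q⟩ := exists_qm (N := N) (M := ⊤) le_top nn_normal
  haveI : (im f K).Normal := Solv.normal_iff_top_le_normalizer.2 (q.im_top ▸ im_nn le_rfl le_top nn_normal)
  obtain ⟨X, x1, x2, x3, x4⟩ := Solv.exists_minimal_normal_le (im f K) fun e => by
    obtain ⟨s, hs, hd⟩ := h2
    exact n4 s hs (hd.trans (card_dvd ((q.im_eq_bot le_top).1 e)))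
  obtain ⟨-, t, ht, hX⟩ := Solv.minimal_normal_elementary X (sol_mono (im_sol hK le_top) x1) x3 x4
  haveI := Fact.mk ht
  have m1 : (pre f X).Normal := Solv.normal_iff_top_le_normalizer.2 (q.nn_pre le_rfl nn_normal)
  have m2 : pre f X ≤ K := (pre_mono x1).trans (q.pre_im' le_top n3).le
  have m3 : ∀ s ∈ σ, s ∣ #(pre f X) → s = t := fun s hs hd => by
    rw [q.card_pre] at hd
    exact pi1_of_pg (Solv.isPGroup_of_pow_eq_one hX) s (hσ s hs) (((hσ s hs).dvd_mul.1 hd).resolve_left (n4 s hs))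
  by_contra! h
  refine x3 ?_
  rw [← q.im_pre X, n5 _ ⟨m1, m2, fun a ha hd => ?_⟩ (q.le_pre X), q.im_N]
  obtain ⟨s, hs, hd', e⟩ := h _ m1 (n1.trans (q.le_pre X)) m2 a ha hd
  exact e ((m3 s hs hd').trans (m3 a ha hd).symm)

theorem coclique (ρ : Finset ℕ) (hρ : 3 ≤ ρ.card) (hc : ((∀ r ∈ ρ, r.Prime ∧ r ∣ Nat.card G) ∧
      (∀ r ∈ ρ, ∀ s ∈ ρ, r ≠ s → ¬ ∃ x : G, orderOf x = r * s)))
    (K : Subgroup G) [K.Normal] (hK : Group.IsSolvable ↥K) :
    ∀ r ∈ ρ, ∀ s ∈ ρ, r ∣ Nat.card ↥K → s ∣ Nat.card ↥K → r = s := fun r hr s hs h1 h2 => by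
  by_contra ne
  obtain ⟨M, _, -, m2, a, ha, a1, a2⟩ := one_prime (σ := ρ) (L := ⊥) (fun s hs => (hc.1 s hs).1) hK bot_le
    (fun s hs hd => ne_bot_of_dvd (hc.1 s hs).1 hd rfl) ⟨r, hr, h1⟩
  obtain ⟨N, _, n1, -, b, ⟨hb, ba⟩, b1, b2⟩ := one_prime (σ := {s | s ∈ ρ ∧ s ≠ a}) (fun s hs => (hc.1 s hs.1).1) hK m2
    (fun s hs hd => hs.2 (a2 s hs.1 hd)) (by
      by_cases e : r = a
      exacts [⟨s, ⟨hs, fun e' => ne (e.trans e'.symm)⟩, h2⟩, ⟨r, ⟨hr, e⟩, h1⟩])
  obtain ⟨c, hc1, hc2⟩ := Finset.exists_mem_notMem_of_card_lt_card (s := {a, b}) (t := ρ)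
    (Finset.card_le_two.trans_lt hρ)
  simp only [Finset.mem_insert, Finset.mem_singleton, not_or] at hc2
  rcases three_edge M N n1 (hc.1 a ha).1 (hc.1 b hb).1 (hc.1 c hc1).1 ba.symm (Ne.symm hc2.1) (Ne.symm hc2.2) a1
    ((dvd_card_or (hc.1 b hb).1 n1 b1).resolve_left fun e => ba (a2 b hb e))
    ((dvd_card_or (hc.1 c hc1).1 le_top (card_top (G := G) ▸ (hc.1 c hc1).2)).resolve_left
      fun e => hc2.2 (b2 c ⟨hc1, hc2.1⟩ e)) with h | h | h
  exacts [hc.2 a ha b hb ba.symm h, hc.2 a ha c hc1 (Ne.symm hc2.1) h, hc.2 b hb c hc1 (Ne.symm hc2.2) h]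

theorem psol_hall {p : ℕ} [hp : Fact p.Prime] (G : Type u) [Group G] [Finite G] :
    Comp.PSol p (⊤ : Subgroup G) → ∃ L : Subgroup G, Hall {p}ᶜ L ⊤ := by
  refine Solv.card_induction (P := fun G _ _ => Comp.PSol p (⊤ : Subgroup G) → ∃ L : Subgroup G, Hall {p}ᶜ L ⊤)
    (fun G _ _ ih hs => ?_) G
  have key : ∀ N : Subgroup G, N ≠ ⊥ → ⊤ ≤ NN N → ∃ X, N ≤ X ∧ (∀ s, s.Prime → s ∣ N.relIndex X → s ≠ p) ∧
      ∀ s, s.Prime → s ≠ p → ¬ s ∣ X.relIndex ⊤ := fun N h0 hN => by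
    obtain ⟨Q, _, _, f, q⟩ := exists_qm (N := N) (M := ⊤) le_top hN
    obtain ⟨X, hX⟩ := ih Q (by
      rw [← card_top (G := Q), q.card_Q, ← card_top (G := G), ← card_mul_relIndex (le_top (a := N))]
      exact lt_mul_left (relIndex_pos _ _) ((one_lt_card_iff_ne_bot _).2 h0)) (psol_surj q.surj (psol_subtype hs))
    refine ⟨pre f X, q.le_pre X, by rw [q.relIndex_pre]; exact hX.pi, fun s h1 h2 => ?_⟩
    rw [← q.relIndex_im le_top le_rfl (q.le_pre X), q.im_pre, q.im_top]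
    exact hX.nd h1 h2
  by_cases h1 : O {p}ᶜ (⊤ : Subgroup G) = ⊥
  · by_cases h2 : O {p} (⊤ : Subgroup G) = ⊥
    · have := psol_cc_le hs h2
      rw [h1, cc_bot, inf_idem] at this
      exact ⟨⊤, .self (IsPi.bot.mono this)⟩
    · obtain ⟨X, x1, x2, x3⟩ := key _ h2 (nn_O (le_nn _))
      have h : Hall {p} (O {p} ⊤) X := .mk' x1 (O_pi _ _) fun s hs e hd => x2 s hs hd e
      have n : X ≤ NN (O {p} ⊤) := nn_O nn_top
      obtain ⟨K, k1, k2⟩ := exists_compl h n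
      have hK := h.compl (le_sup_right.trans (k1.le.trans n)) k1 k2
      refine ⟨K, .mk' le_top hK.pi fun s hs e hd => ?_⟩
      rw [← relIndex_mul_relIndex K X ⊤ hK.le le_top] at hd
      exact (hs.dvd_mul.1 hd).elim (hK.nd hs e) (x3 s hs e)
  · obtain ⟨X, x1, x2, x3⟩ := key _ h1 (nn_O (le_nn _))
    exact ⟨X, .mk' le_top ((O_pi _ _).of_relIndex x1 x2) x3⟩

theorem thm_4176 {k V : Type*} [Field k] (p : ℕ) [hp : Fact p.Prime] [CharP k p] [AddCommGroup V] [Module k V]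
    (hsol : Cfsg.IsPSolvable p G) (ρ : Representation k G V) (a : V)
    (hfix : ∃ P : Sylow p G, ∀ x : G, x ∈ (P : Subgroup G) → ρ x a = a)
    (hspan : Submodule.span k {u : V | ∃ h : G, ρ h a = u} = ⊤) :
    Module.finrank k ρ.invariants ≤ 1 ∧
    ∀ b : V, (Nat.card {u : V | ∃ h : G, ρ h a = u}).Coprime (Nat.card {u : V | ∃ h : G, ρ h b = u}) →
      ∀ h : G, ρ h b = b := by
  classical
  letI : MulAction G V :=
    { smul := fun h v => ρ h v, one_smul := fun v => by show ρ 1 v = v; simp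
      mul_smul := fun g h v => by show ρ (g * h) v = ρ g (ρ h v); simp }
  have idx : ∀ b : V, Nat.card {u : V | ∃ h : G, ρ h b = u} = (MulAction.stabilizer G b).index := fun b =>
    (MulAction.index_stabilizer G b).symm
  haveI : Finite (MulAction.orbit G a) := (Set.finite_range _).to_subtype
  letI := Fintype.ofFinite (MulAction.orbit G a)
  let s : V := ∑ x : MulAction.orbit G a, x.1
  have hs : ∀ g, ∑ x : MulAction.orbit G a, ρ g x.1 = s := fun g =>
    Equiv.sum_comp (MulAction.toPerm g : Equiv.Perm (MulAction.orbit G a)) Subtype.val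
  obtain ⟨P, hP⟩ := hfix
  have pa : ¬ p ∣ (MulAction.stabilizer G a).index := fun e => P.not_dvd_index (e.trans (index_dvd_of_le hP))
  have key : ∀ b : V, (MulAction.stabilizer G a).index.Coprime (MulAction.stabilizer G b).index →
      b ∈ Submodule.span k {s} := fun b hb => by
    obtain ⟨L', hL⟩ := psol_hall _ (psol_subtype ((Comp.pSol_top_of_isPSolvable hsol).of_le
      (le_top (a := MulAction.stabilizer G b))))
    have hL := hL.map (MulAction.stabilizer G b).subtype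
    rw [← MonoidHom.range_eq_map, range_subtype] at hL
    generalize L'.map (MulAction.stabilizer G b).subtype = L at hL
    have pr := Solv.isProd_top_of_coprime (H := L) (K := MulAction.stabilizer G a) (by
      rw [← relIndex_mul_index hL.le]
      refine Nat.Coprime.mul_left (Nat.coprime_of_dvd fun t ht h1 h2 => ?_) hb.symm
      by_cases e : t = p
      exacts [pa (e ▸ h2), hL.nd ht e h1])
    letI := Fintype.ofFinite L
    let T : V →ₗ[k] V := ∑ l : L, ρ l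
    have hT : ∀ v, T v = ∑ l : L, ρ l v := fun v => by simp [T]
    have t1 : ∀ g, T (ρ g a) = T a := fun g => by
      obtain ⟨l, hl, c, hc, rfl⟩ := pr g (mem_top g)
      rw [map_mul, Module.End.mul_apply, show ρ c a = a from hc, hT, hT,
        ← Equiv.sum_comp (Equiv.mulRight (⟨l, hl⟩ : L)) fun l : L => ρ l a]
      simp
    have t2 : (Fintype.card (MulAction.orbit G a) : k) • T a = (Fintype.card L : k) • s := by
      have : ∑ x : MulAction.orbit G a, T x.1 = ∑ x : MulAction.orbit G a, T a :=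
        Finset.sum_congr rfl fun x _ => by obtain ⟨_, g, rfl⟩ := x; exact t1 g
      rw [Finset.sum_const, Finset.card_univ] at this
      rw [Nat.cast_smul_eq_nsmul, Nat.cast_smul_eq_nsmul, ← this]
      simp only [hT]
      rw [Finset.sum_comm]; simp only [hs, Finset.sum_const, Finset.card_univ]
    have n1 : (Fintype.card (MulAction.orbit G a) : k) ≠ 0 := fun e => pa (by
      rw [← idx, ← (CharP.cast_eq_zero_iff k p _), ← e, ← Nat.card_eq_fintype_card]; rfl)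
    have n2 : (Fintype.card L : k) ≠ 0 := fun e => hL.pi p hp.out (by
      rwa [CharP.cast_eq_zero_iff k p, ← Nat.card_eq_fintype_card] at e) rfl
    have t3 : Submodule.span k {u : V | ∃ h : G, ρ h a = u} ≤ (Submodule.span k {s}).comap T :=
      Submodule.span_le.2 (by
        rintro _ ⟨g, rfl⟩
        show T (ρ g a) ∈ Submodule.span k {s}
        rw [t1, ← Submodule.smul_mem_iff _ n1, t2]
        exact Submodule.smul_mem _ _ (Submodule.mem_span_singleton_self s))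
    have t4 : T b ∈ Submodule.span k {s} := t3 (hspan ▸ Submodule.mem_top)
    rw [hT, Finset.sum_congr rfl fun (l : L) _ => show ρ l b = b from hL.le l.2, Finset.sum_const, Finset.card_univ,
      ← Nat.cast_smul_eq_nsmul k] at t4
    exact (Submodule.smul_mem_iff _ n2).1 t4
  refine ⟨(Submodule.finrank_mono (t := Submodule.span k {s}) fun b hb => key b ?_).trans ?_, fun b hb h => ?_⟩
  · rw [show MulAction.stabilizer G b = ⊤ from eq_top_iff.2 fun g _ => hb g, index_top]; simp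
  · simpa using finrank_span_le_card (R := k) ({s} : Set V)
  · obtain ⟨c, rfl⟩ := Submodule.mem_span_singleton.1 (key b (by rwa [idx, idx] at hb))
    rw [map_smul, map_sum, hs]

/-- `x` is centralized or inverted by every element of `A`. -/
def Eig (A : Subgroup G) (x : G) : Prop := ∀ a ∈ A, a * x * a⁻¹ = x ∨ a * x * a⁻¹ = x⁻¹

theorem Eig.nn (h : Eig A x) : A ≤ NN (zpowers x) := fun a ha => mem_normalizer_of_cj_le (by
  rw [cj_zpowers, zpowers_le]
  rcases h a ha with e | e <;> rw [e]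
  exacts [mem_zpowers x, inv_mem (mem_zpowers x)])

theorem inv_inv_conj (h1 : a * x * a⁻¹ = x⁻¹) (h2 : b * x * b⁻¹ = x⁻¹) : a * b * x * (a * b)⁻¹ = x := by
  rw [show a * b * x * (a * b)⁻¹ = a * (b * x * b⁻¹) * a⁻¹ by group, h2, ← conj_inv, h1, inv_inv]

theorem conj_mul_of_fix (h2 : b * x * b⁻¹ = x) : a * b * x * (a * b)⁻¹ = a * x * a⁻¹ := by
  rw [show a * b * x * (a * b)⁻¹ = a * (b * x * b⁻¹) * a⁻¹ by group, h2]

theorem eig_gen (hA : IsElementaryAbelian 2 A) (hK : Odd #K) (hn : A ≤ NN K) (h : ∀ x ∈ K, Eig A x → x ∈ H) :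
    K ≤ H := by
  classical
  have cop : (#A).Coprime #K := pg_coprime (elem_isPGroup hA) (pi_compl_iff.2 hK.not_two_dvd_nat) (by simp)
  refine Solv.le_of_forall_cocyclic hA.1 hn cop fun B hB a ha e => ?_
  have z : ∀ b ∈ zpowers a, b = 1 ∨ b = a := fun b hb => by
    rw [mem_zpowers_iff_mem_range_orderOf] at hb
    obtain ⟨k, hk, rfl⟩ := Finset.mem_image.1 hb
    have := (Finset.mem_range.1 hk).trans_le (orderOf_le_of_pow_eq_one two_pos (hA.2 a ha))
    interval_cases k <;> simp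
  have za := zpowers_le.2 ha
  have n1 : zpowers a ≤ NN (K ⊓ CC B) := nn_inf (za.trans hn) (nn_cc (ab_nn hA.1 za hB))
  have eig : ∀ w ∈ K ⊓ CC B, (a * w * a⁻¹ = w ∨ a * w * a⁻¹ = w⁻¹) → w ∈ H := fun w hw h1 =>
    h w hw.1 fun c hc => by
      obtain ⟨b, hb, β, hβ, rfl⟩ := (mem_sup_r (ab_nn hA.1 za hB)).1 (sup_comm B _ ▸ e ▸ hc)
      rw [conj_mul_of_fix (conj_eq_of_cc (cc_symm inf_le_right hβ) hw)]
      rcases z b hb with rfl | rfl
      exacts [.inl (by simp), h1]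
  rw [← Solv.coprime_commutator_sup_centralizer n1 (coprime_mono cop za inf_le_left) (.inl inferInstance)]
  refine sup_le (commutator_le.2 fun y hy b hb => ?_) fun w hw => eig w hw.1
    (.inl (conj_eq_of_cc (cc_symm inf_le_right (mem_zpowers a)) hw))
  refine eig _ (comm_le_left n1 (commutator_mem_commutator hy hb)) ?_
  rcases z b hb with rfl | rfl
  · simp
  · have := inv_eq_of_mul_eq_one_right (elem_mul_self hA ha)
    right; rw [commutatorElement_inv, commutatorElement_def, commutatorElement_def, this, mul_assoc, mul_assoc,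
      mul_assoc, elem_mul_self hA ha]; group

theorem ab_faith (hA : IsElementaryAbelian 2 A) (hs : Group.IsSolvable L) (hL : Odd #L) (hn : A ≤ NN L)
    (hf : A ⊓ CC L = ⊥) : ∃ B ≤ L, IsMulCommutative B ∧ A ≤ NN B ∧ A ⊓ CC B = ⊥ := by
  obtain ⟨B, b1, ⟨b2, b3⟩, b4⟩ := Solv.exists_minimal_le (P := fun B => A ≤ NN B ∧ A ⊓ CC B = ⊥) ⟨hn, hf⟩
  refine ⟨B, b1, by_contra fun nab => ?_, b2, b3⟩
  have d1 : ⁅B, B⁆ ⊔ B ⊓ CC B ≠ B := fun e => (sol_der_lt (sol_mono hs ((der_le B).trans b1))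
      (mt ab_iff_der.2 nab)).not_ge (by
    have n := nn_comm (nn_comm (le_nn B) (le_nn B)) (nn_comm (le_nn B) (le_nn B))
    have c1 : ⁅B, ⁅B, B⁆⁆ ≤ ⁅⁅B, B⁆, ⁅B, B⁆⁆ := by
      nth_rewrite 1 [← e]
      exact comm_sup_l ((der_le B).trans n) (inf_le_left.trans n) le_rfl
        ((comm_eq_bot.2 (inf_le_right.trans (cc_anti (der_le B)))).le.trans bot_le)
    nth_rewrite 2 [← e]
    exact comm_sup_r ((der_le B).trans n) (inf_le_left.trans n) c1 ((comm_eq_bot'.2 inf_le_right).le.trans bot_le))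
  obtain ⟨M, m1, ⟨m2, m3, m4⟩, m5⟩ := Solv.exists_maximal_ge (P := fun M => M ≤ B ∧ M ≠ B ∧ A ≤ NN M)
    ⟨sup_le (der_le B) inf_le_left, d1, nn_sup (nn_comm b2 b2) (nn_inf b2 (nn_cc b2))⟩
  obtain ⟨a, ⟨ha, aM⟩, a1⟩ := exists_ne_one fun e => m3 (b4 M ⟨m4, e⟩ m2)
  have za := zpowers_le.2 ha
  have n1 := nn_of_der_le (le_sup_left.trans m1) m2
  have c1 : ⁅zpowers a, B⁆ ≤ CC M := comm_eq_bot.1 (le_bot_iff.1 (three_sub nn_bot nn_bot nn_bot
    ((commutator_mono (comm_le_right n1) le_rfl).trans (comm_eq_bot'.2 (zpowers_le.2 aM)).le)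
    (by rw [comm_eq_bot'.2 (zpowers_le.2 aM), commutator_bot_left])))
  have c2 : ⁅zpowers a, B⁆ ≤ B := comm_le_right (za.trans b2)
  refine a1 (eq_one_of_inf b3 ha (zpowers_le.1 (cop_stable (H := M) (coprime_mono (pg_coprime (elem_isPGroup hA)
    (pi_compl_iff.2 hL.not_two_dvd_nat) (by simp)) za (m2.trans b1)) ?_ (zpowers_le.2 aM))))
  rw [Subgroup.commutator_comm]
  refine eig_gen hA (odd_mono hL (c2.trans b1)) (nn_comm (ab_nn hA.1 le_rfl za) b2) fun x hx h => by_contra fun xM => ?_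
  have e : M ⊔ zpowers x = B := by_contra fun e => xM (m5 _ ⟨sup_le m2 (zpowers_le.2 (c2 hx)), e,
    nn_sup m4 h.nn⟩ le_sup_left ▸ mem_sup_right (mem_zpowers x))
  refine xM (m1 (mem_sup_right ⟨c2 hx, ?_⟩))
  rw [← e]
  exact zpowers_le.1 (le_cc_sup (zpowers_le.2 (c1 hx)) (ab_cc (ab_of_cyc (cyc_zpowers x))))

theorem dual_pairs (hA : IsElementaryAbelian 2 A) (h : ∀ a ∈ A, a ≠ 1 → ∃ x ∈ B, Eig A x ∧ a * x * a⁻¹ ≠ x) (d : ℕ) :
    ∀ D ≤ A, #D = 2 ^ d → ∃ a x : Fin d → G, (∀ i, a i ∈ D ∧ x i ∈ B ∧ Eig A (x i) ∧ a i * x i * (a i)⁻¹ ≠ x i) ∧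
      (∀ i j, i ≠ j → a i * x j * (a i)⁻¹ = x j) ∧ D ≤ ⨆ i, zpowers (a i) := by
  classical
  induction d with
  | zero => exact fun D _ e => ⟨Fin.elim0, Fin.elim0, fun i => i.elim0, fun i => i.elim0, (card_eq_one.1 e).le.trans bot_le⟩
  | succ d ih =>
    intro D hD e
    obtain ⟨a, ha, a1⟩ := exists_ne_one (ne_bot_of_dvd (H := D) Nat.prime_two (e ▸ dvd_pow_self 2 d.succ_ne_zero))
    obtain ⟨x, hx, x1, x2⟩ := h a (hD ha) a1
    have key : ∀ c ∈ D, c * x * c⁻¹ ≠ x → ∀ b ∈ D, b ∉ C1 x → b * c ∈ C1 x := fun c hc c1 b hb b1 =>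
      mem_C1_of_conj (inv_inv_conj ((x1 b (hD hb)).resolve_left (mt mem_C1_of_conj b1))
        ((x1 c (hD hc)).resolve_left c1))
    have i2 : (C1 x).relIndex D = 2 := relIndex_eq_two_iff.2 ⟨a, ha, fun b hb => by
      by_cases e : b ∈ C1 x
      · exact .inr ⟨e, fun e' => x2 (conj_eq_of_C1 ((mul_mem_cancel_left e).1 e'))⟩
      · exact .inl ⟨key a ha x2 b hb e, e⟩⟩
    obtain ⟨a', x', h1, h2, h3⟩ := ih (C1 x ⊓ D) (inf_le_right.trans hD) (by
      have := card_inf_mul_relIndex (C1 x) D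
      rw [i2, e, pow_succ] at this; omega)
    have : ∀ s : Finset (Fin d), ∃ c ∈ C1 x ⊓ D, ∀ j ∈ s, a * c * x' j * (a * c)⁻¹ = x' j := fun s => by
      induction s using Finset.induction_on with
      | empty => exact ⟨1, one_mem _, by simp⟩
      | insert j s hj ih =>
        obtain ⟨c, hc, ih⟩ := ih
        rcases (h1 j).2.2.1 _ (hD (mul_mem ha hc.2)) with e | e
        · exact ⟨c, hc, Finset.forall_mem_insert .. |>.2 ⟨e, ih⟩⟩
        · refine ⟨c * a' j, mul_mem hc (h1 j).1, Finset.forall_mem_insert .. |>.2 ⟨?_, fun i hi => ?_⟩⟩ <;>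
            rw [← mul_assoc a]
          · exact inv_inv_conj e (((h1 j).2.2.1 _ (hD (h1 j).1.2)).resolve_left (h1 j).2.2.2)
          · rw [conj_mul_of_fix (h2 j i fun e => hj (e ▸ hi)), ih i hi]
    obtain ⟨c, hc, c1⟩ := this Finset.univ
    have c2 : a * c * x * (a * c)⁻¹ ≠ x := by rwa [conj_mul_of_fix (conj_eq_of_C1 hc.1)]
    refine ⟨Fin.cons (a * c) a', Fin.cons x x', Fin.cases ⟨mul_mem ha hc.2, hx, x1, c2⟩ fun i =>
      ⟨(h1 i).1.2, (h1 i).2⟩, Fin.cases (Fin.cases (fun e => absurd rfl e) fun j _ => c1 j (Finset.mem_univ j))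
      fun i => Fin.cases (fun _ => conj_eq_of_C1 (h1 i).1.1) fun j e => h2 i j fun e' => e (congrArg _ e'),
      fun b hb => ?_⟩
    have l : C1 x ⊓ D ≤ ⨆ i, zpowers ((Fin.cons (a * c) a' : Fin (d + 1) → G) i) :=
      h3.trans (iSup_le fun i => le_iSup_of_le i.succ le_rfl)
    by_cases e : b ∈ C1 x
    · exact l ⟨e, hb⟩
    · exact (mul_mem_cancel_right (mem_iSup_of_mem 0 (mem_zpowers (a * c)))).1
        (l ⟨key _ (mul_mem ha hc.2) c2 b hb e, mul_mem hb (mul_mem ha hc.2)⟩)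

theorem thm_1349 (L A : Subgroup G) (hLs : Group.IsSolvable ↥L) (hLodd : Odd (Nat.card ↥L)) (hA : Cfsg.IsElementaryAbelian 2 A) (d : ℕ) (hd : 1 ≤ d) (hAd : Nat.card ↥A = 2 ^ d) (hAL : A ≤ Subgroup.normalizer (L : Set G)) (hfaith : A ⊓ Subgroup.centralizer (L : Set G) = ⊥) : ∃ (Ai : Fin d → Subgroup G) (Li : Fin d → Subgroup G) (n : Fin d → ℕ), (∀ i, Ai i ≤ A ∧ Nat.card ↥(Ai i) = 2 ∧ Li i ≤ L ∧ Odd (n i) ∧ 3 ≤ n i ∧ Nonempty (↥(Ai i ⊔ Li i) ≃* DihedralGroup (n i))) ∧ (⨆ i, Ai i) = A ∧ ∀ i j, i ≠ j → ∀ x ∈ Ai i ⊔ Li i, ∀ y ∈ Ai j ⊔ Li j, x * y = y * x := by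
  obtain ⟨B, b1, b2, b3, b4⟩ := ab_faith hA hLs hLodd hAL hfaith
  obtain ⟨a, x, h1, h2, h3⟩ := dual_pairs (B := B) hA (fun a ha a1 => by
    by_contra! h
    exact a1 (eq_one_of_inf b4 ha (le_C1_iff.1 (eig_gen hA (odd_mono hLodd b1) b3 fun x hx e =>
      mem_C1_comm.1 (mem_C1_of_conj (h x hx e)))))) d A le_rfl hAd
  refine ⟨fun i => zpowers (a i), fun i => zpowers (x i), fun i => orderOf (x i), fun i => ?_,
    le_antisymm (iSup_le fun i => zpowers_le.2 (h1 i).1) h3, fun i j e u hu v hv => ?_⟩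
  · obtain ⟨h3, h4, h5, h6⟩ := h1 i
    have o : Odd (orderOf (x i)) := hLodd.of_dvd_nat (orderOf_dvd (b1 h4))
    have o1 : orderOf (x i) ≠ 1 := fun e => h6 (by simp [orderOf_eq_one_iff.1 e])
    refine ⟨zpowers_le.2 h3, ?_, zpowers_le.2 (b1 h4), o, by obtain ⟨k, hk⟩ := o; simp only; omega,
      Solv.nonempty_dihedral_of_gens (fun e => h6 (conj_eq_of_C1 (zpowers_le.2 (self_mem_C1 _) e)))
        (sup_comm _ _) (hA.2 _ h3) ((h5 _ h3).resolve_left h6)⟩
    rw [Nat.card_zpowers]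
    exact orderOf_eq_prime (hA.2 _ h3) fun e => h6 (by simp [e])
  · have : zpowers (a j) ⊔ zpowers (x j) ≤ CC (zpowers (a i) ⊔ zpowers (x i)) := by
      rw [cc_sup, cc_zpowers, cc_zpowers]
      exact sup_le (zpowers_le.2 ⟨mem_C1.2 (elem_commute hA (h1 j).1 (h1 i).1), mem_C1_of_conj (h2 j i e.symm)⟩)
        (zpowers_le.2 ⟨mem_C1_comm.1 (mem_C1_of_conj (h2 i j e)),
          mem_C1.2 (comm_iff.1 b2 _ (h1 j).2.1 _ (h1 i).2.1)⟩)
    exact this hv u hu

end Cfsg.Agent.PU
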