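/-
Chief factors of groups of rank two; groups whose abelian subgroups of equal order are conjugate.
-/
import Cfsg.Agent.Lib.PU.Ms1
import Cfsg.Agent.Lib.MS.Pre1
import Cfsg.Agent.Lib.BG.Pgp

set_option autoImplicit false
set_option linter.unusedSectionVars false
set_option linter.unusedVariables false
set_option linter.style.haveILetI false
set_option linter.unusedSimpArgs false

namespace Cfsg.Agent.PU

open Subgroup Cfsg.Agent.Transfer Cfsg.Agent.MS
open scoped commutatorElement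

universe u
variable {G : Type u} [Group G] [Finite G]
variable {A B H K L M N P Q : Subgroup G} {a b g x y : G} {p : ℕ}

theorem mul_pow_cc [hp : Fact p.Prime] (h2 : p ≠ 2) (hx : x ∈ H) (hy : y ∈ H) (h : ⁅y⁻¹, x⁻¹⁆ ∈ CC H)
    (h1 : ⁅y⁻¹, x⁻¹⁆ ^ p = 1) : (x * y) ^ p = x ^ p * y ^ p :=
  BG.mul_pow_of_class2 h2 (h x hx).symm (h y hy).symm h1

theorem pcentral [hp : Fact p.Prime] (h2 : p ≠ 2) (H : Subgroup G) : IsPGroup p H → (∀ x ∈ H, x ^ p = 1 → x ∈ CC H) →
    ∀ x ∈ H, (x ^ p) ^ p = 1 → ∀ g ∈ H, ⁅x, g⁆ ^ p = 1 := by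
  induction H using WellFoundedLT.induction with
  | ind H ih =>
  intro hH hc x hx h1 g hg
  rcases (zpowers_le.2 hx).eq_or_lt with e | lt
  · rw [commutatorElement_eq_one_iff_mul_comm.2 (comm_iff.1 (ab_of_cyc (cyc_zpowers x)) x (mem_zpowers x) g (e ▸ hg)),
      one_pow]
  obtain ⟨D, d1, d2, d3, d4⟩ := Comp.exists_relIndex_eq_prime hH lt
  have xD := d1 (mem_zpowers x)
  have yD : g * x⁻¹ * g⁻¹ ∈ D := conj_mem_of_mem_normalizer (d4 hg) (inv_mem xD)
  have c := ih D (lt_of_le_of_ne d2 fun e => hp.out.one_lt.ne' (by rw [← d3, e, relIndex_self])) (hH.to_le d2)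
    (fun y hy e => cc_anti d2 (hc y (d2 hy) e)) _ (inv_mem yD)
    (by rw [← conj_inv, inv_inv, conj_pow, conj_pow, h1]; simp) _ (inv_mem xD)
  rw [show ⁅x, g⁆ = x * (g * x⁻¹ * g⁻¹) by simp [commutatorElement_def, mul_assoc],
    mul_pow_cc h2 hx (d2 yD) (hc _ (d2 (der_le D (commutator_mem_commutator (inv_mem yD) (inv_mem xD)))) c) c, conj_pow,
    inv_pow, conj_eq_of_cc (cc_symm (zpowers_le.2 (hc _ (pow_mem hx p) h1)) hg) (inv_mem (mem_zpowers _)), mul_inv_cancel]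

theorem pcentral_rk [hp : Fact p.Prime] (h2 : p ≠ 2) (hH : IsPGroup p H) (hc : ∀ x ∈ H, x ^ p = 1 → x ∈ CC H)
    {n : ℕ} (hr : ¬ Rk p (n + 1) H) {Q : Type u} [Group Q] [Finite Q] {f : N →* Q} (q : QM (omegaOne p H) N f) (hN : H ≤ N) :
    ¬ Rk p (n + 1) (im f H) := by
  have el : IsElementaryAbelian p (omegaOne p H) := elem_mono (omega_elem (ab_center H))
    (omega_le_iff.2 fun x hx e => mem_omega ⟨hx, hc x hx e⟩ e)
  rintro ⟨E, hE⟩
  have le : pre f E ≤ H := (pre_mono hE.le).trans (q.pre_im' hN (omega_le _ _)).le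
  have pw : ∀ x ∈ pre f E, x ^ p ∈ omegaOne p H := fun x hx => by
    obtain ⟨h, hx⟩ := mem_pre.1 hx
    exact (q.eq_one_iff (pow_mem h p)).1 ((map_pow f ⟨x, h⟩ p).trans (hE.elem.2 _ hx))
  let φ : pre f E →* omegaOne p H := MonoidHom.mk' (fun x => ⟨x.1 ^ p, pw _ x.2⟩) fun x y => Subtype.ext (by
    have c := pcentral h2 H hH hc _ (inv_mem (le y.2)) (by rw [inv_pow, inv_pow, el.2 _ (pw _ y.2), inv_one]) _
      (inv_mem (le x.2))
    exact mul_pow_cc h2 (le x.2) (le y.2)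
      (hc _ (der_le H (commutator_mem_commutator (inv_mem (le y.2)) (inv_mem (le x.2)))) c) c)
  have h1 : #φ.ker ≤ #(omegaOne p H) := by
    rw [← card_subtype]
    exact card_le_of_le (by rintro _ ⟨x, hx, rfl⟩; exact mem_omega (le x.2) (congrArg Subtype.val hx))
  have h3 := φ.ker.card_mul_index
  rw [index_ker, q.card_pre, hE.card] at h3
  have h4 := (card_le_card_group φ.range).trans (card_le_of_not_rk hr (omega_le _ _) el)
  have := Nat.le_of_mul_le_mul_left (h3.ge.trans (Nat.mul_le_mul h1 h4)) (card_pos' _)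
  exact (Nat.pow_lt_pow_right hp.out.one_lt n.lt_succ_self).not_ge this

theorem chief_le [hp : Fact p.Prime] (h2 : p ≠ 2) (n : ℕ) : ∀ {G : Type u} [Group G] [Finite G] (N H K : Subgroup G),
    #H < n → H ≤ N → N ≤ NN H → N ≤ NN K → IsPGroup p H → ¬ Rk p 3 H → K < H →
    (∀ L, N ≤ NN L → K ≤ L → L ≤ H → L = K ∨ L = H) → K.relIndex H ≤ p ^ 2 := by
  induction n with
  | zero => exact fun _ _ _ h => absurd h (Nat.not_lt_zero _)
  | succ n ih =>
  intro G _ _ N H K hn hN nH nK hH hr lt ch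
  by_cases hm : ∃ L < H, N ≤ NN L ∧ ¬ L ≤ K
  · obtain ⟨L, l1, l2, l3⟩ := hm
    have e : ∀ M ≤ L, N ≤ NN M → ¬ M ≤ K → M ⊔ K = H := fun M m1 m2 m3 =>
      (ch _ (nn_sup m2 nK) le_sup_right (sup_le (m1.trans l1.le) lt.le)).resolve_left fun e => m3 (e ▸ le_sup_left)
    rw [← e L le_rfl l2 l3, sup_comm, relIndex_sup_l (l1.le.trans (hN.trans nK)), ← inf_relIndex_right]
    refine ih N L _ (by have := card_lt_of_lt l1; omega) (l1.le.trans hN) l2 (nn_inf nK l2) (hH.to_le l1.le)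
      (fun h => hr (h.mono l1.le)) (lt_of_le_of_ne inf_le_right fun e => l3 (e ▸ inf_le_left)) fun M m1 m2 m3 => ?_
    by_cases m4 : M ≤ K
    · exact .inl (le_antisymm (le_inf m4 m3) m2)
    · have := dedekind' m3 (m3.trans (l1.le.trans (hN.trans nK)))
      rw [e M m3 m1 m4, inf_eq_right.2 l1.le, sup_eq_left.2 m2] at this
      exact .inr this.symm
  push Not at hm
  have H0 : H ≠ ⊥ := ne_bot_of_gt lt
  by_cases hc : ∀ x ∈ H, x ^ p = 1 → x ∈ CC H
  · have el : IsElementaryAbelian p (omegaOne p H) := elem_mono (omega_elem (ab_center H))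
      (omega_le_iff.2 fun x hx e => mem_omega ⟨hx, hc x hx e⟩ e)
    rcases (omega_le p H).eq_or_lt with e | e
    · exact (Nat.le_of_dvd (card_pos' _) (relIndex_dvd _ _)).trans (card_le_of_not_rk hr le_rfl (e ▸ el))
    have w := hm _ e (nn_omega nH)
    have kN := lt.le.trans hN
    obtain ⟨Q, _, _, f, q⟩ := exists_qm ((omega_le p H).trans hN) (nn_omega nH)
    rw [← q.relIndex_im kN hN w]
    refine ih ⊤ _ _ ?_ le_top (q.im_top ▸ im_nn le_rfl hN nH) (q.im_top ▸ im_nn le_rfl kN nK) (im_pg hH)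
      (pcentral_rk h2 hH hc hr q hN) (lt_of_le_of_ne (im_mono lt.le) fun e => lt.ne ?_) fun L l1 l2 l3 => ?_
    · have := card_mul_relIndex (omega_le p H)
      have h1 := (one_lt_card_iff_ne_bot _).2 (omega_ne_bot (pg_dvd hH H0))
      rw [q.card_im hN]
      nlinarith [relIndex_pos (omegaOne p H) H]
    · rw [← q.pre_im' kN w, e, q.pre_im' hN (omega_le p H)]
    · rw [← q.im_pre L]
      exact (ch _ (q.nn_pre le_rfl (q.im_top ▸ l1)) ((le_pre_iff kN).2 l2)
        ((pre_mono l3).trans (q.pre_im' hN (omega_le p H)).le)).imp (congrArg _) (congrArg _)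
  set Y := omegaOne p (BG.Z2 H)
  set Z := omegaOne p (H ⊓ CC H)
  have YH : Y ≤ H := (omega_le _ _).trans (BG.Z2_le H)
  have eZ : IsElementaryAbelian p Z := omega_elem (ab_center H)
  have ZC : Z ≤ CC H := (omega_le _ _).trans inf_le_right
  have ZY : Z ≤ Y := omega_mono (BG.center_le_Z2 H)
  have cZ : #Z ≤ p ^ 1 := card_le_of_not_rk (H := Z) (fun ⟨E, hE⟩ => hc fun x hx e => ZC (hE.le
    (((hE.mono (ZY.trans YH)).maxEl hr).mem hx (cc_symm (hE.le.trans ZC) hx) e))) le_rfl eZ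
  rw [pow_one] at cZ
  have pY := BG.pow_eq_one_of_mem_omega_Z2 (R := H) h2
  have nc : ¬ Y ≤ Z := fun e => by
    obtain ⟨E, hE⟩ := rk_iff.2 (BG.two_le_prank_omega_Z2 h2 hH fun c => hc fun x hx _ => ab_cc (ab_of_cyc c) hx)
    have := (card_le_of_le (hE.le.trans e)).trans cZ
    rw [hE.card] at this
    nlinarith [hp.out.one_lt]
  obtain ⟨x, hx, xZ⟩ := SetLike.not_le_iff_exists.1 nc
  have cA : p ^ 2 ≤ #(Z ⊔ zpowers x : Subgroup G) := BG.pow_le_card_of_lt (hH.to_le (sup_le (ZY.trans YH)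
    (zpowers_le.2 (YH hx)))) (lt_of_le_of_ne le_sup_left fun e => xZ (e ▸ mem_sup_right (mem_zpowers x)))
    (by rw [pow_one]; exact BG.le_card_of_ne_bot (elem_isPGroup eZ) (omega_ne_bot (pg_dvd (hH.to_le inf_le_left)
      (nil_meet (nil_of_pg hH) le_rfl (le_nn H) H0))))
  obtain ⟨y, hy, ey⟩ : ∃ y ∈ Y, Y ≤ (Z ⊔ zpowers x) ⊔ zpowers y := by
    by_cases e : Y ≤ Z ⊔ zpowers x
    · exact ⟨1, one_mem _, e.trans le_sup_left⟩
    · obtain ⟨y, hy, h⟩ := SetLike.not_le_iff_exists.1 e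
      exact ⟨y, hy, (BG.sup_zpowers_eq_of_card_le (hH.to_le YH) (BG.card_le_of_prank_le_two pY
        (not_rk_iff.1 fun h => hr (h.mono YH))) (sup_le ZY (zpowers_le.2 hx)) cA hy h).ge⟩
  have i : ∀ w ∈ Y, (C1 w).relIndex H ≤ p := fun w hw => (index_C1_le fun g hg => by
    have := inv_mem (BG.commutator_omega_Z2_le h2 (commutator_mem_commutator hw hg))
    rwa [commutatorElement_inv] at this).trans cZ
  have c : H ⊓ CC Y ≤ K := hm _ (lt_of_le_of_ne inf_le_left fun e => xZ (mem_omega ⟨YH hx,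
    cc_symm (e.ge.trans inf_le_right) hx⟩ (pY x hx))) (nn_inf nH (nn_cc (nn_omega (BG.le_normalizer_Z2 nH))))
  have c2 : (C1 x ⊓ C1 y) ⊓ H ≤ K := le_trans (le_inf inf_le_right (le_trans (le_cc_sup (le_cc_sup
    (inf_le_right.trans (cc_symm ZC)) (cc_zpowers x ▸ inf_le_left.trans inf_le_left))
    (cc_zpowers y ▸ inf_le_left.trans inf_le_right)) (cc_anti ey))) c
  refine (relIndex_le_of_le_left c2 (relIndex_pos _ _).ne').trans ?_
  rw [inf_relIndex_right, sq]
  exact relIndex_inf_le.trans (Nat.mul_le_mul (i x hx) (i y hy))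

theorem thm_1895 [hp : Fact p.Prime] (h2 : p ≠ 2) (hr : Cfsg.PRankLE p 2 G)
    (H K : Subgroup G) [H.Normal] [K.Normal] (hKH : K < H) (hpow : ∃ n : ℕ, K.relIndex H = p ^ n)
    (hchief : ∀ L : Subgroup G, L.Normal → K ≤ L → L ≤ H → L = K ∨ L = H) :
    K.relIndex H = p ∨ K.relIndex H = p ^ 2 := by
  obtain ⟨n, hn⟩ := hpow
  obtain ⟨S, hS⟩ := exists_isSyl p H
  have e := hS.sup_eq_of_relIndex hKH.le hn
  have fr : K ⊔ NN S = ⊤ := eq_top_iff.2 ((frattini hS le_top nn_normal).ge.trans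
    (sup_le (e.ge.trans (sup_le_sup_left (le_nn S) K)) (inf_le_right.trans le_sup_right)))
  have := chief_le h2 _ (NN S) S (K ⊓ S) (Nat.lt_succ_self _) (le_nn S) le_rfl (nn_inf nn_normal le_rfl) hS.pgroup
    (fun h => prankLE_top.1 hr (h.mono le_top)) (lt_of_le_of_ne inf_le_right fun e' => hKH.ne
      (by rw [← e, sup_eq_left.2 (e'.ge.trans inf_le_left)])) fun L l1 l2 l3 => by
      rcases hchief (L ⊔ K) (Solv.normal_iff_top_le_normalizer.2 (fr ▸ sup_le (nn_of_le le_sup_right)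
        (nn_sup l1 nn_normal))) le_sup_right (sup_le (l3.trans hS.le) hKH.le) with e' | e'
      · exact .inl (le_antisymm (le_inf (e' ▸ le_sup_left) l3) l2)
      · have := dedekind' (B := K) l3 nn_normal
        rw [e', inf_eq_right.2 hS.le, sup_eq_left.2 l2] at this
        exact .inr this.symm
  rw [inf_relIndex_right, ← relIndex_sup_left, e, hn, Nat.pow_le_pow_iff_right hp.out.one_lt] at this
  rw [hn]
  interval_cases n
  · exact absurd (relIndex_eq_one.1 hn) hKH.not_ge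
  · simp
  · simp

/-- Abelian subgroups of equal order are conjugate. -/
def AbC (G : Type*) [Group G] : Prop :=
  ∀ A B : Subgroup G, IsMulCommutative A → IsMulCommutative B → #A = #B → ∃ g : G, B = cj g A

theorem AbC.conj (h : AbC G) (e : orderOf x = orderOf y) : ∃ g : G, ∃ c ∈ zpowers x, y = g * c * g⁻¹ := by
  obtain ⟨g, hg⟩ := h _ _ (ab_of_cyc (cyc_zpowers x)) (ab_of_cyc (cyc_zpowers y)) (by simpa using e)
  exact ⟨g, _, mem_cj.1 (hg ▸ mem_zpowers y), by group⟩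

theorem AbC.mem (h : AbC G) [hN : N.Normal] (hx : x ∈ N) (e : orderOf x = orderOf y) : y ∈ N := by
  obtain ⟨g, c, hc, rfl⟩ := h.conj e
  exact hN.conj_mem _ (zpowers_le.2 hx hc) g

theorem ord_four (h1 : x ^ 4 = 1) (h2 : x * x ≠ 1) : orderOf x = 4 :=
  orderOf_eq_prime_pow (p := 2) (n := 1) (by rwa [pow_one, sq]) h1

theorem AbC.q8 (h : AbC G) (hs : Group.IsSolvable G) (hr : ¬ Rk 2 2 (⊤ : Subgroup G)) {S T : Subgroup G}
    (hT : IsSyl 2 T ⊤) (hS : S ≤ T) (nc : ¬ IsCyclic S) : S = T := by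
  have q := fun (X : Subgroup G) (hX : IsPGroup 2 X) => Solv.isCyclic_or_quaternion hX fun E _ e1 e2 e3 =>
    hr ⟨E, le_top, ⟨e2, e3⟩, e1⟩
  obtain ⟨-, -, -, k, hk, -, -, -, cS, -⟩ := (q S (hT.pgroup.to_le hS)).resolve_left nc
  obtain ⟨-, a, b, m, hm, oa, ba, eT, cT, b2, bab⟩ := (q T hT.pgroup).resolve_left fun c => nc (cyc_mono c hS)
  refine eq_of_card_le hS ?_
  rw [cS, cT]
  refine Nat.pow_le_pow_right two_pos (by_contra fun lt => ?_)
  obtain ⟨m, rfl⟩ : ∃ j, m = j + 2 := ⟨m - 2, by omega⟩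
  have aT : a ∈ T := eT ▸ mem_sup_left (mem_zpowers a)
  have bT : b ∈ T := eT ▸ mem_sup_right (mem_zpowers b)
  have z1 : b * b ≠ 1 := by
    rw [← sq, b2]; exact pow_ne_one_of_lt_orderOf (by positivity) (oa ▸ Nat.pow_lt_pow_right one_lt_two (by omega))
  have z2 : b ^ 4 = 1 := by
    rw [show 4 = 2 * 2 from rfl, pow_mul, b2, ← pow_mul, ← pow_succ, ← oa, pow_orderOf_eq_one]
  have out : ∀ c ∈ zpowers a, c * b * (c * b) = b * b := fun c ⟨i, hi⟩ => by
    have : b * c * b⁻¹ = c⁻¹ := by rw [← hi, ← conj_zpow, bab, inv_zpow]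
    rw [show c * b * (c * b) = c * (b * c * b⁻¹) * (b * b) by group, this, mul_inv_cancel, one_mul]
  have o4 : ∀ c ∈ zpowers a, (c * b) ^ 4 = 1 := fun c hc => by
    rw [show 4 = 2 * 2 from rfl, pow_mul, sq (c * b), out c hc, ← sq, ← pow_mul, z2]
  have nb : zpowers b ≤ NN (zpowers a) := zpowers_le.2 (mem_normalizer_of_cj_le (by
    rw [cj_zpowers, bab, zpowers_inv]))
  have cas : ∀ t ∈ T, t ∈ zpowers a ∨ t ^ 4 = 1 := fun t ht => by
    obtain ⟨c, hc, _, hd, rfl⟩ := (mem_sup_l nb).1 (eT ▸ ht)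
    obtain ⟨j, rfl⟩ := mem_powers_iff_mem_zpowers.2 hd
    have h2 : (b ^ 2) ^ (j / 2) ∈ zpowers a := pow_mem (b2 ▸ pow_mem (mem_zpowers a) _) _
    simp only
    rw [← Nat.div_add_mod j 2, pow_add, pow_mul, ← mul_assoc]
    rcases Nat.mod_two_eq_zero_or_one j with e | e <;> rw [e]
    exacts [.inl (by simpa using mul_mem hc h2), .inr (by simpa using o4 _ (mul_mem hc h2))]
  let f := QuotientGroup.mk' (pPrimeCore 2 G)
  have hf : Function.Surjective f := QuotientGroup.mk'_surjective _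
  have inj : ∀ t ∈ T, f t = 1 → t = 1 := fun t ht e => eq_one_of_inf
    (inf_ker_mk_eq_bot coprime_pPrimeCore hT.pgroup) ht e
  have ch := psol_charP (psol_surj hf (Comp.pSol_of_isSolvable (p := 2) inferInstance))
    Solv.pPrimeCore_quotient_pPrimeCore
  set U := pCore 2 (G ⧸ pPrimeCore 2 G)
  have hU : U ≤ T.map f := (hT.map f).le_of_normal (Solv.isPGroup_pCore _ _) (by
    rw [map_top_of_surjective f hf]; exact le_top) nn_normal
  have eU : (T ⊓ U.comap f).map f = U := by rw [map_inf_comap2, inf_eq_right.2 hU]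
  have : ∃ y ∈ U.comap f, orderOf y = 4 := by
    by_cases e : ∀ y ∈ T ⊓ U.comap f, y * y = 1
    · have c : #U ≤ 2 := eU ▸ (Nat.le_of_dvd (card_pos' _) (card_map_dvd _ f)).trans
        (card_le_of_not_rk hr le_top (elem_two_of_mul_self e))
      exact absurd (e b ⟨bT, ch (cc_symm (BG.le_Ct_of_card_le (hT.pgroup.map f) (Solv.isPGroup_pCore _ _)
        nn_normal c) (mem_map_of_mem f bT))⟩) z1
    · push Not at e
      obtain ⟨y, hy, e⟩ := e
      obtain ⟨j, hj⟩ := hT.pgroup ⟨y, hy.1⟩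
      obtain ⟨i, h1, h2⟩ := Solv.exists_pow_notMem_pow_mem (N := ⊥) (p := 2) (x := y * y) (k := j) e (by
        rw [mem_bot, (Commute.refl y).mul_pow, show y ^ 2 ^ j = 1 from congrArg Subtype.val hj, one_mul])
      rw [mem_bot, (Commute.refl y).mul_pow] at h1 h2
      exact ⟨y ^ 2 ^ i, pow_mem hy.2 _, ord_four (by rw [← h2, ← sq, ← pow_mul (y ^ 2 ^ i)]) h1⟩
  obtain ⟨y, hy, oy⟩ := this
  have bU := h.mem hy (oy.trans (ord_four z2 z1).symm)
  have aU := (mul_mem_cancel_right bU).1 (h.mem hy (oy.trans (ord_four (o4 a (mem_zpowers a))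
    (out a (mem_zpowers a) ▸ z1)).symm))
  obtain ⟨g, c, hc, e⟩ := h.conj (x := a ^ 2 ^ (m + 1)) (y := b) (by
    rw [ord_four z2 z1, orderOf_pow_of_dvd (by positivity) (oa ▸ pow_dvd_pow 2 (by omega)), oa,
      Nat.pow_div (by omega) two_pos, show m + 2 + 1 - (m + 1) = 2 by omega]; rfl)
  obtain ⟨t, ht, et⟩ := hU ((inferInstance : (U.comap f).Normal).conj_mem a aU g)
  rcases cas t ht with h1 | h1
  · obtain ⟨i, rfl⟩ := zpowers_le.2 (pow_mem (mem_zpowers a) _) hc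
    refine ba ((mul_mem_cancel_right (inv_mem (zpow_mem h1 i))).1 ?_)
    rw [inj (b * (t ^ i)⁻¹) (mul_mem bT (inv_mem (zpow_mem ht i))) (by
      rw [map_mul, map_inv, map_zpow, et, ← map_zpow, conj_zpow, e, mul_inv_cancel])]
    exact one_mem _
  · refine pow_ne_one_of_lt_orderOf (x := a) (n := 4) (by norm_num) (oa ▸ (Nat.pow_lt_pow_right (a := 2)
      (m := 2) one_lt_two (by omega))) (inj _ (pow_mem aT 4) ?_)
    have := congrArg f h1
    rw [map_pow, et, ← map_pow, conj_pow, map_one, map_mul, map_mul, map_inv, mul_inv_eq_one, mul_eq_left] at this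
    exact this

theorem AbC.step (h : AbC G) {Q : Type u} [Group Q] [Finite Q] {f : G →* Q} (hf : Function.Surjective f)
    [hp : Fact p.Prime] (hM : IsElementaryAbelian p f.ker) (h0 : f.ker ≠ ⊥) (hs : p = 2 → Group.IsSolvable G) :
    AbC Q := by
  have dec : ∀ A : Subgroup Q, IsMulCommutative A → ∃ S X : Subgroup G, IsSyl p S (A.comap f) ∧
      Hall {p}ᶜ X (A.comap f) ∧ f.ker ≤ S ∧ (S ⊔ X).map f = A ∧ IsMulCommutative X ∧ X ≤ NN S ∧ ⁅S, X⁆ ≤ f.ker :=
    fun A hA => by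
      obtain ⟨S, hS, s1⟩ := exists_isSyl_ge (elem_isPGroup hM) (ker_le_comap f A)
      have d : ⁅A.comap f, A.comap f⁆ ≤ f.ker := by
        rw [← Subgroup.map_eq_bot_iff, Subgroup.map_commutator, map_comap_eq_self_of_surjective hf]
        exact ab_iff_der.1 hA
      have n := nn_of_der_le (d.trans s1) hS.le
      obtain ⟨X, x1, x2⟩ := exists_compl (hall_of_syl hS) n
      have x3 : X ≤ A.comap f := x1 ▸ le_sup_right
      exact ⟨S, X, hS, (hall_of_syl hS).compl (x3.trans n) x1 x2, s1, by rw [x1, map_comap_eq_self_of_surjective hf],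
        ab_iff_der.2 (eq_bot_of_le x2 ((der_mono x3).trans (d.trans s1)) (der_le X)), x3.trans n,
        (commutator_mono hS.le x3).trans d⟩
  intro A B hA hB e
  obtain ⟨S, X, s1, x1, s2, eA, x2, x3, x4⟩ := dec A hA
  obtain ⟨T, Y, t1, y1, t2, eB, y2, y3, y4⟩ := dec B hB
  have cAB : #(A.comap f) = #(B.comap f) := by
    rw [← card_mul_relIndex (ker_le_comap f A), ← card_mul_relIndex (ker_le_comap f B), relIndex_ker, relIndex_ker,
      map_comap_eq_self_of_surjective hf, map_comap_eq_self_of_surjective hf, e]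
  have c1 := (hall_of_syl s1).card_mul x1
  have c2 := (hall_of_syl t1).card_mul y1
  have cXY : #X = #Y := Nat.dvd_antisymm
    ((pg_coprime t1.pgroup x1.pi (by simp)).symm.dvd_of_dvd_mul_left (c2 ▸ cAB ▸ card_dvd x1.le))
    ((pg_coprime s1.pgroup y1.pi (by simp)).symm.dvd_of_dvd_mul_left (c1 ▸ cAB ▸ card_dvd y1.le))
  have cST : #S = #T := Nat.eq_of_mul_eq_mul_right (card_pos' X) (by rw [c1, cXY, c2, cAB])
  suffices ∃ g, cj g (S ⊔ X) = T ⊔ Y by
    obtain ⟨g, hg⟩ := this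
    exact ⟨f g, by rw [← eA, ← eB, ← hg, Comp.map_cj]⟩
  obtain ⟨g, hg⟩ := h X Y x2 y2 cXY
  rcases s2.eq_or_lt with e1 | lt
  · exact ⟨g, by rw [cj_sup, ← hg, ← eq_of_card_le t2 (by rw [← cST, e1]), ← e1, cj_eq_of_normal]⟩
  obtain ⟨m, hm, m1⟩ := exists_ne_one h0
  have om : ∀ y : G, y ^ p = 1 → y ∈ f.ker := fun y hy => by
    by_cases e : y = 1
    exacts [e ▸ one_mem _, h.mem hm ((orderOf_eq_prime (hM.2 m hm) m1).trans (orderOf_eq_prime hy e).symm)]
  have hr : ¬ Rk p 2 (⊤ : Subgroup G) := fun ⟨E, hE⟩ => by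
    obtain ⟨y, hy, h1⟩ := SetLike.exists_of_lt lt
    obtain ⟨j, hj⟩ := s1.pgroup ⟨y, hy⟩
    obtain ⟨i, h2, h3⟩ := Solv.exists_pow_notMem_pow_mem h1 (k := j) (p := p)
      (by rw [show y ^ p ^ j = 1 from congrArg Subtype.val hj]; exact one_mem _)
    obtain ⟨g, hg⟩ := h _ E (ab_of_cyc (cyc_zpowers (y ^ p ^ i))) hE.ab (by
      rw [hE.card, Nat.card_zpowers]
      exact orderOf_eq_prime_pow (n := 1) (by rw [pow_one]; exact mt (om _) h2) (by rw [sq, pow_mul, hM.2 _ h3]))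
    exact hE.not_cyc (n := 0) (hg ▸ cyc_cj (cyc_zpowers _) g)
  have cM : #f.ker = p := BG.card_eq_of_card_le (elem_isPGroup hM) h0 (by simpa using card_le_of_not_rk hr le_top hM)
  have cc : ∀ S X : Subgroup G, IsPGroup p S → IsPi {p}ᶜ X → f.ker < S → ⁅S, X⁆ ≤ f.ker → S ≤ CC X :=
    fun S X h1 h2 h3 h4 => by
      have := cop_sup_cc h3.le nn_normal nn_normal (pg_coprime (elem_isPGroup hM) h2 (by simp)).symm
        (sol_of_ab hM.1) h4
      obtain ⟨Z, z1, z2⟩ := pg_exists_card (h1.to_le (inf_le_left (b := CC X))) fun e => h3.ne (by simpa [e] using this)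
      rw [← this, ← eq_of_card_le (H := Z) (fun z hz => om z (z2 ▸ Solv.pow_card_eq_one_of_mem hz)) (by rw [cM, z2])]
      exact sup_le (z1.trans inf_le_right) inf_le_right
  have lt' : f.ker < T := lt_of_le_of_ne t2 fun e => lt.ne (eq_of_card_le s2 (by rw [cST, e]))
  have c3 := cc S X s1.pgroup x1.pi lt x4
  have c4 := cc T Y t1.pgroup y1.pi lt' y4
  by_cases cy : IsCyclic S ∧ IsCyclic T
  · obtain ⟨g, hg⟩ := h _ _ (comm_sup (ab_of_cyc cy.1) x2 c3) (comm_sup (ab_of_cyc cy.2) y2 c4) (by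
      rw [(hall_of_syl s1).sup x1, (hall_of_syl t1).sup y1, cAB])
    exact ⟨g, hg.symm⟩
  obtain rfl : p = 2 := by_contra fun e => cy ⟨cyc_of_not_rk2 e s1.pgroup fun h => hr (h.mono le_top),
    cyc_of_not_rk2 e t1.pgroup fun h => hr (h.mono le_top)⟩
  have : IsSyl 2 S ⊤ ∧ IsSyl 2 T ⊤ := by
    rcases not_and_or.1 cy with c | c
    · obtain ⟨P, hP, h1⟩ := exists_isSyl_ge s1.pgroup le_top
      obtain rfl := h.q8 (hs rfl) hr hP h1 c
      exact ⟨hP, hP.of_card_le t1.pgroup le_top cST.le⟩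
    · obtain ⟨P, hP, h1⟩ := exists_isSyl_ge t1.pgroup le_top
      obtain rfl := h.q8 (hs rfl) hr hP h1 c
      exact ⟨hP.of_card_le s1.pgroup le_top cST.ge, hP⟩
  obtain ⟨c, hc, ec⟩ := (this.2.mono c4 le_top).exists_cj_eq
    ((this.1.cj_of_mem_normalizer (nn_top (mem_top g))).mono (hg ▸ cc_cj c3 g) le_top)
  exact ⟨c * g, by rw [← cj_cj, cj_sup, cj_sup, ec, ← hg, cj_cc hc]⟩

theorem AbC.quot (G : Type u) [Group G] [Finite G] : AbC G → ∀ {Q : Type u} [Group Q] [Finite Q] (f : G →* Q),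
    Function.Surjective f → Group.IsSolvable f.ker → (2 ∣ #f.ker → Group.IsSolvable G) → AbC Q := by
  refine Solv.card_induction (P := fun G _ _ => AbC G → ∀ {Q : Type u} [Group Q] [Finite Q] (f : G →* Q),
    Function.Surjective f → Group.IsSolvable f.ker → (2 ∣ #f.ker → Group.IsSolvable G) → AbC Q)
    (fun G _ _ ih h Q _ _ f hf h1 h2 => ?_) G
  by_cases h0 : f.ker = ⊥
  · intro A B hA hB e
    have inj := (MonoidHom.ker_eq_bot_iff f).1 h0
    obtain ⟨g, hg⟩ := h (A.comap f) (B.comap f) (comap_injective_isMulCommutative _ inj)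
      (comap_injective_isMulCommutative _ inj) (by
      rw [← card_map_of_injective inj, ← card_map_of_injective inj, map_comap_eq_self_of_surjective hf,
        map_comap_eq_self_of_surjective hf, e])
    exact ⟨f g, by rw [← map_comap_eq_self_of_surjective hf B, hg, Comp.map_cj, map_comap_eq_self_of_surjective hf]⟩
  obtain ⟨N, n1, _, n2, n3⟩ := Solv.exists_minimal_normal_le f.ker h0
  obtain ⟨n4, p, hp, n5⟩ := Solv.minimal_normal_elementary N (sol_mono h1 n1) n2 n3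
  haveI := Fact.mk hp
  have hs := QuotientGroup.mk'_surjective N
  have k := QuotientGroup.ker_lift N f n1
  refine ih _ (Solv.card_quotient_lt n2) (h.step (p := p) hs (by rw [QuotientGroup.ker_mk']; exact ⟨n4, n5⟩)
    (by rwa [QuotientGroup.ker_mk']) fun e => h2 (e ▸ (pg_dvd (elem_isPGroup ⟨n4, n5⟩) n2).trans (card_dvd n1)))
    (QuotientGroup.lift N f n1) (QuotientGroup.lift_surjective_of_surjective N f hf n1)
    (k ▸ Group.isSolvable_of_surjective (MonoidHom.subgroupMap_surjective _ _)) fun e => ?_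
  haveI := h2 (e.trans (k ▸ card_map_dvd _ _))
  infer_instance

end Cfsg.Agent.PU
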