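/-
Extraspecial 2-groups and 2-groups of symplectic type: further facts.
-/
import Cfsg.Agent.Lib.PU.XS1
import Cfsg.Agent.Lib.PU.Ms2
import Cfsg.Agent.Lib.Comp.CharL

set_option autoImplicit false
set_option linter.unusedSectionVars false
set_option linter.unusedVariables false
set_option linter.style.haveILetI false
set_option linter.unusedSimpArgs false

namespace Cfsg.Agent.PU

open Subgroup Cfsg.Agent.Transfer Cfsg.Agent.MS
open scoped commutatorElement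

universe u
variable {G : Type u} [Group G] [Finite G]
variable {A B E K M P Q Q' R U X Y Z : Subgroup G} {a b g t u v x z : G} {p : ℕ}

theorem charP_stab [hp : Fact p.Prime] (h : Comp.CharP p M) (hZ : M ≤ CC Z) (pZ : IsPGroup p Z)
    (hY : Y ≤ M) (hc : ⁅Y, O {p} M⁆ ≤ Z) : Y ≤ O {p} M := by
  have n : M ≤ NN (O {p} M) := nn_O (le_nn M)
  have nZ := nn_of_cc hZ
  refine le_trans (le_inf hY fun y hy => ⟨nZ (hY hy), fun g hg => hc (commutator_mem_commutator hy hg)⟩ :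
    Y ≤ M ⊓ Solv.centralMod (O {p} M) Z) (le_O inf_le_left (fun g hg => mem_normalizer_of_conj_mem fun x hx =>
      mem_inf.2 ⟨mul_mem (mul_mem hg (mem_inf.1 hx).1) (inv_mem hg), Solv.mem_centralMod.2
        ⟨mul_mem (mul_mem (nZ hg) (Solv.mem_centralMod.1 hx.2).1) (inv_mem (nZ hg)), fun q hq => ?_⟩⟩) fun q hq hd => by_contra fun e => ?_)
  · rw [show ⁅g * x * g⁻¹, q⁆ = g * ⁅x, g⁻¹ * q * g⁆ * g⁻¹ by simp [commutatorElement_def, mul_assoc]]
    exact conj_mem_of_mem_normalizer (nZ hg) (hx.2.2 _ (inv_conj_mem_of_mem_normalizer (n hg) hq))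
  · obtain ⟨X, x1, x2⟩ := exists_card_eq hq hd
    have c := pi_of_card (π := {p}ᶜ) x2 hq e
    refine prime_ne_bot (x2 ▸ hq) (h.eq_bot (x1.trans inf_le_left) (O1_eq (p := p) M ▸ cop_stable
      (pg_coprime pZ c (by simp)).symm ?_ (x1.trans (inf_le_left.trans hZ))) (pi_compl_iff_coprime.1 c))
    rw [Subgroup.commutator_comm]
    exact (commutator_mono (x1.trans inf_le_right) le_rfl).trans Solv.commutator_centralMod_le

theorem thm_1756 (hQ : Cfsg.IsExtraspecial 2 ↥Q) (ht : orderOf t = 2) (htN : t ∈ NN Q)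
    (hi : (C1 t ⊓ Q).relIndex Q ≤ 2) : t ∈ Q ⊔ CC Q := by
  have c : #(Q ⊓ CC Q : Subgroup G) = 2 := by rw [← map_center_eq, card_subtype, hQ.2]
  obtain ⟨z, hz, z1⟩ := exists_ne_one (prime_ne_bot (c ▸ Nat.prime_two))
  have es := es_of hQ hz z1
  have z2 := es_z2 es
  have t2 : t * t = 1 := by rw [← pow_two, ← ht, pow_orderOf_eq_one]
  have zt : z ∈ C1 t := by
    have := conj_mem_of_mem_normalizer (nn_inf (zpowers_le.2 htN) (nn_cc (zpowers_le.2 htN)) (mem_zpowers t)) hz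
    exact mem_C1_comm.1 (mem_C1_of_conj ((zp2 z2 (es.cen ▸ this)).resolve_left (conj_ne z1)))
  suffices ∀ q ∈ Q, ⁅q, t⁆ ∈ zpowers z by
    obtain ⟨a, ha, h⟩ := es_inner es this
    simpa using mul_mem (mem_sup_left ha) (mem_sup_right (S := Q) h)
  intro x hx
  by_contra h
  have xt : x ∉ C1 t := fun e => h (by rw [commutatorElement_eq_one_iff_mul_comm.2 (mem_C1.1 e)]; exact one_mem _)
  have m : ⁅x, t⁆ ∈ Q := comm_le_left (zpowers_le.2 htN) (commutator_mem_commutator hx (mem_zpowers t))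
  have sp : ∀ y ∈ Q, y ∉ C1 t → C1 t ⊓ Q ⊔ zpowers y = Q := fun y hy e => Solv.sup_zpowers_eq_of_relIndex_prime
    inf_le_right (BG.relIndex_eq_of_le (es_pg es) hi (fun l => e (l hy).1) ▸ Nat.prime_two) hy fun l => e l.1
  have d : ⁅zpowers t, C1 t ⊓ Q⁆ = ⊥ := comm_eq_bot'.2 (cc_zpowers t ▸ inf_le_left)
  have c1 : ⁅x, t⁆ ∈ CC (C1 t ⊓ Q) := comm_eq_bot.1 (le_bot_iff.1 (three_sub nn_bot nn_bot nn_bot
    (by rw [d, commutator_bot_left]) ((commutator_mono (comm_le_left ((zpowers_le.2 hx).trans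
      (es_nn es (mem_inf.2 ⟨zt, hz.1⟩) inf_le_right))) le_rfl).trans ((Subgroup.commutator_comm _ _).le.trans d.le))))
    (commutator_mem_commutator (mem_zpowers x) (mem_zpowers t))
  have fin : ∀ y ∈ Q, y ∉ C1 t → ⁅x, t⁆ ∈ C1 y → False := fun y hy e c => h (es.cen ▸ ⟨m, by
    rw [← sp y hy e, cc_sup, cc_zpowers]; exact ⟨c1, c⟩⟩)
  have c2 : ⁅x, t⁆ ∈ C1 t := by_contra fun e => fin _ m e (self_mem_C1 _)
  refine fin x hx xt (mem_C1.2 ?_)
  have h1 := conj_eq_of_C1 (mem_C1_comm.1 (zpowers_le.2 zt (es.pw x hx)))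
  have h2 : ⁅x, t⁆⁻¹ = ⁅x, t⁆ := by
    rw [← conj_eq_of_C1 (mem_C1_comm.1 c2), conj_eq_of_C1 (mem_C1_comm.1 c2)]
    nth_rewrite 2 [← conj_eq_of_C1 (mem_C1_comm.1 c2)]
    rw [commutatorElement_inv, commutatorElement_def, commutatorElement_def, inv_self t2, mul_assoc t (_ * t),
      mul_assoc _ t t, t2]; group
  have h3 : t * x * t⁻¹ = ⁅x, t⁆ * x := by rw [← h2, commutatorElement_inv, commutatorElement_def]; group
  rw [← conj_pow, h3, sq, sq, ← mul_assoc, mul_left_inj] at h1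
  rw [eq_mul_inv_of_mul_eq h1, h2]

theorem extraspecial_congr {A B : Type*} [Group A] [Group B] (e : A ≃* B) (h : IsExtraspecial p A) :
    IsExtraspecial p B := by
  have c : ∀ x : B, x ∈ center B ↔ e.symm x ∈ center A := fun x => by
    simp only [Subgroup.mem_center_iff]
    exact ⟨fun h g => e.injective (by simp [h]), fun h g => e.symm.injective (by simp [h])⟩
  refine ⟨⟨h.1.1.of_equiv e, Subgroup.ext fun x => ?_, Subgroup.ext fun x => ?_⟩,
    (Nat.card_congr (Subgroup.centerCongr e).toEquiv).symm.trans h.2⟩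
  · rw [c, ← h.1.2.1]
    exact ⟨fun h => frattini_le_comap_frattini_of_surjective (φ := e.symm.toMonoidHom) e.symm.surjective h,
      fun h => by simpa using frattini_le_comap_frattini_of_surjective (φ := e.toMonoidHom) e.surjective h⟩
  · rw [c, ← h.1.2.2, ← mem_map_equiv, _root_.commutator_def, _root_.commutator_def, map_commutator]
    simp

theorem thm_1784 (h : LX z Q) {α : G} (hα : orderOf α = 2) (hαC : α ∈ C1 z) (hαQ : α ∉ Q)
    (Q₀ : Subgroup G) (hQ₀ : ∀ q : G, q ∈ Q₀ ↔ (q ∈ Q ∧ α * q * α⁻¹ * q⁻¹ ∈ Subgroup.zpowers z)) :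
    Subgroup.closure ((fun q : G => α * q * α⁻¹ * q⁻¹) '' (Q : Set G)) = (Subgroup.center ↥Q₀).map Q₀.subtype ∧
      (¬ Q₀ ≤ (Q ⊓ C1 α) ⊔ Subgroup.zpowers z → ∃ q ∈ Q, q * α * q⁻¹ = α * z) := by
  have z2 := es_z2 h.es
  have a2 : α * α = 1 := by rw [← pow_two, ← hα, pow_orderOf_eq_one]
  have nα := zpowers_le.2 (h.nn hαC)
  refine ⟨?_, fun e => ?_⟩
  · have e : closure ((fun q : G => α * q * α⁻¹ * q⁻¹) '' (Q : Set G)) = ⁅zpowers α, Q⁆ := le_antisymm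
      ((closure_le _).2 (by rintro _ ⟨q, hq, rfl⟩; exact commutator_mem_commutator (mem_zpowers α) hq))
      (commutator_le.2 fun a ha q hq => by
        rcases zp2 a2 ha with rfl | rfl
        exacts [by simp, subset_closure ⟨q, hq, rfl⟩])
    rw [e, map_center_eq]
    have l : ⁅zpowers α, Q⁆ ≤ Q := comm_le_right nα
    have l0 : Q₀ ≤ Q := fun q hq => ((hQ₀ q).1 hq).1
    have zc := zpowers_le.2 h.es.mem.2
    have d : ∀ X ≤ Q, ⁅X, Q⁆ ≤ zpowers z := fun X hX => (commutator_mono hX le_rfl).trans h.es.der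
    have za : ⁅zpowers z, zpowers α⁆ = ⊥ := comm_eq_bot'.2 (cc_zpowers z ▸ zpowers_le.2 hαC)
    have c0 : ∀ X ≤ Q, ⁅X, zpowers α⁆ ≤ zpowers z ↔ X ≤ Q₀ := fun X hX =>
      ⟨fun h x hx => (hQ₀ x).2 ⟨hX hx, ((Subgroup.commutator_comm _ _).le.trans h)
        (commutator_mem_commutator (mem_zpowers α) hx)⟩,
        fun h => (Subgroup.commutator_comm _ _).le.trans (commutator_le.2 fun a ha q hq => by
          rcases zp2 a2 ha with rfl | rfl
          exacts [by simp, ((hQ₀ q).1 (h hq)).2])⟩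
    have zm : z ∈ ⁅zpowers α, Q⁆ := by
      obtain ⟨x, hx, x1⟩ := exists_ne_one (nil_meet (nil_of_pg (es_pg h.es)) l (right_nn_comm _ _) fun e =>
        hαQ (h.cc (zpowers_le.1 (comm_eq_bot.1 e))))
      exact (zp2 z2 (h.cz hx.2)).resolve_left x1 ▸ hx.1
    refine le_antisymm (le_inf ?_ (comm_eq_bot.1 (le_bot_iff.1 (three_sub nn_bot nn_bot nn_bot
      ((commutator_mono ((Subgroup.commutator_comm _ _).le.trans (d _ l0)) le_rfl).trans za.le)
      ((commutator_mono ((c0 _ l0).2 le_rfl) le_rfl).trans (comm_eq_bot.2 zc).le)))))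
      (le_trans (le_inf (inf_le_left.trans l0) (inf_le_right.trans (cc_anti ((c0 _ inf_le_left).1 ?_))))
        (es_ccc h.es zm l))
    · rw [← e, closure_le]
      rintro _ ⟨q, hq, rfl⟩
      have m := l (commutator_mem_commutator (mem_zpowers α) hq)
      refine (hQ₀ _).2 ⟨m, ?_⟩
      convert h.es.pw _ (inv_mem m) using 1
      simp only [commutatorElement_def, inv_self a2, sq, mul_inv_rev, inv_inv, ← mul_assoc, a2, one_mul]
    · exact le_trans (le_inf (comm_le_left (nn_inf nα (nn_cc (left_nn_comm _ _)))  |>.trans inf_le_left)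
        (comm_eq_bot.1 (le_bot_iff.1 (three_sub nn_bot nn_bot nn_bot (comm_eq_bot'.2 inf_le_right).le
          ((commutator_mono ((Subgroup.commutator_comm _ _).le.trans (d _ inf_le_left)) le_rfl).trans za.le))))) h.es.cen.le
  · obtain ⟨q, hq, h1⟩ := SetLike.not_le_iff_exists.1 e
    obtain ⟨h2, h3⟩ := (hQ₀ q).1 hq
    refine ⟨q, h2, ?_⟩
    rcases zp2 z2 h3 with e | e
    · exact absurd (mem_sup_left (mem_inf.2 ⟨h2, mem_C1.2 (commutatorElement_eq_one_iff_mul_comm.1 e).symm⟩)) h1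
    · rw [← e, inv_self a2, ← mul_assoc, ← mul_assoc, ← mul_assoc, a2, one_mul]

theorem sq_mem_of_relIndex (h : A.relIndex P ≤ 2) (hn : P ≤ NN A) (hx : x ∈ P) : x ^ 2 ∈ A := by
  haveI := (normal_subgroupOf_iff_le_normalizer_inf (K := P) (H := A)).2 (nn_inf hn (le_nn P))
  have := pow_index_mem (A.subgroupOf P) ⟨x, hx⟩
  have h0 := relIndex_pos A P
  rw [← relIndex] at this
  interval_cases A.relIndex P
  · exact pow_mem (by simpa [mem_subgroupOf] using this) 2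
  · exact this

theorem sympl_sq (h : IsOfSymplecticType G) (h4 : ∀ x : G, x ^ 4 = 1) (x : G) : x ^ 2 ∈ center G := by
  have p2 : ∀ X : Subgroup G, IsPGroup 2 X := h.1.to_subgroup
  set N := closure (Set.range fun y : G => y ^ 2)
  haveI : N.Characteristic := characteristic_iff_map_le.2 fun φ => by
    rw [MonoidHom.map_closure, closure_le]
    rintro _ ⟨_, ⟨y, rfl⟩, rfl⟩
    exact subset_closure ⟨φ y, (map_pow φ y 2).symm⟩
  have c : ∀ M : Subgroup G, ⊤ ≤ NN M → #M ≤ 2 ^ 2 → M ≤ CC N := fun M h1 h2 => cc_symm ((closure_le _).2 (by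
    rintro _ ⟨y, rfl⟩
    exact sq_mem_of_relIndex (BG.relIndex_Ct_le (p2 ⊤) (p2 M) h1 h2) (nn_cc h1) (mem_top y)))
  have cy := h.2 (N ⊓ CC N) inferInstance (ab_center N)
  rcases (inf_le_left : N ⊓ CC N ≤ N).eq_or_lt with e | lt
  · have m : zpowers (x ^ 2) ≤ N ⊓ CC N := e.symm ▸ zpowers_le.2 (subset_closure ⟨x, rfl⟩)
    have := BG.le_Ct_of_card_le (p2 ⊤) (p2 _) (cyc_nn cy m nn_normal) (by
      rw [Nat.card_zpowers]; exact orderOf_le_of_pow_eq_one two_pos (by rw [← pow_mul, h4])) (mem_zpowers _)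
    exact mem_center_iff.2 fun g => this g (mem_top g)
  obtain ⟨M, m1, m2, m3, m4, -⟩ := Solv.exists_normal_relIndex_prime (L := ⊤) (nil_of_pg (p2 ⊤)) (p2 N) le_top
    nn_normal nn_normal lt
  obtain ⟨y, hy, y1⟩ := SetLike.exists_of_lt m1
  have ab : IsMulCommutative M := Solv.sup_zpowers_eq_of_relIndex_prime m1.le (m3 ▸ Nat.prime_two) hy y1 ▸
    Solv.isMulCommutative_sup_zpowers (ab_center N) (cc_symm inf_le_right (m2 hy))
  by_cases e : IsCyclic M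
  · obtain ⟨w, -, e⟩ := exists_zpowers e
    exact absurd (le_inf m2 (c M m4 (by
      rw [e, Nat.card_zpowers]; exact orderOf_le_of_pow_eq_one (by norm_num) (h4 w)))) m1.not_ge
  · obtain ⟨E, e1, e2, -, e3, e4⟩ := Solv.exists_normal_elementary_sq_of_abelian (nil_of_pg (p2 ⊤)) ab (p2 M) le_top m4 e
    exact absurd (cyc_mono cy (le_inf (e1.trans m2) (c E e4 e2.le))) (Solv.not_isCyclic_of_card_sq Nat.prime_two e2 e3)

/-- `Q = F*(C(z))` of symplectic type and exponent at most `4`. -/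
structure SY (z : G) (Q : Subgroup G) : Prop where
  ord : orderOf z = 2
  cyc : IsCyclic (Q ⊓ CC Q : Subgroup G)
  pw : ∀ x ∈ Q, x ^ 2 ∈ zpowers z
  eq : O {2} (C1 z) = Q
  ch : Comp.CharP 2 (C1 z)

theorem SY.cj (h : SY z Q) (g : G) : SY (g * z * g⁻¹) (cj g Q) :=
  ⟨by rw [← h.ord]; exact orderOf_conj .., by rw [← cj_centralizer, ← cj_inf]; exact cyc_cj h.cyc g,
    fun x hx => by rw [← cj_zpowers, mem_cj]; simpa [sq, mul_assoc] using h.pw _ (mem_cj.1 hx),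
    by rw [← cj_centralizer_singleton, ← cj_O, h.eq], cj_centralizer_singleton g z ▸ h.ch.cj g⟩

theorem SY.z2 (h : SY z Q) : z * z = 1 := by rw [← pow_two, ← h.ord, pow_orderOf_eq_one]
theorem SY.ne (h : SY z Q) : z ≠ 1 := fun e => by simpa [e] using h.ord
theorem SY.le (h : SY z Q) : Q ≤ C1 z := h.eq ▸ O_le _ _
theorem SY.nn (h : SY z Q) : C1 z ≤ NN Q := h.eq ▸ nn_O (le_nn _)
theorem SY.cc (h : SY z Q) : C1 z ⊓ CC Q ≤ Q := by have := h.ch; rwa [Comp.CharP, ← O1_eq, h.eq] at this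
theorem SY.mem (h : SY z Q) : z ∈ Q ⊓ CC Q := ⟨h.cc ⟨self_mem_C1 z, le_C1_iff.1 h.le⟩, le_C1_iff.1 h.le⟩
theorem SY.inv (h : SY z Q) (hx : x ∈ Q ⊓ CC Q) (h2 : x * x = 1) : x ∈ zpowers z :=
  Solv.mem_of_isCyclic_of_pow_card h.cyc (zpowers_le.2 h.mem) hx (by rw [Nat.card_zpowers, h.ord, sq, h2])
theorem SY.der (h : SY z Q) (hx : x ∈ Q) (ha : a ∈ Q) : ⁅x, a⁆ ∈ zpowers z := by
  have n : Q ≤ NN (zpowers z) := h.le.trans (nn_of_cc (cc_zpowers z).ge)
  rw [show ⁅x, a⁆ = x ^ 2 * (x⁻¹ * a) ^ 2 * a⁻¹ ^ 2 by simp [commutatorElement_def, sq, mul_assoc]]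
  exact mul_mem (mul_mem (h.pw x hx) (h.pw _ (mul_mem (inv_mem hx) ha))) (h.pw _ (inv_mem ha))
theorem SY.move (h : SY z Q) (ht : t ∈ Q) (t2 : t * t = 1) (h1 : t ∉ zpowers z) : ∃ a ∈ Q, a * t * a⁻¹ = z * t := by
  by_contra! e
  refine h1 (h.inv ⟨ht, fun a ha => ?_⟩ t2)
  rcases zp2 h.z2 (h.der ha ht) with c | c
  · exact commutatorElement_eq_one_iff_mul_comm.1 c
  · exact absurd (by rw [← c, commutatorElement_def, inv_mul_cancel_right]) (e a ha)

theorem SY.d8 (h : SY z Q) (es : ES 2 z Q) (h8 : #Q ≤ 8) (ht : t ∈ Q) (t2 : t * t = 1) (h1 : t ∉ zpowers z) :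
    Q = C1 z := by
  obtain ⟨a, ha, a1, a2⟩ : ∃ a ∈ Q, a * t * a⁻¹ = z * t ∧ a * a = z := by
    obtain ⟨a, ha, e⟩ := h.move ht t2 h1
    rcases zp2 h.z2 (h.pw a ha) with c | c <;> rw [sq] at c
    · refine ⟨a * t, mul_mem ha ht, by rw [← e]; group, ?_⟩
      rw [← mul_assoc, show a * t * a = z * t by rw [← e, inv_self c], mul_assoc, t2, mul_one]
    · exact ⟨a, ha, e, c⟩
  have zA : z ∈ zpowers a := a2 ▸ mul_mem (mem_zpowers a) (mem_zpowers a)
  have AQ := zpowers_le.2 ha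
  have tA : t ∉ zpowers a := fun e => h.ne (by
    rw [conj_eq_of_C1 (mem_C1_comm.1 (zpowers_le.2 (self_mem_C1 a) e))] at a1; simpa using a1)
  have c4 : #(zpowers a) = 4 := by
    rw [Nat.card_zpowers]
    exact ord_four (by rw [show 4 = 2 * 2 from rfl, pow_mul, sq a, a2, sq, h.z2]) (a2 ▸ h.ne)
  have e : zpowers a ⊔ zpowers t = Q := eq_of_card_le (sup_le AQ (zpowers_le.2 ht))
    (by rw [(es_step es zA AQ ht tA).1, c4]; exact h8)
  have ta : t * a * t⁻¹ = a⁻¹ := by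
    rw [inv_self t2, eq_inv_iff_mul_eq_one, show t * a * t * a = t * (a * t * a⁻¹) * (a * a) by group, a1, a2,
      ← mul_assoc, mem_C1.1 (h.le ht), mul_assoc z t t, t2, mul_one, h.z2]
  have n : C1 z ≤ NN (zpowers a) := fun c hc => mem_normalizer_of_cj_le (by
    rw [cj_zpowers, zpowers_le]
    obtain ⟨_, ⟨i, rfl⟩, τ, hτ, e'⟩ := (mem_sup_l ((zpowers_le.2 ht).trans (es_nn es zA AQ))).1
      (e ▸ conj_mem_of_mem_normalizer (h.nn hc) ha)
    rcases zp2 t2 hτ with rfl | rfl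
    · rw [e', mul_one]; exact zpow_mem (mem_zpowers a) i
    · refine absurd ?_ (conj_ne (g := c) h.ne)
      rw [← a2, ← conj_mul, e', show a ^ i * τ * (a ^ i * τ) = a ^ i * (τ * a ^ i * τ⁻¹) * (τ * τ) by group,
        ← conj_zpow, ta, t2]; simp)
  have i2 : (zpowers a).relIndex Q = 2 := by
    have := card_mul_relIndex AQ
    rw [← e, (es_step es zA AQ ht tA).1, c4, e] at this; omega
  rw [← h.eq]
  refine O_eq_self fun q hq hd => by_contra fun q2 => ?_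
  obtain ⟨X, x1, x2⟩ := exists_card_eq hq hd
  have c := pi_of_card (π := {2}ᶜ) x2 hq q2
  have pA := (es_pg es).to_le AQ
  refine prime_ne_bot (x2 ▸ hq) ((pi1_of_pg ((es_pg es).to_le ((le_inf x1 (cop_stable (pg_coprime pA c (by simp)).symm
    (commutator_le.2 fun y hy w hw => ?_) (cop_cyc pA (cyc_zpowers a) (x1.trans n) c (ne_bot_of_mem
      (mem_inf.2 ⟨zA, cc_symm (x1.trans (cc_zpowers z).ge) (mem_zpowers z)⟩) h.ne)))).trans h.cc))).eq_bot c)
  have m := conj_mem_of_mem_normalizer (h.nn (x1 hw)) (inv_mem hy)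
  rw [show ⁅y, w⁆ = y * (w * y⁻¹ * w⁻¹) by simp [commutatorElement_def, mul_assoc]]
  refine (mul_mem_iff_of_index_two (H := (zpowers a).subgroupOf Q) i2 (a := ⟨y, hy⟩) (b := ⟨_, m⟩)).2 ?_
  exact (inv_mem_iff (x := y)).symm.trans (mem_normalizer_iff.1 (n (x1 hw)) _)

theorem SY.sym (h : SY z Q) (ht : g * z * g⁻¹ ∈ Q) (htz : g * z * g⁻¹ ≠ z) : z ∈ Transfer.cj g Q := by
  have h' := h.cj g
  have h1 := notMem_zp h.z2 h'.ne htz
  by_cases hc : Q ⊓ CC Q ≤ zpowers z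
  · have es : ES 2 z Q := ⟨h.ord, le_antisymm hc (zpowers_le.2 h.mem), commutator_le.2 fun x hx a ha => h.der hx ha, h.pw⟩
    by_cases h8 : 8 < #Q
    · exact LX.sym ⟨es, h.nn, fun x hx => h.cc ⟨cc_le_C1 h.mem.1 hx, hx⟩⟩ h8 ht
    · rw [h.d8 es (by omega) ht h'.z2 h1, cj_centralizer_singleton]
      exact mem_C1_comm.1 (h.le ht)
  set t := g * z * g⁻¹ with tdef
  set Q' := Transfer.cj g Q with Qdef
  have z2 := h.z2
  have t2 := h'.z2
  have tz : t * z = z * t := mem_C1.1 (h.le ht)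
  by_contra hz
  by_cases hW : ∃ x ∈ Q', x * z * x⁻¹ = t * z
  · obtain ⟨x, hx, e⟩ := hW
    obtain ⟨a, ha, e'⟩ := h.move ht t2 h1
    have az := conj_eq_of_C1 (h.le ha)
    have xt := conj_eq_of_C1 (h'.le hx)
    have k1 : a * x * a * z * (a * x * a)⁻¹ = t := by
      calc _ = a * (x * (a * z * a⁻¹) * x⁻¹) * a⁻¹ := by group
        _ = a * (t * z) * a⁻¹ := by rw [az, e]
        _ = (a * t * a⁻¹) * (a * z * a⁻¹) := by group
        _ = t := by rw [e', az, ← tz, mul_assoc, z2, mul_one]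
    have k2 : a * x * a * t * (a * x * a)⁻¹ = z := by
      calc _ = a * (x * (a * t * a⁻¹) * x⁻¹) * a⁻¹ := by group
        _ = a * ((x * z * x⁻¹) * (x * t * x⁻¹)) * a⁻¹ := by rw [e']; group
        _ = z := by rw [e, xt, tz, mul_assoc z, t2, mul_one, az]
    exact hz (by rw [← h'.eq, ← k1, (h.cj _).eq, ← k2]; exact conj_mem_cj ht)
  have W : ∀ x ∈ Q', ⁅x, z⁆ ∈ zpowers t → x ∈ C1 z := fun x hx hc => by
    rcases zp2 t2 hc with e | e
    · exact mem_C1.2 (commutatorElement_eq_one_iff_mul_comm.1 e)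
    · exact absurd ⟨x, hx, by rw [← e, commutatorElement_def, inv_mul_cancel_right]⟩ hW
  obtain ⟨y, hy, y1⟩ := SetLike.not_le_iff_exists.1 hc
  have sq' : ∀ w ∈ Q ⊓ CC Q, w ∉ zpowers z → w ^ 2 = z := fun w hw e =>
    (zp2 z2 (h.pw w hw.1)).resolve_left fun c => e (h.inv hw (sq w ▸ c))
  have yn : zpowers y ≤ NN Q' := zpowers_le.2 (h'.nn (cc_le_C1 ht hy.2))
  have c : ∀ x ∈ Q' ⊓ C1 z, y * x * y⁻¹ = x := fun x hx => by
    have m1 : ⁅x, y⁆ ∈ Q' := comm_le_left yn (commutator_mem_commutator hx.1 (mem_zpowers y))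
    have m2 : ⁅x, y⁆ ∈ Q ⊓ CC Q := mul_mem (conj_mem_of_mem_normalizer (nn_inf h.nn (nn_cc h.nn) hx.2) hy) (inv_mem hy)
    by_cases e : ⁅x, y⁆ ∈ zpowers z
    · rcases zp2 z2 e with e | e
      · exact conj_eq_of_C1 (mem_C1.2 (commutatorElement_eq_one_iff_mul_comm.1 e).symm)
      · exact absurd (e ▸ m1) hz
    · exact absurd (sq' _ m2 e ▸ pow_mem m1 2) hz
  have pQ : ∀ {z Q}, SY (G := G) z Q → IsPGroup 2 Q := fun h => h.eq ▸ O_pg _
  obtain ⟨x, hx, x1, x2⟩ := Solv.exists_central_mod (nil_of_pg (pg_sup_l (pQ h') ((pQ h).to_le (zpowers_le.2 hy.1)) yn))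
    le_sup_left (sup_le (le_nn _) yn) (N := Q' ⊓ C1 z) fun e =>
      hz (h'.cc ⟨mem_C1.2 tz.symm, le_C1_iff.1 (e.trans inf_le_right)⟩)
  have m := x2 y (mem_sup_right (mem_zpowers y))
  refine x1 ⟨hx, W x hx ?_⟩
  rw [← sq' y hy y1, show ⁅x, y ^ 2⁆ = ⁅x, y⁆ * (y * ⁅x, y⁆ * y⁻¹) by simp [commutatorElement_def, sq, mul_assoc],
    c _ m, ← sq]
  exact h'.pw _ m.1

theorem thm_1774 (hz : orderOf z = 2) (hQ : Cfsg.IsOfSymplecticType ↥(Cfsg.generalizedFittingSubgroup ↥(C1 z)))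
    (hF : (Cfsg.generalizedFittingSubgroup ↥(C1 z)).map (C1 z).subtype = Q)
    (h4 : ∀ q ∈ Q, q ^ 4 = 1) (g : G) (hne : g * z * g⁻¹ ≠ z) (hin : g * z * g⁻¹ ∈ Q) :
    z ∈ cj g Q ∧ ∀ u ∈ Subgroup.closure ({z, g * z * g⁻¹} : Set G), ∀ v ∈ Subgroup.closure ({z, g * z * g⁻¹} : Set G),
        u ≠ 1 → v ≠ 1 → u ≠ v → ∃ x ∈ Q ⊔ cj g Q, x * z * x⁻¹ = u ∧ x * (g * z * g⁻¹) * x⁻¹ = v := by
  have φ := ((generalizedFittingSubgroup (C1 z)).equivMapOfInjective _ (C1 z).subtype_injective).trans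
    (MulEquiv.subgroupCongr hF)
  have pQ : IsPGroup 2 Q := hQ.1.of_equiv φ
  rw [Comp.map_fstar] at hF
  have ch : Comp.CharP 2 (C1 z) := Comp.charP_iff_isPGroup_Fstar.2 (hF ▸ pQ)
  have cy : IsCyclic (Q ⊓ CC Q : Subgroup G) := by
    rw [← map_center_eq]
    haveI := hQ.2 (center _) inferInstance inferInstance
    exact isCyclic_of_surjective _ ((Subgroup.centerCongr φ).trans
      ((center Q).equivMapOfInjective _ Q.subtype_injective)).surjective
  have le : Q ≤ C1 z := hF ▸ Comp.Fstar_le _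
  have m : z ∈ Q ⊓ CC Q := ⟨hF ▸ Comp.inf_centralizer_Fstar_le _ ⟨self_mem_C1 z, hF ▸ le_C1_iff.1 le⟩, le_C1_iff.1 le⟩
  have h : SY z Q := ⟨hz, cy, fun x hx => Solv.mem_of_isCyclic_of_pow_card cy (zpowers_le.2 m) ⟨pow_mem hx 2,
    fun y hy => by
      have := mem_center_iff.1 (sympl_sq hQ (fun w => φ.injective (Subtype.ext (by simpa using h4 _ (φ w).2)))
        (φ.symm ⟨x, hx⟩)) (φ.symm ⟨y, hy⟩)
      simpa using congrArg (fun w => (φ w).1) this⟩ (by rw [Nat.card_zpowers, hz, ← pow_mul, h4 x hx]),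
    by rw [O1_eq, ← ch.Fstar_eq, hF], ch⟩
  have h' := h.cj g
  have s := h.sym hin hne
  generalize g * z * g⁻¹ = t at *
  have z2 := h.z2
  have t2 := h'.z2
  have tz : t * z = z * t := mem_C1.1 (h.le hin)
  obtain ⟨a, ha, a1⟩ := h.move hin t2 (notMem_zp z2 h'.ne hne)
  obtain ⟨b, hb, b1⟩ := h'.move s z2 (notMem_zp t2 h.ne hne.symm)
  have a2 := conj_eq_of_C1 (h.le ha)
  have b2 := conj_eq_of_C1 (h'.le hb)
  have a3 : a * (z * t) * a⁻¹ = t := by rw [← conj_mul, a1, a2, ← mul_assoc, z2, one_mul]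
  have b3 : b * (z * t) * b⁻¹ = z := by rw [← conj_mul, b1, b2, tz, mul_assoc, t2, mul_one]
  rw [tz] at b1
  have cm : ∀ x y w : G, x * y * w * (x * y)⁻¹ = x * (y * w * y⁻¹) * x⁻¹ := fun x y w => by group
  have ma := mem_sup_left (T := cj g Q) ha
  have mb := mem_sup_right (S := Q) hb
  refine ⟨s, fun u hu v hv u1 v1 uv => ?_⟩
  rw [closure_pair_eq] at hu hv
  rcases mem_four z2 t2 (mem_C1.2 tz.symm) hu with rfl | rfl | rfl | rfl <;>
    rcases mem_four z2 t2 (mem_C1.2 tz.symm) hv with rfl | rfl | rfl | rfl <;> try contradiction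
  · exact ⟨1, one_mem _, by simp, by simp⟩
  · exact ⟨a, ma, a2, a1⟩
  · exact ⟨a * b * a, mul_mem (mul_mem ma mb) ma, by rw [cm, a2, cm, b1, a3], by rw [cm, a1, cm, b3, a2]⟩
  · exact ⟨a * b, mul_mem ma mb, by rw [cm, b1, a3], by rw [cm, b2, a1]⟩
  · exact ⟨b * a, mul_mem mb ma, by rw [cm, a2, b1], by rw [cm, a1, b3]⟩
  · exact ⟨b, mb, b1, b2⟩

theorem el_grow (hE : IsElementaryAbelian 2 E) (hA : A ≤ NN E) (hx : x ∈ NN E) (h2 : x * x = 1) (hc : x ∈ CC A)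
    {n : ℕ} (h : 2 ^ (2 * n) < #(E ⊓ CC A : Subgroup G)) : 2 ^ (n + 1) ≤ #(E ⊓ CC (A ⊔ zpowers x) : Subgroup G) := by
  have := card_le_sq_of_invol (elem_mono hE (inf_le_left (b := CC A))) (nn_inf (zpowers_le.2 hx)
    (nn_cc (nn_of_cc (zpowers_le.2 hc))) (mem_zpowers x)) (h2 ▸ one_mem _)
  rw [cc_sup, cc_zpowers, ← inf_assoc]
  obtain ⟨k, hk⟩ := IsPGroup.iff_card.1 ((elem_isPGroup hE).to_le (inf_le_left.trans inf_le_left :
    E ⊓ CC A ⊓ C1 x ≤ E))
  rw [hk] at this ⊢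
  have := h.trans_le this
  rw [← pow_mul, Nat.pow_lt_pow_iff_right one_lt_two] at this
  exact Nat.pow_le_pow_right two_pos (by omega)

theorem el_four [E.Normal] (hE : IsElementaryAbelian 2 E) (h32 : 32 ≤ #E) {V : Subgroup G} (hV : El 2 2 V ⊤) :
    (∀ v ∈ V, 2 ^ 3 ≤ #(E ⊓ C1 v : Subgroup G)) ∧ 2 ^ 2 ≤ #(E ⊓ CC V : Subgroup G) := by
  have h : ∀ v ∈ V, 2 ^ 3 ≤ #(E ⊓ CC (zpowers v) : Subgroup G) := fun v hv => by
    have := el_grow (A := ⊥) (n := 2) hE bot_le (nn_normal (mem_top v)) (elem_mul_self hV.elem hv)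
      (by rw [cc_bot]; trivial) (by rw [cc_bot, inf_top_eq]; omega)
    rwa [bot_sup_eq] at this
  refine ⟨fun v hv => cc_zpowers v ▸ h v hv, ?_⟩
  obtain ⟨v, hv, v1⟩ := exists_ne_one (hV.ne_bot (n := 1))
  obtain ⟨X, x1, x2, x3⟩ := hV.exists_line (hV.card_zpowers hv v1)
  obtain ⟨w, hw, rfl⟩ := exists_zpowers (prime_cyc (x2 ▸ Nat.prime_two))
  rw [← hV.sup_lines (zpowers_le.2 hv) x1 (hV.card_zpowers hv v1) x2 x3.symm]
  exact el_grow hE nn_normal (nn_normal (mem_top w)) (elem_mul_self hV.elem (x1 hw))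
    (ab_le_cc hV.ab x1 (zpowers_le.2 hv) hw) (lt_of_lt_of_le (by norm_num) (h v hv))

theorem thm_1785 (hX : IsPGroup 2 G) (E : Subgroup G) [E.Normal] (hE : Cfsg.IsElementaryAbelian 2 E) (hE32 : 32 ≤ #E) :
    (∀ A B : Subgroup G, Cfsg.IsElementaryAbelian 2 A → Nat.card ↥A = 8 → Cfsg.IsElementaryAbelian 2 B → Nat.card ↥B = 8 →
        Relation.ReflTransGen
          (fun C D : Subgroup G => Cfsg.IsElementaryAbelian 2 C ∧ Nat.card ↥C = 8 ∧ Cfsg.IsElementaryAbelian 2 D ∧ Nat.card ↥D = 8 ∧ ⁅C, D⁆ = ⊥)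
          A B) ∧
      (∀ V : Subgroup G, Cfsg.IsElementaryAbelian 2 V → Nat.card ↥V = 4 →
        ∃ A : Subgroup G, V ≤ A ∧ Cfsg.IsElementaryAbelian 2 A ∧ Nat.card ↥A = 8) := by
  refine ⟨fun A B a1 a2 b1 b2 => ?_, fun V v1 v2 => ?_⟩
  · set r := fun C D : Subgroup G => Cfsg.IsElementaryAbelian 2 C ∧ Nat.card ↥C = 8 ∧ Cfsg.IsElementaryAbelian 2 D ∧
      Nat.card ↥D = 8 ∧ ⁅C, D⁆ = ⊥
    have sy : ∀ {C D}, r C D → r D C := fun ⟨a, b, c, d, e⟩ => ⟨c, d, a, b, (Subgroup.commutator_comm _ _).trans e⟩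
    have mk : ∀ C D : Subgroup G, El 2 3 C ⊤ → El 2 3 D ⊤ → D ≤ CC C → r C D := fun C D c d e =>
      ⟨c.elem, c.card, d.elem, d.card, comm_eq_bot'.2 e⟩
    have sub : ∀ A W : Subgroup G, El 2 3 A ⊤ → W ≤ A → #W ≤ 2 ^ 1 → ∃ V, El 2 2 V ⊤ ∧ V ≤ A ∧ V ⊓ W = ⊥ ∧ (W ≠ ⊥ → W ⊔ V = A) :=
      fun A W hA h1 h2 => by
        obtain ⟨V, v1, v2⟩ := BG.exists_compl_of_elem hA.elem h1
        have VA : V ≤ A := le_sup_right.trans v2.le
        have c := card_sup_l (ab_nn hA.ab VA h1) ((inf_comm W V).trans v1)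
        rw [v2, hA.card] at c
        obtain ⟨U, u1, -⟩ := elem_sub (elem_mono hA.elem VA) bot_le (k := 0) (n := 2)
          (by simp) (by omega) (by nlinarith)
        refine ⟨U, u1.of_le le_top, u1.le.trans VA, inf_bot_mono v1 u1.le le_rfl, fun e => ?_⟩
        rw [eq_of_card_le u1.le (by have := (one_lt_card_iff_ne_bot W).2 e; rw [u1.card]; nlinarith), v2]
    have k2 : ∀ A : Subgroup G, El 2 3 A ⊤ → 2 ^ 2 ≤ #(A ⊓ E : Subgroup G) → ∃ D, El 2 3 D E ∧ r A D := fun A hA h => by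
      obtain ⟨V, hV, -⟩ := elem_sub (elem_mono hE (inf_le_right (a := A))) bot_le (k := 0) (by simp) (by omega) h
      obtain ⟨x, hx, x1⟩ := SetLike.not_le_iff_exists.1 fun e : A ≤ V => by
        have := card_le_of_le e; rw [hA.card, hV.card] at this; omega
      obtain ⟨U, hU, u1⟩ := elem_sub hA.elem (zpowers_le.2 hx) (k := 1) (n := 2)
        (hA.card_zpowers hx fun e => x1 (e ▸ one_mem _)) (by omega) (by rw [hA.card]; omega)
      obtain ⟨D, hD, -⟩ := elem_sub (elem_mono hE inf_le_left) bot_le (k := 0) (by simp) (by omega)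
        ((el_four hE hE32 (hU.of_le le_top)).1 x (u1 (mem_zpowers x)))
      refine ⟨D, hD.mono inf_le_left, mk A D hA (hD.of_le le_top) ?_⟩
      rw [← BG.sup_zpowers_eq_of_card_le hA.pg hA.card.le (hV.le.trans inf_le_left) hV.card.ge hx x1, cc_sup, cc_zpowers]
      exact le_inf (ab_le_cc hE.1 (hD.le.trans inf_le_left) (hV.le.trans inf_le_right)) (hD.le.trans inf_le_right)
    have k1 : ∀ A : Subgroup G, El 2 3 A ⊤ → A ⊓ E ≠ ⊥ → ∃ D, El 2 3 D E ∧ Relation.ReflTransGen r A D := fun A hA h => by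
      by_cases e : 2 ^ 2 ≤ #(A ⊓ E : Subgroup G)
      · exact (k2 A hA e).imp fun D h => ⟨h.1, .single h.2⟩
      obtain ⟨V, v1, v2, v3, v4⟩ := sub A (A ⊓ E) hA inf_le_left (by
        obtain ⟨k, hk⟩ := IsPGroup.iff_card.1 (hX.to_subgroup (A ⊓ E))
        rw [hk] at e ⊢
        exact Nat.pow_le_pow_right two_pos (by_contra fun l => e (Nat.pow_le_pow_right two_pos (by omega))))
      obtain ⟨W, hW, -⟩ := elem_sub (elem_mono hE inf_le_left) bot_le (k := 0) (by simp) (by omega) (el_four hE hE32 v1).2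
      have c : W ≤ CC A := v4 h ▸ le_cc_sup (ab_le_cc hE.1 (hW.le.trans inf_le_left) inf_le_right) (hW.le.trans inf_le_right)
      obtain ⟨x, hx, x1⟩ := exists_ne_one (v1.ne_bot (n := 1))
      have hD := (hW.of_le le_top).sup (el_one le_top (v1.card_zpowers hx x1)) (c.trans (cc_anti (zpowers_le.2 (v2 hx))))
        (inf_comm (zpowers x) W ▸ inf_bot_mono v3 (inf_le_left.trans (zpowers_le.2 hx)) (le_inf (inf_le_left.trans
          (zpowers_le.2 (v2 hx))) (inf_le_right.trans (hW.le.trans inf_le_left))) |> fun e => by simpa using e)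
      obtain ⟨D, d1, d2⟩ := k2 _ hD (hW.card.ge.trans (card_le_of_le (le_inf le_sup_left (hW.le.trans inf_le_left))))
      exact ⟨D, d1, .head (mk _ _ hA hD (sup_le c ((zpowers_le.2 (v2 hx)).trans hA.cc))) (.single d2)⟩
    have k0 : ∀ A : Subgroup G, El 2 3 A ⊤ → ∃ D, El 2 3 D E ∧ Relation.ReflTransGen r A D := fun A hA => by
      by_cases h : A ⊓ E = ⊥
      swap; · exact k1 A hA h
      obtain ⟨V, v1, v2, -⟩ := sub A ⊥ hA bot_le (by simp)
      obtain ⟨W, w1, w2⟩ := pg_exists_card ((elem_isPGroup hE).to_le (inf_le_left (b := CC ⊤)))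
        (nil_meet (nil_of_pg (hX.to_subgroup ⊤)) le_top nn_normal fun e => by simp [e] at hE32)
      have c : ∀ X, W ≤ CC X := fun X => w1.trans (inf_le_right.trans (cc_anti le_top))
      have hD := v1.sup (el_one le_top w2) (cc_symm (c V)) (inf_bot_mono h v2 (w1.trans inf_le_left))
      obtain ⟨D, d1, d2⟩ := k1 _ hD fun e => prime_ne_bot (w2 ▸ Nat.prime_two)
        (eq_bot_of_le e le_sup_right (w1.trans inf_le_left))
      exact ⟨D, d1, .head (mk _ _ hA hD (sup_le (v2.trans hA.cc) (c A))) d2⟩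
    obtain ⟨C, c1, c2⟩ := k0 A ⟨le_top, a1, a2⟩
    obtain ⟨D, d1, d2⟩ := k0 B ⟨le_top, b1, b2⟩
    exact (c2.tail (mk C D (c1.of_le le_top) (d1.of_le le_top) (ab_le_cc hE.1 d1.le c1.le))).trans
      ((@Relation.ReflTransGen.stdSymm _ r ⟨fun _ _ => sy⟩).symm _ _ d2)
  · have hV : El 2 2 V ⊤ := ⟨le_top, v1, v2⟩
    by_contra! h
    have l : E ⊓ CC V ≤ V := fun x hx => by_contra fun e => h _ le_sup_left
      (elem_sup_zpowers v1 hx.2 (hE.2 x hx.1)) (by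
        rw [card_sup_zpowers_of_commute hx.2 (elem_mul_self hE hx.1) e, v2])
    have e := eq_of_card_le l (hV.card.le.trans (el_four hE hE32 hV).2)
    have := card_le_of_le ((le_inf le_rfl (ab_le_cc hE.1 le_rfl (e.ge.trans inf_le_left))).trans l)
    omega

theorem thm_1957 (h2 : Cfsg.IsCharacteristicTwoType G)
    (P : Sylow 2 G) (U : Subgroup G) (hUP : U ≤ (P : Subgroup G)) (hUn : (P : Subgroup G) ≤ NN U)
    (hU4 : IsKleinFour ↥U) (hUZ : ¬ IsCyclic ↥((P : Subgroup G) ⊓ CC P) → U ≤ CC P)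
    (K : Subgroup G) (hK : Odd (Nat.card K)) (hUK : U ≤ NN K) : U ≤ CC K := by
  have hU : El 2 2 U U := ⟨le_rfl, klein_elem hU4, hU4.card_four⟩
  have pK := pi_compl_iff.2 hK.not_two_dvd_nat
  refine cc_symm (cop_gen hU.ab (hU.not_cyc (n := 0)) hUK (pg_coprime hU.pg pK (by simp)) fun u hu u1 => ?_)
  have ch : Comp.CharP 2 (C1 u) := .centralizer_of_normalizer_zpowers (Comp.charP_iff_subtype.2
    (h2.2 _ (hU.pg.to_le (zpowers_le.2 hu)) (zpowers_ne_bot.2 u1)))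
  have uC : U ≤ C1 u := hU.cc.trans (cc_le_C1 hu)
  suffices U ≤ O {2} (C1 u) from comm_eq_bot.1 (eq_bot_of_le (pg_inf (O_pg (C1 u)) pK (by simp))
    ((commutator_mono inf_le_right this).trans (comm_le_right (nn_O (le_nn _))))
    ((commutator_mono inf_le_left le_rfl).trans (comm_le_left hUK)))
  refine charP_stab ch (cc_zpowers u).ge (hU.pg.to_le (zpowers_le.2 hu)) uC ?_
  obtain ⟨T, hT, t1⟩ := exists_isSyl_ge (P.2.to_le (inf_le_right (a := CC U))) (inf_le_left.trans (cc_le_C1 hu))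
  refine (commutator_mono le_rfl (O_le_syl hT)).trans ?_
  by_cases e : T ≤ CC U
  · exact (comm_eq_bot'.2 e).le.trans bot_le
  have lt : CC U ⊓ P < T := lt_of_le_of_ne t1 fun e' => e (e'.ge.trans inf_le_left)
  have c1 := BG.mul_card_le_of_lt hT.pgroup lt
  have c2 := card_inf_mul_relIndex (CC U) P
  have c3 := BG.relIndex_Ct_le P.2 hU.pg hUn hU.card.le
  have c4 := (isSyl_top P).card_le hT.pgroup le_top
  have c5 := card_mul_relIndex t1
  have c6 := card_pos' (CC U ⊓ P)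
  obtain ⟨g, -, hg⟩ := (isSyl_top P).exists_cj_eq ((isSyl_top P).of_card_le hT.pgroup le_top (by nlinarith))
  have cy : IsCyclic (T ⊓ CC T : Subgroup G) := by
    have := cyc_cj (A := P ⊓ CC P) (by_contra fun c => by
      rw [inf_eq_right.2 (cc_symm (hUZ c))] at c1; have := card_pos' (P : Subgroup G); omega) g⁻¹
    rwa [show (P : Subgroup G) ⊓ CC P = cj g (T ⊓ CC T) by rw [cj_inf, cj_centralizer, hg]; rfl, cj_inv_cj] at this
  have i2 : (CC U ⊓ P).relIndex T = 2 := BG.relIndex_eq_of_le hT.pgroup (by nlinarith) lt.not_ge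
  have n := (normal_subgroupOf_iff_le_normalizer t1).1 (normal_of_index_eq_two i2)
  have uz : U ≤ CC U ⊓ P ⊓ CC (CC U ⊓ P) := le_inf (le_inf hU.cc hUP) (cc_symm inf_le_left)
  refine commutator_le.2 fun v hv x hx => ?_
  by_cases x1 : x ∈ CC U ⊓ P
  · rw [commutatorElement_eq_one_iff_mul_comm.2 (x1.1 v hv)]; exact one_mem _
  have m1 := conj_mem_of_mem_normalizer (nn_inf n (nn_cc n) hx) (inv_mem (uz hv))
  have e1 : ⁅v, x⁆ = v * (x * v⁻¹ * x⁻¹) := by simp [commutatorElement_def, mul_assoc]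
  have cm : Commute v (x * v⁻¹ * x⁻¹) := m1.2 v (uz hv).1
  have m2 : ⁅v, x⁆ ∈ CC U ⊓ P ⊓ CC (CC U ⊓ P) := e1 ▸ mul_mem (uz hv) m1
  refine Solv.mem_of_isCyclic_of_pow_card cy (zpowers_le.2 ⟨t1 (uz hu).1, le_C1_iff.1 hT.le⟩) ⟨t1 m2.1, ?_⟩
    (by rw [hU.card_zpowers hu u1, e1, cm.mul_pow, conj_pow, inv_pow, hU.elem.2 v hv]; simp)
  rw [← Solv.sup_zpowers_eq_of_relIndex_prime t1 (by rw [i2]; exact Nat.prime_two) hx x1, cc_sup, cc_zpowers]
  refine ⟨m2.2, mem_C1_comm.1 (mem_C1_of_conj ?_)⟩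
  have := conj_eq_of_cc (sq_mem_of_relIndex i2.le n hx).1 hv
  rw [e1]
  rw [inv_self (elem_mul_self hU.elem hv)] at cm ⊢
  rw [← conj_mul, cm.eq, show x * (x * v * x⁻¹) * x⁻¹ = x ^ 2 * v * (x ^ 2)⁻¹ by simp [sq, mul_assoc], this]

theorem alperin [hp : Fact p.Prime] (hG : IsPGroup p G) (n : ℕ) (hn : p ^ n ≠ 2) (A : Subgroup G) [A.Normal]
    (hA : IsMulCommutative A) (hAe : ∀ a ∈ A, a ^ p ^ n = 1) (hmax : ∀ B : Subgroup G, B.Normal → IsMulCommutative B →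
      (∀ b ∈ B, b ^ p ^ n = 1) → A ≤ B → B = A) (x : G) (hx : x ∈ CC A) (hxn : x ^ p ^ n = 1) : x ∈ A := by
  by_contra hxA
  obtain ⟨N, n1, ⟨n2, n3, x, hx, x1, x2⟩, n4⟩ := Solv.exists_minimal_le
    (P := fun N : Subgroup G => ⊤ ≤ NN N ∧ A ≤ N ∧ ∃ x ∈ N, x ∉ A ∧ x ^ p ^ n = 1)
    ⟨nn_cc nn_normal, ab_cc hA, x, hx, hxA, hxn⟩
  have pg := hG.to_subgroup
  have lt : A < N := lt_of_le_of_ne n3 fun e => x1 (e ▸ hx)
  obtain ⟨M, m1, m2, m3, m4⟩ := Comp.exists_relIndex_eq_prime (pg N) (B := A ⊔ ⁅N, ⊤⁆)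
    (lt_of_le_of_ne (sup_le n3 (comm_le_left n2)) fun e => lt.not_ge (le_of_le_sup_commutator (pg ⊤) le_top le_top
      nn_normal e.ge))
  have nM : ⊤ ≤ NN M := nn_of_comm_le (le_sup_right.trans m1) m2
  have hM : ∀ y ∈ M, y ^ p ^ n = 1 → y ∈ A := fun y hy e => by_contra fun h => hp.out.one_lt.ne' (by
    rw [← m3, n4 M ⟨nM, le_sup_left.trans m1, y, hy, h, e⟩ m2, relIndex_self])
  have n0 : n ≠ 0 := by rintro rfl; rw [pow_zero, pow_one] at x2; exact x1 (x2 ▸ one_mem A)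
  have key : ∀ S : Subgroup G, S ≤ N → ∀ u ∈ S, ∀ v ∈ S, u ^ p ^ n = 1 → v ^ p ^ n = 1 → u * v ∈ M → u * v ∈ A := by
    intro S
    induction S using WellFoundedLT.induction with
    | ind S ih =>
    intro hS u hu v hv u1 v1 h
    refine hM _ h ?_
    rcases (zpowers_le.2 hu).eq_or_lt with e | lt
    · rw [Commute.mul_pow (comm_iff.1 (ab_of_cyc (cyc_zpowers u)) u (mem_zpowers u) v (e ▸ hv)), u1, v1, one_mul]
    obtain ⟨D, d1, d2, d3, d4⟩ := Comp.exists_relIndex_eq_prime (pg S) lt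
    have uD := d1 (mem_zpowers u)
    have c : ⁅u⁻¹, v⁻¹⁆ ∈ A := by
      have e : ⁅u⁻¹, v⁻¹⁆ = u⁻¹ * (v⁻¹ * u * v⁻¹⁻¹) := by simp [commutatorElement_def, mul_assoc]
      rw [e]
      exact ih D (lt_of_le_of_ne d2 fun e => hp.out.one_lt.ne' (by rw [← d3, e, relIndex_self])) (d2.trans hS) _
        (inv_mem uD) _ (conj_mem_of_mem_normalizer (d4 (inv_mem hv)) uD) (by rw [inv_pow, u1, inv_one])
        (by rw [conj_pow, u1]; simp) (e ▸ m1 (mem_sup_right (commutator_mem_commutator (inv_mem (hS hu)) (mem_top _))))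
    have cu : Commute u ⁅v⁻¹, u⁻¹⁆ := (n1 (hS hu) _ (commutatorElement_inv u⁻¹ v⁻¹ ▸ inv_mem c)).symm
    have cv : Commute v ⁅v⁻¹, u⁻¹⁆ := (n1 (hS hv) _ (commutatorElement_inv u⁻¹ v⁻¹ ▸ inv_mem c)).symm
    have e : v * u = u * v * ⁅v⁻¹, u⁻¹⁆ := by simp [commutatorElement_def, mul_assoc]
    have up : u ^ p ∈ A := by
      haveI := (normal_subgroupOf_iff_le_normalizer m2).2 m4
      exact hM _ (m3 ▸ pow_index_mem (M.subgroupOf N) ⟨u, hS hu⟩) (by rw [← pow_mul, mul_comm, pow_mul, u1, one_pow])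
    have cp : ⁅v⁻¹, u⁻¹⁆ ^ p = 1 := by
      have := Solv.pow_mul_of_comm (x := v) (y := u) (c := ⁅v⁻¹, u⁻¹⁆⁻¹) cu.inv_right (by rw [e]; group) p
      rw [n1 (hS hv) _ up] at this
      rwa [inv_pow, left_eq_mul, inv_eq_one] at this
    obtain ⟨k, hk⟩ : p ∣ (p ^ n).choose 2 := by
      by_cases p2 : p = 2
      · subst p2
        obtain ⟨j, rfl⟩ : ∃ j, n = j + 2 := ⟨n - 2, by have : n ≠ 1 := fun e => hn (by simp [e]); omega⟩
        rw [Nat.choose_two_right, pow_succ, mul_right_comm, Nat.mul_div_cancel _ two_pos, pow_succ, mul_right_comm]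
        exact dvd_mul_left _ _
      · refine (Nat.Coprime.dvd_mul_left ((Nat.coprime_primes hp.out Nat.prime_two).2 p2)).1 ?_
        rw [Nat.choose_two_right, Nat.mul_div_cancel' (Nat.even_mul_pred_self _).two_dvd]
        exact (dvd_pow_self p n0).mul_right _
    rw [Solv.mul_pow_of_comm cu cv e, u1, v1, hk, pow_mul, cp]; simp
  have xc := zpowers_le.2 (n1 hx)
  refine x1 (hmax (A ⊔ zpowers x) (Solv.normal_iff_top_le_normalizer.2 fun g _ => mem_normalizer_of_cj_le ?_)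
    (Solv.isMulCommutative_sup_zpowers hA (n1 hx)) (fun b hb => ?_) le_sup_left ▸ mem_sup_right (mem_zpowers x))
  · rw [cj_sup, cj_eq_of_normal, cj_zpowers]
    refine sup_le le_sup_left (zpowers_le.2 ((mul_mem_cancel_right (inv_mem (mem_sup_right (mem_zpowers x)))).1
      (mem_sup_left (key N le_rfl _ (conj_mem_of_mem_normalizer (n2 (mem_top g)) hx) _ (inv_mem hx)
        (by rw [conj_pow, x2]; simp) (by rw [inv_pow, x2, inv_one]) (m1 (mem_sup_right ?_))))))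
    exact Subgroup.commutator_comm N ⊤ ▸ commutator_mem_commutator (mem_top g) hx
  · obtain ⟨a, ha, _, ⟨i, rfl⟩, rfl⟩ := (mem_sup_l (nn_of_cc xc)).1 hb
    rw [Commute.mul_pow (xc (zpow_mem (mem_zpowers x) i) a ha), hAe a ha, one_mul, ← zpow_natCast, ← zpow_mul, mul_comm,
      zpow_mul, zpow_natCast, x2, one_zpow]

end Cfsg.Agent.PU
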