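/-
Small solvable configurations: the dihedral lemma with prime factors, squares acting as transvections.
-/
import Cfsg.Agent.Lib.PU.Ms1
import Cfsg.Agent.Lib.PU.XS5
import Cfsg.Agent.Lib.Transfer.FF3
import Cfsg.Agent.Lib.Transfer.FF2
import Cfsg.Agent.Lib.Classical.GroupRec

set_option autoImplicit false
set_option linter.unusedSectionVars false
set_option linter.unusedVariables false
set_option linter.style.haveILetI false
set_option linter.unusedSimpArgs false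

namespace Cfsg.Agent.PU

open Subgroup Cfsg.Agent.Transfer Cfsg.Agent.MS
open scoped commutatorElement

universe u
variable {G : Type u} [Group G] [Finite G]
variable {A B E H K M P Q R U V W X Y Z : Subgroup G} {a b g t u v x y z : G} {p r : ℕ}

theorem thm_4408 [Group.IsSolvable G] (hF : Odd (Nat.card ↥(Cfsg.fittingSubgroup G)))
    (I : Subgroup G) (hI : Cfsg.IsElementaryAbelian 2 I) (n : ℕ) (hIn : Nat.card ↥I = 2 ^ n) :
    ∃ f : Fin n → Subgroup G, (∀ i, (Nat.card ↥(f i)).Prime) ∧ (∀ i, f i ≤ Cfsg.fittingSubgroup G) ∧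
      (∀ i, I ≤ NN (f i)) ∧ (∀ i j, i ≠ j → ∀ a ∈ f i, ∀ b ∈ f j, a * b = b * a) ∧
      Nat.card ↥(⨆ i, f i) = ∏ i, Nat.card ↥(f i) ∧ I ⊓ CC (⨆ i, f i : Subgroup G) = ⊥ := by
  classical
  rw [← F_top] at hF ⊢
  obtain ⟨B, b1, b2, b3, b4⟩ := ab_faith hI (sol_of_nil (F_nil ⊤)) hF (le_top.trans (nn_F (le_nn ⊤)))
    (eq_bot_of_le (pg_inf (elem_isPGroup hI) (pi_compl_iff.2 hF.not_two_dvd_nat) (by simp)) inf_le_left
      (inf_le_right.trans ((le_inf le_top le_rfl).trans (cc_F_le inferInstance))))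
  obtain ⟨a, x, h1, h2, h3⟩ := dual_pairs (B := B) hI (fun a ha a1 => by
    by_contra! h
    exact a1 (eq_one_of_inf b4 ha (le_C1_iff.1 (eig_gen hI (odd_mono hF b1) b3 fun x hx e =>
      mem_C1_comm.1 (mem_C1_of_conj (h x hx e)))))) n I le_rfl hIn
  choose f f1 f2 using fun i => exists_prime_sub (zpowers_ne_bot.2 fun e : x i = 1 => (h1 i).2.2.2 (by simp [e]))
  have fB : ∀ i, f i ≤ B := fun i => (f1 i).trans (zpowers_le.2 (h1 i).2.1)
  have c1 : ∀ i j, i ≠ j → f j ≤ C1 (a i) := fun i j e =>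
    (f1 j).trans (zpowers_le.2 (mem_C1_comm.1 (mem_C1_of_conj (h2 i j e))))
  have c2 : ∀ i, f i ⊓ C1 (a i) = ⊥ := fun i => eq_bot_iff.2 fun y hy => by
    have := inverts_of_mem_zpowers (((h1 i).2.2.1 _ (h1 i).1).resolve_left (h1 i).2.2.2) (f1 i hy.1)
    rw [conj_eq_of_C1 (mem_C1_comm.1 hy.2)] at this
    exact eq_one_of_odd_of_mul_self (odd_orderOf_of_mem hF (b1 (fB i hy.1))) (eq_inv_iff_mul_eq_one.1 this)
  have k1 : ∀ s : Finset (Fin n), #(⨆ i ∈ s, f i : Subgroup G) = ∏ i ∈ s, #(f i) := fun s => by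
    induction s using Finset.induction_on with
    | empty => simp
    | insert j s hj ih =>
      rw [Finset.iSup_insert, Finset.prod_insert hj, card_sup_l (ab_nn b2 (iSup₂_le fun i _ => fB i) (fB j))
        (inf_bot_mono (c2 j) le_rfl (iSup₂_le fun i hi => c1 j i fun e => hj (e ▸ hi))), ih]
  have k2 : ∀ s : Finset (Fin n), ∀ c ∈ ⨆ i ∈ s, zpowers (a i), (∀ i, c ∈ CC (f i)) → c = 1 := fun s => by
    induction s using Finset.induction_on with
    | empty => simp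
    | insert j s hj ih =>
      intro c hc h
      rw [Finset.iSup_insert] at hc
      obtain ⟨u, hu, w, hw, rfl⟩ := (mem_sup_l (ab_nn hI.1 (iSup₂_le fun i _ => zpowers_le.2 (h1 i).1)
        (zpowers_le.2 (h1 j).1))).1 hc
      have : w ∈ CC (f j) := (iSup₂_le fun i hi => zpowers_le.2 (le_C1_iff.1 (c1 i j fun e => hj (e ▸ hi))) :
        _ ≤ CC (f j)) hw
      rcases zp2 (elem_mul_self hI (h1 j).1) hu with rfl | rfl
      · rw [one_mul] at h ⊢; exact ih w hw h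
      · exact absurd (eq_bot_of_le (c2 j) le_rfl (le_C1_iff.2 ((mul_mem_cancel_right this).1 (h j))))
          (prime_ne_bot (f2 j))
  refine ⟨f, f2, fun i => (fB i).trans b1, fun i => cyc_nn (cyc_zpowers _) (f1 i) (h1 i).2.2.1.nn,
    fun i j _ a ha b hb => comm_iff.1 b2 a (fB i ha) b (fB j hb), by simpa using k1 Finset.univ,
    eq_bot_iff.2 fun c hc => k2 Finset.univ c (by simpa using h3 hc.1) fun i => cc_anti (le_iSup f i) hc.2⟩

theorem card_comm_mod [Fact r.Prime] (hV : IsMulCommutative V) (hD : IsPGroup r X) (h1 : X ≤ NN V)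
    (hc : (#X).Coprime #V) : #(⁅V, X⁆ : Subgroup G) ≡ 1 [MOD r] := by
  have := card_modEq_card_inf_centralizer hD (right_nn_comm V X)
  rwa [eq_bot_of_le (cop_ab_inf hV h1 hc) (A := ⁅V, X⁆ ⊓ CC X)
    (inf_le_inf_right _ (comm_le_left h1)) inf_le_left, card_bot] at this

theorem zpowers_sq (h : Odd (orderOf x)) : zpowers (x ^ 2) = zpowers x :=
  eq_of_card_le (zpowers_le.2 (pow_mem (mem_zpowers x) 2)) (by
    rw [Nat.card_zpowers, Nat.card_zpowers, (Nat.coprime_two_right.2 h).orderOf_pow])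

/-- the square of a 2-element normalizing an odd `r`-group does not induce a transvection -/
theorem four_le [hr : Fact r.Prime] (hV : IsElementaryAbelian 2 V) (r2 : r ≠ 2) (hR : IsPGroup r R) (RV : R ≤ NN V)
    (aV : a ∈ NN V) (aR : a ∈ NN R) (pa : IsPGroup 2 (zpowers a)) (hx : x ∈ R)
    (inv : a ^ 2 * x * (a ^ 2)⁻¹ = x⁻¹) (x1 : x ∉ CC V) : 4 ≤ #(⁅V, zpowers (a ^ 2)⁆ : Subgroup G) := by
  by_contra! h
  have pV := elem_isPGroup hV
  have cop : ∀ {X}, X ≤ R → (#X).Coprime #V := fun h => pg_coprime_pg (hR.to_le h) pV r2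
  have ox : Odd (orderOf x) := odd_orderOf_of_mem (Nat.coprime_two_right.1
    (pi_compl_iff_coprime.1 (pi_of_pg hR r2))) hx
  set t := a ^ 2 with ht
  have tV : zpowers t ≤ NN V := zpowers_le.2 (pow_mem aV 2)
  have xV := RV hx
  have cV : ∀ {X}, X ≤ NN V → ⁅V, X⁆ ≤ V := comm_le_left
  have n : ∀ {X Y}, X ≤ NN V → Y ≤ NN V → ⁅V, X⁆ ≤ NN ⁅V, Y⁆ := fun h1 h2 => ab_nn hV.1 (cV h1) (cV h2)
  have t2 : #(⁅V, zpowers t⁆ : Subgroup G) ≤ 2 := by
    obtain ⟨k, hk⟩ := IsPGroup.iff_card.1 (pV.to_le (cV tV))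
    rw [hk] at h ⊢
    exact Nat.pow_le_pow_right (n := 2) (j := 1) two_pos (by_contra fun e => h.not_ge
      (Nat.pow_le_pow_right (n := 2) (i := 2) two_pos (by omega)))
  have e1 : x ^ 2 = x * t * x⁻¹ * t⁻¹ := by rw [sq, mul_assoc, mul_assoc, ← mul_assoc t, ← conj_inv, inv, inv_inv]
  have l1 : zpowers x ≤ zpowers t ⊔ cj x (zpowers t) := by
    rw [← zpowers_sq ox, zpowers_le, e1]
    exact mul_mem (mem_sup_right (conj_mem_cj (mem_zpowers t))) (mem_sup_left (inv_mem (mem_zpowers t)))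
  have tx : cj x (zpowers t) ≤ NN V := cj_le' tV xV
  have zx := zpowers_le.2 hx
  have l2 : ⁅V, zpowers x⁆ ≤ ⁅V, zpowers t⁆ ⊔ ⁅V, cj x (zpowers t)⁆ := comm_sup_eq tV tx ▸ commutator_mono le_rfl l1
  have c0 : #(⁅V, cj x (zpowers t)⁆ : Subgroup G) = #(⁅V, zpowers t⁆ : Subgroup G) := by
    rw [← card_cj x ⁅V, zpowers t⁆, cj_commutator, cj_nn xV]
  have c1 := Solv.card_sup_mul_card_inf (n tV tx)
  have c2 := card_pos' (⁅V, zpowers t⁆ ⊓ ⁅V, cj x (zpowers t)⁆)
  have c3 : #(⁅V, zpowers t⁆ ⊔ ⁅V, cj x (zpowers t)⁆ : Subgroup G) ≤ 4 := by nlinarith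
  have ne : ⁅V, zpowers x⁆ ≠ ⊥ := fun e => x1 (zpowers_le.1 (comm_eq_bot'.1 e))
  have c4 : #(⁅V, zpowers x⁆ : Subgroup G) = 4 ∧ r = 3 := by
    have m := card_comm_mod hV.1 (hR.to_le zx) (zx.trans RV) (cop zx)
    have l := (card_le_of_le l2).trans c3
    obtain ⟨k, hk⟩ := IsPGroup.iff_card.1 (pV.to_le (cV (zx.trans RV)))
    rw [hk] at m l ⊢
    have : k ≤ 2 := (Nat.pow_le_pow_iff_right one_lt_two).1 l
    have d := (Nat.modEq_iff_dvd' (Nat.one_le_two_pow)).1 m.symm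
    interval_cases k
    · exact absurd (card_eq_one.1 hk) ne
    · exact absurd (Nat.dvd_one.1 d) hr.out.one_lt.ne'
    · exact ⟨rfl, (Nat.prime_dvd_prime_iff_eq hr.out Nat.prime_three).1 d⟩
  obtain ⟨c4, rfl⟩ := c4
  have l3 : ⁅V, zpowers t⁆ ≤ ⁅V, zpowers x⁆ := le_sup_left.trans (eq_of_card_le l2 (c4 ▸ c3)).ge
  have t1 : 2 ≤ #(⁅V, zpowers t⁆ : Subgroup G) := by have := card_le_of_le l2; nlinarith
  have za := cj_le zx aR
  have e2 : ⁅V, cj a (zpowers x)⁆ = cj a ⁅V, zpowers x⁆ := by rw [cj_commutator, cj_nn aV]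
  have l4 : ⁅V, zpowers t⁆ ≤ ⁅V, cj a (zpowers x)⁆ := by
    rw [e2, ← cj_nn (g := a) (H := ⁅V, zpowers t⁆) (nn_comm (zpowers_le.2 aV) (ab_nn (ab_of_cyc (cyc_zpowers a)) le_rfl
      (zpowers_le.2 (pow_mem (mem_zpowers a) 2))) (mem_zpowers a))]
    exact cj_mono a l3
  have e3 : cj a ⁅V, zpowers x⁆ = ⁅V, zpowers x⁆ := by
    have m := card_comm_mod hV.1 (hR.to_le (sup_le zx za)) ((sup_le zx za).trans RV) (cop (sup_le zx za))
    rw [comm_sup_eq (zx.trans RV) (za.trans RV)] at m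
    have d1 := Solv.card_sup_mul_card_inf (n (zx.trans RV) (za.trans RV))
    have d2 := t1.trans (card_le_of_le (le_inf l3 l4))
    have d3 : #(⁅V, cj a (zpowers x)⁆ : Subgroup G) = 4 := by rw [e2, card_cj, c4]
    obtain ⟨k, hk⟩ := IsPGroup.iff_card.1 (pV.to_le (sup_le (cV (zx.trans RV)) (cV (za.trans RV))))
    rw [hk, c4, d3] at d1
    rw [hk] at m
    have : k ≤ 3 := (Nat.pow_le_pow_iff_right one_lt_two).1 (by nlinarith)
    have l : 2 ^ k ≤ 4 := by interval_cases k <;> simp_all [Nat.ModEq]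
    rw [← e2]
    exact (eq_of_card_le le_sup_right (by omega)).trans (eq_of_card_le le_sup_left (by omega)).symm
  have an : zpowers a ≤ NN ⁅V, zpowers x⁆ := zpowers_le.2 (mem_normalizer_iff_cj.2 e3)
  have tc : t ∈ CC ⁅V, zpowers x⁆ := sq_mem_of_relIndex
    (BG.relIndex_Ct_le pa (pV.to_le (cV (zx.trans RV))) an c4.le) (nn_cc an) (mem_zpowers a)
  have xc : zpowers x ≤ CC ⁅V, zpowers x⁆ := by
    nth_rewrite 1 [← zpowers_sq ox]
    rw [zpowers_le, e1]
    exact mul_mem (conj_mem_of_mem_normalizer (nn_cc (right_nn_comm _ _) (mem_zpowers x)) tc) (inv_mem tc)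
  exact ne ((cop_comm_comm (zx.trans RV) (cop zx) (sol_of_pg pV)).symm.trans (comm_eq_bot'.2 xc))

theorem inv_comm (h : t * t ∈ C1 y) : t * ⁅t, y⁆ * t⁻¹ = ⁅t, y⁆⁻¹ := by
  rw [commutatorElement_inv, commutatorElement_def, commutatorElement_def]
  calc _ = (t * t * y * (t * t)⁻¹) * t * y⁻¹ * t⁻¹ := by group
    _ = _ := by rw [conj_eq_of_C1 h]

/-- linear automorphisms inside the holomorph of the additive group -/
def l2h (R V : Type*) [Semiring R] [AddCommGroup V] [Module R V] : (V ≃ₗ[R] V) →* Hol (Multiplicative V) :=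
  hr.comp { toFun f := AddEquiv.toMultiplicative f.toAddEquiv, map_one' := rfl, map_mul' _ _ := rfl }

theorem thm_4410 {V : Type*} [AddCommGroup V] [Module (ZMod 2) V] [Finite V]
    (S : Subgroup (V ≃ₗ[ZMod 2] V)) (hS : Group.IsSolvable ↥S) (hO2 : Cfsg.pCore 2 ↥S = ⊥)
    (P : V ≃ₗ[ZMod 2] V) (hPS : P ∈ S) (hP4 : orderOf P = 4) :
    4 ≤ Nat.card ↥(LinearMap.range (((P : V →ₗ[ZMod 2] V) - LinearMap.id) ^ 2)) := by
  haveI : Finite (V ≃ₗ[ZMod 2] V) := Finite.of_injective _ DFunLike.coe_injective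
  set a : S := ⟨P, hPS⟩
  have o : orderOf a = 4 := by rw [← hP4, ← Subgroup.orderOf_coe]
  have pa : IsPGroup 2 (zpowers a) := .of_card (n := 2) (by rw [Nat.card_zpowers, o]; rfl)
  rw [← Comp.Op_top, ← O1_eq] at hO2
  obtain ⟨r, hr, h⟩ : ∃ r, r.Prime ∧ ¬ O {r} ⊤ ≤ C1 (a ^ 2) := by
    by_contra! h
    have := nil_le_O (F_nil _) (zpowers_le.2 (cc_F_le (H := ⊤) inferInstance ⟨mem_top _, le_C1_iff.1
      (F_le_of_O fun q hq _ => h q hq)⟩)) (pi1_of_pg (pa.to_le (zpowers_le.2 (pow_mem (mem_zpowers a) 2))))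
    rw [O1_F, hO2, le_bot_iff, zpowers_eq_bot, ← orderOf_dvd_iff_pow_eq_one, o] at this
    omega
  haveI := Fact.mk hr
  obtain ⟨y, hy, y1⟩ := SetLike.not_le_iff_exists.1 h
  set φ := (l2h (ZMod 2) V).comp S.subtype
  have n : ∀ g : S, φ g ∈ NN ((⊤ : Subgroup (Multiplicative V)).map hl) := fun g => hr_mem_normalizer_char _ _
  have e : IsElementaryAbelian 2 ((⊤ : Subgroup (Multiplicative V)).map hl) := elem_map ⟨inferInstance, fun v _ => by
    rw [← ofAdd_toAdd v, ← ofAdd_nsmul, ← Nat.cast_smul_eq_nsmul (ZMod 2), ZMod.natCast_self, zero_smul, ofAdd_zero]⟩ _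
  have := four_le e (fun e => h (by rw [e, hO2]; exact bot_le)) ((O_pg (p := r) ⊤).map φ) (map_le_iff_le_comap.2 fun g _ => n g)
    (n a) (map_nn φ (nn_O (le_nn ⊤)) (mem_map_of_mem φ (mem_top a))) (MonoidHom.map_zpowers φ a ▸ pa.map φ)
    (mem_map_of_mem φ (comm_le_right (nn_O nn_top) (commutator_mem_commutator (mem_top (a ^ 2)) hy)))
    (by rw [← map_pow, ← map_inv, ← map_inv, ← map_mul, ← map_mul,
      inv_comm (by rw [← pow_add, show 2 + 2 = 4 from rfl, ← o, pow_orderOf_eq_one]; exact one_mem _)])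
    fun c => y1 (mem_C1.2 (commutatorElement_eq_one_iff_mul_comm.1 (Subtype.ext (LinearEquiv.ext fun v =>
      hr_mem_centralizer_iff.1 c (Multiplicative.ofAdd v) (mem_top _)))).symm)
  refine this.trans ((card_le_of_le (K := ((LinearMap.range (((P : V →ₗ[ZMod 2] V) - LinearMap.id) ^ 2)
    ).toAddSubgroup.toSubgroup).map hl) fun w hw => ?_).trans (card_map_of_injective hl_injective).le)
  obtain ⟨_, ⟨v, -, rfl⟩, rfl⟩ := (mem_commutator_zpowers e.1 (pow_mem (n a) 2)).1 hw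
  rw [← map_pow]
  refine ⟨_, ⟨v.toAdd, ?_⟩, (hol_commutator _ v).symm⟩
  change P (P v.toAdd - v.toAdd) - (P v.toAdd - v.toAdd) = P (P v.toAdd) + -v.toAdd
  have : ∀ w : V, w + w = 0 := fun w => by rw [← two_smul (ZMod 2), show (2 : ZMod 2) = 0 from rfl, zero_smul]
  rw [map_sub, sub_sub, ← add_sub_assoc, this, zero_sub, sub_neg_eq_add, neg_eq_of_add_eq_zero_left (this _)]

theorem thm_4405 (hG : Nat.card G = 320) (hHF : Cfsg.pCore 2 G = Cfsg.fittingSubgroup G)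
    (hex : Cfsg.IsExtraspecial 2 ↥(Cfsg.pCore 2 G)) (h32 : Nat.card ↥(Cfsg.pCore 2 G) = 32)
    (hminus : ∀ A : Subgroup G, A ≤ Cfsg.pCore 2 G → Cfsg.IsElementaryAbelian 2 A → Nat.card ↥A ≤ 4)
    (T : G) (hT : orderOf T = 2) (hTH : T ∉ Cfsg.pCore 2 G)
    (V : Subgroup G) (hV : V ≤ Cfsg.pCore 2 G ⊓ C1 T) (hV4 : Nat.card ↥V = 4) (hVe : Cfsg.IsElementaryAbelian 2 V) :
    Nat.card ↥(Cfsg.pCore 2 G ⊓ C1 T) = 4 ∧ Cfsg.IsElementaryAbelian 2 (Cfsg.pCore 2 G ⊓ C1 T) := by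
  suffices #(pCore 2 G ⊓ C1 T : Subgroup G) ≤ 4 by rw [← eq_of_card_le hV (hV4 ▸ this)]; exact ⟨hV4, hVe⟩
  haveI : Fact (Nat.Prime 5) := ⟨by norm_num⟩
  have T2 : T * T = 1 := by rw [← sq, ← hT, pow_orderOf_eq_one]
  obtain ⟨x, x1, ox, hx⟩ := exists_inverts_odd_of_not_isPGroup T2 fun h =>
    hTH (Comp.le_pCore h (subset_normalClosure rfl))
  have o5 : orderOf x = 5 := by
    have := orderOf_dvd_natCard x
    rw [hG, show 320 = 2 ^ 6 * 5 from rfl, ((Nat.coprime_two_right.2 ox).pow_right 6).dvd_mul_left] at this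
    exact ((Nat.dvd_prime (by norm_num)).1 this).resolve_left (mt orderOf_eq_one_iff.1 x1)
  have pH := Comp.isPGroup_pCore (G := G) 2
  have nH : ∀ {A : Subgroup G}, A ≤ NN (pCore 2 G) := @fun _ => nn_normal
  rw [← F_top] at hHF
  generalize pCore 2 G = H at *
  have px : IsPGroup 5 (zpowers x) := pg_of_card (by rw [Nat.card_zpowers, o5])
  have cop := pg_coprime_pg px pH (by norm_num)
  obtain ⟨z, hz, z1⟩ := exists_ne_one (nil_meet (nil_of_pg pH) le_rfl (le_nn H) fun e => by simp [e] at h32)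
  have h := es_of hex hz z1
  have nZ : ∀ {A : Subgroup G}, A ≤ NN (zpowers z) := @fun _ => h.cen ▸ nn_inf nH (nn_cc nH)
  have zc : ∀ g, g ∈ C1 z := fun g => mem_C1_of_conj ((zp2 (es_z2 h)
    (conj_mem_of_mem_normalizer (nZ (mem_top g)) (mem_zpowers z))).resolve_left (conj_ne z1))
  have zT := mem_C1_comm.1 (zc T)
  obtain ⟨Q, _, _, f, q⟩ := exists_qm (M := ⊤) le_top nZ
  have zH := zpowers_le.2 hz.1
  have c16 : #(MS.im f H) = 16 := by
    have := card_mul_relIndex zH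
    rw [← q.card_im le_top, h.card_z] at this; omega
  have ab : IsMulCommutative (MS.im f H) := ab_iff.2 ((q.cc_iff le_top le_top).2 h.der)
  have nV : ∀ {A : Subgroup Q}, A ≤ NN (MS.im f H) := @fun _ => le_top.trans (q.im_top ▸ MS.im_nn le_rfl le_top nH)
  set a := f ⟨x, mem_top x⟩
  set t := f ⟨T, mem_top T⟩
  have ea : MS.im f (zpowers x) = zpowers a := im_zpowers _
  have f1 : MS.im f H ⊓ CC (zpowers a) = ⊥ := by
    have m := card_modEq_card_inf_centralizer (ea ▸ MS.im_pg px) nV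
    have d := card_dvd (inf_le_left : MS.im f H ⊓ CC (zpowers a) ≤ _)
    rw [c16] at m d
    by_contra e
    have e1 := (one_lt_card_iff_ne_bot _).2 e
    have e2 : #(MS.im f H ⊓ CC (zpowers a) : Subgroup Q) = 16 := by
      have := Nat.le_of_dvd (by norm_num) d
      generalize #(MS.im f H ⊓ CC (zpowers a) : Subgroup Q) = k at *
      interval_cases k <;> simp_all [Nat.ModEq]
    have c := (eq_of_card_le inf_le_left (c16.trans e2.symm).le).ge.trans inf_le_right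
    rw [← ea, q.cc_iff le_top le_top] at c
    have c2 := cop_stable (coprime_mono cop le_rfl zH) c (cc_zpowers z ▸ fun g _ => zc g)
    have c3 := card_sup_l (nn_of_cc c2) (inf_of_coprime cop.symm)
    haveI := normal_of_index_eq_two (H := H ⊔ zpowers x) (by
      have := (H ⊔ zpowers x).card_mul_index
      rw [c3, h32, Nat.card_zpowers, o5, hG] at this; omega)
    have := (le_F le_top nn_normal (nil_sup (nil_of_pg pH) (nil_of_pg px) (nn_of_cc (cc_symm c2))
      (nn_of_cc c2))).trans hHF.ge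
    exact x1 (eq_one_of_inf (inf_of_coprime cop) (mem_zpowers x) (this (mem_sup_right (mem_zpowers x))))
  have e1 : a ^ 2 = a * t * a⁻¹ * t⁻¹ := by
    rw [← map_pow, ← map_inv, ← map_inv, ← map_mul, ← map_mul, ← map_mul]
    exact congrArg f (Subtype.ext (by
      change x ^ 2 = x * T * x⁻¹ * T⁻¹
      rw [sq, mul_assoc, mul_assoc, ← mul_assoc T, ← conj_inv, hx, inv_inv]))
  have f2 : #(MS.im f H ⊓ CC (zpowers t) : Subgroup Q) ≤ 4 := by
    have := Solv.card_mul_card_le (inf_le_left : MS.im f H ⊓ CC (zpowers t) ≤ _)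
      (cj_le (inf_le_left : MS.im f H ⊓ CC (zpowers t) ≤ _) (nV (mem_top a)))
    rw [eq_bot_of_le f1 (A := _ ⊓ _) (inf_le_left.trans inf_le_left) ?_, card_cj, c16, card_bot] at this
    · nlinarith
    · rw [← zpowers_sq (x := a) (ox.of_dvd_nat ((orderOf_map_dvd f _).trans (Subgroup.orderOf_mk x (mem_top x)).dvd)), e1]
      refine cc_symm (zpowers_le.2 (mul_mem ?_ (inv_mem ?_)))
      · exact cc_anti inf_le_right (cc_cj (cc_symm inf_le_right) a (conj_mem_cj (mem_zpowers t)))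
      · exact cc_anti inf_le_left (cc_symm inf_le_right (mem_zpowers t))
  have l : MS.im f (H ⊓ C1 T) ≤ MS.im f H ⊓ CC (zpowers t) := le_inf (MS.im_mono inf_le_left)
    (im_zpowers (f := f) (mem_top T) ▸ MS.im_cc le_top le_top (cc_zpowers T ▸ inf_le_right))
  have zW : zpowers z ≤ H ⊓ C1 T := zpowers_le.2 ⟨hz.1, zT⟩
  have c1 := card_mul_relIndex zW
  rw [← q.card_im le_top, h.card_z] at c1
  by_contra! e
  have c2 := card_commutator_zpowers ab (nV (mem_top t))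
  have c3 : #(MS.im f (H ⊓ C1 T)) = 4 := by
    obtain ⟨k, hk⟩ := IsPGroup.iff_card.1 (MS.im_pg (f := f) (pH.to_le (inf_le_left (b := C1 T))))
    have := (card_le_of_le l).trans f2
    rw [hk] at c1 this ⊢
    have : k ≤ 2 := (Nat.pow_le_pow_iff_right one_lt_two).1 this
    interval_cases k <;> omega
  have e2 := eq_of_card_le l (c3 ▸ f2)
  have t2 : t * t = 1 := by rw [← map_mul, ← map_one f]; exact congrArg f (Subtype.ext T2)
  have l2 : ⁅MS.im f H, zpowers t⁆ ≤ MS.im f H ⊓ CC (zpowers t) := fun w hw => by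
    refine mem_inf.2 ⟨comm_le_left nV hw, ?_⟩
    obtain ⟨_, ⟨v, hv, rfl⟩, rfl⟩ := (mem_commutator_zpowers ab (nV (mem_top t))).1 hw
    rw [cc_zpowers, mem_C1_comm]
    refine mem_C1_of_conj ((inv_comm (t2 ▸ one_mem _)).trans (inv_self ?_))
    obtain ⟨u, hu, e⟩ := comm_le_left nV hw
    rw [← e, ← map_mul, ← sq]
    exact (q.eq_one_iff (mem_top _)).2 (h.pw _ hu)
  have e3 := eq_of_card_le l2 (by rw [← e2, c3] at c2 ⊢; omega)
  refine e.not_ge (hminus _ inf_le_left (elem_two_of_mul_self fun w hw => ?_))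
  obtain ⟨_, ⟨v, hv, rfl⟩, e4⟩ := (mem_commutator_zpowers ab (nV (mem_top t))).1
    (e3.ge (l (mem_im_of hw (mem_top w))))
  have m : ⁅T, (v : G)⁆⁻¹ * w ∈ zpowers z := (q.eq_one_iff (mem_top _)).1 (by
    rw [← inv_mul_cancel (f ⟨w, mem_top w⟩)]
    nth_rewrite 1 [← e4]
    rw [← map_commutatorElement, ← map_inv, ← map_mul]; rfl)
  have m2 := inv_mem ((mul_mem_cancel_right hw).1 (zW m))
  rw [inv_inv] at m2
  have e5 := inv_comm (t := T) (y := v) (by rw [T2]; exact one_mem _)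
  rw [conj_eq_of_C1 (mem_C1_comm.1 m2.2)] at e5
  rcases zp2 (es_z2 h) m with e6 | e6
  · rw [← inv_mul_eq_one.1 e6]; exact eq_inv_iff_mul_eq_one.1 e5
  · rw [inv_mul_eq_iff_eq_mul.1 e6, mul_assoc, ← mul_assoc z, ← hz.2 _ m2.1, mul_assoc, es_z2 h, mul_one]
    exact eq_inv_iff_mul_eq_one.1 e5

theorem relIndex_sq (B : Subgroup G) (d : G) : B.relIndex (zpowers d) ≤ 2 * B.relIndex (zpowers (d ^ 2)) := by
  have l := zpowers_le.2 (pow_mem (mem_zpowers d) 2)
  have h1 := card_mul_relIndex l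
  have h2 : (zpowers (d ^ 2)).relIndex (zpowers d) ≤ 2 := by
    rw [Nat.card_zpowers, Nat.card_zpowers, orderOf_pow] at h1
    have h3 := Nat.div_mul_cancel (Nat.gcd_dvd_left (orderOf d) 2)
    have h4 := Nat.gcd_le_right (orderOf d) two_pos
    have := orderOf_pos d
    generalize orderOf d / (orderOf d).gcd 2 = k at *
    nlinarith
  refine (relIndex_le_of_le_left (inf_le_left (b := zpowers (d ^ 2))) (relIndex_pos _ _).ne').trans ?_
  rw [← relIndex_mul_relIndex _ _ _ inf_le_right l, inf_relIndex_right, mul_comm]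
  exact Nat.mul_le_mul_right _ h2

theorem two_mul_comm (hV : IsElementaryAbelian 2 V) (hd : a ∈ NN V) (pa : IsPGroup 2 (zpowers a))
    (h : ⁅V, zpowers (a ^ 2)⁆ ≠ ⊥) : 2 * #(⁅V, zpowers (a ^ 2)⁆ : Subgroup G) ≤ #(⁅V, zpowers a⁆ : Subgroup G) := by
  have n := zpowers_le.2 hd
  have l := comm_le_left n
  have l1 : ⁅V, zpowers (a ^ 2)⁆ ≤ ⁅⁅V, zpowers a⁆, V ⊔ zpowers a⁆ := fun w hw => by
    obtain ⟨v, hv, rfl⟩ := (mem_commutator_zpowers hV.1 (pow_mem hd 2)).1 hw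
    have m := (mem_commutator_zpowers hV.1 hd).2 ⟨v, hv, rfl⟩
    have : ⁅a ^ 2, v⁆ = ⁅a, ⁅a, v⁆⁆ * (⁅a, v⁆ * ⁅a, v⁆) := by simp only [commutatorElement_def, sq]; group
    rw [this, elem_mul_self hV (l m), mul_one, ← commutatorElement_inv]
    exact inv_mem (commutator_mem_commutator m (mem_sup_right (mem_zpowers a)))
  exact BG.mul_card_le_of_lt ((elem_isPGroup hV).to_le l) (l1.trans_lt (nil_comm_lt
    (nil_of_pg (pg_sup_l (elem_isPGroup hV) pa n)) (l.trans le_sup_left) (sup_nn_comm _ _) fun e =>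
      h (le_bot_iff.1 ((commutator_mono le_rfl (zpowers_le.2 (pow_mem (mem_zpowers a) 2))).trans e.le))))

/-- an abelian offender in a solvable group is elementary -/
theorem ffp_elem (h : FFP 2 V H) (hs : Group.IsSolvable H) (h1 : A ≤ H) (pA : IsPGroup 2 A)
    (hb : IsBestOffenderOn 0 V A) : IsBestOffenderOn 2 V A := by
  refine ⟨hb.1, hb.2.1, fun a ha => by_contra fun a1 => ?_⟩
  have ab := ab_iff_der.2 (h.eq_bot ((der_le A).trans h1) hb.2.1)
  have AQ : A ≤ NN (O {2}ᶜ H) := h1.trans (nn_O (le_nn H))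
  have cop := pg_coprime pA (O_pi {2}ᶜ H) (by simp)
  have pz : ∀ {x}, x ∈ A → IsPGroup 2 (zpowers x) := fun hx => pA.to_le (zpowers_le.2 hx)
  obtain ⟨B, hB, c, hc, e, h2⟩ : ∃ B ≤ A, ∃ c ∈ A, B ⊔ zpowers c = A ∧ ¬ O {2}ᶜ H ⊓ CC B ≤ C1 (a ^ 2) := by
    by_contra! h2
    have := h.eq_bot_of_cc (zpowers_le.2 (h1 (pow_mem ha 2))) (pz (pow_mem ha 2))
      (zpowers_le.2 (le_C1_iff.1 (Solv.le_of_forall_cocyclic ab AQ cop h2)))
    exact a1 (zpowers_eq_bot.1 this ▸ one_mem _)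
  set Q := O {2}ᶜ H ⊓ CC B
  have QH : Q ≤ H := inf_le_left.trans (O_le _ _)
  have nQ : A ≤ NN Q := nn_inf AQ (nn_of_le (ab_le_cc ab le_rfl hB))
  set D := A ⊓ CC Q
  have BD : B ≤ D := le_inf hB (cc_symm inf_le_right)
  have pD := pA.to_le (inf_le_left : D ≤ A)
  set U := V ⊓ CC D
  have eU : IsElementaryAbelian 2 U := elem_mono h.elem inf_le_left
  have nU : A ≤ NN U := nn_inf (h1.trans h.norm) (nn_of_le (ab_le_cc ab le_rfl inf_le_left))
  have nU' : Q ≤ NN U := nn_inf (QH.trans h.norm) (nn_of_le (cc_symm inf_le_right))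
  have key : ∀ n, ∀ d ∈ A, d ^ 2 ^ n ∈ CC Q → d ^ 2 ∉ CC Q →
      2 * D.relIndex (zpowers (d ^ 2)) ≤ #(⁅U, zpowers (d ^ 2)⁆ : Subgroup G) := fun n => by
    induction n with
    | zero => exact fun d _ e1 e2 => absurd (pow_mem (by simpa using e1) 2) e2
    | succ n ih =>
    intro d hd e1 e2
    by_cases e3 : (d ^ 2) ^ 2 ∈ CC Q
    swap
    · have k1 := ih _ (pow_mem hd 2) (by rwa [← pow_mul, ← pow_succ']) e3
      have k2 := relIndex_pos D (zpowers ((d ^ 2) ^ 2))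
      have k3 := two_mul_comm eU (nU (pow_mem hd 2)) (pz (pow_mem hd 2)) fun e => by rw [e, card_bot] at k1; omega
      have := relIndex_sq D (d ^ 2)
      omega
    have k1 := relIndex_sq D (d ^ 2)
    rw [relIndex_eq_one.2 (zpowers_le.2 (mem_inf.2 ⟨pow_mem (pow_mem hd 2) 2, e3⟩))] at k1
    obtain ⟨r, hr, R, r1, r2, r3⟩ : ∃ r, r.Prime ∧ ∃ R, IsSyl r R Q ∧ A ≤ NN R ∧ ¬ R ≤ C1 (d ^ 2) := by
      by_contra! k
      exact e2 (le_C1_iff.1 (le_of_syl fun r hr _ => by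
        haveI := Fact.mk hr
        exact (cop_syl r nQ (coprime_mono cop le_rfl inf_le_left) (sol_mono hs QH)).imp fun R e => ⟨e.1, k r hr R e.1 e.2⟩))
    haveI := Fact.mk hr
    obtain ⟨y, hy, y1⟩ := SetLike.not_le_iff_exists.1 r3
    have m := comm_le_right r2 (commutator_mem_commutator (pow_mem hd 2) hy)
    have z1 := zpowers_le.2 (r1.le m)
    have pQ := (O_pi {2}ᶜ H).mono (inf_le_left : Q ≤ _)
    refine (by omega : _ ≤ 4).trans (four_le eU (pQ r hr ((pg_dvd r1.pgroup fun e => r3 (e.le.trans bot_le)).trans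
      (card_dvd r1.le))) r1.pgroup (r1.le.trans nU') (nU hd) (r2 hd) (pz hd) m
      (inv_comm (cc_le_C1 (r1.le hy) (sq (d ^ 2) ▸ e3))) fun k => y1 (mem_C1.2
        (commutatorElement_eq_one_iff_mul_comm.1 (zpowers_eq_bot.1 (h.eq_bot (z1.trans QH) ?_))).symm))
    exact Solv.thompson_pxq pD (pi_compl_iff_coprime.1 (pQ.mono z1)) h.pg (inf_le_right.trans (cc_anti z1))
      ((inf_le_left.trans h1).trans h.norm) ((z1.trans QH).trans h.norm) (cc_symm (zpowers_le.2 k))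
  obtain ⟨n, hn⟩ := pA ⟨c, hc⟩
  have k1 := key n c hc (by rw [show c ^ 2 ^ n = 1 from congrArg Subtype.val hn]; exact one_mem _) fun k => h2 (le_C1_iff.2 (by
    obtain ⟨b, hb, _, ⟨i, rfl⟩, rfl⟩ := (mem_sup_l (ab_nn ab (zpowers_le.2 hc) hB)).1 (e.ge ha)
    rw [Commute.mul_pow (comm_iff.1 ab b (hB hb) _ (zpow_mem hc i)), ← zpow_natCast (c ^ i), ← zpow_mul, mul_comm,
      zpow_mul, zpow_natCast]
    exact mul_mem (pow_mem (BD hb).2 2) (zpow_mem k i)))
  have k2 := relIndex_pos D (zpowers (c ^ 2))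
  have k3 := two_mul_comm eU (nU hc) (pz hc) fun e => by rw [e, card_bot] at k1; omega
  have k4 := relIndex_sq D c
  have k5 := card_commutator_zpowers eU.1 (nU hc)
  have e' : D ⊔ zpowers c = A := le_antisymm (sup_le inf_le_left (zpowers_le.2 hc)) (e.ge.trans (sup_le_sup_right BD _))
  have k6 := hb.1 D inf_le_left
  have k7 := card_mul_relIndex (le_sup_left : D ≤ D ⊔ zpowers c)
  rw [relIndex_sup_l (ab_nn ab (zpowers_le.2 hc) inf_le_left), e'] at k7
  rw [show V ⊓ CC A = U ⊓ CC (zpowers c) by rw [inf_assoc, ← cc_sup, e'], ← k7, ← k5, mul_assoc] at k6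
  have : _ ≤ D.relIndex (zpowers c) :=
    Nat.le_of_mul_le_mul_right (Nat.le_of_mul_le_mul_left k6 (card_pos' _)) (card_pos' _)
  omega

theorem sl22_iso : Nonempty (SL2 (ZMod 2) ≃* Equiv.Perm (Fin 3)) := by
  haveI : Fact (Nat.Prime 3) := ⟨Nat.prime_three⟩
  obtain ⟨e1⟩ := Classical.nonempty_dihedral_of_card (n := 3) (finRotate 3) (Equiv.swap 0 1)
    (orderOf_eq_prime (by decide) (by decide)) (by decide) (by decide) (by
      rw [mem_zpowers_iff_mem_range_orderOf, orderOf_eq_prime (p := 3) (by decide) (by decide)]; decide)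
    (by simp [Nat.card_perm]; rfl)
  obtain ⟨r, s, h1, h2, h3, h4, h5⟩ : ∃ r s : SL2 (ZMod 2), r ^ 3 = 1 ∧ r ≠ 1 ∧ s * s = 1 ∧ r * s = s * r⁻¹ ∧
    s ≠ 1 := by decide
  obtain ⟨e2⟩ := Classical.nonempty_dihedral_of_card (n := 3) r s (orderOf_eq_prime h1 h2) h3 h4
    (fun h => h5 (eq_one_of_odd_of_mul_self (odd_orderOf_of_mem_zpowers (by rw [orderOf_eq_prime h1 h2]; decide) h) h3))
    card_sl2_zmod
  exact ⟨e2.trans e1.symm⟩

theorem ffp_prod (h : FFP 2 V H) (hH : ∀ K, (∀ A, Tv 2 V H A → A ≤ K) → H ≤ K) (h0 : H ≠ ⊥) :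
    ∃ n : ℕ, 1 ≤ n ∧ Nonempty (H ≃* (Fin n → Equiv.Perm (Fin 3))) := by
  classical
  set ι := {E : Subgroup G // ∃ A, Tv 2 V H A ∧ EA 2 H A = E}
  choose A hA hE using fun E : ι => E.2
  have hi : ∀ i j, EA 2 H (A i) = EA 2 H (A j) → i = j := fun i j e => Subtype.ext (by rw [← hE, e, hE])
  have hs : H ≤ ⨆ i, EA 2 H (A i) := hH _ fun C hC =>
    le_iSup_of_le (⟨EA 2 H C, C, hC, rfl⟩ : ι) (by rw [hE]; exact le_sup_right)
  haveI := Fintype.ofFinite ι
  have hc : Pairwise fun i j : ι => ∀ x y : G, x ∈ EA 2 H (A i) → y ∈ EA 2 H (A j) → Commute x y :=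
    fun i j e x y hx hy => ((h.dichot (hA i) (hA j) fun e' => e (hi _ _ e').symm).2 hx y hy).symm
  obtain ⟨e0⟩ := sl22_iso
  refine ⟨Fintype.card ι, Fintype.card_pos_iff.2 (by_contra fun e => h0 (le_bot_iff.1 (hs.trans
    (iSup_le fun i => absurd ⟨i⟩ e)))), ⟨(MulEquiv.subgroupCongr ((le_antisymm hs (iSup_le fun i =>
      h.EA_le (hA i))).trans noncommPiCoprod_range.symm)).trans ((MonoidHom.ofInjective
        (injective_noncommPiCoprod_of_iSupIndep (hcomm := hc) (h.fam_indep hA hi))).symm.trans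
          ((MulEquiv.piCongrRight fun i => (h.EA_iso (hA i)).some.trans e0).trans
            (MulEquiv.arrowCongr (Fintype.equivFin ι) (.refl _))))⟩⟩

theorem thm_4302 [Group.IsSolvable G] (hF : Cfsg.fittingSubgroup G = Cfsg.pCore 2 G) (T : Sylow 2 G) :
    ((CC ((T : Subgroup G) ⊓ CC (T : Subgroup G) : Subgroup G)).normalCore
        ⊔ normalClosure (Cfsg.thompsonSubgroupAOf (T : Subgroup G) : Set G)
        ⊔ NN (Cfsg.thompsonSubgroupAOf (T : Subgroup G)) = ⊤) ∧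
    (normalClosure (Cfsg.thompsonSubgroupAOf (T : Subgroup G) : Set G)
        ≤ (CC ((T : Subgroup G) ⊓ CC (T : Subgroup G) : Subgroup G)).normalCore
      ∨ ∃ n : ℕ, 1 ≤ n ∧
        Nonempty (↥(normalClosure (Cfsg.thompsonSubgroupAOf (T : Subgroup G) : Set G)) ⧸
            ((CC ((T : Subgroup G) ⊓ CC (T : Subgroup G) : Subgroup G)).normalCore).subgroupOf
              (normalClosure (Cfsg.thompsonSubgroupAOf (T : Subgroup G) : Set G))
          ≃* (Fin n → Equiv.Perm (Fin 3)))) := by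
  rw [JA_eq]
  have hT := isSyl_top T
  set Y := normalClosure (thompsonSubgroupOf 0 (T : Subgroup G) : Set G)
  refine ⟨eq_top_iff.2 fun g hg => ?_, ?_⟩
  · obtain ⟨k, hk, m, hm, rfl⟩ := hT.frattini_J (L := Y) le_top nn_normal le_normalClosure hg
    exact mul_mem (mem_sup_left (mem_sup_right hk)) (mem_sup_right hm)
  set Z := (T : Subgroup G) ⊓ CC (T : Subgroup G)
  set U := normalClosure (Z : Set G)
  rw [← F_top, ← Comp.Op_top, ← O1_eq] at hF
  have QT : O {2} ⊤ ≤ (T : Subgroup G) := O_le_syl hT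
  haveI := normal_of_top_le fun g : G => nn_inf (nn_O (π := {2}) (le_nn ⊤)) (nn_cc (nn_O (π := {2}) (le_nn ⊤))) (mem_top g)
  have ZQ : Z ≤ CC (O {2} ⊤) := inf_le_right.trans (cc_anti QT)
  have cQ := cc_F_le (H := (⊤ : Subgroup G)) inferInstance
  rw [hF] at cQ
  have UQ : U ≤ O {2} ⊤ ⊓ CC (O {2} ⊤) :=
    normalClosure_le_normal (le_inf ((le_inf le_top ZQ).trans cQ) ZQ : Z ≤ O {2} ⊤ ⊓ CC (O {2} ⊤))
  have aU := ab_mono (ab_center _) UQ
  have pU := (O_pg (p := 2) ⊤).to_le (UQ.trans inf_le_left)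
  have eC : (CC Z).normalCore = CC U := le_antisymm (cc_symm (normalClosure_le_normal (cc_symm (normalCore_le _))))
    (normal_le_normalCore.2 (cc_anti le_normalClosure))
  set W := omegaOne 2 U
  haveI : W.Normal := normal_of_top_le fun g => nn_omega nn_normal (mem_top g)
  have red : ∀ D : Subgroup G, D.Normal → (∀ x ∈ D, ∃ k, x ^ 2 ^ k ∈ CC W) → D ≤ CC U := fun D _ h3 => by
    rw [← eC, normal_le_normalCore]
    refine hT.le_of_res_le le_top nn_normal (res_le_iff.2 fun g hg o => cc_anti le_normalClosure ?_)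
      (inf_le_left.trans (cc_symm inf_le_right))
    have c := pg_coprime pU (pi_compl_iff_coprime.2 (Nat.card_zpowers g ▸ o)) (by simp)
    have l := comm_le_left (nn_normal (A := zpowers g) (H := U))
    refine zpowers_le.1 (comm_eq_bot'.1 (by_contra fun e => omegaOne_ne_bot (pU.to_le l) e (eq_bot_of_le
      (cop_ab_inf aU nn_normal c.symm) (le_inf ((omega_le _ _).trans l) ((omega_mono l).trans (cc_symm
        (zpowers_le.2 (res_le_of_pow h3 (mem_res hg o)))))) (omega_le _ _))))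
  have eW : CC U = CC W := le_antisymm (cc_anti (omega_le _ _)) (red _ inferInstance fun x hx => ⟨0, by simpa⟩)
  have h : TF 2 W ⊤ := ⟨omega_elem aU, le_top, nn_normal, Comp.pSol_of_isSolvable inferInstance, fun D _ h2 h3 =>
    eW ▸ red D (normal_of_top_le fun g => h2 (mem_top g)) h3⟩
  have hf := h.ffp (J := Y) le_top nn_normal
  have nW : ∀ g, g ∈ NN W := fun g => nn_normal (mem_top g)
  refine or_iff_not_imp_left.2 fun hY => ?_
  rw [eC, eW] at hY
  let f : Y →* Transfer.im W Y := ((rho W).comp (inclusion nn_normal)).codRestrict _ fun d => rho_mem_im d.2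
  have h3 : Function.Surjective f := by
    rintro ⟨_, d, hd, rfl⟩
    exact ⟨⟨d, hd⟩, rfl⟩
  have h4 : (CC Z).normalCore.subgroupOf Y = f.ker := by
    ext d
    rw [MonoidHom.mem_ker, mem_subgroupOf, eC, eW]
    exact (Subtype.ext_iff.trans (rho_eq_one (a := inclusion nn_normal d))).symm
  obtain ⟨n, n1, ⟨e⟩⟩ := ffp_prod hf (fun M hM => by
    let ψ := (rho W).comp (MonoidHom.codRestrict (MonoidHom.id G) _ nW)
    have : ∀ g, cj g (thompsonSubgroupOf 0 (T : Subgroup G)) ≤ M.comap ψ := fun g => by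
      rw [cj_J]
      refine J_le_iff.2 fun A hA a ha => ?_
      have AY : A ≤ Y := hA.le_J.trans (cj_J (n := 0) g T ▸ cj_le le_normalClosure (nn_normal (mem_top g)))
      obtain ⟨k, B, h1, -, h2⟩ := hf.exists_prod (Transfer.im_mono AY) (ffp_elem hf (Group.isSolvable_of_surjective h3)
        (Transfer.im_mono AY) ((((hT.cj g).pgroup.to_le hA.le).comap_subtype).map _) (best_im nn_normal (hA.bestOffender
          (elem_zero.2 h.elem.1) (((omega_le _ _).trans (UQ.trans inf_le_left)).trans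
            (O_le_syl (hT.cj_of_mem_normalizer (nn_top (mem_top g))))))))
      exact (h2.ge.trans (iSup_le fun i => hM _ (h1 i).2)) (rho_mem_im (a := ⟨a, nW a⟩) ha)
    have : Y ≤ M.comap ψ := (closure_le _).2 fun x hx => by
      obtain ⟨a, ha, e⟩ := Group.mem_conjugatesOfSet_iff.1 hx
      obtain ⟨g, rfl⟩ := isConj_iff.1 e
      exact this g (conj_mem_cj ha)
    rintro _ ⟨a, ha, rfl⟩
    exact this ha) fun e => hY fun y hy => (rho_eq_one (a := ⟨y, nW y⟩)).1 (e.le (rho_mem_im hy))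
  exact ⟨n, n1, ⟨(QuotientGroup.quotientMulEquivOfEq h4).trans
    ((QuotientGroup.quotientKerEquivOfSurjective f h3).trans e)⟩⟩

end Cfsg.Agent.PU
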