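/-
Cyclic centralizers in nilpotent groups, the number of Hall subgroups, eight-groups of automorphisms.
-/
import Cfsg.Agent.Lib.PU.Ms4
import Cfsg.Agent.Lib.PU.CDA
import Cfsg.Agent.Lib.PU.Tv1
import Cfsg.Agent.Lib.Transfer.MC
import Cfsg.Agent.Lib.BG.Meta
import Cfsg.Agent.Lib.Solv.FrobCount

set_option autoImplicit false
set_option linter.unusedSectionVars false
set_option linter.unusedVariables false
set_option linter.style.haveILetI false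
set_option linter.unusedSimpArgs false

namespace Cfsg.Agent.PU

open Subgroup Cfsg.Agent.Transfer Cfsg.Agent.MS
open scoped commutatorElement

universe u
variable {G : Type u} [Group G] [Finite G]
variable {A B E H I J K M P Q R U V W X Y Z : Subgroup G} {a b g t u v w x y z : G} {k p : ℕ}

theorem iso_prod (h1 : A ≤ CC B) (h2 : A ⊓ B = ⊥) : Nonempty ((A ⊔ B : Subgroup G) ≃* A × B) := by
  let f : A × B →* G := A.subtype.noncommCoprod B.subtype fun a b => (mem_CC.1 (h1 a.2) b b.2).symm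
  have hf : Function.Injective f := (injective_iff_map_eq_one f).2 fun ⟨a, b⟩ e => by
    have e : (a : G) * b = 1 := e
    have h3 : (a : G) = 1 := eq_one_of_inf h2 a.2 (eq_inv_of_mul_eq_one_left e ▸ inv_mem b.2)
    rw [h3, one_mul] at e
    exact Prod.ext (Subtype.ext h3) (Subtype.ext e)
  refine ⟨((MonoidHom.ofInjective hf).trans (MulEquiv.subgroupCongr ?_)).symm⟩
  exact (MonoidHom.noncommCoprod_range _ _ _).trans (by rw [range_subtype, range_subtype])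

theorem cyc_sup (h1 : A ≤ CC B) (hA : IsCyclic A) (hB : IsCyclic B) (hc : (#A).Coprime #B) :
    IsCyclic (A ⊔ B : Subgroup G) :=
  (iso_prod h1 (inf_of_coprime hc)).some.isCyclic.2 (Group.isCyclic_prod_iff.2 ⟨hA, hB, hc⟩)

theorem thm_4370 (hG : Group.IsNilpotent G) (hna : ¬ IsMulCommutative G) :
    (∀ x : G, x ∉ center G → IsCyclic (C1 x)) ↔
      ∃ (k m : ℕ), 1 ≤ k ∧ Odd m ∧ Nonempty (G ≃* QuaternionGroup (2 ^ k) × Multiplicative (ZMod m)) := by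
  have cz : ∀ {x : G}, x ∈ center G ↔ x ∈ CC (⊤ : Subgroup G) := by simp [centralizer_univ]
  have na : ¬ IsMulCommutative (⊤ : Subgroup G) := fun h => hna ⟨⟨fun a b => comm_iff.1 h a (mem_top a) b (mem_top b)⟩⟩
  refine ⟨fun h => ?_, fun ⟨k, m, k1, hm, ⟨e⟩⟩ x hx => ?_⟩
  · have r : ¬ RkA 2 (⊤ : Subgroup G) := fun ⟨p, hp, E, hE⟩ => by
      haveI := Fact.mk hp
      obtain ⟨x, -, x1⟩ := SetLike.not_le_iff_exists.1 (mt ab_iff.2 na)
      by_cases e : E ≤ CC (⊤ : Subgroup G)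
      · exact hE.not_cyc (cyc_mono (h x (mt cz.1 x1)) (e.trans (cc_le_C1 (mem_top x))))
      obtain ⟨y, hy, y1⟩ := SetLike.not_le_iff_exists.1 e
      exact hE.not_cyc (cyc_mono (h y (mt cz.1 y1)) (hE.cc.trans (cc_le_C1 hy)))
    have o : Odd #(O {2}ᶜ (⊤ : Subgroup G)) := Nat.coprime_two_right.1 (pi_compl_iff_coprime.1 (O_pi _ _))
    have c := nil_cyc (nil_mono inferInstance (le_top (a := O {2}ᶜ ⊤))) o fun e => r (e.mono le_top)
    have s := nil_O_sup (H := (⊤ : Subgroup G)) inferInstance {2}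
    have cop := (O_pi {2} (⊤ : Subgroup G)).coprime (O_pi _ ⊤)
    rcases Solv.isCyclic_or_quaternion (O_pg (p := 2) (⊤ : Subgroup G)) fun E _ h1 h2 h3 =>
      r ⟨2, Nat.prime_two, E, le_top, ⟨h2, h3⟩, h1⟩ with h1 | ⟨-, a, b, k, k1, h1, h2, h3, -, h4, h5⟩
    · exact absurd (ab_of_cyc (s ▸ cyc_sup (O_cc_O _ _) h1 c cop)) na
    obtain ⟨e⟩ := iso_prod (O_cc_O {2} (⊤ : Subgroup G)) (inf_of_coprime cop)
    exact ⟨k, _, k1, o, ⟨(topEquiv.symm.trans ((MulEquiv.subgroupCongr s.symm).trans e)).trans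
      ((Solv.nonempty_quaternion_of_gens h1 h2 h3 h4 h5).some.prodCongr (zmodCyclicMulEquiv c).symm)⟩⟩
  haveI : NeZero m := ⟨hm.pos.ne'⟩
  let f := e.symm.toMonoidHom.comp (MonoidHom.inl _ _)
  let f' := e.symm.toMonoidHom.comp (MonoidHom.inr _ _)
  have i1 : Function.Injective f := e.symm.injective.comp (Prod.mk_left_injective _)
  have i2 : Function.Injective f' := e.symm.injective.comp (Prod.mk_right_injective _)
  obtain ⟨a, b, h, h1, h2⟩ := mc_of_quaternion (MonoidHom.ofInjective i1).symm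
  have cD : f'.range ≤ CC (⊤ : Subgroup G) := by
    rintro _ ⟨c, rfl⟩ g -
    exact e.injective (by simp [f', Prod.ext_iff, mul_comm])
  have dec : ∀ g, ∃ s ∈ f.range, ∃ d ∈ f'.range, g = s * d := fun g =>
    ⟨_, ⟨(e g).1, rfl⟩, _, ⟨(e g).2, rfl⟩, e.injective (by simp [f, f'])⟩
  have cS : ∀ {s}, s ∈ CC f.range → s ∈ CC (⊤ : Subgroup G) := fun hs g _ => by
    obtain ⟨u, hu, d, hd, rfl⟩ := dec g
    rw [mul_assoc, ← cD hd _ (mem_top _), ← mul_assoc, hs u hu, mul_assoc]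
  obtain ⟨s, hs, d, hd, rfl⟩ := dec x
  have s1 : s ∉ CC f.range := fun k => hx (cz.2 (mul_mem (cS k) (cD hd)))
  have c : IsCyclic (f.range ⊓ C1 s : Subgroup G) := by
    by_cases e : s ∈ zpowers a
    · exact cyc_mono (cyc_zpowers a) fun y hy => by_contra fun k => s1 (h.a2.cent hy.1 k e (mem_C1.1 hy.2))
    obtain ⟨u, hu, rfl⟩ := (h.a2.cases h.mem_b h.notMem hs).resolve_left e
    rw [(h.out hs e).cc_b, Xk, ← h1, ← mul_self_of_inverts (inverts_of_mem_zpowers h2 hu),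
      sup_eq_right.2 (zpowers_le.2 (mul_mem (mem_zpowers _) (mem_zpowers _)))]
    exact cyc_zpowers _
  refine cyc_mono (cyc_sup (cc_symm (cD.trans (cc_anti le_top))) c ((MonoidHom.ofInjective i2).isCyclic.1 inferInstance)
    (pg_coprime (h.pg.to_le inf_le_left) (π := {2}ᶜ) (pi_compl_iff.2 ?_) (by simp))) fun g hg => ?_
  · rw [← Nat.card_congr (MonoidHom.ofInjective i2).toEquiv]; simpa using hm.not_two_dvd_nat
  obtain ⟨u, hu, c, hc, rfl⟩ := dec g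
  refine mul_mem_sup ⟨hu, mem_C1.2 ?_⟩ hc
  have := mem_C1.1 ((mul_mem_cancel_right (cc_le_C1 (mem_top _) (cD hc))).1 hg)
  rwa [← mul_assoc, mul_assoc s, ← cD hd u (mem_top u), ← mul_assoc, mul_left_inj] at this

theorem exists_pnormal (hH : Group.IsSolvable H) (h1 : K < H) (hn : H ≤ NN K) :
    ∃ q, q.Prime ∧ ∃ R ≤ H, IsPGroup q R ∧ ¬ R ≤ K ∧ H ≤ NN (K ⊔ R) := by
  obtain ⟨Q, _, _, f, q⟩ := exists_qm h1.le hn
  obtain ⟨r, hr, e⟩ : ∃ r, r.Prime ∧ O {r} (⊤ : Subgroup Q) ≠ ⊥ := by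
    by_contra! e
    exact F_ne_bot (q.sol_top hH) (fun e => h1.not_ge ((q.im_eq_bot le_rfl).1 (q.im_top.trans e)))
      (le_bot_iff.1 (F_le_of_O fun r hr _ => (e r hr).le))
  haveI := Fact.mk hr
  obtain ⟨R, r1, r2, r3, -⟩ := q.exists_pg_lift (O_pg (p := r) ⊤)
  exact ⟨r, hr, R, r1, r2, fun k => e (r3 ▸ (q.im_eq_bot r1).2 k),
    (q.nn_iff le_rfl r1).1 (r3 ▸ le_top.trans (nn_O (le_nn ⊤)))⟩

theorem idx_cc (hH : Group.IsSolvable H) (hc : (#H).Coprime #V) (W : Subgroup G) : W ≤ V → H ≤ NN W →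
    (CC H).relIndex W ∈ Submonoid.closure {a | a ∣ #V ∧ ∃ q, q.Prime ∧ q ∣ #H ∧ a ≡ 1 [MOD q]} := by
  induction W using WellFoundedLT.induction with
  | ind W ih =>
  intro h1 h2
  by_cases e : H ≤ CC W
  · rw [relIndex_eq_one.2 (cc_symm e)]; exact one_mem _
  obtain ⟨q, hq, R, r1, r2, r3, r4⟩ := exists_pnormal hH (inf_lt_left.2 e) (nn_inf (le_nn H) (nn_cc h2))
  haveI := Fact.mk hq
  have e1 : W ⊓ CC (H ⊓ CC W ⊔ R) = W ⊓ CC R := by
    rw [cc_sup, ← inf_assoc, inf_eq_left.2 (cc_symm inf_le_right)]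
  have l : CC H ≤ CC R := cc_anti r1
  have d := (pg_dvd r2 fun k => r3 (k.le.trans bot_le)).trans (card_dvd r1)
  rw [← inf_relIndex_right, ← relIndex_mul_relIndex _ (W ⊓ CC R) _ (le_inf inf_le_right (inf_le_left.trans l)) inf_le_left,
    show CC H ⊓ W = CC H ⊓ (W ⊓ CC R) by rw [inf_comm W, ← inf_assoc, inf_eq_left.2 l], inf_relIndex_right]
  refine mul_mem (ih _ (inf_lt_left.2 fun k => r3 (le_inf r1 (cc_symm k))) (inf_le_left.trans h1)
    (e1 ▸ nn_inf h2 (nn_cc r4))) (Submonoid.subset_closure ⟨(relIndex_dvd _ _).trans (card_dvd h1), q, hq, d, ?_⟩)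
  have := card_modEq_card_inf_centralizer r2 (r1.trans h2)
  rw [← card_mul_relIndex (inf_le_left : W ⊓ CC R ≤ W)] at this
  exact Nat.ModEq.cancel_left_of_coprime ((hc.coprime_dvd_left d).coprime_dvd_right (card_dvd (inf_le_left.trans h1)))
    (by rwa [mul_one])

/-- the admissible factors in Hall's count -/
def HF (G : Type u) [Group G] (m a : ℕ) : Prop := (∃ q e : ℕ, q.Prime ∧ a = q ^ e) ∧
  (∃ K L : Subgroup G, K.Normal ∧ L.Normal ∧ K < L ∧ (∀ M : Subgroup G, M.Normal → K ≤ M → M ≤ L → M = K ∨ M = L) ∧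
    a ∣ K.relIndex L) ∧ ∃ q : ℕ, q.Prime ∧ q ∣ m ∧ a ≡ 1 [MOD q]

theorem idx_hall (G : Type u) [Group G] [Finite G] : Group.IsSolvable G → ∀ (π : Set ℕ) (H : Subgroup G), Hall π H ⊤ →
    (NN H).index ∈ Submonoid.closure {a | HF G #H a} := by
  refine Solv.card_induction (P := fun G _ _ => Group.IsSolvable G → ∀ (π : Set ℕ) (H : Subgroup G), Hall π H ⊤ →
    (NN H).index ∈ Submonoid.closure {a | HF G #H a}) (fun G _ _ ih hs π H hH => ?_) G
  by_cases h0 : (⊤ : Subgroup G) = ⊥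
  · rw [eq_top_iff.2 (h0.le.trans (bot_le (a := NN H))), index_top]; exact one_mem _
  obtain ⟨N, -, _, n1, n2⟩ := Solv.exists_minimal_normal_le ⊤ h0
  obtain ⟨ab, p, hp, n3⟩ := Solv.minimal_normal_elementary N inferInstance n1 n2
  haveI := Fact.mk hp
  have pN := elem_isPGroup (p := p) ⟨ab, n3⟩
  have sj := QuotientGroup.mk'_surjective N
  have e1 : (NN (H.map (QuotientGroup.mk' N))).comap (QuotientGroup.mk' N) = NN H ⊔ N := by
    rw [comap_normalizer_eq_of_surjective _ sj, comap_map_eq, QuotientGroup.ker_mk']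
    exact le_antisymm ((Hall.frattini inferInstance (hH.mono le_sup_left le_top) (le_nn _) le_rfl).ge.trans
      (sup_le (sup_le_sup_right (le_nn H) N) (inf_le_right.trans le_sup_left)))
      (sup_le (nn_sup le_rfl nn_normal) (nn_of_le le_sup_right))
  have e2 : (NN H).relIndex (NN H ⊔ N) = (NN H).relIndex N := by
    have c1 := Solv.card_sup_mul_card_inf (nn_normal (A := NN H) (H := N))
    rw [← card_mul_relIndex le_sup_left, mul_assoc, ← card_inf_mul_relIndex (NN H) N, mul_comm _ #_] at c1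
    exact Nat.eq_of_mul_eq_mul_left (card_pos' _) (Nat.eq_of_mul_eq_mul_left (card_pos' _) c1)
  rw [← relIndex_mul_index (le_sup_left : NN H ≤ NN H ⊔ N), e2, ← e1, index_comap_of_surjective _ sj]
  refine mul_mem ?_ (Submonoid.closure_mono ?_ (ih _ (Solv.card_quotient_lt n1) inferInstance π _
    (map_top_of_surjective _ sj ▸ hH.map _)))
  · by_cases e : p ∈ π
    · rw [relIndex_eq_one.2 ((hH.le_of_nn' le_top (pi_of_pg pN e) nn_normal).trans (le_nn H))]; exact one_mem _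
    have c := pg_coprime pN hH.pi e
    rw [← inf_relIndex_right, show NN H ⊓ N = CC H ⊓ N from le_antisymm (le_inf (cc_symm (comm_eq_bot.1
      (eq_bot_of_le (inf_of_coprime c) ((commutator_mono le_rfl inf_le_right).trans (comm_le_right nn_normal))
        (comm_le_left inf_le_left)))) inf_le_right) (inf_le_inf_right _ (cc_le_nn H)), inf_relIndex_right]
    refine Submonoid.closure_mono ?_ (idx_cc inferInstance c.symm N le_rfl nn_normal)
    rintro a ⟨a1, a2⟩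
    refine ⟨?_, ⟨⊥, N, inferInstance, inferInstance, bot_lt_iff_ne_bot.2 n1,
      fun M h _ => n2 M h, by rwa [relIndex_bot_left]⟩, a2⟩
    obtain ⟨k, hk⟩ := pN.exists_card_eq
    obtain ⟨j, -, hj⟩ := (Nat.dvd_prime_pow hp).1 (hk ▸ a1)
    exact ⟨p, j, hp, hj⟩
  rintro a ⟨a1, ⟨K, L, _, _, k1, k2, k3⟩, q, q1, q2, q3⟩
  refine ⟨a1, ⟨K.comap _, L.comap _, inferInstance, inferInstance, (comap_lt_comap_of_surjective sj).2 k1,
    fun M _ m1 m2 => ?_, by rwa [relIndex_comap, map_comap_eq_self_of_surjective sj]⟩, q, q1,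
      q2.trans (card_map_dvd _ _), q3⟩
  have := comap_map_eq_self (f := QuotientGroup.mk' N) ((ker_le_comap _ K).trans m1)
  exact (k2 (M.map (QuotientGroup.mk' N)) (Normal.map ‹_› _ sj) (map_comap_eq_self_of_surjective sj K ▸ map_mono m1)
    (map_le_iff_le_comap.2 m2)).imp (fun e => by rw [← e, this]) fun e => by rw [← e, this]

theorem thm_4214 [Group.IsSolvable G] (m n : ℕ) (hG : Nat.card G = m * n) (hmn : Nat.Coprime m n) :
    ∃ (k : ℕ) (f : Fin k → ℕ), Nat.card {H : Subgroup G // Nat.card H = m} = ∏ i, f i ∧ ∀ i, HF G m (f i) := by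
  obtain ⟨H, hH⟩ := exists_hall (M := (⊤ : Subgroup G)) inferInstance {p | p ∣ m}
  have c := H.card_mul_index
  have e : #H = m := Nat.dvd_antisymm (Nat.Coprime.dvd_of_dvd_mul_right (Nat.coprime_of_dvd fun p hp h1 h2 =>
      hp.one_lt.ne' (Nat.eq_one_of_dvd_coprimes hmn (hH.pi p hp h1) h2)) (hG ▸ Dvd.intro _ c))
    (Nat.Coprime.dvd_of_dvd_mul_right (Nat.coprime_of_dvd fun p hp h1 h2 =>
      hH.2.2 p hp h1 (relIndex_top_right H ▸ h2)) (c ▸ hG ▸ Dvd.intro _ rfl))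
  obtain ⟨l, l1, l2⟩ := Submonoid.exists_list_of_mem_closure (idx_hall G inferInstance _ H hH)
  refine ⟨l.length, l.get, ?_, fun i => e ▸ l1 _ (l.get_mem i)⟩
  rw [← List.prod_ofFn, List.ofFn_get, l2, ← relIndex_top_right, ← Solv.card_conj_eq_relIndex]
  exact Nat.card_congr (Equiv.subtypeEquivRight fun K => ⟨fun h => Hall.conj inferInstance hH
    (hH.of_card le_top (h.trans e.symm)), fun ⟨g, _, h⟩ => h ▸ (card_cj g H).trans e⟩)

theorem core_4412 [hp : Fact p.Prime] (p2 : p ≠ 2) (hK : IsPGroup p K) (hI : IsElementaryAbelian 2 I) (h8 : #I = 8)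
    (hn : I ≤ NN K) (hf : I ⊓ CC K = ⊥) (hJ : J < I) (hd : ∀ T ∈ J, T ≠ 1 → IsCyclic (K ⊓ C1 T : Subgroup G))
    (hq : ∀ T ∈ I, ∀ T' ∈ I, T ≠ 1 → T' ≠ 1 → ¬ IsCyclic (K ⊓ C1 T : Subgroup G) → ¬ IsCyclic (K ⊓ C1 T' : Subgroup G) →
      T * T' ∈ J) :
    IsMulCommutative K ∧ (∃ x y z : G, zpowers x ⊔ zpowers y ⊔ zpowers z = K) ∧ Rk p 3 K ∧ ∃ a b c : G, a ≠ b ∧ a ≠ c ∧
      b ≠ c ∧ (∀ T, (T ∈ I ∧ T ≠ 1 ∧ ¬ IsCyclic (K ⊓ C1 T : Subgroup G)) ↔ T = a ∨ T = b ∨ T = c) ∧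
      I ≤ zpowers a ⊔ zpowers b ⊔ zpowers c ∧ ∀ T ∈ J, T = a * a ∨ T = a * b ∨ T = a * c ∨ T = b * c := by
  have o : Odd #K := Nat.coprime_two_right.1 (pi_compl_iff_coprime.1 (pi_of_pg hK p2))
  obtain ⟨B, b1, b2, b3, b4⟩ := ab_faith hI (sol_of_pg hK) o hn hf
  obtain ⟨a, x, h1, h2, h3⟩ := dual_pairs (B := B) hI (fun a ha a1 => by
    by_contra! h
    exact a1 (eq_one_of_inf b4 ha (le_C1_iff.1 (eig_gen hI (odd_mono o b1) b3 fun x hx e =>
      mem_C1_comm.1 (mem_C1_of_conj (h x hx e)))))) 3 I le_rfl h8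
  have aI := fun i => (h1 i).1
  have a2 := fun i => elem_mul_self hI (aI i)
  have inv := fun i => ((h1 i).2.2.1 _ (aI i)).resolve_left (h1 i).2.2.2
  have x1 : ∀ i, zpowers (x i) ≠ ⊥ := fun i e => (h1 i).2.2.2 (by simp [zpowers_eq_bot.1 e])
  have xK := fun i => zpowers_le.2 (b1 (h1 i).2.1)
  have fx : ∀ i j, i ≠ j → zpowers (x j) ≤ C1 (a i) := fun i j e => zpowers_le.2 (mem_C1_comm.1 (mem_C1_of_conj (h2 i j e)))
  have iv : ∀ {s i}, s * x i * s⁻¹ = (x i)⁻¹ → zpowers (x i) ⊓ C1 s = ⊥ := fun h => eq_bot_iff.2 fun y hy => by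
    have := inverts_of_mem_zpowers h hy.1
    rw [conj_eq_of_C1 (mem_C1_comm.1 hy.2)] at this
    exact eq_one_of_odd_of_mul_self (odd_orderOf_of_mem o (xK _ hy.1)) (eq_inv_iff_mul_eq_one.1 this)
  have cy : ∀ {C X Y}, C ≤ K → IsCyclic C → X ≤ C → Y ≤ C → X ⊓ Y = ⊥ → X ≠ ⊥ → Y = ⊥ := fun l c h1 h2 e n =>
    by_contra fun n' => by
      obtain ⟨U, u1, u2⟩ := pg_exists_card (hK.to_le (h1.trans l)) n
      obtain ⟨W, w1, w2⟩ := pg_exists_card (hK.to_le (h2.trans l)) n'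
      exact prime_ne_bot (u2 ▸ hp.out) (eq_bot_of_le e u1 (cyc_eq c (u1.trans h1) (w1.trans h2) (u2.trans w2.symm) ▸ w1))
  have nc : ∀ i j k, i ≠ j → i ≠ k → j ≠ k → ¬ IsCyclic (K ⊓ C1 (a i) : Subgroup G) := fun i j k e1 e2 e3 c =>
    x1 k (cy inf_le_left c (le_inf (xK j) (fx i j e1)) (le_inf (xK k) (fx i k e2))
      (inf_bot_mono (iv (inv j)) le_rfl (fx j k e3)) (x1 j))
  have nc' : ∀ i, ¬ IsCyclic (K ⊓ C1 (a i) : Subgroup G) := fun i => by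
    fin_cases i
    exacts [nc 0 1 2 (by decide) (by decide) (by decide), nc 1 0 2 (by decide) (by decide) (by decide),
      nc 2 0 1 (by decide) (by decide) (by decide)]
  have a1 : ∀ i, a i ≠ 1 := fun i e => (h1 i).2.2.2 (by simp [e])
  have ne : ∀ i j, i ≠ j → a i ≠ a j := fun i j e e' => (h1 j).2.2.2 (e' ▸ h2 i j e)
  have ne' : ∀ i j, i ≠ j → a i * a j ≠ 1 := fun i j e e' =>
    ne i j e ((eq_inv_of_mul_eq_one_left e').trans (inv_self (a2 j)))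
  have pj := fun i j => hq _ (aI i) _ (aI j) (a1 i) (a1 j) (nc' i) (nc' j)
  have cm := fun i j => elem_commute hI (aI i) (aI j)
  have nJ : ∀ i, a i ∉ J := fun i e => nc' i (hd _ e (a1 i))
  set s := a 0 * a 1 * a 2 with hs
  have sI : s ∈ I := mul_mem (mul_mem (aI 0) (aI 1)) (aI 2)
  have cs : ∀ i j k, i ≠ j → i ≠ k → j ≠ k → s = a k * (a i * a j) → K ⊓ C1 s ⊓ C1 (a i * a j) = ⊥ :=
    fun i j k e1 e2 e3 e => by
      have l : zpowers (x k) ≤ C1 (a i * a j) := zpowers_le.2 (mem_C1_comm.1 (mul_mem (mem_C1_of_conj (h2 i k e2))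
        (mem_C1_of_conj (h2 j k e3))))
      exact cy inf_le_left (hd _ (pj i j) (ne' i j e1)) (le_inf (xK k) l) (inf_le_inf_right _ inf_le_left)
        (inf_bot_mono (iv (by rw [e, conj_mul_of_fix (conj_eq_of_C1 (mem_C1_comm.1 (l (mem_zpowers _)))), inv]))
          le_rfl (inf_le_left.trans inf_le_right)) (x1 k)
  have e12 : a 0 * a 1 * (a 0 * a 2) = a 1 * a 2 := by rw [(cm 0 1).eq, mul_assoc, ← mul_assoc (a 0), a2, one_mul]
  have nC : I ≤ NN (K ⊓ C1 s) := nn_inf hn (nn_C1 ((ab_cc hI.1).trans (cc_le_C1 sI)))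
  have s0 : K ⊓ C1 s = ⊥ := Tv.bot_of_three (nC (hJ.le (pj 0 1))) (nC (hJ.le (pj 0 2))) (elem_mul_self hI (hJ.le (pj 0 1)))
    (elem_mul_self hI (hJ.le (pj 0 2))) (cs 0 1 2 (by decide) (by decide) (by decide) (((cm 0 2).mul_left (cm 1 2)).eq))
    (cs 0 2 1 (by decide) (by decide) (by decide) (by rw [hs, (cm 0 1).eq, mul_assoc]))
    (e12 ▸ cs 1 2 0 (by decide) (by decide) (by decide) (mul_assoc _ _ _))
  have ab := Solv.isMulCommutative_of_inverts fun k hk => Solv.inverts_of_fpf (hn sI) s0 (elem_mul_self hI sI) hk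
  rw [iSup_fin_three] at h3
  have mI : ∀ T ∈ I, (T = 1 ∨ T = a 0 ∨ T = a 1 ∨ T = a 0 * a 1) ∨
      T = a 2 ∨ T = a 0 * a 2 ∨ T = a 1 * a 2 ∨ T = s := fun T hT => by
    obtain ⟨u, hu, w, hw, rfl⟩ := (mem_sup_l (ab_nn hI.1 (zpowers_le.2 (aI 2))
      (sup_le (zpowers_le.2 (aI 0)) (zpowers_le.2 (aI 1))))).1 (h3 hT)
    have := mem_four (a2 0) (a2 1) (mem_C1.2 (cm 0 1)) hu
    rcases zp2 (a2 2) hw with rfl | rfl
    · rw [mul_one]; exact .inl this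
    · rcases this with rfl | rfl | rfl | rfl <;> simp [hs]
  refine ⟨ab, ?_, ?_, a 0, a 1, a 2, ne 0 1 (by decide), ne 0 2 (by decide), ne 1 2 (by decide), fun T =>
    ⟨fun ⟨t1, t2, t3⟩ => ?_, ?_⟩, h3, fun T hT => ?_⟩
  · obtain ⟨u, hu, e1⟩ := exists_zpowers (hd _ (pj 0 1) (ne' 0 1 (by decide)))
    obtain ⟨v, hv, e2⟩ := exists_zpowers (hd _ (pj 0 2) (ne' 0 2 (by decide)))
    obtain ⟨w, hw, e3⟩ := exists_zpowers (hd _ (pj 1 2) (ne' 1 2 (by decide)))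
    refine ⟨u, v, w, le_antisymm (sup_le (sup_le (zpowers_le.2 hu.1) (zpowers_le.2 hv.1)) (zpowers_le.2 hw.1)) ?_⟩
    have l := sup_le (zpowers_le.2 (hJ.le (pj 0 1))) (zpowers_le.2 (hJ.le (pj 0 2)))
    refine cop_gen (ab_mono hI.1 l) (El.not_cyc (n := 0) ⟨le_rfl, elem_mono hI l, ?_⟩) (l.trans hn)
      (pg_coprime ((elem_isPGroup hI).to_le l) (pi1_of_pg hK) p2.symm) fun t ht t1 => ?_
    · rw [card_sup_zpowers_of_commute (ab_le_cc hI.1 le_rfl (zpowers_le.2 (hJ.le (pj 0 1))) (hJ.le (pj 0 2)))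
        (elem_mul_self hI (hJ.le (pj 0 2))) fun e => (zp2 (elem_mul_self hI (hJ.le (pj 0 1))) e).elim (ne' 0 2 (by decide))
          fun e => ne 2 1 (by decide) (mul_left_cancel e), Nat.card_zpowers,
        orderOf_eq_prime (p := 2) (hI.2 _ (hJ.le (pj 0 1))) (ne' 0 1 (by decide))]
      rfl
    rcases mem_four (elem_mul_self hI (hJ.le (pj 0 1))) (elem_mul_self hI (hJ.le (pj 0 2)))
      (mem_C1.2 (elem_commute hI (hJ.le (pj 0 1)) (hJ.le (pj 0 2)))) ht with e | e | e | e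
    · exact absurd e t1
    · rw [e, e1]; exact le_sup_of_le_left le_sup_left
    · rw [e, e2]; exact le_sup_of_le_left le_sup_right
    · rw [e, e12, e3]; exact le_sup_right
  · choose U u1 u2 using fun i => pg_exists_card (hK.to_le (xK i)) (x1 i)
    have el := fun i => el_one ((u1 i).trans (xK i)) (u2 i)
    have l : ∀ i j, i ≠ j → U j ≤ C1 (a i) := fun i j e => (u1 j).trans (fx i j e)
    exact ((el 0).sup ((el 1).sup (el 2) (ab_le_cc ab (el 1).le (el 2).le)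
      (inf_bot_mono (iv (inv 1)) (u1 1) (l 1 2 (by decide)))) (ab_le_cc ab (el 0).le (sup_le (el 1).le (el 2).le))
      (inf_bot_mono (iv (inv 0)) (u1 0) (sup_le (l 0 1 (by decide)) (l 0 2 (by decide))))).rk
  · rcases mI T t1 with (e | e | e | e) | e | e | e | e
    exacts [absurd e t2, .inl e, .inr (.inl e), absurd (hd _ (e ▸ pj 0 1) t2) t3, .inr (.inr e),
      absurd (hd _ (e ▸ pj 0 2) t2) t3, absurd (hd _ (e ▸ pj 1 2) t2) t3, absurd (e ▸ s0 ▸ cyc_bot) t3]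
  · rintro (rfl | rfl | rfl) <;> exact ⟨aI _, a1 _, nc' _⟩
  · rcases mI T (hJ.le hT) with (e | e | e | e) | e | e | e | e
    exacts [.inl (e.trans (a2 0).symm), absurd (e ▸ hT) (nJ 0), absurd (e ▸ hT) (nJ 1), .inr (.inl e),
      absurd (e ▸ hT) (nJ 2), .inr (.inr (.inl e)), .inr (.inr (.inr e)),
      absurd ((mul_mem_cancel_left (pj 0 1)).1 (hs ▸ e ▸ hT)) (nJ 2)]

theorem cyc_elem_dvd (h : IsElementaryAbelian p A) (hc : IsCyclic A) : #A ∣ p := by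
  obtain ⟨a, ha, rfl⟩ := exists_zpowers hc
  rw [Nat.card_zpowers]; exact orderOf_dvd_of_pow_eq_one (h.2 a ha)

theorem meta_not_rk3 [hp : Fact p.Prime] (h : b ∈ NN (zpowers a)) : ¬ Rk p 3 (zpowers a ⊔ zpowers b) := fun ⟨E, hE⟩ => by
  obtain ⟨Q, _, _, f, q⟩ := exists_qm (le_sup_left : zpowers a ≤ zpowers a ⊔ zpowers b)
    (sup_le (le_nn _) (zpowers_le.2 h))
  have c1 := cyc_elem_dvd (p := p) (A := im f E) (elem_map (elem_subgroupOf hE.elem _) f)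
    (cyc_mono (q.im_sup_N le_sup_right ▸ im_cyc (cyc_zpowers b) le_sup_right) (im_mono hE.le))
  have c2 := cyc_elem_dvd (elem_mono hE.elem (inf_le_right : zpowers a ⊓ E ≤ E)) (cyc_mono (cyc_zpowers a) inf_le_left)
  have := Nat.mul_dvd_mul c2 c1
  rw [q.card_im hE.le, card_inf_mul_relIndex, hE.card, ← pow_two, Nat.pow_dvd_pow_iff_le_right hp.out.one_lt] at this
  omega

theorem thm_4412 {P : Type u} [Group P] [Finite P] (p : ℕ) (hp : p.Prime) (hp2 : p ≠ 2) (hP : IsPGroup p P)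
    (I : Subgroup (MulAut P)) (hI : Cfsg.IsElementaryAbelian 2 I) (hI8 : Nat.card ↥I = 8)
    (I₀ : Subgroup (MulAut P)) (hI₀ : I₀ < I)
    (hdisj : ∀ T ∈ I₀, T ≠ 1 → ∃ g : P, ∀ x : P, (T x = x ↔ x ∈ zpowers g))
    (hprod : ∀ T ∈ I, ∀ T' ∈ I, T ≠ 1 → T' ≠ 1 → (¬ ∃ g : P, ∀ x : P, (T x = x ↔ x ∈ zpowers g)) →
      (¬ ∃ g : P, ∀ x : P, (T' x = x ↔ x ∈ zpowers g)) → T * T' ∈ I₀) :
    IsMulCommutative P ∧ (∃ a b c : P, closure {a, b, c} = ⊤) ∧ (¬ ∃ a b : P, closure {a, b} = ⊤) ∧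
      Nat.card {T : MulAut P // T ∈ I ∧ T ≠ 1 ∧ ¬ ∃ g : P, ∀ x : P, (T x = x ↔ x ∈ zpowers g)} = 3 ∧
      closure {T : MulAut P | T ∈ I ∧ T ≠ 1 ∧ ¬ ∃ g : P, ∀ x : P, (T x = x ↔ x ∈ zpowers g)} = I ∧
      (I₀ : Set (MulAut P)) = {S : MulAut P | ∃ T T' : MulAut P, T ∈ I ∧ T' ∈ I ∧ T ≠ 1 ∧ T' ≠ 1 ∧
        (¬ ∃ g : P, ∀ x : P, (T x = x ↔ x ∈ zpowers g)) ∧ (¬ ∃ g : P, ∀ x : P, (T' x = x ↔ x ∈ zpowers g)) ∧ S = T * T'} := by
  haveI := Fact.mk hp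
  have i1 := hl_injective (V := P)
  have i2 := hr_injective (V := P)
  have cy : ∀ T : MulAut P, IsCyclic ((⊤ : Subgroup P).map hl ⊓ C1 (hr T) : Subgroup (Hol P)) ↔
      ∃ g : P, ∀ x : P, (T x = x ↔ x ∈ zpowers g) := fun T => by
    have m : ∀ x, hl x ∈ (⊤ : Subgroup P).map hl ⊓ C1 (hr T) ↔ T x = x := fun x => by
      rw [mem_inf, mem_C1, ← hol_commute_iff, and_iff_right (mem_map_of_mem hl (mem_top x))]; exact eq_comm
    refine ⟨fun h => ?_, fun ⟨g, h⟩ => cyc_mono (cyc_zpowers (hl g)) ?_⟩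
    · obtain ⟨_, ⟨⟨g, -, rfl⟩, -⟩, e⟩ := exists_zpowers h
      exact ⟨g, fun x => by rw [← m, e, ← MonoidHom.map_zpowers, mem_map_iff_mem i1]⟩
    · rintro _ ⟨⟨x, hx, rfl⟩, k⟩
      exact MonoidHom.map_zpowers hl g ▸ mem_map_of_mem _ ((h x).1 ((m x).1 ⟨⟨x, hx, rfl⟩, k⟩))
  have n1 : ∀ {T : MulAut P}, hr T ≠ 1 ↔ T ≠ 1 := (map_eq_one_iff _ i2).not
  obtain ⟨ab, ⟨x, y, z, g3⟩, rk, a, b, c, ab', ac, bc, ch, gI, gJ⟩ := core_4412 (K := (⊤ : Subgroup P).map hl)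
    (I := I.map hr) (J := I₀.map hr) hp2 ((hP.to_subgroup ⊤).map _) (elem_map hI _)
    ((card_map_of_injective i2).trans hI8) nn_normal
    (eq_bot_iff.2 (by rintro _ ⟨⟨T, -, rfl⟩, h⟩; rw [hr_eq_one_of_mem_centralizer h, map_one]; exact one_mem _))
    ((map_lt_map_iff_of_injective i2).2 hI₀) (by rintro _ ⟨T, hT, rfl⟩ t1; exact (cy T).2 (hdisj T hT (n1.1 t1)))
    (by
      rintro _ ⟨T, hT, rfl⟩ _ ⟨T', hT', rfl⟩ t1 t2 t3 t4
      exact map_mul hr T T' ▸ mem_map_of_mem _ (hprod T hT T' hT' (n1.1 t1) (n1.1 t2) (mt (cy T).2 t3) (mt (cy T').2 t4)))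
  have ch' : ∀ T, (T ∈ I ∧ T ≠ 1 ∧ ¬ ∃ g : P, ∀ x : P, (T x = x ↔ x ∈ zpowers g)) ↔ hr T = a ∨ hr T = b ∨ hr T = c :=
    fun T => by rw [← ch, mem_map_iff_mem i2, n1, cy]
  obtain ⟨a, -, rfl⟩ := ((ch a).2 (.inl rfl)).1
  obtain ⟨b, -, rfl⟩ := ((ch b).2 (.inr (.inl rfl))).1
  obtain ⟨c, -, rfl⟩ := ((ch c).2 (.inr (.inr rfl))).1
  simp only [i2.eq_iff, ne_eq] at ch' ab' ac bc
  have ha := (ch' a).2 (.inl rfl)
  have hb := (ch' b).2 (.inr (.inl rfl))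
  have hc := (ch' c).2 (.inr (.inr rfl))
  have cm : ∀ u v : P, u * v = v * u := fun u v =>
    i1 (by simpa only [map_mul] using comm_iff.1 ab _ ⟨u, mem_top u, rfl⟩ _ ⟨v, mem_top v, rfl⟩)
  refine ⟨⟨⟨cm⟩⟩, ?_, fun ⟨u, v, e⟩ => ?_, ?_, le_antisymm ((closure_le _).2 fun T h => h.1) fun T hT => ?_,
    Set.ext fun S => ⟨fun h => ?_, fun ⟨T, T', h1, h2, h3, h4, h5, h6, e⟩ => e ▸ hprod T h1 T' h2 h3 h4 h5 h6⟩⟩
  · obtain ⟨x, -, rfl⟩ := g3.le (mem_sup_left (mem_sup_left (mem_zpowers x)))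
    obtain ⟨y, -, rfl⟩ := g3.le (mem_sup_left (mem_sup_right (mem_zpowers y)))
    obtain ⟨z, -, rfl⟩ := g3.le (mem_sup_right (mem_zpowers z))
    refine ⟨x, y, z, eq_top_iff.2 (map_le_map_iff_of_injective i1 |>.1 (g3.ge.trans ?_))⟩
    refine sup_le (sup_le ?_ ?_) ?_ <;> exact zpowers_le.2 (mem_map_of_mem _ (subset_closure (by simp)))
  · rw [← e, closure_pair_eq, Subgroup.map_sup, MonoidHom.map_zpowers, MonoidHom.map_zpowers] at rk ab
    exact meta_not_rk3 (ab_nn ab le_sup_right le_sup_left (mem_zpowers _)) rk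
  · rw [Nat.card_congr (Equiv.subtypeEquivRight ch')]
    exact (Nat.card_coe_set_eq ({a, b, c} : Set (MulAut P))).trans (Set.ncard_eq_three.2 ⟨a, b, c, ab', ac, bc, rfl⟩)
  · have := gI (mem_map_of_mem _ hT)
    rw [← MonoidHom.map_zpowers, ← MonoidHom.map_zpowers, ← MonoidHom.map_zpowers, ← Subgroup.map_sup, ← Subgroup.map_sup,
      mem_map_iff_mem i2] at this
    refine (sup_le (sup_le ?_ ?_) ?_ : zpowers a ⊔ zpowers b ⊔ zpowers c ≤ _) this <;>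
      refine zpowers_le.2 (Subgroup.subset_closure ?_)
    exacts [ha, hb, hc]
  · have := gJ _ (mem_map_of_mem _ h)
    simp only [← map_mul, i2.eq_iff] at this
    rcases this with e | e | e | e
    exacts [⟨a, a, ha.1, ha.1, ha.2.1, ha.2.1, ha.2.2, ha.2.2, e⟩, ⟨a, b, ha.1, hb.1, ha.2.1, hb.2.1, ha.2.2, hb.2.2, e⟩,
      ⟨a, c, ha.1, hc.1, ha.2.1, hc.2.1, ha.2.2, hc.2.2, e⟩, ⟨b, c, hb.1, hc.1, hb.2.1, hc.2.1, hb.2.2, hc.2.2, e⟩]

end Cfsg.Agent.PU
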