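/-
Large extraspecial 2-subgroups: the rank one parabolic, centralisers.
-/
import Cfsg.Agent.Lib.PU.XS1

set_option autoImplicit false
set_option linter.unusedSectionVars false
set_option linter.unusedVariables false
set_option linter.style.haveILetI false
set_option linter.unusedSimpArgs false

namespace Cfsg.Agent.PU

open Subgroup Cfsg.Agent.Transfer Cfsg.Agent.MS
open scoped commutatorElement

universe u
variable {G : Type u} [Group G] [Finite G]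
variable {A B K P Q Q' R U X : Subgroup G} {a b g t u v x z : G}

theorem s3_of_gens {H : Type u} [Group H] [Finite H] {a b : H} (a2 : a * a = 1) (b2 : b * b = 1)
    (h3 : (a * b) ^ 3 = 1) (h1 : a * b ≠ 1) (hb : b ≠ 1) (ht : zpowers a ⊔ zpowers b = ⊤) :
    Nonempty (H ≃* Equiv.Perm (Fin 3)) := by
  haveI : Fact (Nat.Prime 3) := ⟨Nat.prime_three⟩
  have key : ∀ (K : Type u) [Group K] [Finite K] (a b : K), a * a = 1 → b * b = 1 → (a * b) ^ 3 = 1 → a * b ≠ 1 →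
      b ≠ 1 → zpowers a ⊔ zpowers b = ⊤ → Nonempty (K ≃* DihedralGroup 3) := by
    intro K _ _ a b a2 b2 h3 h1 hb ht
    have o := orderOf_eq_prime h3 h1
    obtain ⟨e⟩ := Solv.nonempty_dihedral_of_gens (S := ⊤) (a := a * b) (b := b) (fun hm => by
      have := orderOf_dvd_of_mem_zpowers hm
      rw [o, orderOf_eq_prime (p := 2) (by rw [pow_two, b2]) hb] at this
      omega) (by
      rw [eq_comm, eq_top_iff, ← ht]
      refine sup_le (zpowers_le.2 ?_) le_sup_right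
      simpa using mul_mem (mem_sup_left (mem_zpowers (a * b)) : a * b ∈ zpowers (a * b) ⊔ zpowers b)
        (inv_mem (mem_sup_right (mem_zpowers b)))) (by rw [pow_two, b2]) (by
      rw [mul_inv_rev, inv_self a2, ← mul_assoc, mul_inv_cancel_right, inv_self b2])
    rw [o] at e
    exact ⟨topEquiv.symm.trans e⟩
  obtain ⟨e1⟩ := key H a b a2 b2 h3 h1 hb ht
  obtain ⟨e2⟩ := key (ULift.{u} (Equiv.Perm (Fin 3))) ⟨Equiv.swap 0 1⟩ ⟨Equiv.swap 1 2⟩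
    (ULift.ext _ _ (by decide)) (ULift.ext _ _ (by decide)) (ULift.ext _ _ (by decide))
    (fun e => absurd (congrArg ULift.down e) (by decide)) (fun e => absurd (congrArg ULift.down e) (by decide)) (by
      rw [eq_top_iff]
      rintro ⟨x⟩ -
      set a : ULift.{u} (Equiv.Perm (Fin 3)) := ⟨Equiv.swap 0 1⟩
      set b : ULift.{u} (Equiv.Perm (Fin 3)) := ⟨Equiv.swap 1 2⟩
      have ha : a ∈ zpowers a ⊔ zpowers b := mem_sup_left (mem_zpowers a)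
      have hb : b ∈ zpowers a ⊔ zpowers b := mem_sup_right (mem_zpowers b)
      have : ∀ x : Equiv.Perm (Fin 3), x = 1 ∨ x = Equiv.swap 0 1 ∨ x = Equiv.swap 1 2 ∨
        x = Equiv.swap 0 1 * Equiv.swap 1 2 ∨ x = Equiv.swap 1 2 * Equiv.swap 0 1 ∨
        x = Equiv.swap 0 1 * Equiv.swap 1 2 * Equiv.swap 0 1 := by decide
      rcases this x with rfl | rfl | rfl | rfl | rfl | rfl
      exacts [one_mem _, ha, hb, mul_mem ha hb, mul_mem hb ha, mul_mem (mul_mem ha hb) ha])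
  exact ⟨(e1.trans e2.symm).trans MulEquiv.ulift⟩

/-- two large extraspecial subgroups containing each other's centres -/
structure LP (z t : G) (Q Q' : Subgroup G) : Prop where
  l : LX z Q
  r : LX t Q'
  tQ : t ∈ Q
  zQ : z ∈ Q'
  ne : t ≠ z

namespace LP

theorem symm (h : LP z t Q Q') : LP t z Q' Q := ⟨h.r, h.l, h.zQ, h.tQ, h.ne.symm⟩
theorem z2 (h : LP z t Q Q') : z * z = 1 := es_z2 h.l.es
theorem t2 (h : LP z t Q Q') : t * t = 1 := es_z2 h.r.es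
theorem tz (h : LP z t Q Q') : t * z = z * t := mem_C1.1 (es_C1 h.l.es h.tQ)
theorem nzp (h : LP z t Q Q') : t ∉ zpowers z := notMem_zp h.z2 h.r.es.ne h.ne
theorem VQ (h : LP z t Q Q') : zpowers z ⊔ zpowers t ≤ Q := sup_le (zpowers_le.2 h.l.es.mem.1) (zpowers_le.2 h.tQ)
theorem ccV (h : LP z t Q Q') : CC (zpowers z ⊔ zpowers t) = C1 z ⊓ C1 t := by rw [cc_sup, cc_zpowers, cc_zpowers]
theorem nnV (h : LP z t Q Q') : Q ≤ NN (zpowers z ⊔ zpowers t) := es_nn h.l.es (mem_sup_left (mem_zpowers z)) h.VQ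
theorem nnV' (h : LP z t Q Q') : Q' ≤ NN (zpowers z ⊔ zpowers t) := sup_comm (zpowers t) _ ▸ h.symm.nnV
theorem memV (h : LP z t Q Q') (hx : x ∈ zpowers z ⊔ zpowers t) : x = 1 ∨ x = z ∨ x = t ∨ x = z * t :=
  mem_four h.z2 h.t2 (mem_C1.2 h.tz.symm) hx
theorem PC (h : LP z t Q Q') : Q ⊓ C1 t ≤ C1 z ⊓ C1 t := inf_le_inf_right _ (es_C1 h.l.es)
theorem PC' (h : LP z t Q Q') : Q' ⊓ C1 z ≤ C1 z ⊓ C1 t := inf_comm (C1 t) _ ▸ h.symm.PC
theorem CP (h : LP z t Q Q') : C1 z ⊓ C1 t ≤ NN (Q ⊓ C1 t) :=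
  nn_inf (inf_le_left.trans h.l.nn) (nn_C1 inf_le_right)
theorem CP' (h : LP z t Q Q') : C1 z ⊓ C1 t ≤ NN (Q' ⊓ C1 z) := inf_comm (C1 t) _ ▸ h.symm.CP
theorem zP (h : LP z t Q Q') : z ∈ Q ⊓ C1 t := ⟨h.l.es.mem.1, mem_C1.2 h.tz.symm⟩
theorem QP (h : LP z t Q Q') : Q ≤ NN (Q ⊓ C1 t) := es_nn h.l.es h.zP inf_le_left
theorem RC (h : LP z t Q Q') : (Q' ⊓ C1 z) ⊔ (Q ⊓ C1 t) ≤ C1 z ⊓ C1 t := sup_le h.PC' h.PC
theorem commC (h : LP z t Q Q') : ⁅Q, C1 z ⊓ C1 t⁆ ≤ Q ⊓ C1 t := by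
  refine le_inf (comm_le_left (inf_le_left.trans h.l.nn)) (le_trans ?_ (inf_le_right : C1 z ⊓ C1 t ≤ _))
  rw [← h.ccV]; exact comm_le_right (nn_cc h.nnV)
theorem QR (h : LP z t Q Q') : Q ≤ NN ((Q' ⊓ C1 z) ⊔ (Q ⊓ C1 t)) := fun q hq => by
  refine mem_normalizer_of_cj_le ?_
  rw [cj_sup, cj_nn (h.QP hq)]
  refine sup_le (cj_le_iff.2 fun x hx => ?_) le_sup_right
  have := mul_mem (mem_sup_right (h.commC (commutator_mem_commutator hq (h.PC' hx))) :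
    _ ∈ (Q' ⊓ C1 z) ⊔ (Q ⊓ C1 t)) (mem_sup_left hx)
  rwa [commutatorElement_def, inv_mul_cancel_right] at this
theorem XR (h : LP z t Q Q') : Q ⊔ Q' ≤ NN ((Q' ⊓ C1 z) ⊔ (Q ⊓ C1 t)) := 
  sup_le h.QR (by rw [sup_comm]; exact h.symm.QR)
theorem RX (h : LP z t Q Q') : (Q' ⊓ C1 z) ⊔ (Q ⊓ C1 t) ≤ Q ⊔ Q' :=
  sup_le (inf_le_left.trans le_sup_right) (inf_le_left.trans le_sup_left)
theorem XC (h : LP z t Q Q') : ⁅Q ⊔ Q', C1 z ⊓ C1 t⁆ ≤ (Q' ⊓ C1 z) ⊔ (Q ⊓ C1 t) :=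
  comm_sup_l h.QR (le_sup_right.trans h.XR) (h.commC.trans le_sup_right)
    (le_trans (by rw [inf_comm (C1 z)]; exact h.symm.commC) le_sup_left)
theorem pgR (h : LP z t Q Q') : IsPGroup 2 ((Q' ⊓ C1 z) ⊔ (Q ⊓ C1 t) : Subgroup G) :=
  pg_sup_l ((es_pg h.r.es).to_le inf_le_left) ((es_pg h.l.es).to_le inf_le_left) (h.PC.trans h.CP')

theorem act (h : LP z t Q Q') (ha : a ∈ Q) : a ∈ C1 t ∨ a * t * a⁻¹ = z * t := by
  rcases zp2 h.z2 (h.l.es.der (commutator_mem_commutator ha h.tQ)) with e | e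
  · exact Or.inl (mem_C1.2 (commutatorElement_eq_one_iff_mul_comm.1 e))
  · exact Or.inr (by rw [← e, commutatorElement_def, inv_mul_cancel_right])

theorem coset (h : LP z t Q Q') (ha : a ∈ Q) (e : a * t * a⁻¹ = z * t) (hx : x ∈ Q) :
    x ∈ Q ⊓ C1 t ∨ x * a⁻¹ ∈ Q ⊓ C1 t := by
  refine (h.act hx).imp (fun e' => ⟨hx, e'⟩) fun e' => mem_inf.2 ⟨mul_mem hx (inv_mem ha), mem_C1_of_conj ?_⟩
  have e1 : a⁻¹ * t * a = z * t := by
    calc a⁻¹ * t * a = a⁻¹ * (z * (z * t)) * a := by rw [← mul_assoc z, h.z2, one_mul]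
      _ = (a⁻¹ * z * a⁻¹⁻¹) * t := by rw [← e]; group
      _ = z * t := by rw [conj_eq_of_C1 (es_C1 h.l.es (inv_mem ha))]
  calc _ = x * (a⁻¹ * t * a) * x⁻¹ := by group
    _ = (x * z * x⁻¹) * (x * t * x⁻¹) := by rw [e1]; group
    _ = t := by rw [e', conj_eq_of_C1 (es_C1 h.l.es hx), ← mul_assoc, h.z2, one_mul]

theorem not_C (h : LP z t Q Q') (e : a * t * a⁻¹ = z * t) : a ∉ C1 t := fun e' => by
  rw [conj_eq_of_C1 e'] at e; exact h.l.es.ne (by simpa using e.symm)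

theorem ccP (h : LP z t Q Q') : CC (Q ⊓ C1 t) ≤ zpowers z ⊔ zpowers t := fun r hr => by
  have c : Q ⊓ CC (Q ⊓ C1 t) ≤ zpowers z ⊔ zpowers t := by
    have := es_ccc h.l.es (mem_sup_left (mem_zpowers z)) h.VQ
    rwa [h.ccV, ← inf_assoc, inf_eq_left.2 (es_C1 h.l.es)] at this
  have rz : r ∈ C1 z := cc_le_C1 h.zP hr
  refine c ⟨h.l.inner fun y hy => ?_, hr⟩
  by_cases hP : y ∈ C1 t
  · rw [commutatorElement_eq_one_iff_mul_comm.2 (hr y ⟨hy, hP⟩)]; exact one_mem _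
  have m : ⁅y, r⁆ ∈ Q := comm_le_left (zpowers_le.2 (h.l.nn rz)) (commutator_mem_commutator hy (mem_zpowers r))
  have k : ⁅⁅zpowers y, zpowers r⁆, Q ⊓ C1 t⁆ ≤ ⊥ := by
    refine three_sub nn_bot nn_bot nn_bot ?_ ?_
    · rw [comm_eq_bot.2 (zpowers_le.2 hr), commutator_bot_left]
    · refine (commutator_mono ((commutator_mono inf_le_left (zpowers_le.2 hy)).trans h.l.es.der) le_rfl).trans ?_
      exact (comm_eq_bot'.2 (zpowers_le.2 (by rwa [cc_zpowers]))).le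
  have m2 := c ⟨m, comm_eq_bot.1 (le_bot_iff.1 k) (commutator_mem_commutator (mem_zpowers y) (mem_zpowers r))⟩
  have e := (h.act hy).resolve_left hP
  have yz := mem_C1.1 (es_C1 h.l.es hy)
  have sq : ∀ s, ⁅y, r⁆ = s → s * (y⁻¹⁻¹ * s * y⁻¹) = 1 := fun s hs => by
    have h1 : r * (y * y) * r⁻¹ = y * y :=
      conj_eq_of_C1 (C1_le_of_mem_zpowers (by rw [← pow_two]; exact h.l.es.pw y hy) rz)
    have h2 : y * y ∈ C1 ⁅y, r⁆ := mem_C1_comm.1 (C1_le_of_mem_zpowers (by rw [← pow_two]; exact h.l.es.pw y hy)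
      (es_C1 h.l.es m))
    have h3 : (y * ⁅y, r⁆ * y⁻¹) * ⁅y, r⁆ = 1 := by
      calc _ = y * y * (r * (y * y) * r⁻¹)⁻¹ := by simp only [commutatorElement_def]; group
        _ = 1 := by rw [h1]; group
    rw [← hs, inv_inv, eq_inv_of_mul_eq_one_left h3, mul_inv_cancel]
  rcases h.memV m2 with e1 | e1 | e1 | e1
  · rw [e1]; exact one_mem _
  · rw [e1]; exact mem_zpowers z
  · have := sq _ e1
    rw [inv_inv, e, ← mul_assoc, h.tz, mul_assoc, h.t2, mul_one] at this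
    exact absurd this h.l.es.ne
  · have := sq _ e1
    rw [inv_inv, show y * (z * t) * y⁻¹ = (y * z * y⁻¹) * (y * t * y⁻¹) by group, e,
      conj_eq_of_C1 (es_C1 h.l.es hy), ← mul_assoc z z, h.z2, one_mul, mul_assoc, h.t2, mul_one] at this
    exact absurd this h.l.es.ne

theorem EE (h : LP z t Q Q') : (Q' ⊓ C1 z) ⊓ (Q ⊓ C1 t) = Q ⊓ Q' :=
  le_antisymm (fun x hx => ⟨hx.2.1, hx.1.1⟩) fun x hx => ⟨⟨hx.2, es_C1 h.l.es hx.1⟩, hx.1, es_C1 h.r.es hx.2⟩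

theorem XE (h : LP z t Q Q') : ⁅Q ⊔ Q', Q ⊓ Q'⁆ ≤ zpowers z ⊔ zpowers t :=
  comm_sup_l h.nnV h.nnV' ((commutator_mono le_rfl inf_le_left).trans (h.l.es.der.trans le_sup_left))
    ((commutator_mono le_rfl inf_le_right).trans (h.r.es.der.trans le_sup_right))

theorem sqE (h : LP z t Q Q') (hx : x ∈ (Q' ⊓ C1 z) ⊔ (Q ⊓ C1 t)) : x ^ 2 ∈ Q ⊓ Q' := by
  obtain ⟨p, hp, q, hq, rfl⟩ := (mem_sup_l (h.PC.trans h.CP')).1 hx
  have e : (p * q) ^ 2 = p ^ 2 * ⁅p⁻¹, q⁆ * q ^ 2 := by simp only [commutatorElement_def, pow_two]; group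
  rw [e]
  refine mul_mem (mul_mem (zpowers_le.2 (mem_inf.2 ⟨h.tQ, h.r.es.mem.1⟩) (h.r.es.pw p hp.1)) ?_)
    (zpowers_le.2 (mem_inf.2 ⟨h.l.es.mem.1, h.zQ⟩) (h.l.es.pw q hq.1))
  rw [← h.EE]
  have := commutator_mem_commutator (inv_mem hp) hq
  exact ⟨comm_le_left (h.PC.trans h.CP') this, comm_le_right (h.PC'.trans h.CP) this⟩

theorem zR (h : LP z t Q Q') : ((Q' ⊓ C1 z) ⊔ (Q ⊓ C1 t)) ⊓ CC ((Q' ⊓ C1 z) ⊔ (Q ⊓ C1 t)) =
    zpowers z ⊔ zpowers t := by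
  refine le_antisymm (inf_le_right.trans ((cc_anti le_sup_right).trans h.ccP)) (le_inf ?_ ?_)
  · exact sup_le (zpowers_le.2 (mem_sup_right h.zP)) (zpowers_le.2 (mem_sup_left h.symm.zP))
  · exact cc_symm (h.ccV ▸ h.RC)

theorem thm_5431 (h : LP z t Q Q') {V E : Subgroup G} (hV : V = zpowers z ⊔ zpowers t) (hX : X = Q ⊔ Q')
    (hR : R = (Q' ⊓ C1 z) ⊔ (Q ⊓ C1 t)) (hE : E = Q ⊓ Q') :
    (Subgroup.center ↥R).map R.subtype = V ∧ E ≤ (Subgroup.upperCentralSeries ↥R 2).map R.subtype ∧ Subgroup.upperCentralSeries ↥R 3 = ⊤ ∧ Cfsg.IsElementaryAbelian 2 E ∧ (∀ x ∈ R, ∀ y ∈ R, x * y * x⁻¹ * y⁻¹ ∈ E ∧ x ^ 2 ∈ E) ∧ (Q' ⊓ C1 z) ⊓ (Q ⊓ C1 t) = E ∧ ⁅X, E⁆ ≤ V := by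
  have c1 : (Subgroup.center ↥R).map R.subtype = V := by rw [map_center_eq, hR, h.zR, hV]
  have ER : E ≤ R := by rw [hE, hR, ← h.EE]; exact inf_le_left.trans le_sup_left
  have c5 : ∀ x ∈ R, ∀ y ∈ R, x * y * x⁻¹ * y⁻¹ ∈ E ∧ x ^ 2 ∈ E := fun x hx y hy =>
    ⟨Tv.comm_le_of_sq (Q := R) (Z := E) (fun x hx => hE ▸ h.sqE (hR ▸ hx)) (commutator_mem_commutator hx hy),
      hE ▸ h.sqE (hR ▸ hx)⟩
  have c7 : ⁅X, E⁆ ≤ V := by rw [hX, hE, hV]; exact h.XE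
  have c2 : ∀ x : R, (x : G) ∈ E → x ∈ Subgroup.upperCentralSeries ↥R 2 := fun x hx => by
    rw [Subgroup.mem_upperCentralSeries_succ_iff]
    intro y
    rw [Subgroup.upperCentralSeries_one]
    have : ⁅(x : G), (y : G)⁆ ∈ V := by
      rw [← commutatorElement_inv]
      exact inv_mem (c7 (commutator_mem_commutator (hX ▸ h.RX (hR ▸ y.2)) hx))
    rw [← c1] at this
    obtain ⟨w, hw, e⟩ := this
    exact (Subtype.ext e : w = ⁅x, y⁆) ▸ hw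
  refine ⟨c1, fun x hx => ⟨⟨x, ER hx⟩, c2 _ hx, rfl⟩, eq_top_iff.2 fun x _ => ?_, elem_two_of_mul_self fun x hx => ?_,
    c5, hE ▸ h.EE, c7⟩
  · rw [Subgroup.mem_upperCentralSeries_succ_iff]
    exact fun y => c2 _ (c5 x x.2 y y.2).1
  · rw [hE] at hx
    rw [← pow_two]
    rcases zp2 h.z2 (h.l.es.pw x hx.1) with e | e
    · exact e
    · exact (zp2 h.t2 (h.r.es.pw x hx.2)).resolve_right fun e' => h.ne (e'.symm.trans e)

theorem s3 (h : LP z t Q Q') (hcj : Q' = Transfer.cj g Q) (ht : t = g * z * g⁻¹) (hX : X = Q ⊔ Q')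
    (hR : R = (Q' ⊓ C1 z) ⊔ (Q ⊓ C1 t)) [hn : (R.subgroupOf X).Normal] :
    Nonempty (↥X ⧸ R.subgroupOf X ≃* Equiv.Perm (Fin 3)) := by
  obtain ⟨a, ha, ea⟩ := es_move h.l.es h.tQ h.nzp
  obtain ⟨b, hb, eb⟩ := es_move h.r.es h.zQ h.symm.nzp
  have az := conj_eq_of_C1 (es_C1 h.l.es ha)
  have bt := conj_eq_of_C1 (es_C1 h.r.es hb)
  have aX : a ∈ X := hX ▸ mem_sup_left ha
  have bX : b ∈ X := hX ▸ mem_sup_right hb
  have PR : Q ⊓ C1 t ≤ R := hR ▸ le_sup_right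
  have PR' : Q' ⊓ C1 z ≤ R := hR ▸ le_sup_left
  have RC : R ≤ C1 z ⊓ C1 t := hR ▸ h.RC
  let f := QuotientGroup.mk' (R.subgroupOf X)
  have one : ∀ x : X, f x = 1 ↔ (x : G) ∈ R := fun x => QuotientGroup.eq_one_iff x
  have a2 : f ⟨a, aX⟩ * f ⟨a, aX⟩ = 1 := by
    rw [← map_mul, one]
    exact PR (zpowers_le.2 h.zP (by rw [← pow_two]; exact h.l.es.pw a ha))
  have b2 : f ⟨b, bX⟩ * f ⟨b, bX⟩ = 1 := by
    rw [← map_mul, one]
    exact PR' (zpowers_le.2 h.symm.zP (by rw [← pow_two]; exact h.r.es.pw b hb))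
  have hb1 : f ⟨b, bX⟩ ≠ 1 := fun e => h.symm.not_C eb (RC ((one _).1 e)).1
  have hab : f ⟨a, aX⟩ * f ⟨b, bX⟩ ≠ 1 := fun e => by
    rw [← map_mul, one] at e
    exact h.symm.not_C eb (by simpa using mul_mem (inv_mem (es_C1 h.l.es ha)) (mem_inf.1 (RC e)).1)
  have e1 : Transfer.cj b Q = Transfer.cj a Q' := by
    rw [hcj, cj_cj]
    refine h.l.cj_eq ?_
    rw [eb, show a * g * z * (a * g)⁻¹ = a * (g * z * g⁻¹) * a⁻¹ by group, ← ht, ea, h.tz]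
  have m : a⁻¹ * (b * a * b⁻¹) * a ∈ Q' := mem_cj.1 (e1 ▸ conj_mem_cj ha)
  refine s3_of_gens a2 b2 ?_ hab hb1 ?_
  · rcases h.symm.coset hb eb m with e | e
    · have := (one (⟨a, aX⟩⁻¹ * (⟨b, bX⟩ * ⟨a, aX⟩ * ⟨b, bX⟩⁻¹) * ⟨a, aX⟩)).2 (PR' e)
      simp only [map_mul, map_inv] at this
      rw [mul_assoc, inv_mul_eq_one, eq_comm, mul_eq_right, conj_eq_one_iff] at this
      exact absurd ((one _).1 this) fun e => h.not_C ea (RC e).2
    · have := (one (⟨a, aX⟩⁻¹ * (⟨b, bX⟩ * ⟨a, aX⟩ * ⟨b, bX⟩⁻¹) * ⟨a, aX⟩ * ⟨b, bX⟩⁻¹)).2 (PR' e)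
      simp only [map_mul, map_inv, inv_self a2, inv_self b2] at this
      rw [← this]; simp only [pow_succ, pow_zero, one_mul, mul_assoc]
  · rw [eq_top_iff]
    intro y _
    obtain ⟨y, rfl⟩ := QuotientGroup.mk'_surjective _ y
    have k : ∀ {S T : Subgroup G} {c : G} (cX : c ∈ X), T ≤ R → S ≤ X → (∀ x ∈ S, x ∈ T ∨ x * c⁻¹ ∈ T) →
        S ≤ ((zpowers (f ⟨c, cX⟩)).comap f).map X.subtype := fun {S T c} cX h1 h2 h3 x hx => by
      refine ⟨⟨x, h2 hx⟩, ?_, rfl⟩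
      show f _ ∈ zpowers _
      rcases h3 x hx with e | e
      · rw [(one ⟨x, h2 hx⟩).2 (h1 e)]; exact one_mem _
      · have := (one (⟨x, h2 hx⟩ * ⟨c, cX⟩⁻¹)).2 (h1 e)
        rw [map_mul, map_inv, mul_inv_eq_one] at this
        rw [this]; exact mem_zpowers _
    have : X ≤ ((zpowers (f ⟨a, aX⟩) ⊔ zpowers (f ⟨b, bX⟩)).comap f).map X.subtype := by
      conv_lhs => rw [hX]
      exact sup_le ((k aX PR (hX ▸ le_sup_left) fun x => h.coset ha ea).trans (map_mono (comap_mono le_sup_left)))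
        ((k bX PR' (hX ▸ le_sup_right) fun x => h.symm.coset hb eb).trans (map_mono (comap_mono le_sup_right)))
    obtain ⟨w, hw, e⟩ := this y.2
    exact (Subtype.ext e : w = y) ▸ hw

theorem nV (h : LP z t Q Q') : NN (zpowers z ⊔ zpowers t) = (Q ⊔ Q') ⊔ (C1 z ⊓ C1 t) := by
  refine le_antisymm (fun n hn => ?_) (sup_le (sup_le h.nnV h.nnV') (h.ccV ▸ cc_le_nn _))
  obtain ⟨a, ha, ea⟩ := es_move h.l.es h.tQ h.nzp
  obtain ⟨b, hb, eb⟩ := es_move h.r.es h.zQ h.symm.nzp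
  have az := conj_eq_of_C1 (es_C1 h.l.es ha)
  have aX : a ∈ (Q ⊔ Q') ⊔ (C1 z ⊓ C1 t) := mem_sup_left (mem_sup_left ha)
  have bX : b ∈ (Q ⊔ Q') ⊔ (C1 z ⊓ C1 t) := mem_sup_left (mem_sup_right hb)
  have s1 : ∀ m ∈ NN (zpowers z ⊔ zpowers t), m ∈ C1 z → m ∈ (Q ⊔ Q') ⊔ (C1 z ⊓ C1 t) := fun m hm hz => by
    rcases h.memV (conj_mem_of_mem_normalizer hm (mem_sup_right (mem_zpowers t))) with e | e | e | e
    · exact absurd e (conj_ne h.r.es.ne)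
    · rw [← conj_eq_of_C1 hz] at e; exact absurd (by simpa using e) h.ne
    · exact mem_sup_right ⟨hz, mem_C1_of_conj e⟩
    · have : a⁻¹ * m ∈ C1 z ⊓ C1 t := mem_inf.2 ⟨mul_mem (inv_mem (es_C1 h.l.es ha)) hz, mem_C1_of_conj (by
        calc _ = a⁻¹ * (m * t * m⁻¹) * a := by group
          _ = t := by rw [e, ← ea]; group)⟩
      simpa using mul_mem aX (mem_sup_right this)
  have s2 : ∀ x ∈ (Q ⊔ Q') ⊔ (C1 z ⊓ C1 t), x ∈ NN (zpowers z ⊔ zpowers t) → x * z * x⁻¹ = n * z * n⁻¹ →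
      n ∈ (Q ⊔ Q') ⊔ (C1 z ⊓ C1 t) := fun x hx hx' e => by
    have := s1 _ (mul_mem (inv_mem hx') hn) (mem_C1_of_conj (by
      calc _ = x⁻¹ * (n * z * n⁻¹) * x := by group
        _ = z := by rw [← e]; group))
    simpa using mul_mem hx this
  rcases h.memV (conj_mem_of_mem_normalizer hn (mem_sup_left (mem_zpowers z))) with e | e | e | e
  · exact absurd e (conj_ne h.l.es.ne)
  · exact s1 n hn (mem_C1_of_conj e)
  · refine s2 _ (mul_mem aX bX) (mul_mem (h.nnV ha) (h.nnV' hb)) ?_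
    calc _ = a * (b * z * b⁻¹) * a⁻¹ := by group
      _ = a * (t * z) * a⁻¹ := by rw [eb]
      _ = (a * t * a⁻¹) * (a * z * a⁻¹) := by group
      _ = _ := by rw [ea, az, e, ← h.tz, mul_assoc, h.z2, mul_one]
  · exact s2 _ bX (h.nnV' hb) (by rw [eb, e, h.tz])

theorem thm_5430 (h : LP z t Q Q') (hcj : Q' = Transfer.cj g Q) (ht : t = g * z * g⁻¹) {V : Subgroup G}
    (hV : V = zpowers z ⊔ zpowers t) (hX : X = Q ⊔ Q') (hR : R = (Q' ⊓ C1 z) ⊔ (Q ⊓ C1 t)) :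
    R = X ⊓ Subgroup.centralizer (V : Set G) ∧ R = (Cfsg.pCore 2 ↥X).map X.subtype ∧ (∃ h : (R.subgroupOf X).Normal, Nonempty (↥X ⧸ R.subgroupOf X ≃* Equiv.Perm (Fin 3))) ∧ Subgroup.normalizer (V : Set G) = X ⊔ (Subgroup.centralizer ({z} : Set G) ⊓ Subgroup.centralizer (V : Set G)) ∧ (∀ y ∈ Subgroup.normalizer (V : Set G), ∀ x ∈ X, y * x * y⁻¹ ∈ X) ∧ R ≤ Subgroup.centralizer ({z} : Set G) ⊓ Subgroup.centralizer (V : Set G) ∧ (∀ x ∈ X, ∀ c ∈ Subgroup.centralizer ({z} : Set G) ⊓ Subgroup.centralizer (V : Set G), x * c * x⁻¹ * c⁻¹ ∈ R) ∧ X ⊓ (Subgroup.centralizer ({z} : Set G) ⊓ Subgroup.centralizer (V : Set G)) = R := by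
  have cV : CC V = C1 z ⊓ C1 t := hV ▸ h.ccV
  have cV' : C1 z ⊓ CC V = C1 z ⊓ C1 t := by rw [cV, ← inf_assoc, inf_idem]
  have XR : X ≤ NN R := hX ▸ hR ▸ h.XR
  have RX : R ≤ X := hX ▸ hR ▸ h.RX
  have RC : R ≤ C1 z ⊓ C1 t := hR ▸ h.RC
  have XC : ⁅X, C1 z ⊓ C1 t⁆ ≤ R := hX ▸ hR ▸ h.XC
  haveI hn : (R.subgroupOf X).Normal := (normal_subgroupOf_iff_le_normalizer RX).2 XR
  obtain ⟨e⟩ := h.s3 hcj ht hX hR
  let f := e.toMonoidHom.comp (QuotientGroup.mk' (R.subgroupOf X))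
  have fs : Function.Surjective f := e.surjective.comp (QuotientGroup.mk'_surjective _)
  have one : ∀ x : X, f x = 1 ↔ (x : G) ∈ R := fun x =>
    (e.map_eq_one_iff (x := QuotientGroup.mk' (R.subgroupOf X) x)).trans (QuotientGroup.eq_one_iff x)
  have c8 : X ⊓ (C1 z ⊓ C1 t) = R := le_antisymm (fun x hx => by
    have k : ∀ s : Equiv.Perm (Fin 3), (∀ y : Equiv.Perm (Fin 3), ⁅y, s⁆ = 1) → s = 1 := by decide
    refine (one ⟨x, hx.1⟩).1 (k _ fun y => ?_)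
    obtain ⟨y, rfl⟩ := fs y
    rw [← map_commutatorElement, one]
    exact XC (commutator_mem_commutator y.2 hx.2)) (le_inf RX RC)
  have c4 : NN V = X ⊔ (C1 z ⊓ C1 t) := hV ▸ hX ▸ h.nV
  refine ⟨by rw [cV, c8], le_antisymm ?_ ?_, ⟨hn, ⟨e⟩⟩, by rw [cV', c4], fun y hy x hx => ?_, cV' ▸ RC,
    fun x hx c hc => XC (commutator_mem_commutator hx (cV' ▸ hc)), by rw [cV', c8]⟩
  · rw [map_pCore]; exact le_O RX XR (pi1_of_pg (hR ▸ h.pgR))
  · rintro _ ⟨x, hx, rfl⟩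
    have k : ∀ s : Equiv.Perm (Fin 3), s = 1 ∨ orderOf s = 3 ∨ ∃ y : Equiv.Perm (Fin 3), orderOf ⁅y, s⁆ = 3 := by
      haveI : Fact (Nat.Prime 3) := ⟨Nat.prime_three⟩
      have o : ∀ s : Equiv.Perm (Fin 3), s * s * s = 1 ∧ s ≠ 1 → orderOf s = 3 := fun s e =>
        orderOf_eq_prime (by rw [← e.1]; simp only [pow_succ, pow_zero, one_mul]) e.2
      have : ∀ s : Equiv.Perm (Fin 3), s = 1 ∨ (s * s * s = 1 ∧ s ≠ 1) ∨
          ∃ y : Equiv.Perm (Fin 3), ⁅y, s⁆ * ⁅y, s⁆ * ⁅y, s⁆ = 1 ∧ ⁅y, s⁆ ≠ 1 := by decide +kernel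
      exact fun s => (this s).imp_right (Or.imp (o s) fun ⟨y, e⟩ => ⟨y, o _ e⟩)
    have k2 : ∀ w ∈ pCore 2 X, orderOf (f w) ≠ 3 := fun w hw e => by
      obtain ⟨n, hn⟩ := Solv.isPGroup_pCore 2 X ⟨w, hw⟩
      have : orderOf (f w) ∣ 2 ^ n := orderOf_dvd_of_pow_eq_one (by
        rw [← map_pow, show w ^ 2 ^ n = 1 from congrArg Subtype.val hn, map_one])
      rw [e] at this
      exact absurd (Nat.prime_three.dvd_of_dvd_pow this) (by norm_num)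
    rcases k (f x) with e | e | ⟨y, e⟩
    · exact (one x).1 e
    · exact absurd e (k2 x hx)
    · obtain ⟨y, rfl⟩ := fs y
      rw [← map_commutatorElement] at e
      exact absurd e (k2 _ (comm_le_right nn_normal (commutator_mem_commutator (mem_top y) hx)))
  · have : NN V ≤ NN X := c4 ▸ sup_le (le_nn X) (hX ▸ nn_sup (inf_le_left.trans h.l.nn) (inf_le_right.trans h.r.nn))
    exact conj_mem_of_mem_normalizer (this hy) hx

end LP

theorem closure_pair (a b : G) : closure ({a, b} : Set G) = zpowers a ⊔ zpowers b := by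
  rw [Set.insert_eq, Subgroup.closure_union, zpowers_eq_closure, zpowers_eq_closure]

theorem lp_of (h : LX z Q) (h32 : 8 < #Q) (h1 : g * z * g⁻¹ ∈ Q) (h2 : g * z * g⁻¹ ≠ z) :
    LP z (g * z * g⁻¹) Q (cj g Q) := ⟨h, h.cj g, h1, h.sym h32 h1, h2⟩

theorem es_cent_odd (h : LX z Q) (hA : A ≤ C1 z) (ho : Odd #A) : ES 2 z (Q ⊓ CC A) := by
  have n := hA.trans h.nn
  have co : (#A).Coprime #Q := (pg_coprime (es_pg h.es) (pi_compl_iff_coprime.2 (Nat.coprime_two_right.2 ho))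
    (by simp)).symm
  have e := Solv.coprime_commutator_sup_centralizer n co (Or.inr (sol_of_pg (es_pg h.es)))
  have k : ⁅⁅Q, A⁆, Q ⊓ CC A⁆ ≤ ⊥ := by
    refine three_sub nn_bot nn_bot nn_bot ?_ ?_
    · rw [comm_eq_bot'.2 inf_le_right, commutator_bot_left]
    · exact (commutator_mono ((commutator_mono inf_le_left le_rfl).trans h.es.der) le_rfl).trans
        (comm_eq_bot'.2 (by rwa [cc_zpowers])).le
  refine ⟨h.es.ord, le_antisymm (fun x hx => h.cz ?_) (zpowers_le.2 ⟨⟨h.es.mem.1, le_C1_iff.1 hA⟩,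
    cc_anti inf_le_left h.es.mem.2⟩), (der_mono inf_le_left).trans h.es.der, fun x hx => h.es.pw x hx.1⟩
  rw [← e, cc_sup]
  exact ⟨comm_eq_bot'.1 (le_bot_iff.1 k) hx.1, hx.2⟩

section sec
variable {M N : Subgroup G} [hn : (N.subgroupOf M).Normal]

theorem sec_one (x : M) : QuotientGroup.mk' (N.subgroupOf M) x = 1 ↔ (x : G) ∈ N := QuotientGroup.eq_one_iff x

theorem sec_nn (hRM : R ≤ M) (hz : z ∈ M) (h1 : ∀ c ∈ M, ⁅c, z⁆ ∈ N → ∃ d ∈ M, d ∈ NN R ∧ d⁻¹ * c ∈ N) :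
    C1 (QuotientGroup.mk' (N.subgroupOf M) ⟨z, hz⟩) ≤
      NN ((R.subgroupOf M).map (QuotientGroup.mk' (N.subgroupOf M))) := fun c hc => by
  obtain ⟨c, rfl⟩ := QuotientGroup.mk'_surjective _ c
  obtain ⟨d, hd, h2, h3⟩ := h1 c c.2 ((sec_one ⁅c, ⟨z, hz⟩⁆).1 (by
    rw [map_commutatorElement]; exact commutatorElement_eq_one_iff_mul_comm.2 (mem_C1.1 hc)))
  have := (sec_one (⟨d, hd⟩⁻¹ * c)).2 h3
  rw [map_mul, map_inv, inv_mul_eq_one] at this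
  rw [← this]
  refine le_normalizer_map _ (mem_map_of_mem _ (mem_normalizer_of_conj_mem fun x hx => ?_))
  exact (conj_mem_of_mem_normalizer h2 hx : d * x * d⁻¹ ∈ R)

theorem sec_lx (hRM : R ≤ M) (hz : z ∈ R) (z2 : z * z = 1) (zN : z ∉ N) (hc : R ≤ C1 z) (hd : ⁅R, R⁆ ≤ zpowers z)
    (hp : ∀ x ∈ R, x ^ 2 ∈ zpowers z) (h1 : ∀ c ∈ M, ⁅c, z⁆ ∈ N → ∃ d ∈ M, d ∈ NN R ∧ d⁻¹ * c ∈ N)
    (h2 : ∀ c ∈ M, (∀ r ∈ R, ⁅r, c⁆ ∈ N) → c ∈ N ∨ z * c ∈ N) :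
    LX (QuotientGroup.mk' (N.subgroupOf M) ⟨z, hRM hz⟩)
      ((R.subgroupOf M).map (QuotientGroup.mk' (N.subgroupOf M))) := by
  set f := QuotientGroup.mk' (N.subgroupOf M)
  have zz : f ⟨z, hRM hz⟩ * f ⟨z, hRM hz⟩ = 1 := by
    rw [← map_mul, show (⟨z, hRM hz⟩ * ⟨z, hRM hz⟩ : M) = 1 from Subtype.ext z2, map_one]
  have zp : ∀ x : M, (x : G) ∈ zpowers z → f x ∈ zpowers (f ⟨z, hRM hz⟩) := fun x hx => by
    rcases zp2 z2 hx with e | e
    · rw [show x = 1 from Subtype.ext e, map_one]; exact one_mem _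
    · rw [show x = ⟨z, hRM hz⟩ from Subtype.ext e]; exact mem_zpowers _
  have cc : CC ((R.subgroupOf M).map f) ≤ zpowers (f ⟨z, hRM hz⟩) := fun c hc => by
    obtain ⟨c, rfl⟩ := QuotientGroup.mk'_surjective _ c
    rcases h2 c c.2 (fun r hr => (sec_one ⁅(⟨r, hRM hr⟩ : M), c⁆).1 (by
      rw [map_commutatorElement]
      exact commutatorElement_eq_one_iff_mul_comm.2 (hc _ ⟨⟨r, hRM hr⟩, hr, rfl⟩))) with e | e
    · rw [(sec_one c).2 e]; exact one_mem _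
    · have := (sec_one (⟨z, hRM hz⟩ * c)).2 e
      rw [map_mul] at this
      rw [eq_inv_of_mul_eq_one_right this]; exact inv_mem (mem_zpowers _)
  have m : f ⟨z, hRM hz⟩ ∈ (R.subgroupOf M).map f := ⟨_, hz, rfl⟩
  refine ⟨⟨orderOf_eq_prime (by rw [pow_two, zz]) fun e => zN ((sec_one _).1 e),
    le_antisymm (inf_le_right.trans cc) (zpowers_le.2 ⟨m, ?_⟩), commutator_le.2 ?_, ?_⟩,
    sec_nn hRM _ h1, cc.trans (zpowers_le.2 m)⟩
  · rintro _ ⟨y, hy, rfl⟩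
    rw [← map_mul, ← map_mul]; congr 1; exact Subtype.ext (mem_C1.1 (hc hy))
  · rintro _ ⟨x, hx, rfl⟩ _ ⟨y, hy, rfl⟩
    rw [← map_commutatorElement]; exact zp _ (hd (commutator_mem_commutator hx hy))
  · rintro _ ⟨x, hx, rfl⟩
    rw [← map_pow]; exact zp _ (hp _ hx)

theorem sec_large (hRM : R ≤ M) (hz : z ∈ R) (h : LX (QuotientGroup.mk' (N.subgroupOf M) ⟨z, hRM hz⟩)
      ((R.subgroupOf M).map (QuotientGroup.mk' (N.subgroupOf M)))) (hu : u ∈ R) (u2 : u * u = 1) (uN : u ∉ N)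
    (uz : u⁻¹ * z ∉ N) {R' : Subgroup G} (hR' : IsPGroup 2 R') (h1 : R' ≤ M) (h2 : z ∈ R')
    (h3 : ∀ c ∈ M, ⁅c, u⁆ ∈ N → ∃ d ∈ M, d ∈ NN R' ∧ d⁻¹ * c ∈ N) :
    IsLargeExtraspecial ((R.subgroupOf M).map (QuotientGroup.mk' (N.subgroupOf M))) := by
  have m : QuotientGroup.mk' (N.subgroupOf M) ⟨u, hRM hu⟩ ∈ (R.subgroupOf M).map _ := ⟨_, hu, rfl⟩
  have nz : QuotientGroup.mk' (N.subgroupOf M) ⟨u, hRM hu⟩ ∉
      zpowers (QuotientGroup.mk' (N.subgroupOf M) ⟨z, hRM hz⟩) :=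
    notMem_zp (es_z2 h.es) (fun e => uN ((sec_one _).1 e)) fun e => uz
      ((sec_one (⟨u, hRM hu⟩⁻¹ * ⟨z, hRM hz⟩)).1 (by rw [map_mul, map_inv, e, inv_mul_cancel]))
  refine h.large (fun e => nz (e m)) fun K => h.odd_bot m nz ?_ ((hR'.comap_subtype).map _) (sec_nn h1 _ h3)
    ⟨⟨z, hRM hz⟩, h2, rfl⟩
  rw [← map_mul, show (⟨u, hRM hu⟩ * ⟨u, hRM hu⟩ : M) = 1 from Subtype.ext u2, map_one]

end sec

theorem swap_conj (z2 : z * z = 1) (tz : t * z = z * t) (az : a ∈ C1 z) (bt : b ∈ C1 t)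
    (ea : a * t * a⁻¹ = z * t) (eb : b * z * b⁻¹ = t * z) (t2 : t * t = 1) : b * a * t * (b * a)⁻¹ = z := by
  calc _ = b * (a * t * a⁻¹) * b⁻¹ := by group
    _ = (b * z * b⁻¹) * (b * t * b⁻¹) := by rw [ea]; group
    _ = z := by rw [eb, conj_eq_of_C1 bt, tz, mul_assoc, t2, mul_one]

theorem comm_one_of_odd (ho : Odd #A) {c r : G} (hc : c ∈ CC A) (hr : r ∈ CC A) (h4 : r ^ 4 = 1) (h : ⁅c, r⁆ ∈ A) :
    ⁅c, r⁆ = 1 := by
  have e : c * r * c⁻¹ = ⁅c, r⁆ * r := by rw [commutatorElement_def, inv_mul_cancel_right]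
  have h1 : ⁅c, r⁆ ^ 4 = 1 := by
    have : (c * r * c⁻¹) ^ 4 = 1 := by rw [conj_pow, h4]; group
    rwa [e, (show Commute ⁅c, r⁆ r from hr _ h).mul_pow, h4, mul_one] at this
  exact orderOf_eq_one_iff.1 (Nat.eq_one_of_dvd_coprimes ((Nat.coprime_two_left.2 ho).pow_left 2)
    (orderOf_dvd_of_pow_eq_one h1) (orderOf_dvd h))

theorem es_four (h : ES 2 z Q) (hx : x ∈ Q) : x ^ 4 = 1 := by
  rw [show 4 = 2 * 2 from rfl, pow_mul]
  rcases zp2 (es_z2 h) (h.pw x hx) with e | e <;> rw [e]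
  · exact one_pow 2
  · rw [pow_two, es_z2 h]

theorem cent_sec (h : LX z Q) (ho : Odd #A) {c : G} (hc : c ∈ CC A ⊔ A) (hz : z ∈ CC A) (h1 : ⁅c, z⁆ ∈ A) :
    ∃ d ∈ CC A ⊔ A, d ∈ NN (Q ⊓ CC A) ∧ d⁻¹ * c ∈ A := by
  obtain ⟨d, hd, a, ha, rfl⟩ := (mem_sup_r (cc_le_nn A)).1 hc
  have e : ⁅d * a, z⁆ = ⁅d, z⁆ := by
    simp only [commutatorElement_def, mul_inv_rev]
    rw [mul_assoc d a z, hz a ha]; group
  have := comm_one_of_odd ho hd hz (es_four h.es h.es.mem.1) (e ▸ h1)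
  exact ⟨d, mem_sup_left hd, mem_normalizer_inf (h.nn (mem_C1.2 (commutatorElement_eq_one_iff_mul_comm.1 this)))
    (le_nn _ hd), by simpa using ha⟩

theorem thm_5428 (z : G) (hz : orderOf z = 2) (Q : Subgroup G) (hF : (Cfsg.generalizedFittingSubgroup ↥(Subgroup.centralizer ({z} : Set G))).map (Subgroup.centralizer ({z} : Set G)).subtype = Q) (hQ : Cfsg.IsExtraspecial 2 ↥Q) (A : Subgroup G) (hA : A ≤ Subgroup.centralizer ({z} : Set G)) (hAodd : Odd (Nat.card ↥A)) (R : Subgroup G) (hR : R = Q ⊓ Subgroup.centralizer (A : Set G)) (hR32 : 32 ≤ Nat.card ↥R) (hO : (Cfsg.oddCore ↥(Subgroup.centralizer ((A ⊔ R : Subgroup G) : Set G))).map (Subgroup.centralizer ((A ⊔ R : Subgroup G) : Set G)).subtype ≤ A) (h4 : ¬ 4 ∣ Nat.card ↥(Subgroup.centralizer ((A ⊔ R : Subgroup G) : Set G))) (g : G) (hgR : g * z * g⁻¹ ∈ R) (hgZ : g * z * g⁻¹ ∉ ((Subgroup.center ↥Q).map Q.subtype)) (M : Subgroup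 G) (hM : M = Subgroup.centralizer (A : Set G) ⊔ A) [hn : (A.subgroupOf M).Normal] : (M ⊓ Subgroup.centralizer ((R ⊔ A : Subgroup G) : Set G)) ⊔ A = A ⊔ ((Subgroup.center ↥Q).map Q.subtype) ∧ Cfsg.IsLargeExtraspecial ((R.subgroupOf M).map (QuotientGroup.mk' (A.subgroupOf M))) ∧ ∃ x ∈ R ⊔ ((Q).map (MulAut.conj g).toMonoidHom ⊓ Subgroup.centralizer (A : Set G)), x * (g * z * g⁻¹) * x⁻¹ = z := by
  have h := lx_of_fstar hz hF hQ
  rw [map_center_eq, h.es.cen] at hgZ ⊢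
  have eR : ES 2 z R := hR ▸ es_cent_odd h hA hAodd
  have RQ : R ≤ Q := hR ▸ inf_le_left
  have RA : R ≤ CC A := hR ▸ inf_le_right
  have RM : R ≤ M := hM ▸ RA.trans le_sup_left
  have lp := lp_of h (by have := card_le_of_le RQ; omega) (RQ hgR) fun e => hgZ (by rw [e]; exact mem_zpowers _)
  set t := g * z * g⁻¹
  have eR' : ES 2 t (cj g Q ⊓ CC A) := es_cent_odd lp.r (le_C1_iff.2 (RA hgR)) hAodd
  have zA : z ∈ CC A := RA eR.mem.1
  have RA0 : R ⊓ A = ⊥ := pg_inf (es_pg eR) (pi_compl_iff_coprime.2 (Nat.coprime_two_right.2 hAodd)) (by simp)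
  have key : CC (A ⊔ R) ≤ A ⊔ zpowers z := by
    have zY : zpowers z ≤ CC (A ⊔ R) := zpowers_le.2 (by rw [cc_sup]; exact ⟨zA, eR.mem.2⟩)
    have Yz : CC (A ⊔ R) ≤ CC (zpowers z) := cc_anti ((zpowers_le.2 eR.mem.1).trans le_sup_right)
    have c := card_mul_relIndex zY
    rw [eR.card_z] at c
    have od : Odd ((zpowers z).relIndex (CC (A ⊔ R))) := Nat.not_even_iff_odd.1 fun ⟨k, e⟩ => h4 ⟨k, by omega⟩
    obtain ⟨K, h1, -, h2, h3⟩ := Solv.sz_exists_internal zY (nn_of_cc Yz) (by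
      rw [eR.card_z]; exact Nat.coprime_two_left.2 od)
    rw [oddCore, map_pPrimeCore] at hO
    have := (le_O h1 (h2 ▸ sup_le (nn_of_cc (cc_symm (h1.trans Yz))) (le_nn K))
      (pi_compl_iff_coprime.2 (h3 ▸ Nat.coprime_two_right.2 od))).trans hO
    rw [← h2, sup_comm]; exact sup_le_sup_right this _
  refine ⟨le_antisymm (sup_le (inf_le_right.trans (sup_comm R A ▸ key)) le_sup_left)
    (sup_le le_sup_right (zpowers_le.2 (mem_sup_left ⟨RM eR.mem.1, by rw [cc_sup]; exact ⟨eR.mem.2, zA⟩⟩))),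
    ?_, ?_⟩
  · refine sec_large RM eR.mem.1 (sec_lx RM eR.mem.1 lp.z2 (fun e => eR.ne (eq_one_of_inf RA0 eR.mem.1 e))
      (es_C1 eR) eR.der eR.pw (fun c hc h1 => hR ▸ hM ▸ cent_sec h hAodd (hM ▸ hc) zA h1) fun c hc h1 => ?_)
      hgR lp.t2 (fun e => eR'.ne (eq_one_of_inf RA0 hgR e))
      (fun e => lp.ne (inv_mul_eq_one.1 (eq_one_of_inf RA0 (mul_mem (inv_mem hgR) eR.mem.1) e)))
      (es_pg eR') (hM ▸ inf_le_right.trans le_sup_left) ⟨lp.zQ, zA⟩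
      fun c hc h1 => hM ▸ cent_sec lp.r hAodd (hM ▸ hc) (RA hgR) h1
    obtain ⟨d, hd, a, ha, rfl⟩ := (mem_sup_r (cc_le_nn A)).1 (hM ▸ hc)
    have dR : d ∈ CC R := fun r hr => by
      have e : ⁅d, r⁆ = ⁅r, d * a⁆⁻¹ := by
        simp only [commutatorElement_def, mul_inv_rev, inv_inv]
        rw [show d * a * (r * (a⁻¹ * d⁻¹ * r⁻¹)) = d * (a * r) * a⁻¹ * d⁻¹ * r⁻¹ by group, RA hr a ha]; group
      exact (commutatorElement_eq_one_iff_mul_comm.1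
        (comm_one_of_odd hAodd hd (RA hr) (es_four eR hr) (e ▸ inv_mem (h1 r hr)))).symm
    obtain ⟨b, hb, y, hy, rfl⟩ := (mem_sup_l (zpowers_le.2 (cc_le_nn A zA))).1 (key (by rw [cc_sup]; exact ⟨hd, dR⟩))
    rcases zp2 lp.z2 hy with rfl | rfl
    · exact Or.inl (by simpa using mul_mem hb ha)
    · exact Or.inr (by rw [zA b hb, ← mul_assoc, ← mul_assoc, lp.z2, one_mul]; exact mul_mem hb ha)
  · obtain ⟨a, ha, ea⟩ := es_move eR hgR hgZ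
    obtain ⟨b, hb, eb⟩ := es_move eR' ⟨lp.zQ, zA⟩ lp.symm.nzp
    exact ⟨b * a, mul_mem (mem_sup_right hb) (mem_sup_left ha),
      swap_conj lp.z2 lp.tz (es_C1 eR ha) (es_C1 eR' hb) ea eb lp.t2⟩

theorem cent_sec2 (h : LX z Q) (ht : t ∈ Q) (t2 : t * t = 1) (t1 : t ≠ 1) (htz : ¬ IsConj z t) {c : G} (hc : c ∈ C1 t)
    (h1 : ⁅c, z⁆ ∈ zpowers t) : c ∈ C1 z := by
  rcases zp2 t2 h1 with e | e
  · exact mem_C1.2 (commutatorElement_eq_one_iff_mul_comm.1 e)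
  · obtain ⟨q, hq, e'⟩ := es_move h.es ht (notMem_zp (es_z2 h.es) t1 fun e => htz (e ▸ IsConj.refl _))
    refine absurd (IsConj.trans (isConj_iff.2 ⟨c, ?_⟩) (isConj_iff.2 ⟨q, e'⟩).symm) htz
    rw [← mem_C1.1 (es_C1 h.es ht), ← e, commutatorElement_def, inv_mul_cancel_right]

theorem thm_5429 (z : G) (hz : orderOf z = 2) (Q : Subgroup G) (hF : (Cfsg.generalizedFittingSubgroup ↥(Subgroup.centralizer ({z} : Set G))).map (Subgroup.centralizer ({z} : Set G)).subtype = Q) (hQ : Cfsg.IsExtraspecial 2 ↥Q) (w : ℕ) (hw : 3 ≤ w) (hcard : Nat.card ↥Q = 2 ^ (2 * w + 1)) (g : G) (hgQ : g * z * g⁻¹ ∈ Q) (hgZ : g * z * g⁻¹ ∉ ((Subgroup.center ↥Q).map Q.subtype)) (t : G) (ht : orderOf t = 2) (htQ : t ∈ Q ⊓ (Q).map (MulAut.conj g).toMonoidHom) (htz : ¬ IsConj z t) (P : Subgroup G) (hP : P = Q ⊓ Subgroup.centralizer ({t} : Set G)) (hCP : ∀ c ∈ Subgroup.centralizer ({z} : Set G), (∀ x ∈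 P, ∃ y ∈ Subgroup.closure ({t, z} : Set G), c * x * c⁻¹ = x * y) ↔ c ∈ Q) [hn : ((Subgroup.zpowers t).subgroupOf (Subgroup.centralizer ({t} : Set G))).Normal] : Cfsg.IsLargeExtraspecial ((P.subgroupOf (Subgroup.centralizer ({t} : Set G))).map (QuotientGroup.mk' ((Subgroup.zpowers t).subgroupOf (Subgroup.centralizer ({t} : Set G))))) ∧ ∃ x ∈ P ⊔ ((Q).map (MulAut.conj g).toMonoidHom ⊓ Subgroup.centralizer ({t} : Set G)), x * (g * z * g⁻¹) * x⁻¹ = z := by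
  have h := lx_of_fstar hz hF hQ
  rw [map_center_eq, h.es.cen] at hgZ
  have lp := lp_of h (lt_of_width (by omega) hcard) hgQ fun e => hgZ (by rw [e]; exact mem_zpowers _)
  have zs : IsConj z (g * z * g⁻¹) := isConj_iff.2 ⟨g, rfl⟩
  set s := g * z * g⁻¹
  have t2 : t * t = 1 := by rw [← pow_two, ← ht, pow_orderOf_eq_one]
  have t1 : t ≠ 1 := fun e => by rw [e, orderOf_one] at ht; omega
  have hts : ¬ IsConj s t := fun e => htz (zs.trans e)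
  have zt : z ∈ C1 t := mem_C1_comm.1 (es_C1 h.es htQ.1)
  have st : s ∈ C1 t := mem_C1_comm.1 (es_C1 lp.r.es htQ.2)
  have nn : ∀ {z : G} {Q : Subgroup G}, LX z Q → t ∈ Q → ¬ IsConj z t → ∀ c ∈ C1 t, ⁅c, z⁆ ∈ zpowers t →
      ∃ d ∈ C1 t, d ∈ NN (Q ⊓ C1 t) ∧ d⁻¹ * c ∈ zpowers t := fun h h1 h2 c hc h3 =>
    ⟨c, hc, mem_normalizer_inf (h.nn (cent_sec2 h h1 t2 t1 h2 hc h3)) (le_nn _ hc), by simp⟩
  have nm : ∀ {z s : G} {Q Q' : Subgroup G}, LP z s Q Q' → t ∈ Q → ¬ IsConj z t → IsConj z s →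
      s ∉ zpowers z ⊔ zpowers t := fun {z s Q Q'} l h1 h2 h3 hm => by
    rcases mem_four l.z2 t2 (mem_C1_comm.1 (es_C1 l.l.es h1)) hm with e | e | e | e
    · exact l.r.es.ne e
    · exact l.ne e
    · exact h2 (e ▸ h3)
    · obtain ⟨q, hq, e'⟩ := es_move l.l.es h1 (notMem_zp l.z2 t1 fun e => h2 (e ▸ IsConj.refl _))
      exact h2 (h3.trans (isConj_iff.2 ⟨q, e'.trans e.symm⟩).symm)
  have le : ∀ {z : G} {Q : Subgroup G}, LX z Q → t ∈ Q → zpowers z ⊔ zpowers t ≤ Q := fun h h1 =>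
    sup_le (zpowers_le.2 h.es.mem.1) (zpowers_le.2 h1)
  subst hP
  constructor
  · refine sec_large inf_le_right ⟨h.es.mem.1, zt⟩ (sec_lx inf_le_right ⟨h.es.mem.1, zt⟩ lp.z2
      (notMem_zp t2 h.es.ne fun e => htz (e ▸ IsConj.refl _)) (inf_le_left.trans (es_C1 h.es))
      ((der_mono inf_le_left).trans h.es.der) (fun x hx => h.es.pw x hx.1) (nn h htQ.1 htz) fun c hc h1 => ?_)
      ⟨hgQ, st⟩ lp.t2 (fun e => nm lp htQ.1 htz zs (mem_sup_right e)) (fun e => nm lp htQ.1 htz zs ?_)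
      ((es_pg lp.r.es).to_le inf_le_left) inf_le_right ⟨lp.zQ, zt⟩ (nn lp.r htQ.2 hts)
    · have cz : c ∈ C1 z := cent_sec2 h htQ.1 t2 t1 htz hc (by
        rw [← commutatorElement_inv]; exact inv_mem (h1 z ⟨h.es.mem.1, zt⟩))
      have cQ : c ∈ Q := (hCP c cz).1 fun x hx => ⟨⁅x, c⁆⁻¹, inv_mem (by
        rw [closure_pair]; exact mem_sup_left (h1 x hx)), by
          rw [mem_C1.1 (C1_le_of_mem_zpowers (inv_mem (h1 x hx)) hx.2), commutatorElement_inv,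
            commutatorElement_def, inv_mul_cancel_right]⟩
      have := es_ccc h.es (mem_sup_left (mem_zpowers z)) (le h htQ.1) (x := c) ⟨cQ, fun r hr => by
        have hr' : r ∈ Q ⊓ C1 t := ⟨hr.1, cc_le_C1 (mem_sup_right (mem_zpowers t)) hr.2⟩
        refine commutatorElement_eq_one_iff_mul_comm.1 ?_
        rcases zp2 t2 (h1 r hr') with e | e
        · exact e
        · exact (zp2 lp.z2 (h.es.der (commutator_mem_commutator hr.1 cQ))).resolve_right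
            fun e' => htz (e'.symm.trans e ▸ IsConj.refl _)⟩
      rcases mem_four lp.z2 t2 zt this with e | e | e | e <;> rw [e]
      · exact Or.inl (one_mem _)
      · exact Or.inr (by rw [lp.z2]; exact one_mem _)
      · exact Or.inl (mem_zpowers t)
      · exact Or.inr (by rw [← mul_assoc, lp.z2, one_mul]; exact mem_zpowers t)
    · simpa using mul_mem (mem_sup_left (mem_zpowers z) : z ∈ zpowers z ⊔ zpowers t) (inv_mem (mem_sup_right e))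
  · obtain ⟨a, ha, ea⟩ := es_dual h.es (mem_sup_left (mem_zpowers z)) (le h htQ.1) hgQ (nm lp htQ.1 htz zs)
    obtain ⟨b, hb, eb⟩ := es_dual lp.r.es (mem_sup_left (mem_zpowers s)) (le lp.r htQ.2) lp.zQ
      (nm lp.symm htQ.2 hts zs.symm)
    exact ⟨b * a, mul_mem (mem_sup_right ⟨hb.1, cc_le_C1 (mem_sup_right (mem_zpowers t)) hb.2⟩)
      (mem_sup_left ⟨ha.1, cc_le_C1 (mem_sup_right (mem_zpowers t)) ha.2⟩),
      swap_conj lp.z2 lp.tz (es_C1 h.es ha.1) (es_C1 lp.r.es hb.1) ea eb lp.t2⟩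

theorem simple_of_qs {L : Subgroup G} (h : Comp.QS L) (h1 : L ⊓ CC L = ⊥) : IsSimpleGroup L := by
  haveI := (nontrivial_iff_ne_bot L).2 h.ne_bot
  refine ⟨fun N hN => ?_⟩
  rcases h.normal (N.map L.subtype) (map_subtype_le _) (by
    have := le_normalizer_map (H := N) L.subtype
    rwa [normalizer_eq_top, ← MonoidHom.range_eq_map, range_subtype] at this) with e | e
  · exact Or.inr (map_injective L.subtype_injective (by rw [e, ← MonoidHom.range_eq_map, range_subtype]))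
  · exact Or.inl ((map_eq_bot_iff_of_injective _ L.subtype_injective).1 (eq_bot_of_le h1 (map_subtype_le _) e))

theorem LX.syl (h : LX z Q) : ∃ T, IsSyl 2 T ⊤ ∧ T ≤ C1 z := by
  obtain ⟨T, hT, hQT⟩ := exists_isSyl_ge (es_pg h.es) (es_C1 h.es)
  exact ⟨T, Tv.syl_of_center h.es.ord hT (hQT h.es.mem.1) (inf_le_right.trans ((cc_anti hQT).trans h.cz)), hT.le⟩

theorem thm_5426 (Q : Subgroup G) (hQ : Cfsg.IsLargeExtraspecial Q) (z : G) (hz : ((Subgroup.center ↥Q).map Q.subtype) = Subgroup.zpowers z) (M : Subgroup G) (hM : M = Subgroup.normalClosure ({z} : Set G)) : Q.Normal ∨ (IsMulCommutative ↥M ∧ Cfsg.generalizedFittingSubgroup G = Cfsg.pCore 2 G) ∨ (M = Cfsg.generalizedFittingSubgroup G ∧ IsSimpleGroup ↥M ∧ ¬ IsMulCommutative ↥M) ∨ (M = Cfsg.generalizedFittingSubgroup G ∧ ∃ (L : Subgroup G) (u : G), u ∈ Q ∧ IsSimpleGroup ↥L ∧ ¬ IsMulCommutative ↥L ∧ L ⊓ (L).map (MulAut.conj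 u).toMonoidHom = ⊥ ∧ (∀ x ∈ L, ∀ y ∈ (L).map (MulAut.conj u).toMonoidHom, x * y = y * x) ∧ L ⊔ (L).map (MulAut.conj u).toMonoidHom = M ∧ ∃ z₁ ∈ L, z = z₁ * (u * z₁ * u⁻¹) ∧ (∃ R : Sylow 2 ↥L, (R : Subgroup ↥L) = (Subgroup.centralizer ({z₁} : Set G)).subgroupOf L ∧ (frattini ↥(R : Subgroup ↥L)).map ((L.subtype).comp (R : Subgroup ↥L).subtype) ≤ Subgroup.zpowers z₁) ∧ Q ≠ (Cfsg.pCore 2 ↥(Subgroup.centralizer ({z} : Set G))).map (Subgroup.centralizer ({z} : Set G)).subtype) := by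
  have h := lx_of_large hQ hz
  have fix : ∀ X : Subgroup G, Q ≤ NN X → X ≠ ⊥ → z ∈ X := fun X => h.mem_of_nn hQ.2.2.2
  have z2 := es_z2 h.es
  have MN : ∀ N : Subgroup G, N.Normal → z ∈ N → M ≤ N := fun N _ hN =>
    hM ▸ normalClosure_le_normal (Set.singleton_subset_iff.2 hN)
  refine Or.inr ?_
  by_cases hE : Comp.Lay (⊤ : Subgroup G) = ⊥
  · have c : Comp.CharP 2 (⊤ : Subgroup G) := Comp.charP_iff_Lay_Opp.2 ⟨hE, by
      rw [← O1c_eq]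
      exact hQ.2.2.2 _ (Nat.coprime_two_right.1 (pi_compl_iff_coprime.1 (O_pi _ _))) (nn_O nn_top)⟩
    refine Or.inl ⟨ab_mono (ab_center (pCore 2 G)) (MN _ inferInstance (fix _ nn_normal ?_)),
      Comp.charP_top_iff_fstar.1 c⟩
    refine nil_meet (nil_of_pg (Solv.isPGroup_pCore 2 G)) le_rfl (le_nn _) fun e => h.es.ne ?_
    have := Comp.charP_top_iff.1 c
    rw [e, cc_bot] at this
    exact mem_bot.1 (this (mem_top z))
  refine Or.inr ?_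
  set E := Comp.Lay (⊤ : Subgroup G) with Edef
  have nc : ∀ K, Comp.CompIn K ⊤ → z ∉ CC K := fun K hK e =>
    hK.qs.not_le_of_isSolvable (sol_of_pg (es_pg h.es)) ((cc_symm (hK.le_centralizer_of_isSolvable le_top
      ((le_C1_iff.2 e).trans h.nn) (sol_of_pg (es_pg h.es)))).trans h.cc)
  obtain ⟨L, hL⟩ : ∃ L, Comp.CompIn L (⊤ : Subgroup G) := by
    by_contra e; exact hE (Comp.Lay_eq_bot_iff.2 fun K hK => e ⟨K, hK⟩)
  have cE : CC E = ⊥ := by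
    by_contra e; exact nc L hL (cc_anti hL.le_Lay (fix _ nn_normal e))
  have zE : z ∈ E := fix _ nn_normal hE
  haveI Mn : M.Normal := hM ▸ normalClosure_normal
  have ME : M = E := le_antisymm (MN _ inferInstance zE) (Comp.Lay_le_iff.2 fun K hK =>
    (hK.le_or_le_centralizer (Comp.SubnIn.of_normal M)).resolve_right fun e =>
      nc K hK (e (hM ▸ subset_normalClosure rfl)))
  have hMF : M = generalizedFittingSubgroup G := by
    rw [← Comp.Fstar_top, Comp.Fstar, ME, le_bot_iff.1 ((Comp.Fit_le_centralizer_Lay ⊤).trans cE.le), sup_bot_eq]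
  have L'c : Comp.LayNot ⊤ L ≤ CC L := Comp.LayNot_le_centralizer hL.subn
  have LL' : L ⊔ Comp.LayNot ⊤ L = E := hL.sup_LayNot
  have zL : L ⊓ CC L = ⊥ := eq_bot_iff.2 (by
    rw [← cE, ← LL']; exact le_cc_sup inf_le_right (inf_le_left.trans (cc_symm L'c)))
  have sL := simple_of_qs hL.qs zL
  have aL : ¬ IsMulCommutative L := fun e => hL.qs.not_le_centralizer (ab_cc e)
  by_cases h0 : Comp.LayNot ⊤ L = ⊥
  · rw [h0, sup_bot_eq, ← ME] at LL'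
    exact Or.inl ⟨hMF, LL' ▸ sL, LL' ▸ aL⟩
  refine Or.inr ⟨hMF, ?_⟩
  obtain ⟨u, hu, huL⟩ : ∃ u ∈ Q, u ∉ NN L := SetLike.not_le_iff_exists.1 fun e => nc L hL (fix (E ⊓ CC L)
    (nn_inf nn_normal (nn_cc e)) fun e => h0 (eq_bot_iff.2 (e ▸ le_inf (Comp.LayNot_le _ _) L'c))).2
  have cL : ∀ g, Comp.CompIn (cj g L) ⊤ := fun g => hL.cj_of_mem (nn_top (mem_top g))
  have cc : ∀ g, cj g L ≠ L → cj g L ≤ CC L := fun g e => (cL g).le_centralizer_of_ne hL e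
  have u1 : cj u L ≠ L := fun e => huL (mem_normalizer_iff_cj.2 e)
  have sqN : ∀ q ∈ Q, cj (q * q) L = L := fun q hq =>
    cj_nn (hL.Lay_le_normalizer (zpowers_le.2 zE (by rw [← pow_two]; exact h.es.pw q hq)))
  have uniq : ∀ a ∈ L, ∀ a' ∈ L, ∀ s ∈ CC L, ∀ s' ∈ CC L, a * s = a' * s' → a = a' := fun a ha a' ha' s hs s' hs' e => by
    have : a'⁻¹ * a = s' * s⁻¹ := by rw [eq_mul_inv_of_mul_eq e]; group
    exact (inv_mul_eq_one.1 (eq_one_of_inf zL (mul_mem (inv_mem ha') ha) (this ▸ mul_mem hs' (inv_mem hs)))).symm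
  obtain ⟨z₁, h1, z', h2, ez⟩ := (mem_sup_l (nn_of_cc L'c)).1 (LL' ▸ zE)
  replace h2 := L'c h2
  have proj : ∀ x ∈ L, ∀ s ∈ CC L, x * s ∈ zpowers z → x ∈ zpowers z₁ := fun x hx s hs e => by
    rcases zp2 z2 e with e | e
    · rw [uniq x hx 1 (one_mem _) s hs 1 (one_mem _) (by rw [e, mul_one])]; exact one_mem _
    · rw [uniq x hx z₁ h1 s hs z' h2 (e.trans ez)]; exact mem_zpowers _
  have y2 : z₁ * z₁ = 1 := uniq _ (mul_mem h1 h1) 1 (one_mem _) _ (mul_mem h2 h2) 1 (one_mem _) (by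
    rw [mul_one, ← z2, ez]
    calc z₁ * z₁ * (z' * z') = z₁ * (z₁ * z') * z' := by group
      _ = z₁ * (z' * z₁) * z' := by rw [h2 z₁ h1]
      _ = _ := by group)
  have y1 : z₁ ≠ 1 := fun e => nc L hL (by rw [ez, e, one_mul]; exact h2)
  have RR : L ⊓ C1 z₁ = L ⊓ C1 z := by
    ext x
    refine and_congr_right fun hx => mem_C1.trans (Iff.trans ?_ mem_C1.symm)
    rw [ez, ← mul_assoc, mul_assoc z₁, ← h2 x hx, ← mul_assoc, mul_left_inj]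
  obtain ⟨T, hT, hTz⟩ := h.syl
  have sS : IsSyl 2 (T ⊓ E ⊓ L) L :=
    (hT.inf_of_le_normalizer le_top nn_normal).inf_of_le_normalizer hL.le_Lay hL.Lay_le_normalizer
  have SR : T ⊓ E ⊓ L ≤ L ⊓ C1 z₁ := RR ▸ le_inf inf_le_right (inf_le_left.trans (inf_le_left.trans hTz))
  have big : ¬ L ⊓ C1 z₁ ≤ zpowers z₁ := fun e => by
    have e1 := sS.eq_of_le (elem_isPGroup (elem_zpowers (by rw [pow_two, y2]))) (zpowers_le.2 h1) (SR.trans e)
    rw [← e1] at sS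
    have := ab_syl_focal sS (ab_of_cyc (cyc_zpowers z₁))
    rw [hL.qs.perfect, inf_eq_left.2 (sS.le.trans le_sup_left), comm_eq_bot'.2 (fun g hg => by
      rw [cc_zpowers]
      exact mem_C1_of_conj ((zp2 y2 (conj_mem_of_mem_normalizer hg.2 (mem_zpowers z₁))).resolve_left (conj_ne y1))),
      zpowers_eq_bot] at this
    exact y1 this
  have cQ : ∀ x ∈ L ⊓ C1 z₁, x * (u * x⁻¹ * u⁻¹) ∈ Q := fun x hx => by
    have := mul_mem (conj_mem_of_mem_normalizer (h.nn (RR ▸ hx).2) hu) (inv_mem hu)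
    simpa [mul_assoc] using this
  have sC : ∀ x ∈ L, u * x⁻¹ * u⁻¹ ∈ CC L := fun x hx => cc u u1 (conj_mem_cj (inv_mem hx))
  have sq : ∀ x ∈ L ⊓ C1 z₁, x ^ 2 ∈ zpowers z₁ := fun x hx =>
    proj _ (pow_mem hx.1 2) _ (pow_mem (sC x hx.1) 2) (by
      rw [← (show Commute x _ from sC x hx.1 x hx.1).mul_pow]; exact h.es.pw _ (cQ x hx))
  have two : ∀ q ∈ Q, cj q L = L ∨ cj q L = cj u L := fun q hq => by
    by_contra hc
    rw [not_or] at hc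
    refine big fun x hx => proj x hx.1 (u * x⁻¹ * u⁻¹ * (q * (u * x * u⁻¹) * q⁻¹ * (q * x⁻¹ * q⁻¹)))
      (mul_mem (sC x hx.1) (mul_mem (cc (q * u) (fun e => hc.2 ?_) ?_) (cc q hc.1 (conj_mem_cj (inv_mem hx.1))))) ?_
    · rw [← cj_inj (g := q), cj_cj, cj_cj, sqN q hq, e]
    · rw [← cj_cj]; exact conj_mem_cj (conj_mem_cj hx.1)
    · have := h.es.der (commutator_mem_commutator (cQ x hx) hq)
      convert this using 1
      rw [commutatorElement_def]; group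
  have EL : L ⊔ cj u L = E := le_antisymm (sup_le hL.le_Lay (cL u).le_Lay) (Comp.Lay_le_iff.2 fun K hK => by
    by_contra e
    refine nc L hL (cc_anti le_sup_left (fix (E ⊓ CC (L ⊔ cj u L)) (nn_inf nn_normal (nn_cc fun q hq =>
      mem_normalizer_of_cj_le ?_)) fun e1 => hK.qs.ne_bot (eq_bot_iff.2 (e1 ▸ le_inf hK.le_Lay (le_cc_sup
        (hK.le_centralizer_of_ne hL fun e2 => e (e2 ▸ le_sup_left))
        (hK.le_centralizer_of_ne (cL u) fun e2 => e (e2 ▸ le_sup_right)))))).2)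
    rw [cj_sup, cj_cj]
    refine sup_le ?_ ?_
    · rcases two q hq with e | e <;> rw [e]
      exacts [le_sup_left, le_sup_right]
    · rcases two _ (mul_mem hq hu) with e | e <;> rw [e]
      exacts [le_sup_left, le_sup_right])
  have pR : IsPGroup 2 (L ⊓ C1 z₁ : Subgroup G) := fun x => ⟨2, Subtype.ext (by
    show (x : G) ^ 2 ^ 2 = 1
    rw [show 2 ^ 2 = 2 * 2 from rfl, pow_mul]
    rcases zp2 y2 (sq x x.2) with e | e <;> rw [e]
    · exact one_pow 2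
    · rw [pow_two, y2])⟩
  refine ⟨L, u, hu, sL, aL, eq_bot_of_le zL inf_le_left (inf_le_right.trans (cc u u1)),
    fun x hx y hy => cc u u1 hy x hx, EL.trans ME.symm, z₁, h1, ?_, ?_, fun e => big fun x hx => ?_⟩
  · obtain ⟨a, ha, b, hb, e⟩ := (mem_sup_l (nn_of_cc (cc u u1))).1 (EL ▸ zE)
    obtain rfl : z₁ = a := uniq _ h1 _ ha _ h2 _ (cc u u1 hb) (ez.symm.trans e)
    have m : u * b * u⁻¹ ∈ L := by rw [← sqN u hu, ← cj_cj]; exact conj_mem_cj hb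
    have m' : u * z₁ * u⁻¹ ∈ CC L := cc u u1 (conj_mem_cj h1)
    have e1 : z = u * b * u⁻¹ * (u * z₁ * u⁻¹) := by
      rw [m' _ m, ← conj_eq_of_C1 (es_C1 h.es hu), e]; group
    rwa [uniq _ m _ h1 _ m' _ h2 (e1.symm.trans ez)] at e1
  · have s := sS.of_card_le pR inf_le_left (card_le_of_le SR)
    obtain ⟨R, hR⟩ := s.exists_sylow_sub
    rw [inf_subgroupOf_left] at hR
    refine ⟨R, hR, ?_⟩
    have k : ∀ x ∈ (R : Subgroup L), x ^ 2 ∈ (zpowers z₁).subgroupOf L := fun x hx => sq x ⟨x.2, (hR ▸ hx :)⟩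
    rw [← map_map]
    exact (map_mono (Solv.map_frattini_le_of_commutator_le_of_pow_mem (Tv.comm_le_of_sq k) k)).trans
      (map_comap_le _ _)
  · rw [map_pCore] at e
    have : x ∈ Q := e ▸ le_O_of_subn (RR ▸ hL.subn.inf_of_le le_top) (pi1_of_pg pR) hx
    refine proj x hx.1 _ (sC x hx.1) ?_
    simpa [commutatorElement_def, mul_assoc] using h.es.der (commutator_mem_commutator this hu)

end Cfsg.Agent.PU
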