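/-
Solvable groups of real elements, irrational 2-groups, element order statistics.
-/
import Cfsg.Agent.Lib.PU.Ms5
import Cfsg.Agent.Lib.PU.XS2
import Cfsg.Agent.Lib.MS.Pre1
import Cfsg.Agent.Lib.Solv.Fact
import Mathlib.Algebra.Group.Shrink

set_option autoImplicit false
set_option linter.unusedSectionVars false
set_option linter.unusedVariables false
set_option linter.style.haveILetI false
set_option linter.unusedSimpArgs false

namespace Cfsg.Agent.PU

open Subgroup Cfsg.Agent.Transfer Cfsg.Agent.MS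
open scoped commutatorElement

universe u
variable {G : Type u} [Group G] [Finite G]
variable {A B C E H K M N P Q R S U V W X Y Z : Subgroup G} {a b g t u v w x y z : G} {k p : ℕ}

theorem top_of_conj (h : ∀ x, ∃ c, c * x * c⁻¹ ∈ C) : C = ⊤ := by
  classical
  have := Fintype.ofFinite G
  have := Fintype.ofFinite (G ⧸ C)
  obtain ⟨_⟩ := (MulAction.pretransitive_iff_unique_quotient_of_nonempty G (G ⧸ C)).1 inferInstance
  have h1 := MulAction.sum_card_fixedBy_eq_card_orbits_mul_card_group G (G ⧸ C)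
  have h2 := (Finset.sum_eq_sum_iff_of_le (s := Finset.univ) (f := fun _ => 1)
    (g := fun g : G => Fintype.card (MulAction.fixedBy (G ⧸ C) g)) fun x _ => by
      obtain ⟨c, hc⟩ := h x
      have : Nonempty (MulAction.fixedBy (G ⧸ C) x) := ⟨⟨(c⁻¹ : G), QuotientGroup.eq.2 (by
        simpa [mul_assoc] using C.inv_mem hc)⟩⟩
      exact Fintype.card_pos).1 (by rw [h1]; simp) 1 (Finset.mem_univ _)
  rw [← Nat.card_eq_fintype_card, MulAction.fixedBy_one_eq_univ, Nat.card_univ] at h2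
  exact index_eq_one.1 h2.symm

theorem piE_odd : PiE {2}ᶜ x ↔ Odd (orderOf x) := by
  rw [← Nat.card_zpowers, odd_iff_coprime_two]; exact pi_compl_iff_coprime

theorem exists_two_inv (h : IsConj x x⁻¹) : ∃ y, PiE {2} y ∧ y * x * y⁻¹ = x⁻¹ := by
  obtain ⟨g, hg⟩ := isConj_iff.1 h
  obtain ⟨a, ha, a1, a2⟩ := exists_part {2} g
  have g2 : g ^ 2 ∈ C1 x := mem_C1_of_conj (by
    rw [show g ^ 2 * x * (g ^ 2)⁻¹ = g * (g * x * g⁻¹) * g⁻¹ by rw [pow_two]; group, hg, ← conj_inv, hg, inv_inv])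
  obtain ⟨k, hk⟩ := mem_zpowers_iff.1 (mul_mem (inv_mem ha) (mem_zpowers g))
  have := conj_eq_of_C1 (Comp.mem_of_pow_mem_of_coprime (odd_iff_coprime_two.1 (piE_odd.1 a2)) (H := C1 x) (by
    rw [← hk, ← zpow_natCast, ← zpow_mul, mul_comm, zpow_mul, zpow_natCast]; exact zpow_mem g2 k))
  exact ⟨a, a1, by rw [← hg]; nth_rw 1 [← this]; group⟩

theorem pg_fix [Fact p.Prime] (hA : IsPGroup p A) (hB : IsPGroup p B) (h : A ≤ NN B) (h0 : B ≠ ⊥) : B ⊓ CC A ≠ ⊥ :=
  fun e => nil_meet (nil_of_pg (pg_sup_l hB hA h)) le_sup_left (sup_le (le_nn B) h) h0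
    (le_bot_iff.1 (e ▸ inf_le_inf_left _ (cc_anti le_sup_right)))

theorem odd_eq_one (hV : IsPGroup 2 V) (hn : w ∈ NN V) (ho : Odd (orderOf w)) (hy : y ∈ V) (h : y * w * y⁻¹ = w⁻¹) :
    w = 1 := by
  have : w ^ 2 ∈ V := by
    rw [show w ^ 2 = w * y * w⁻¹ * y⁻¹ by rw [mul_assoc, mul_assoc, ← mul_assoc y, ← conj_inv, h, inv_inv, pow_two]]
    exact mul_mem (conj_mem_of_mem_normalizer hn hy) (inv_mem hy)
  exact eq_one_of_odd_of_mem hV (Comp.mem_of_pow_mem_of_coprime (odd_iff_coprime_two.1 ho) this) ho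

theorem real_core (hs : Group.IsSolvable G) (h0 : O {2}ᶜ (⊤ : Subgroup G) = ⊥) (hr : ∀ x : G, IsConj x x⁻¹)
    (h1 : ∀ s t : G, orderOf s = 2 → orderOf t = 2 → IsConj s t) (hx : orderOf x = 2) (hy : orderOf y = 2) : x = y := by
  have c := cc_O_le (p := 2) (H := (⊤ : Subgroup G)) inferInstance h0
  have n : O {2} (⊤ : Subgroup G) ≠ ⊥ := fun e => ne_one_of_orderOf hx (mem_bot.1 (e ▸ c ⟨mem_top x, by rw [e, cc_bot]; exact mem_top x⟩))
  set V := omegaOne 2 (O {2} ⊤ ⊓ CC (O {2} (⊤ : Subgroup G)))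
  have nV : (⊤ : Subgroup G) ≤ NN V := le_top.trans (nn_omega (nn_inf (nn_O nn_top) (nn_cc (nn_O nn_top))))
  have eV : IsElementaryAbelian 2 V := omega_elem (ab_center _)
  obtain ⟨z, hz, z2⟩ := Solv.exists_subgroup_card_prime Nat.prime_two (pg_dvd (elem_isPGroup eV) (omega_ne_bot
    (pg_dvd ((O_pg _).to_le inf_le_left) (pg_fix (O_pg _) (O_pg _) (le_nn _) n))))
  have iV : ∀ s, orderOf s = 2 → s ∈ V := fun s hs => by
    obtain ⟨c, rfl⟩ := isConj_iff.1 (h1 z s z2 hs); exact conj_mem_of_mem_normalizer (nV (mem_top c)) hz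
  have k : C1 z = ⊤ := top_of_conj fun g => by
    have o := piE_odd.1 (part_pi {2}ᶜ g)
    have : V ⊓ C1 (part {2}ᶜ g) ≠ ⊥ := by
      by_cases e : part {2}ᶜ g = 1
      · rw [e, C1_one, inf_top_eq]; exact fun e => ne_one_of_orderOf z2 (mem_bot.1 (e ▸ hz))
      obtain ⟨y, y1, y2⟩ := exists_two_inv (hr (part {2}ᶜ g))
      have y3 : y ∉ V := fun k => e (odd_eq_one (elem_isPGroup eV) (nV (mem_top _)) o k y2)
      obtain ⟨i, hi, i2⟩ := Solv.exists_subgroup_card_prime Nat.prime_two (pg_dvd (pg_of_pi (y1.of_mem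
        (pow_mem (mem_zpowers y) 2))) fun k => y3 (by
          by_cases e : y = 1
          · exact e ▸ one_mem V
          exact iV _ (orderOf_eq_prime (zpowers_eq_bot.1 k) e)))
      refine fun k => ne_one_of_orderOf i2 (eq_one_of_inf k (iV i i2) (zpowers_le.2 (mem_C1_of_conj ?_) hi))
      rw [show ∀ x, y ^ 2 * x * (y ^ 2)⁻¹ = y * (y * x * y⁻¹) * y⁻¹ from fun x => by rw [pow_two]; group, y2,
        ← conj_inv, y2, inv_inv]
    obtain ⟨⟨v, hv⟩, v1⟩ := ne_bot_iff_exists_ne_one.1 (pg_fix (pg_of_pi (part_pi {2} g))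
      ((elem_isPGroup eV).to_le inf_le_left) (nn_inf (le_top.trans nV) (nn_C1 (zpowers_le.2 (ab_le_cc (ab_of_cyc (cyc_zpowers g))
        le_rfl le_rfl (part_mem _ g) |> cc_le_C1 (part_mem _ g))))) this)
    obtain ⟨c, hc⟩ := isConj_iff.1 (h1 v z (orderOf_eq_prime (eV.2 v hv.1.1) fun e => v1 (Subtype.ext e)) z2)
    have : g ∈ C1 v := part_mul_part {2} g ▸ mul_mem (mem_C1_comm.1 (cc_le_C1 (mem_zpowers _) hv.2)) (mem_C1_comm.1 hv.1.2)
    exact ⟨c, mem_C1.2 (by rw [← hc]; have := mem_C1.1 this; simp only [mul_assoc, inv_mul_cancel_left]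
                           rw [← mul_assoc g, this, mul_assoc])⟩
  have : ∀ s, orderOf s = 2 → s = z := fun s hs => by
    obtain ⟨c, rfl⟩ := isConj_iff.1 (h1 z s z2 hs); exact conj_eq_of_C1 (k.ge (mem_top c))
  rw [this x hx, this y hy]

theorem cyc_or_quat (hS : IsPGroup 2 S) (h : ∀ s ∈ S, ∀ t ∈ S, orderOf s = 2 → orderOf t = 2 → s = t) :
    IsCyclic S ∨ ∃ (a b : G) (m : ℕ), 1 ≤ m ∧ orderOf a = 2 ^ (m + 1) ∧ b ∉ zpowers a ∧
      S = zpowers a ⊔ zpowers b ∧ #S = 2 ^ (m + 2) ∧ b ^ 2 = a ^ 2 ^ m ∧ b * a * b⁻¹ = a⁻¹ :=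
  (Solv.isCyclic_or_quaternion hS fun E h1 h2 h3 h4 => by
    have e : El 2 2 E S := ⟨h1, ⟨h3, h4⟩, h2⟩
    obtain ⟨⟨x, hx⟩, x1⟩ := ne_bot_iff_exists_ne_one.1 e.ne_bot
    refine e.not_cyc (cyc_mono (cyc_zpowers x) fun y hy => ?_)
    by_cases k : y = 1
    · exact k ▸ one_mem _
    exact h x (h1 hx) y (h1 hy) (orderOf_eq_prime (h4 x hx) fun e => x1 (Subtype.ext e)) (orderOf_eq_prime (h4 y hy) k) ▸
      mem_zpowers x).imp_right (·.2)

theorem real_core4 (hs : Group.IsSolvable G) (h0 : O {2}ᶜ (⊤ : Subgroup G) = ⊥) (hr : ∀ x : G, IsConj x x⁻¹)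
    (h1 : ∀ s t : G, orderOf s = 2 → orderOf t = 2 → IsConj s t) (h4 : ∀ s t : G, orderOf s = 4 → orderOf t = 4 → IsConj s t)
    (hS : IsSyl 2 S ⊤) : IsCyclic S := by
  have u := @real_core G _ _
  obtain ⟨a, b, m, m1, e1, e2, e3, -, e4, e5⟩ | h := (cyc_or_quat hS.pgroup fun s _ t _ => u hs h0 hr h1).symm
  swap; · exact h
  have c := cc_O_le (p := 2) (H := (⊤ : Subgroup G)) inferInstance h0
  have nR : (⊤ : Subgroup G) ≤ NN (O {2} (⊤ : Subgroup G)) := nn_O nn_top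
  have ne : a ^ 2 ^ m ≠ 1 := pow_ne_one_of_lt_orderOf (by positivity) (e1 ▸ Nat.pow_lt_pow_right one_lt_two m.lt_succ_self)
  have o4 : ∀ {s : G}, s ^ 2 = a ^ 2 ^ m → orderOf s = 4 := fun e => orderOf_eq_prime_pow (p := 2) (n := 1)
    (by rwa [pow_one, e]) (by rw [pow_two 2, pow_mul, e, ← pow_mul, ← pow_succ, ← e1, pow_orderOf_eq_one])
  obtain ⟨r, r1, r2⟩ : ∃ r ∈ O {2} (⊤ : Subgroup G), orderOf r = 4 := by
    by_contra! k
    have : a ∈ O {2} (⊤ : Subgroup G) := c ⟨mem_top a, fun r hr' => by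
      obtain ⟨j, hj⟩ := Solv.exists_orderOf_eq_pow (O_pg _) hr'
      match j, hj with
      | 0, hj => simp [orderOf_eq_one_iff.1 hj]
      | 1, hj => exact (mul_inv_eq_iff_eq_mul.1 (u hs h0 hr h1 ((orderOf_conj a r).trans hj) hj)).symm
      | j + 2, hj => exact absurd (by rw [orderOf_pow, hj, Nat.gcd_eq_right (pow_dvd_pow 2 (by omega)),
          Nat.pow_div (by omega) two_pos]; simp) (k _ (pow_mem hr' (2 ^ j)))⟩
    exact k _ (pow_mem this (2 ^ (m - 1))) (o4 (by rw [← pow_mul, ← pow_succ, Nat.sub_add_cancel m1]))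
  have i4 : ∀ s, orderOf s = 4 → s ∈ O {2} (⊤ : Subgroup G) := fun s hs => by
    obtain ⟨c, rfl⟩ := isConj_iff.1 (h4 r s r2 hs); exact conj_mem_of_mem_normalizer (nR (mem_top c)) r1
  have hb := i4 b (o4 e4)
  have ha := (mul_mem_cancel_right hb).1 (i4 (a * b) (o4 (by
    rw [← e4, show (a * b) ^ 2 = a * (b * a * b⁻¹) * b ^ 2 by simp only [pow_two]; group, e5, mul_inv_cancel, one_mul])))
  have eR : O {2} ⊤ = S := hS.eq_of_le (O_pg _) le_top (e3 ▸ sup_le (zpowers_le.2 ha) (zpowers_le.2 hb))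
  have : (⊤ : Subgroup G) ≤ NN (zpowers a) := fun g _ => by
    obtain ⟨y, y1, y2⟩ := exists_two_inv (hr (part {2}ᶜ g))
    have m : ∀ {y}, PiE {2} y → y ∈ O {2} (⊤ : Subgroup G) := fun h =>
      h.mem_hall (eR ▸ hall_of_syl hS) (mem_top _) (nR (mem_top _))
    have := m (part_eq_one.1 (odd_eq_one (O_pg _) (nR (mem_top _)) (piE_odd.1 (part_pi _ g)) (m y1) y2) |>.sub
      (compl_compl _).le)
    rw [eR, e3] at this
    exact sup_le (le_nn _) (zpowers_le.2 (mem_normalizer_zpowers (e5 ▸ inv_mem (mem_zpowers a)))) this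
  obtain ⟨c, hc⟩ := isConj_iff.1 (h4 (a ^ 2 ^ (m - 1)) b (o4 (by rw [← pow_mul, ← pow_succ, Nat.sub_add_cancel m1])) (o4 e4))
  exact absurd (hc ▸ conj_mem_of_mem_normalizer (this (mem_top c)) (pow_mem (mem_zpowers a) _)) e2

theorem piE_map {Q : Type u} [Group Q] [Finite Q] (f : G →* Q) {π : Set ℕ} (h : PiE π x) : PiE π (f x) := by
  have := IsPi.map h f; rwa [MonoidHom.map_zpowers] at this

theorem lift_pi {Q : Type u} [Group Q] [Finite Q] {f : G →* Q} {π : Set ℕ} (hf : Function.Surjective f)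
    (ho : IsPi πᶜ f.ker) {y : Q} (hy : PiE π y) : ∃ x, f x = y ∧ orderOf x = orderOf y := by
  obtain ⟨g, rfl⟩ := hf y
  have e : f (part π g) = f g := (part_eq (by rw [← map_mul, ← map_mul, part_compl, part_comm]) (piE_map f (part_pi π g))
    (piE_map f (part_pi πᶜ g))).symm.trans (by rw [← map_mul, part_mul_part, part_self hy])
  exact ⟨_, e, Nat.dvd_antisymm (orderOf_dvd_of_pow_eq_one (((part_pi π g).of_mem (pow_mem (mem_zpowers _) _)).eq_one
    (ho.piE (by rw [MonoidHom.mem_ker, map_pow, e, pow_orderOf_eq_one])))) (e ▸ orderOf_map_dvd f _)⟩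

theorem exists_quot (h : (⊤ : Subgroup G) ≤ NN N) : ∃ (Q : Type u) (_ : Group Q) (_ : Finite Q) (f : G →* Q),
    Function.Surjective f ∧ f.ker = N :=
  haveI : N.Normal := normalizer_eq_top_iff.1 (eq_top_iff.2 h)
  ⟨G ⧸ N, _, inferInstance, _, QuotientGroup.mk'_surjective N, QuotientGroup.ker_mk' N⟩

theorem real_quot [Group.IsSolvable G] (hr : ∀ x : G, IsConj x x⁻¹)
    (h1 : ∀ s t : G, orderOf s = 2 → orderOf t = 2 → IsConj s t) (hS : IsSyl 2 S ⊤) :
    (∀ s ∈ S, ∀ t ∈ S, orderOf s = 2 → orderOf t = 2 → s = t) ∧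
      ((∀ s t : G, orderOf s = 4 → orderOf t = 4 → IsConj s t) → IsCyclic S) := by
  obtain ⟨Q, _, _, f, sj, k⟩ := exists_quot (N := O {2}ᶜ (⊤ : Subgroup G)) (nn_O nn_top)
  have o : IsPi {2}ᶜ f.ker := k ▸ O_pi _ _
  haveI := solvable_of_surjective sj
  have h0 := map_O (π := {2}ᶜ) (H := ⊤) f (o.mono inf_le_right)
  rw [map_top_of_surjective _ sj, ← k, map_ker_self] at h0
  have r : ∀ x, IsConj x x⁻¹ := fun x => by obtain ⟨x, rfl⟩ := sj x; exact map_inv f x ▸ f.map_isConj (hr x)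
  have c : ∀ n, (∀ s t : G, orderOf s = 2 ^ n → orderOf t = 2 ^ n → IsConj s t) →
      ∀ s t : Q, orderOf s = 2 ^ n → orderOf t = 2 ^ n → IsConj s t := fun n h s t hs ht => by
    have : ∀ {s : Q}, orderOf s = 2 ^ n → PiE {2} s := fun h =>
      pi1_of_pg (IsPGroup.of_card ((Nat.card_zpowers _).trans h))
    obtain ⟨s, rfl, e⟩ := lift_pi sj o (this hs)
    obtain ⟨t, rfl, e'⟩ := lift_pi sj o (this ht)
    exact f.map_isConj (h s t (e.trans hs) (e'.trans ht))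
  have i : ∀ s ∈ S, f s = 1 → s = 1 := fun s hs e => eq_one_of_inf (pg_inf hS.pgroup o (by simp)) hs e
  have o2 : ∀ s ∈ S, orderOf s = 2 → orderOf (f s) = 2 := fun s hs e => orderOf_eq_prime
    (by rw [← map_pow, ← e, pow_orderOf_eq_one, map_one]) fun k => ne_one_of_orderOf e (i s hs k)
  refine ⟨fun s hs t ht e e' => mul_inv_eq_one.1 (i _ (mul_mem hs (inv_mem ht)) (by
    rw [map_mul, map_inv, real_core inferInstance h0.symm r (c 1 h1) (o2 s hs e) (o2 t ht e'), mul_inv_cancel])), fun h4 => ?_⟩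
  haveI := real_core4 inferInstance h0.symm r (c 1 h1) (c 2 h4) (map_top_of_surjective _ sj ▸ hS.map f)
  exact isCyclic_of_injective (f.subgroupMap S) ((injective_iff_map_eq_one _).2 fun s e =>
    Subtype.ext (i s s.2 (congrArg Subtype.val e)))

theorem real_cyc (hr : ∀ x : G, IsConj x x⁻¹) (he : 2 ∣ #G) (hS : IsSyl 2 S ⊤) (h : IsCyclic S) : #S = 2 := by
  obtain ⟨a, -, rfl⟩ := exists_zpowers h
  obtain ⟨y, y1, y2⟩ := exists_two_inv (hr a)
  have := conj_eq_of_C1 (ab_le_cc (ab_of_cyc h) le_rfl le_rfl (y1.mem_hall (hall_of_syl hS) (mem_top y)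
    (mem_normalizer_zpowers (y2 ▸ inv_mem (mem_zpowers a)))) |> cc_le_C1 (mem_zpowers a))
  rw [Nat.card_zpowers]
  exact orderOf_eq_prime (by rw [pow_two]; exact eq_inv_iff_mul_eq_one.1 (this.symm.trans y2))
    fun e => syl_ne_bot hS (card_top (G := G) ▸ he) (zpowers_eq_bot.2 e)

theorem npc_two (hS : IsSyl 2 S ⊤) (h : #S = 2) : O {2}ᶜ ⊤ ⊔ S = ⊤ := by
  have pr : (#S).Prime := h ▸ Nat.prime_two
  refine (burnside hS fun g hg => by_contra fun e => ?_).sup hS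
  obtain ⟨t, ht, t1⟩ := Solv.exists_subgroup_card_prime (A := S) Nat.prime_two (dvd_of_eq h.symm)
  rw [← prime_cc pr ht (ne_one_of_orderOf t1)] at e
  rcases zp2 (mul_self_of_orderOf t1) (prime_eq_zpowers pr ht (ne_one_of_orderOf t1) ▸ conj_mem_of_mem_normalizer hg.2 ht)
    with k | k
  exacts [ne_one_of_orderOf t1 (by simpa using k), e (mem_C1_of_conj k)]

theorem real_two (hr : ∀ x : G, IsConj x x⁻¹) (hS : IsSyl 2 S ⊤) (h : #S = 2) :
    O {2}ᶜ ⊤ ⊔ S = ⊤ ∧ ∀ t ∈ S, t ≠ 1 → ∀ x ∈ O {2}ᶜ (⊤ : Subgroup G), t * x * t⁻¹ = x⁻¹ := by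
  have pr : (#S).Prime := h ▸ Nat.prime_two
  have t2 : ∀ t ∈ S, t * t = 1 := fun t ht => by rw [← pow_two, ← h]; exact Solv.pow_card_eq_one_of_mem ht
  refine ⟨npc_two hS h, fun t ht t1 x hx => Solv.inverts_of_fpf
    (nn_O nn_top (mem_top t)) (eq_bot_iff.2 fun x hx => ?_) (t2 t ht) hx⟩
  obtain ⟨y, y1, y2⟩ := exists_two_inv (hr (x * t))
  have c : x * t = t * x := mem_C1.1 hx.2
  have o := (O_pi _ _).piE hx.1
  have := inverts_of_mem_zpowers y2 (part_eq' c o ((pi1_of_pg hS.pgroup).compl_compl.piE ht) ▸ part_mem _ _)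
  rw [inv_self (t2 t ht)] at this
  have hy := y1.mem_hall (hall_of_syl hS) (mem_top y) (cc_le_nn S (prime_cc pr ht t1 ▸ mem_C1_of_conj this))
  have e := inverts_of_mem_zpowers y2 (part_eq c o ((pi1_of_pg hS.pgroup).compl_compl.piE ht) ▸ part_mem _ _)
  rw [conj_eq_of_C1 (mem_C1_comm.1 (cc_le_C1 hy (prime_cc pr ht t1 ▸ hx.2)))] at e
  exact eq_one_of_odd_of_mul_self (piE_odd.1 o) (eq_inv_iff_mul_eq_one.1 e)

theorem oddCore_eq : oddCore G = O {2}ᶜ (⊤ : Subgroup G) := by rw [O1c_eq, Comp.Opp_top]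

theorem thm_4061 [Group.IsSolvable G] (hr : ∀ x : G, IsConj x x⁻¹) (he : 2 ∣ #G)
    (h1 : ∀ s t : G, orderOf s = 2 → orderOf t = 2 → IsConj s t) (S : Sylow 2 G) :
    (#S = 2 ∨ ∃ n : ℕ, Nonempty ((S : Subgroup G) ≃* QuaternionGroup (2 ^ (n + 1)))) ∧
    (#S = 2 → (S : Subgroup G).IsComplement' (oddCore G) ∧ oddCore G = commutator G ∧
        ∀ t : G, t ∈ S → t ≠ 1 → ∀ x : G, x ∈ oddCore G → t * x * t⁻¹ = x⁻¹) := by
  have hS := isSyl_top S
  refine ⟨(cyc_or_quat S.2 (real_quot hr h1 hS).1).imp (real_cyc hr he hS) fun ⟨a, b, m, m1, e1, e2, e3, _, e4, e5⟩ =>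
    ⟨m - 1, by rw [Nat.sub_add_cancel m1]; exact Solv.nonempty_quaternion_of_gens e1 e2 e3 e4 e5⟩, fun h => ?_⟩
  obtain ⟨a, b⟩ := real_two hr hS h
  rw [oddCore_eq]
  haveI : (O {2}ᶜ (⊤ : Subgroup G)).Normal := normalizer_eq_top_iff.1 (eq_top_iff.2 (nn_O nn_top))
  obtain ⟨t, ht, t1⟩ := Solv.exists_subgroup_card_prime (A := (S : Subgroup G)) Nat.prime_two (h.ge.antisymm h.le ▸ dvd_rfl)
  refine ⟨isComplement'_of_disjoint_and_mul_eq_univ (disjoint_iff.2 (pg_inf S.2 (O_pi _ _) (by simp)))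
    (by rw [← mul_normal, sup_comm, a, coe_top]), le_antisymm (fun x hx => ?_) ?_, b⟩
  · refine Comp.mem_of_pow_mem_of_coprime (odd_iff_coprime_two.1 (piE_odd.1 ((O_pi _ _).piE hx))) ?_
    rw [show x ^ 2 = ⁅x, t⁆ by rw [commutatorElement_def, mul_assoc, mul_assoc, ← mul_assoc t, ← conj_inv,
      b t ht (ne_one_of_orderOf t1) x hx, inv_inv, pow_two]]
    exact commutator_mem_commutator (mem_top _) (mem_top _)
  · exact (der_mono a.ge).trans ((der_sup_le nn_normal).trans (sup_le le_rfl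
      ((ab_iff_der.1 (ab_of_cyc (prime_cyc (K := (S : Subgroup G)) (h.ge.antisymm h.le ▸ Nat.prime_two)))).le.trans bot_le)))

theorem thm_4062 [Group.IsSolvable G] (h : ∀ x y : G, orderOf x = orderOf y → IsConj x y) :
    #G = 1 ∨ #G = 2 ∨ Nonempty (G ≃* Equiv.Perm (Fin 3)) := by
  have hr : ∀ x : G, IsConj x x⁻¹ := fun x => h _ _ (orderOf_inv x).symm
  by_cases he : 2 ∣ #G
  swap
  · refine .inl (Nat.card_eq_one_iff_unique.2 ⟨⟨fun a b => ?_⟩, inferInstance⟩)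
    have : ∀ x : G, x = 1 := fun x => by
      have o : ∀ x : G, PiE {2}ᶜ x := fun x => (pi_compl_iff.2 (card_top (G := G) ▸ he)).piE (mem_top x)
      obtain ⟨y, y1, y2⟩ := exists_two_inv (hr x)
      exact odd_eq_one IsPGroup.of_bot (nn_bot (mem_top x)) (piE_odd.1 (o x)) (y1.eq_one (o y)) y2
    rw [this a, this b]
  obtain ⟨S, hS⟩ := exists_isSyl 2 (⊤ : Subgroup G)
  have c := real_cyc hr he hS ((real_quot hr (fun s t a b => h s t (a.trans b.symm)) hS).2 fun s t a b => h s t (a.trans b.symm))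
  obtain ⟨a, b⟩ := real_two hr hS c
  obtain ⟨t, ht, t1⟩ := Solv.exists_subgroup_card_prime (A := S) Nat.prime_two (dvd_of_eq c.symm)
  have cd := card_sup_l (nn_O nn_top) ((O_pi _ _).inf (pi1_of_pg hS.pgroup).compl_compl)
  rw [a, card_top, c] at cd
  have ab := Solv.isMulCommutative_of_inverts (b t ht (ne_one_of_orderOf t1))
  have k : ∀ x ∈ O {2}ᶜ (⊤ : Subgroup G), ∀ y, orderOf x = orderOf y → y = x ∨ y = x⁻¹ := fun x hx y e => by
    obtain ⟨g, rfl⟩ := isConj_iff.1 (h x y e)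
    obtain ⟨u, hu, s, hs, rfl⟩ := (mem_sup_l (nn_O nn_top)).1 (a.ge (mem_top g))
    have := conj_eq_of_cc (ab_cc ab hu) hx
    rw [mul_inv_rev, mul_assoc u, mul_assoc u, ← mul_assoc (s * x), ← mul_assoc u]
    by_cases e : s = 1
    exacts [.inl (by simpa [e] using this), .inr (by rw [b s hs e x hx, ← conj_inv, this])]
  by_cases e : O {2}ᶜ (⊤ : Subgroup G) = ⊥
  · exact .inr (.inl (by rw [cd, e, card_bot]))
  have k3 : ∀ x ∈ O {2}ᶜ (⊤ : Subgroup G), x ^ 3 = 1 := fun x hx => by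
    have o := piE_odd.1 ((O_pi _ _).piE hx)
    rcases k x hx (x ^ 2) ((odd_iff_coprime_two.1 o).orderOf_pow).symm with e | e
    · rw [show x = 1 from mul_eq_left.1 (pow_two x ▸ e), one_pow]
    · rw [pow_succ, e, inv_mul_cancel]
  obtain ⟨⟨x, hx⟩, x1⟩ := ne_bot_iff_exists_ne_one.1 e
  have x3 := orderOf_eq_prime (k3 x hx) fun e => x1 (Subtype.ext e)
  have : O {2}ᶜ ⊤ = zpowers x := le_antisymm (fun y hy => by
    by_cases e : y = 1
    · exact e ▸ one_mem _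
    rcases k x hx y (x3.trans (orderOf_eq_prime (k3 y hy) e).symm) with e | e <;> simp [e]) (zpowers_le.2 hx)
  have t2 := mul_self_of_orderOf t1
  refine .inr (.inr (s3_of_gens (a := x * t) (b := t) ?_ t2 (by rw [mul_assoc, t2, mul_one, k3 x hx])
    (by rw [mul_assoc, t2, mul_one]; exact fun e => x1 (Subtype.ext e)) (ne_one_of_orderOf t1) (eq_top_iff.2 (a.ge.trans ?_))))
  · rw [show x * t * (x * t) = x * (t * x * t⁻¹) * (t * t) by group, b t ht (ne_one_of_orderOf t1) x hx, t2]; simp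
  rw [this, ← prime_eq_zpowers (c ▸ Nat.prime_two) ht (ne_one_of_orderOf t1)]
  exact sup_le (zpowers_le.2 ((mul_mem_cancel_right (mem_sup_right (mem_zpowers t))).1 (mem_sup_left (mem_zpowers _))))
    le_sup_right

theorem card_sq_le {α β : Type*} [Finite α] [Finite β] (f : α → β) :
    #α ^ 2 ≤ #β * #{x : α × α // f x.1 = f x.2} := by
  classical
  have := Fintype.ofFinite α
  have := Fintype.ofFinite β
  have e : {x : α × α // f x.1 = f x.2} ≃ Σ b, {a // f a = b} × {a // f a = b} :=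
    ⟨fun x => ⟨f x.1.2, ⟨_, x.2⟩, ⟨_, rfl⟩⟩, fun x => ⟨(x.2.1, x.2.2), x.2.1.2.trans x.2.2.2.symm⟩, fun x => rfl,
      fun ⟨b, ⟨_, h⟩, ⟨_, k⟩⟩ => by subst k; rfl⟩
  rw [Nat.card_congr e, Nat.card_sigma, ← Nat.card_congr (Equiv.sigmaFiberEquiv f), Nat.card_sigma,
    Nat.card_eq_fintype_card (α := β)]
  simpa only [Nat.card_prod, sq, Finset.card_univ, Nat.cast_id] using sq_sum_le_card_mul_sum_sq (s := Finset.univ) (f := fun b => #{a // f a = b})

theorem thm_4029 (hP : IsPGroup 2 G) (h : ∀ y : G, NN (zpowers y) ≤ C1 y) :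
    #(G ⧸ frattini G) ≤ #{c : ConjClasses G // ∃ y : G, ConjClasses.mk y = c ∧ orderOf y = 2} + 1 ∧
    #(G ⧸ frattini G) ≤ #(closure {y : G | orderOf y = 2}) := by
  classical
  have k : ∀ g : G, ∃ k, k * (ConjClasses.mk g).out * k⁻¹ = g := fun g =>
    isConj_iff.1 (ConjClasses.mk_eq_mk_iff_isConj.1 (Quotient.out_eq (ConjClasses.mk g)))
  choose k hk using k
  have h1 := card_sq_le fun x : G => (⟨x ^ 2, Solv.pow_mem_frattini hP x⟩ : frattini G)
  have c : ∀ x y : G, x ^ 2 = y ^ 2 → y * (x * y⁻¹) * y⁻¹ = x * y⁻¹ ∧ (x * y⁻¹) ^ 2 = 1 := fun x y e => by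
    have e : y * (x * y⁻¹) * y⁻¹ = (x * y⁻¹)⁻¹ := by
      rw [show y * (x * y⁻¹) * y⁻¹ = y * x * (y ^ 2)⁻¹ by rw [pow_two]; group, ← e, pow_two]; group
    have := conj_eq_of_C1 (h _ (mem_normalizer_zpowers (e ▸ inv_mem (mem_zpowers _))))
    exact ⟨this, by rw [pow_two]; exact eq_inv_iff_mul_eq_one.1 (this.symm.trans e)⟩
  let T := {c : ConjClasses G // ∃ y : G, ConjClasses.mk y = c ∧ y ^ 2 = 1}
  have h2 := Nat.card_le_card_of_injective (β := T × G) (fun x : {x : G × G // (⟨x.1 ^ 2, Solv.pow_mem_frattini hP _⟩ :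
      frattini G) = ⟨x.2 ^ 2, Solv.pow_mem_frattini hP _⟩} => (⟨_, _, rfl, (c _ _ (congrArg Subtype.val x.2)).2⟩,
        x.1.2 * k (x.1.1 * x.1.2⁻¹))) (by
    rintro ⟨⟨x, y⟩, e⟩ ⟨⟨x', y'⟩, e'⟩ q
    obtain ⟨q1, q2⟩ := Prod.ext_iff.1 q
    have q1 : ConjClasses.mk (x * y⁻¹) = ConjClasses.mk (x' * y'⁻¹) := congrArg Subtype.val q1
    have q2 : y * k (x * y⁻¹) = y' * k (x' * y'⁻¹) := q2
    have : ∀ x y : G, x ^ 2 = y ^ 2 → y * k (x * y⁻¹) * (ConjClasses.mk (x * y⁻¹)).out * (y * k (x * y⁻¹))⁻¹ = x * y⁻¹ :=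
      fun x y e => by rw [← (c x y e).1]; nth_rw 4 [← hk (x * y⁻¹)]; rw [(c x y e).1]; group
    have q3 := this x y (congrArg Subtype.val e)
    rw [q1, q2, this x' y' (congrArg Subtype.val e')] at q3
    rw [q3, mul_left_inj] at q2
    subst q2
    rw [mul_left_inj] at q3
    subst q3; rfl)
  have h3 : #(G ⧸ frattini G) ≤ #T := by
    rw [Nat.card_prod] at h2
    refine Nat.le_of_mul_le_mul_right (Nat.le_of_mul_le_mul_right ?_ (Nat.card_pos (α := G))) (card_pos' (frattini G))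
    rw [← card_eq_card_quotient_mul_card_subgroup, ← sq, mul_comm #T, mul_assoc]
    exact h1.trans (Nat.mul_le_mul_left _ h2)
  refine ⟨h3.trans ?_, h3.trans (Nat.card_le_card_of_surjective (fun y : closure {y : G | orderOf y = 2} =>
    if h : (y : G) ^ 2 = 1 then (⟨_, y, rfl, h⟩ : T) else ⟨_, 1, rfl, one_pow 2⟩) fun ⟨_, y, rfl, e⟩ => ⟨⟨y, ?_⟩, dif_pos e⟩)⟩
  · rw [← Finite.card_option]
    refine Nat.card_le_card_of_surjective (fun y => y.elim (⟨_, 1, rfl, one_pow 2⟩ : T) fun c => ⟨c.1, c.2.elim fun y h =>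
      ⟨y, h.1, h.2 ▸ pow_orderOf_eq_one y⟩⟩) fun ⟨_, y, rfl, e⟩ => ?_
    by_cases k : y = 1
    exacts [⟨none, by subst k; rfl⟩, ⟨some ⟨_, y, rfl, orderOf_eq_prime e k⟩, rfl⟩]
  · by_cases k : y = 1
    exacts [k ▸ one_mem _, subset_closure (orderOf_eq_prime e k)]

theorem card_syl_quot (p : ℕ) [Fact p.Prime] (P : Sylow p G) (M : Subgroup G) [M.Normal] :
    #(Sylow p (G ⧸ M)) = (NN P ⊔ M).index := by
  have sj := QuotientGroup.mk'_surjective M
  rw [(P.mapSurjective sj).card_eq_index_normalizer, ← index_comap_of_surjective _ sj]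
  congr 1
  refine (comap_normalizer_eq_of_surjective ((P : Subgroup G).map _) sj).trans ?_
  rw [comap_map_eq, QuotientGroup.ker_mk']
  exact le_antisymm ((frattini ((isSyl_top P).mono le_sup_left le_top) (le_nn _) le_rfl).ge.trans
    (sup_le (sup_le_sup_right (le_nn _) M) (inf_le_right.trans le_sup_left)))
    (sup_le (nn_sup le_rfl nn_normal) (nn_of_le le_sup_right))

theorem relIndex_sup_r (h : A ≤ NN B) : A.relIndex (A ⊔ B) = A.relIndex B := by
  have c1 := Solv.card_sup_mul_card_inf h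
  rw [← card_mul_relIndex le_sup_left, mul_assoc, ← card_inf_mul_relIndex A B, mul_comm _ #_] at c1
  exact Nat.eq_of_mul_eq_mul_left (card_pos' _) (Nat.eq_of_mul_eq_mul_left (card_pos' _) c1)

theorem thm_3867 (p : ℕ) [Fact p.Prime] (M N : Subgroup G) [M.Normal] [N.Normal] (hMN : M ⊓ N = ⊥) :
    #(Sylow p G) * #(Sylow p (G ⧸ (M ⊔ N))) = #(Sylow p (G ⧸ M)) * #(Sylow p (G ⧸ N)) := by
  obtain ⟨P⟩ : Nonempty (Sylow p G) := inferInstance
  rw [card_syl_quot p P, card_syl_quot p P, card_syl_quot p P, P.card_eq_index_normalizer]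
  have e : (NN P ⊔ M) ⊓ (NN P ⊔ N) ≤ NN (P : Subgroup G) := by
    have : ((P : Subgroup G) ⊔ M) ⊓ (P ⊔ N) = (P : Subgroup G) := by
      refine (isSyl_top P).eq_of_le ?_ le_top (le_inf le_sup_left le_sup_left)
      rw [dedekind' le_sup_left nn_normal, sup_comm]
      refine pg_sup_l (fun ⟨x, hx⟩ => ?_) P.2 (nn_inf nn_normal (nn_of_le le_sup_left))
      have := mem_map_of_mem (QuotientGroup.mk' N) hx.2
      rw [Subgroup.map_sup, QuotientGroup.map_mk'_self, sup_bot_eq] at this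
      obtain ⟨k, hk⟩ := P.2.map _ ⟨_, this⟩
      exact ⟨k, Subtype.ext (eq_one_of_inf hMN (pow_mem hx.1 _) ((QuotientGroup.eq_one_iff _).1 (congrArg Subtype.val hk)))⟩
    exact this ▸ nn_inf (inf_le_left.trans (sup_le (nn_sup le_rfl nn_normal) (nn_of_le le_sup_right)))
      (inf_le_right.trans (sup_le (nn_sup le_rfl nn_normal) (nn_of_le le_sup_right)))
  rw [← relIndex_mul_index (le_sup_left : NN P ≤ NN P ⊔ N), ← relIndex_mul_index (le_sup_left : NN P ⊔ M ≤ NN P ⊔ M ⊔ N),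
    relIndex_sup_r nn_normal, relIndex_sup_r nn_normal, sup_assoc, ← inf_relIndex_right (NN P ⊔ M), ← inf_relIndex_right,
    show (NN P ⊔ M) ⊓ N = NN P ⊓ N from le_antisymm (le_inf ((inf_le_inf_left _ le_sup_right).trans e) inf_le_right)
      (inf_le_inf_right _ le_sup_left)]
  ring

theorem thm_4005 (h : Set.range (orderOf : G → ℕ) = {k : ℕ | 1 ≤ k ∧ k ≤ 3}) :
    (∃ N : Subgroup G, N.Normal ∧ IsElementaryAbelian 3 N ∧ N.index = 2) ∨
      (∃ N : Subgroup G, N.Normal ∧ IsElementaryAbelian 2 N ∧ N.index = 3) := by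
  haveI := Fact.mk Nat.prime_three
  have o : ∀ g : G, orderOf g ≤ 3 := fun g => (h.le ⟨g, rfl⟩).2
  have d : ∀ q, 1 ≤ q → q ≤ 3 → q ∣ #(⊤ : Subgroup G) := fun q a b => by
    obtain ⟨g, rfl⟩ := h.ge ⟨a, b⟩; exact orderOf_dvd (mem_top g)
  have pr : ∀ q, q.Prime → q ∣ #(⊤ : Subgroup G) → q = 2 ∨ q = 3 := fun q a b => by
    obtain ⟨g, -, rfl⟩ := Solv.exists_subgroup_card_prime a b; have := o g; have := a.two_le; omega
  haveI : Group.IsSolvable G := Solv.isSolvable_of_card_primeFactors_le_two ((Finset.card_le_card (t := {2, 3}) fun q hq => by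
    simpa using pr q (Nat.prime_of_mem_primeFactors hq) (card_top (G := G) ▸ Nat.dvd_of_mem_primeFactors hq)).trans (by simp))
  have ex : ∀ {p} [Fact p.Prime] {P : Subgroup G}, IsPGroup p P → ∀ x ∈ P, x ^ p = 1 := fun {p} hp P hP x hx => by
    obtain ⟨j, hj⟩ := Solv.exists_orderOf_eq_pow hP hx
    refine orderOf_dvd_iff_pow_eq_one.1 (hj ▸ (pow_dvd_pow p (m := j) (n := 1) ?_).trans (by simp))
    by_contra! e
    have := (Nat.pow_le_pow_left hp.out.two_le 2).trans ((Nat.pow_le_pow_right hp.out.pos e).trans (hj ▸ o x))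
    omega
  have rg : ∀ {K R : Subgroup G}, IsPGroup 3 K → IsPGroup 2 R → Reg K R := fun hK hR x hx x1 =>
    eq_bot_iff.2 fun y hy => by_contra fun y1 => by
      have := Commute.orderOf_mul_eq_mul_orderOf_of_coprime (mem_C1.1 hy.2) (by
        rw [orderOf_eq_prime (ex hK y hy.1) y1, orderOf_eq_prime (ex hR x hx) x1]; norm_num)
      have k := o (y * x)
      rw [this, orderOf_eq_prime (ex hK y hy.1) y1, orderOf_eq_prime (ex hR x hx) x1] at k; omega
  obtain ⟨S, hS⟩ := exists_isSyl 2 (⊤ : Subgroup G)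
  have eS := elem_two_of_mul_self (A := S) fun x hx => pow_two x ▸ ex hS.pgroup x hx
  have e3 : O {2}ᶜ (⊤ : Subgroup G) = O {3} ⊤ := O_congr fun q a b => by rcases pr q a b with rfl | rfl <;> simp
  have nO : ∀ π, (O π (⊤ : Subgroup G)).Normal := fun π => normalizer_eq_top_iff.1 (eq_top_iff.2 (nn_O nn_top))
  have cd : ∀ {p} [Fact p.Prime] {P : Subgroup G}, IsSyl p P ⊤ → p ≤ 3 → IsCyclic P → #P = p := fun {p} hp P hP l c =>
    ((Nat.dvd_prime hp.out).1 (cyc_elem_dvd ⟨ab_of_cyc c, ex hP.pgroup⟩ c)).resolve_left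
      (mt card_eq_one.1 (syl_ne_bot hP (d p hp.out.pos l)))
  by_cases e : O {3} (⊤ : Subgroup G) = ⊥
  · have c := cc_O_le (p := 2) (H := (⊤ : Subgroup G)) inferInstance (e3.trans e)
    have e2 : S = O {2} ⊤ := le_antisymm ((le_inf le_top (ab_le_cc eS.1 le_rfl (O_le_syl hS))).trans c) (O_le_syl hS)
    obtain ⟨T, hT⟩ := exists_isSyl 3 (⊤ : Subgroup G)
    have := cd hT le_rfl ((Solv.isCyclic_or_quaternion_of_fpf (le_top.trans (e2 ▸ nn_O nn_top)) (rg hT.pgroup hS.pgroup).symm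
      (syl_ne_bot hS (d 2 one_le_two (by norm_num))) hT.pgroup).resolve_right (by simp))
    have k := (hall_of_syl hS).card_mul ((hall_of_syl hT).congr (ρ := {2}ᶜ) fun q a b => by
      rcases pr q a b with rfl | rfl <;> simp)
    rw [card_top, this, ← S.card_mul_index] at k
    exact .inr ⟨S, e2 ▸ nO _, eS, (Nat.eq_of_mul_eq_mul_left (card_pos' _) k).symm⟩
  have c := cd hS (by norm_num) (Solv.isCyclic_of_fpf_of_abelian (le_top.trans (nn_O nn_top)) (rg (O_pg _) hS.pgroup) e eS.1)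
  have k := card_sup_l (le_top.trans (nn_O nn_top)) ((O_pi _ ⊤).inf (pi1_of_pg hS.pgroup).compl_compl)
  rw [npc_two hS c, card_top, c, e3, ← (O {3} ⊤).card_mul_index] at k
  obtain ⟨t, ht, t1⟩ := Solv.exists_subgroup_card_prime (A := S) Nat.prime_two (dvd_of_eq c.symm)
  exact .inl ⟨_, nO _, ⟨Solv.isMulCommutative_of_inverts fun x hx => Solv.inverts_of_fpf (nn_O nn_top (mem_top t))
    (rg (O_pg _) hS.pgroup t ht (ne_one_of_orderOf t1)) (mul_self_of_orderOf t1) hx, ex (O_pg _)⟩,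
    Nat.eq_of_mul_eq_mul_left (card_pos' _) k⟩

theorem sum_div_mul {m n : ℕ} (h : m.Coprime n) (f : ℕ → ℕ) :
    ∑ d ∈ (m * n).divisors, f d = ∑ a ∈ m.divisors, ∑ b ∈ n.divisors, f (a * b) := by
  rw [Nat.divisors_mul, Finset.mul_def, Finset.sum_image h.mul_injOn_divisors, Finset.sum_product]

theorem exp_prime {H : Type*} [Group H] [Finite H] [Nontrivial H] [hp : Fact p.Prime] (h : IsPGroup p H)
    (h2 : ∀ x : H, orderOf x ≠ p ^ 2) : Monoid.exponent H = p := (Monoid.exponent_eq_prime_iff hp.out).2 fun g g1 => by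
  obtain ⟨j, hj⟩ := IsPGroup.iff_orderOf.1 h g
  match j, hj with
  | 0, hj => exact absurd (orderOf_eq_one_iff.1 hj) g1
  | 1, hj => exact hj.trans (pow_one p)
  | j + 2, hj => exact absurd (orderOf_pow_orderOf_div (orderOf_pos g).ne' (hj ▸ pow_dvd_pow p (by omega))) (h2 _)

theorem thm_3995 (n : ℕ) (hn : n ≠ 1) (h : ((fun m : ℕ => #{g : G // orderOf g = m}) '' Set.range (orderOf : G → ℕ)) = {1, n}) :
    (∃ p : ℕ, p.Prime ∧ IsPGroup p G ∧ 3 ≤ #G ∧ Monoid.exponent G = p) ∨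
      Nonempty (G ≃* QuaternionGroup 2) ∨ (IsCyclic G ∧ #G = 4) ∨
      (∃ (p : ℕ) (P : Type) (_ : Group P) (_ : Finite P), p.Prime ∧ p ≠ 2 ∧ IsPGroup p P ∧ Monoid.exponent P = p ∧
        Nonempty (G ≃* Multiplicative (ZMod 2) × P)) := by
  classical
  haveI := Fintype.ofFinite G
  obtain ⟨s, hs⟩ : ∃ s : ℕ → ℕ, ∀ m, s m = #{g : G // orderOf g = m} := ⟨_, fun _ => rfl⟩
  simp only [← hs] at h
  have s0 : ∀ {m}, (∀ g : G, orderOf g ≠ m) → s m = 0 := fun e => by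
    rw [hs]; exact Nat.card_eq_zero.2 (.inl ⟨fun g => e _ g.2⟩)
  have s1 : s 1 = 1 := by simp [hs]
  have aux : ∀ {p a b c : ℕ}, p ∣ a → p ∣ b → a + c = b → p ∣ c := fun h1 h2 e => (Nat.dvd_add_right h1).1 (e ▸ h2)
  have ph : ∀ m, m.totient ∣ s m := fun m => hs m ▸ Solv.totient_dvd_cnt (fun _ h => h) fun u w e k => by
    rw [← k, ← Nat.card_zpowers, e, Nat.card_zpowers]
  have sn : ∀ {g : G} {m}, orderOf g = m → 3 ≤ m → s m = n := fun {g m} e l => (h.le ⟨m, ⟨g, e⟩, rfl⟩).resolve_left fun k =>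
    by have := Nat.totient_eq_one_iff.1 (Nat.dvd_one.1 ((show s m = 1 from k) ▸ ph m)); omega
  have fr : ∀ {d m}, m ≠ 0 → d ∣ m → d ∣ #G → d ∣ ∑ k ∈ m.divisors, s k := fun m0 a b => by
    have := Solv.frobenius_dvd a b
    simp only [hs, Nat.card_eq_fintype_card, Fintype.card_subtype] at this ⊢
    convert this using 1
    convert sum_card_orderOf_eq_card_pow_eq_one (G := G) m0
  have g1 : ∀ {p}, p.Prime → p ∣ #G → s p = n → p ∣ n + 1 := fun hp a b => by
    simpa [hp.sum_divisors, b, s1] using fr hp.ne_zero dvd_rfl a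
  have g2 : ∀ {p}, p.Prime → p ∣ n + 1 → ∀ x : G, orderOf x ≠ p ^ 2 := fun {p} hp a x e => by
    have := ph (p ^ 2)
    rw [sn e (by nlinarith [hp.two_le]), Nat.totient_prime_pow hp two_pos] at this
    exact hp.not_dvd_one ((Nat.dvd_add_right (dvd_of_mul_right_dvd (by simpa using this))).1 a)
  have g3 : ∀ {p q}, p.Prime → q.Prime → p ∣ #G → q ∣ #G → s p = n → s q = n → p = q := by
    suffices ∀ {p q}, p.Prime → q.Prime → p ∣ #G → q ∣ #G → s p = n → s q = n → p ≠ q → p = 2 from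
      @fun p q hp hq a b c d => by_contra fun e => e ((this hp hq a b c d e).trans (this hq hp b a d c (Ne.symm e)).symm)
    intro p q hp hq a b c d e
    have k := fr (mul_ne_zero hp.ne_zero hq.ne_zero) (dvd_mul_right p q) a
    simp only [sum_div_mul ((Nat.coprime_primes hp hq).2 e), hp.sum_divisors, hq.sum_divisors, mul_one, one_mul, c, d, s1] at k
    have k' := g1 hp a c
    by_cases o : ∃ g : G, orderOf g = p * q
    · obtain ⟨g, o⟩ := o
      rw [sn o (by nlinarith [hp.two_le, hq.two_le])] at k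
      exact (Nat.prime_dvd_prime_iff_eq hp Nat.prime_two).1 (aux k (k'.mul_left 3) (by ring))
    rw [s0 (not_exists.1 o)] at k
    exact absurd (aux k (k'.mul_left 2) (by ring)) hp.not_dvd_one
  obtain ⟨_, ⟨g, rfl⟩, hg : s _ = n⟩ := h.ge (show n ∈ ({1, n} : Set ℕ) by simp)
  have so : ∀ {p}, p.Prime → p ∣ #G → p ≠ 2 → s p = n := fun {p} hp a b => by
    haveI := Fact.mk hp
    obtain ⟨x, e⟩ := exists_prime_orderOf_dvd_card' p a
    exact sn e (by have := hp.two_le; omega)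
  have g0 : g ≠ 1 := fun e => hn (by rw [← hg, e, orderOf_one, s1])
  by_cases s2 : s 2 = 1
  swap
  · have sp : ∀ {p}, p.Prime → p ∣ #G → s p = n := fun {p} hp a => by
      by_cases e : p = 2
      · subst e
        obtain ⟨x, e⟩ := exists_prime_orderOf_dvd_card' 2 a
        exact (h.le ⟨2, ⟨x, e⟩, rfl⟩).resolve_left s2
      exact so hp a e
    haveI : Nontrivial G := ⟨g, 1, g0⟩
    obtain ⟨p, hp, a⟩ := Nat.exists_prime_and_dvd (Finite.one_lt_card (α := G)).ne'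
    haveI := Fact.mk hp
    have pg : IsPGroup p G := Solv.isPGroup_of_forall_prime_dvd fun q hq b => g3 hq hp b a (sp hq b) (sp hp a)
    refine .inl ⟨p, hp, pg, ?_, exp_prime pg (g2 hp (g1 hp a (sp hp a)))⟩
    have k1 := Finite.card_subtype_lt (p := fun x : G => orderOf x = orderOf g) (x := 1) (by
      rw [orderOf_one, eq_comm, orderOf_eq_one_iff]; exact g0)
    have k2 : 0 < #{x : G // orderOf x = orderOf g} := @Nat.card_pos _ ⟨⟨g, rfl⟩⟩ _
    rw [← hs, hg] at k1 k2; omega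
  rw [hs, Nat.card_eq_one_iff_exists] at s2
  obtain ⟨⟨z, z2⟩, hz⟩ := s2
  have u : ∀ x, orderOf x = 2 → x = z := fun x e => congrArg Subtype.val (hz ⟨x, e⟩)
  have s2 : s 2 = 1 := by rw [hs, Nat.card_eq_one_iff_exists]; exact ⟨_, hz⟩
  have zc : ∀ x, x ∈ C1 z := fun x => mem_C1_of_conj (u _ ((orderOf_conj x z).trans z2))
  by_cases o : ∃ i : G, orderOf i = 4
  · obtain ⟨i, o⟩ := o
    have k := fr (m := 2 ^ 2) (by norm_num) dvd_rfl (show 4 ∣ #G from o ▸ orderOf_dvd_natCard i)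
    simp only [Nat.sum_divisors_prime_pow Nat.prime_two, Finset.sum_range_succ, Finset.sum_range_zero] at k
    norm_num [s1, s2, sn o (by norm_num)] at k
    have n4 : ∀ (x : G) m, orderOf x = m → 3 ≤ m → ¬ 4 ∣ m.totient := fun x m e l d => by
      have := d.trans (sn e l ▸ ph m); omega
    have pg : IsPGroup 2 G := Solv.isPGroup_of_forall_prime_dvd fun p hp a => by_contra fun e => by
      haveI := Fact.mk hp
      obtain ⟨x, e'⟩ := exists_prime_orderOf_dvd_card' p a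
      have c : (2 ^ 2).Coprime p := ((Nat.coprime_primes Nat.prime_two hp).2 (Ne.symm e)).pow_left 2
      have k2 := fr (mul_ne_zero (by norm_num) hp.ne_zero) (dvd_mul_left p (2 ^ 2)) a
      simp only [sum_div_mul c, Nat.sum_divisors_prime_pow Nat.prime_two, Finset.sum_range_succ, Finset.sum_range_zero,
        hp.sum_divisors] at k2
      have a2 : s (2 * p) = n := sn (g := z * x) (by
        rw [Commute.orderOf_mul_eq_mul_orderOf_of_coprime (mem_C1.1 (zc x)).symm (by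
          rw [z2, e']; exact (Nat.coprime_primes Nat.prime_two hp).2 (Ne.symm e)), z2, e']) (by have := hp.two_le; omega)
      have a4 : s (4 * p) = 0 := s0 fun y k => n4 y _ k (by have := hp.two_le; omega) (by
        rw [Nat.totient_mul (m := 4) c, Nat.totient_prime hp]
        exact Nat.mul_dvd_mul (a := 2) (c := 2) (by decide) (hp.even_sub_one e).two_dvd)
      norm_num [s1, s2, sn o (by norm_num), a2, a4, so hp a e] at k2
      exact hp.not_dvd_one (aux k2 ((g1 hp a (so hp a e)).mul_left 3) (by ring))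
    have n8 : ∀ (x : G) j, orderOf x = 2 ^ j → j ≤ 2 := fun x j e => by
      by_contra! l
      exact n4 _ 8 (orderOf_pow_orderOf_div (orderOf_pos x).ne' (e ▸ pow_dvd_pow 2 l)) (by norm_num) (by decide)
    rcases cyc_or_quat (pg.to_subgroup ⊤) fun s _ t _ a b => (u s a).trans (u t b).symm with c | ⟨a, b, m, m1, e1, e2, e3, -, e4, e5⟩
    · obtain ⟨a, -, e⟩ := exists_zpowers c
      obtain ⟨j, hj⟩ := IsPGroup.iff_orderOf.1 pg a
      refine .inr (.inr (.inl ⟨topEquiv.isCyclic.1 c, Nat.dvd_antisymm ?_ (o ▸ orderOf_dvd_natCard i)⟩))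
      rw [← card_top, e, Nat.card_zpowers, hj]; exact pow_dvd_pow 2 (n8 a j hj)
    obtain rfl : m = 1 := by have := n8 a _ e1; omega
    exact .inr (.inl ⟨topEquiv.symm.trans (Solv.nonempty_quaternion_of_gens e1 e2 e3 e4 e5).some⟩)
  obtain ⟨S, hS, l⟩ := exists_isSyl_ge (H := ⊤) (pg_of_card ((Nat.card_zpowers z).trans z2)) le_top
  have eS : S = zpowers z := le_antisymm (fun x hx => by
    obtain ⟨j, hj⟩ := Solv.exists_orderOf_eq_pow hS.pgroup hx
    match j, hj with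
    | 0, hj => simp [orderOf_eq_one_iff.1 hj]
    | 1, hj => simp [u x hj]
    | j + 2, hj => exact absurd ⟨_, orderOf_pow_orderOf_div (orderOf_pos x).ne' (hj ▸ pow_dvd_pow 2 (show 2 ≤ j + 2 by omega))⟩ o) l
  have c : #S = 2 := by rw [eS, Nat.card_zpowers, z2]
  have a := npc_two hS c
  obtain ⟨p, hp, d⟩ := exists_prime_dvd (H := O {2}ᶜ (⊤ : Subgroup G)) fun e => by
    rw [e, bot_sup_eq, eS] at a
    rcases zp2 (mul_self_of_orderOf z2) (a.ge (mem_top g)) with e | e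
    exacts [g0 e, hn (by rw [← hg, e, z2, s2])]
  haveI := Fact.mk hp
  have p2 : ∀ {q}, q.Prime → q ∣ #(O {2}ᶜ (⊤ : Subgroup G)) → q ≠ 2 := fun a b => O_pi _ _ _ a b
  have dG : ∀ {q}, q ∣ #(O {2}ᶜ (⊤ : Subgroup G)) → q ∣ #G := fun b => b.trans (card_subgroup_dvd_card _)
  have pg : IsPGroup p (O {2}ᶜ (⊤ : Subgroup G)) := Solv.isPGroup_of_forall_prime_dvd fun q hq b =>
    g3 hq hp (dG b) (dG d) (so hq (dG b) (p2 hq b)) (so hp (dG d) (p2 hp d))
  haveI := (nontrivial_iff_ne_bot _).2 (ne_bot_of_dvd hp d)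
  let e : O {2}ᶜ (⊤ : Subgroup G) ≃* Shrink.{0} (O {2}ᶜ (⊤ : Subgroup G)) := Shrink.mulEquiv.symm
  obtain ⟨f⟩ := iso_prod (A := S) (eS ▸ zpowers_le.2 (le_C1_iff.1 fun x _ => zc x))
    (pg_inf hS.pgroup (O_pi {2}ᶜ ⊤) (by simp))
  refine .inr (.inr (.inr ⟨p, _, inferInstance, Finite.of_equiv _ e.toEquiv, hp, p2 hp d, pg.of_equiv e, ?_,
    ⟨((topEquiv.symm.trans (MulEquiv.subgroupCongr (a.symm.trans (sup_comm _ _)))).trans f).trans
      ((c ▸ (zmodCyclicMulEquiv (prime_cyc (c ▸ Nat.prime_two))).symm).prodCongr e)⟩⟩))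
  rw [← Monoid.exponent_eq_of_mulEquiv e]
  exact exp_prime pg fun x k => g2 hp (g1 hp (dG d) (so hp (dG d) (p2 hp d))) x ((orderOf_coe x).trans k)

end Cfsg.Agent.PU
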