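import Mathlib

/-! Three-closures of affine groups. -/

set_option autoImplicit false
set_option linter.unusedSectionVars false
set_option linter.unusedVariables false

namespace Cfsg.Agent.PU.Af

section
variable {K V : Type*} [Field K] [AddCommGroup V] [Module K V]

theorem ext_li [FiniteDimensional K V] {ι : Type*} [Finite ι] {u v : ι → V} (hu : LinearIndependent K u)
    (hv : LinearIndependent K v) : ∃ A : V ≃ₗ[K] V, ∀ i, A (u i) = v i := by
  obtain ⟨g, hg⟩ := Submodule.exists_linearEquiv_restrict_eq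
    ((Module.Basis.span hu).equiv (Module.Basis.span hv) (Equiv.refl ι))
  refine ⟨g, fun i => ?_⟩
  have := hg (Module.Basis.span hu i)
  rw [Module.Basis.equiv_apply] at this
  simpa using this.symm

theorem affine_of_three (h2 : (2 : K) ≠ 0) (σ : Equiv.Perm V)
    (h : ∀ t : Fin 3 → V, ∃ (A : V ≃ₗ[K] V) (b : V), ∀ i, σ (t i) = A (t i) + b) :
    ∃ (A : V ≃ₗ[K] V) (b : V), ∀ x, σ x = A x + b := by
  have hs : ∀ (c : K) (x : V), σ (c • x) - σ 0 = c • (σ x - σ 0) := by
    intro c x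
    obtain ⟨A, b, hA⟩ := h ![0, x, c • x]
    have h0 := hA 0; have h1 := hA 1; have h2 := hA 2
    simp only [Matrix.cons_val_zero, Matrix.cons_val_one, Matrix.cons_val_two, Matrix.head_cons,
      Matrix.tail_cons, map_zero, zero_add, map_smul] at h0 h1 h2
    rw [h0, h1, h2]; simp
  have ha : ∀ x y : V, σ (x + y) - σ 0 = (σ x - σ 0) + (σ y - σ 0) := by
    intro x y
    obtain ⟨A, b, hA⟩ := h ![x, y, (2 : K)⁻¹ • (x + y)]
    have h0 := hA 0; have h1 := hA 1; have h3 := hA 2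
    simp only [Matrix.cons_val_zero, Matrix.cons_val_one, Matrix.cons_val_two, Matrix.head_cons,
      Matrix.tail_cons, map_smul, map_add] at h0 h1 h3
    have h4 := hs 2 ((2 : K)⁻¹ • (x + y))
    rw [smul_smul, mul_inv_cancel₀ h2, one_smul, h3] at h4
    rw [h4, h0, h1, smul_sub, smul_add, smul_smul, mul_inv_cancel₀ h2, one_smul, two_smul, two_smul]
    abel
  let f : V →ₗ[K] V := ⟨⟨fun x => σ x - σ 0, ha⟩, hs⟩
  have hf : Function.Bijective f := (Equiv.subRight (σ 0)).bijective.comp σ.bijective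
  exact ⟨LinearEquiv.ofBijective f hf, σ 0, fun x => by simp [f]⟩

theorem det_fix [FiniteDimensional K V] (hd : 3 ≤ Module.finrank K V) (A : V ≃ₗ[K] V) (u v : V) :
    ∃ B : V ≃ₗ[K] V, LinearMap.det (B : V →ₗ[K] V) = 1 ∧ B u = A u ∧ B v = A v := by
  have hlt : Submodule.span K ({u, v} : Set V) ≠ ⊤ := by
    intro h
    have h1 := finrank_range_le_card (R := K) ![u, v]
    rw [Set.finrank, Matrix.range_cons, Matrix.range_cons, Matrix.range_empty, Set.union_empty,
      Set.singleton_union, h, finrank_top, Fintype.card_fin] at h1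
    omega
  obtain ⟨x, hx⟩ : ∃ x, x ∉ Submodule.span K ({u, v} : Set V) := by
    by_contra! hc; exact hlt (Submodule.eq_top_iff'.2 hc)
  obtain ⟨f, hf, hf'⟩ := Submodule.exists_dual_map_eq_bot_of_notMem hx inferInstance
  have hz : ∀ w ∈ Submodule.span K ({u, v} : Set V), f w = 0 := fun w hw => by
    have : f w ∈ (Submodule.span K ({u, v} : Set V)).map f := ⟨w, hw, rfl⟩
    rwa [hf', Submodule.mem_bot] at this
  have hA : LinearMap.det (A : V →ₗ[K] V) ≠ 0 := (LinearEquiv.isUnit_det' A).ne_zero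
  let w : V := (((LinearMap.det (A : V →ₗ[K] V))⁻¹ - 1) * (f x)⁻¹) • x
  have hdet : LinearMap.det ((A : V →ₗ[K] V) ∘ₗ LinearMap.transvection f w) = 1 := by
    rw [LinearMap.det_comp, LinearMap.transvection.det]
    simp only [w, map_smul, smul_eq_mul]
    field_simp; ring
  refine ⟨LinearMap.equivOfDetNeZero _ (by rw [hdet]; exact one_ne_zero), ?_, ?_, ?_⟩
  · simpa using hdet
  · simp [LinearMap.transvection.apply, hz u (Submodule.subset_span (by simp))]
  · simp [LinearMap.transvection.apply, hz v (Submodule.subset_span (by simp))]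

end

section
variable {V : Type*} [AddCommGroup V] [Module (ZMod 2) V] [FiniteDimensional (ZMod 2) V]

theorem li2 {u v : V} (hu : u ≠ 0) (hv : v ≠ 0) (huv : u ≠ v) : LinearIndependent (ZMod 2) ![u, v] := by
  rw [LinearIndependent.pair_iff' hu]
  intro a ha
  have : ∀ a : ZMod 2, a = 0 ∨ a = 1 := by decide
  rcases this a with rfl | rfl
  · exact hv (by simpa using ha.symm)
  · exact huv (by simpa using ha)

theorem one1 {u v : V} (h : u = 0 ↔ v = 0) : ∃ A : V ≃ₗ[ZMod 2] V, A u = v := by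
  by_cases hu : u = 0
  · exact ⟨LinearEquiv.refl _ _, by rw [hu, h.1 hu]; rfl⟩
  · have hv : v ≠ 0 := fun e => hu (h.2 e)
    obtain ⟨A, hA⟩ := ext_li (K := ZMod 2) (u := ![u]) (v := ![v]) (linearIndependent_unique_iff.2 (by simpa using hu))
      (linearIndependent_unique_iff.2 (by simpa using hv))
    exact ⟨A, hA 0⟩

theorem two2 {u v u' v' : V} (h1 : u = 0 ↔ u' = 0) (h2 : v = 0 ↔ v' = 0) (h3 : u = v ↔ u' = v') :
    ∃ A : V ≃ₗ[ZMod 2] V, A u = u' ∧ A v = v' := by
  by_cases hu : u = 0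
  · obtain ⟨A, hA⟩ := one1 h2
    exact ⟨A, by rw [hu, h1.1 hu, map_zero], hA⟩
  by_cases hv : v = 0
  · obtain ⟨A, hA⟩ := one1 h1
    exact ⟨A, hA, by rw [hv, h2.1 hv, map_zero]⟩
  by_cases huv : u = v
  · obtain ⟨A, hA⟩ := one1 h1
    exact ⟨A, hA, by rw [← huv, ← h3.1 huv, hA]⟩
  obtain ⟨A, hA⟩ := ext_li (li2 hu hv huv) (li2 (fun e => hu (h1.2 e)) (fun e => hv (h2.2 e)) (fun e => huv (h3.2 e)))
  exact ⟨A, hA 0, hA 1⟩

theorem three2 (σ : Equiv.Perm V) (t : Fin 3 → V) :
    ∃ (A : V ≃ₗ[ZMod 2] V) (b : V), ∀ i, σ (t i) = A (t i) + b := by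
  obtain ⟨A, h1, h2⟩ := two2 (u := t 1 - t 0) (v := t 2 - t 0) (u' := σ (t 1) - σ (t 0)) (v' := σ (t 2) - σ (t 0))
    (by simp [sub_eq_zero]) (by simp [sub_eq_zero]) (by simp)
  refine ⟨A, σ (t 0) - A (t 0), fun i => ?_⟩
  rw [map_sub] at h1 h2
  fin_cases i
  · simp
  · show σ (t 1) = A (t 1) + _
    rw [← add_sub_assoc, add_sub_right_comm, h1]; simp
  · show σ (t 2) = A (t 2) + _
    rw [← add_sub_assoc, add_sub_right_comm, h2]; simp

end

end Cfsg.Agent.PU.Af
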