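import Cfsg.Agent.Lib.PU.Af6
import Cfsg.Agent.Lib.Solv.Hall

/-! Solvable groups whose subgroups of equal order are conjugate. -/

set_option autoImplicit false
set_option linter.unusedSectionVars false
set_option linter.unusedVariables false
set_option linter.style.haveILetI false

namespace Cfsg.Agent.PU.Af
open Subgroup
open scoped Pointwise

universe u
section
variable {G : Type u} [Group G] [Finite G]

def AllC (G : Type u) [Group G] : Prop := ∀ H K : Subgroup G, Nat.card H = Nat.card K → ∃ g : G, MulAut.conj g • H = K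
def DC (p : ℕ) (G : Type u) [Group G] : Prop :=
  ∀ H K : Subgroup G, IsPGroup p H → IsPGroup p K → Nat.card H = Nat.card K → ∃ g : G, MulAut.conj g • H = K
def CyP (p : ℕ) (G : Type u) [Group G] : Prop := ∀ H : Subgroup G, IsPGroup p H → IsCyclic H

theorem map_cj {Q : Type u} [Group Q] (f : G →* Q) (g : G) (H : Subgroup G) :
    (MulAut.conj g • H).map f = MulAut.conj (f g) • H.map f := by
  show (H.map (MulAut.conj g).toMonoidHom).map f = (H.map f).map (MulAut.conj (f g)).toMonoidHom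
  rw [map_map, map_map]
  congr 1; ext; simp

theorem syl_lift {Q : Type u} [Group Q] {f : G →* Q} (hf : Function.Surjective f) {p : ℕ} [Fact p.Prime] (A : Subgroup Q)
    (hA : IsPGroup p A) : ∃ B : Subgroup G, IsPGroup p B ∧ B.map f = A ∧
      Nat.card B = p ^ (Nat.card f.ker * Nat.card A).factorization p := by
  obtain ⟨S⟩ : Nonempty (Sylow p (A.comap f)) := inferInstance
  let φ : A.comap f →* A := f.subgroupComap A
  have hφ : Function.Surjective φ := f.subgroupComap_surjective_of_surjective A hf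
  refine ⟨S.1.map (A.comap f).subtype, S.2.map _, le_antisymm ?_ fun a ha => ?_, ?_⟩
  · rintro _ ⟨_, ⟨s, -, rfl⟩, rfl⟩; exact s.2
  · obtain ⟨s, hs, h⟩ : (⟨a, ha⟩ : A) ∈ S.1.map φ :=
      ((S.mapSurjective hφ).is_maximal' (hA.to_subgroup ⊤) le_top).le (mem_top _)
    exact ⟨_, ⟨s, hs, rfl⟩, congrArg Subtype.val h⟩
  · rw [card_map_of_injective (subtype_injective _), S.card_eq_multiplicity,
      ← Solv.card_mul_relIndex (ker_le_comap f A), relIndex_ker, map_comap_eq_self_of_surjective hf]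

theorem DC.map {Q : Type u} [Group Q] {f : G →* Q} (hf : Function.Surjective f) {p : ℕ} [Fact p.Prime] (h : DC p G) :
    DC p Q := fun A B hA hB e => by
  obtain ⟨A', a1, rfl, a3⟩ := syl_lift hf A hA
  obtain ⟨B', b1, rfl, b3⟩ := syl_lift hf B hB
  obtain ⟨g, rfl⟩ := h A' B' a1 b1 (by rw [a3, b3, e])
  exact ⟨f g, (map_cj f g A').symm⟩

theorem CyP.map {Q : Type u} [Group Q] {f : G →* Q} (hf : Function.Surjective f) {p : ℕ} [Fact p.Prime] (h : CyP p G) :
    CyP p Q := fun A hA => by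
  obtain ⟨A', a1, rfl, -⟩ := syl_lift hf A hA
  haveI := h A' a1
  exact isCyclic_of_surjective _ (f.subgroupMap_surjective A')

theorem CyP.sub {p : ℕ} (h : CyP p G) (L : Subgroup G) : CyP p L := fun A hA => by
  haveI := h _ (hA.map L.subtype)
  exact isCyclic_of_surjective _ (A.equivMapOfInjective _ L.subtype_injective).symm.surjective

theorem CyP.dc {p : ℕ} [Fact p.Prime] (h : CyP p G) : DC p G := fun A B hA hB e => by
  obtain ⟨S, hS⟩ := hA.exists_le_sylow
  obtain ⟨T, hT⟩ := hB.exists_le_sylow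
  obtain ⟨g, rfl⟩ := MulAction.exists_smul_eq G S T
  refine ⟨g, ?_⟩
  have h1 : MulAut.conj g • A ≤ (g • S).1 := pointwise_smul_le_pointwise_smul_iff.2 hS
  have h2 : Nat.card ↥(MulAut.conj g • A) = Nat.card B := (Solv.card_conj_smul _ _).trans e
  generalize MulAut.conj g • A = C at h1 h2
  obtain ⟨c, hc⟩ := _root_.isCyclic_iff_exists_zpowers_eq_top.1 (h _ (g • S).2)
  have hz : ∀ x ∈ (g • S).1, x ∈ zpowers (c : G) := fun x hx => by
    obtain ⟨k, hk⟩ : (⟨x, hx⟩ : (g • S).1) ∈ zpowers c := hc ▸ mem_top _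
    exact ⟨k, congrArg Subtype.val hk⟩
  obtain ⟨b, hb⟩ := _root_.isCyclic_iff_exists_zpowers_eq_top.1 (h _ hB)
  have hb' : orderOf (b : G) = Nat.card B := by rw [orderOf_coe, ← Nat.card_zpowers, hb, card_top]
  refine eq_of_le_of_card_ge (fun x hx => zpowers_le.2 b.2 ((cyc_mem (hz x (h1 hx)) (hz _ (hT b.2))).2 ?_)) h2.ge
  rw [hb', ← h2]
  exact orderOf_dvd_natCard _ hx

theorem fin_step [Group.IsSolvable G] {p : ℕ} [hp : Fact p.Prime] {N H K : Subgroup G} [N.Normal] (hN : IsPGroup p N)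
    [hM : (H ⊓ N).Normal] (e : H ⊓ N = K ⊓ N) (h1 : H ⊔ N = ⊤) (hc : Nat.card H = Nat.card K)
    (hi : ¬ p ∣ N.relIndex H) : ∃ g : G, MulAut.conj g • H = K := by
  let q := QuotientGroup.mk' (H ⊓ N)
  have hq : Function.Surjective q := QuotientGroup.mk'_surjective _
  have k : q.ker = H ⊓ N := QuotientGroup.ker_mk' _
  have kH : q.ker ≤ H := k.le.trans inf_le_left
  have kK : q.ker ≤ K := (k.trans e).le.trans inf_le_left
  obtain ⟨m, hm⟩ := IsPGroup.iff_card.1 hN
  have i1 : H.index ∣ p ^ m := by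
    rw [← hm, ← relIndex_top_right, ← h1]
    have := Solv.card_sup_dvd (H := H) (N := N) (by rw [normalizer_eq_top]; exact le_top)
    rw [← Solv.card_mul_relIndex (le_sup_left : H ≤ H ⊔ N)] at this
    exact Nat.dvd_of_mul_dvd_mul_left Nat.card_pos this
  obtain ⟨g, hg⟩ := Solv.hall_conj (H := H.map q) (K := K.map q) (by
    rw [index_map_eq _ hq kH, ← relIndex_ker, k, inf_relIndex_left]
    exact (((Nat.Prime.coprime_iff_not_dvd hp.out).2 hi).symm.pow_right m).coprime_dvd_right i1) (by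
    refine Nat.eq_of_mul_eq_mul_left (Nat.card_pos (α := q.ker)) ?_
    rw [← relIndex_ker, ← relIndex_ker, Solv.card_mul_relIndex kH, Solv.card_mul_relIndex kK, hc])
  obtain ⟨g, rfl⟩ := hq g
  rw [← map_cj] at hg
  refine ⟨g, map_injective_of_ker_le q ?_ kK hg⟩
  rw [← Normal.conj_smul_eq_self g q.ker]
  exact pointwise_smul_le_pointwise_smul_iff.2 kH

theorem mid_step [Group.IsSolvable G] {p : ℕ} [hp : Fact p.Prime] {N H K : Subgroup G} [hNn : N.Normal] (hN : IsPGroup p N)
    (ih : AllC (G ⧸ N)) [hM : (H ⊓ N).Normal] (e : H ⊓ N = K ⊓ N) (hc : Nat.card H = Nat.card K)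
    (hi : N ≤ H ∨ ¬ p ∣ N.relIndex K) : ∃ g : G, MulAut.conj g • H = K := by
  let q := QuotientGroup.mk' N
  have k : q.ker = N := QuotientGroup.ker_mk' _
  obtain ⟨g, hg⟩ := ih (H.map q) (K.map q) (by
    refine Nat.eq_of_mul_eq_mul_left (Nat.card_pos (α := ↥(H ⊓ N))) ?_
    rw [← relIndex_ker, ← relIndex_ker, k, ← inf_relIndex_left H, ← inf_relIndex_left K, ← e,
      Solv.card_mul_relIndex inf_le_left, Solv.card_mul_relIndex (e ▸ inf_le_left), hc])
  obtain ⟨g, rfl⟩ := QuotientGroup.mk'_surjective N g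
  rw [← map_cj] at hg
  have h1 := congrArg (comap q) hg
  rw [comap_map_eq, comap_map_eq, k] at h1
  have h2 : K ⊓ N = MulAut.conj g • H ⊓ N := by
    rw [← e, ← Normal.conj_smul_eq_self g (H ⊓ N), smul_inf, Normal.conj_smul_eq_self g N]
  rcases hi with hi | hi
  · have h3 : N ≤ K := by rw [← inf_eq_right, ← e, inf_eq_right]; exact hi
    rw [h2.symm.trans (inf_eq_right.2 h3) |> inf_eq_right.1 |> sup_eq_left.2, sup_eq_left.2 h3] at h1
    exact ⟨g, h1⟩
  haveI : (K.subgroupOf (K ⊔ N) ⊓ N.subgroupOf (K ⊔ N)).Normal := (e ▸ hM : (K ⊓ N).Normal).comap (K ⊔ N).subtype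
  have hle : MulAut.conj g • H ≤ K ⊔ N := h1 ▸ le_sup_left
  obtain ⟨x, hx⟩ := fin_step (N := N.subgroupOf (K ⊔ N)) (H := K.subgroupOf (K ⊔ N))
    (K := (MulAut.conj g • H).subgroupOf (K ⊔ N)) (hN.comap_subtype) (congrArg (comap (K ⊔ N).subtype) h2)
    (by rw [← subgroupOf_sup le_sup_left le_sup_right, subgroupOf_self]) (by
      rw [Nat.card_congr (subgroupOfEquivOfLe le_sup_left).toEquiv, Nat.card_congr (subgroupOfEquivOfLe hle).toEquiv,
        Solv.card_conj_smul, hc]) (by rwa [relIndex_subgroupOf le_sup_left])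
  have h4 := Solv.conj_of_conj_subgroupOf le_sup_left hle x hx
  exact ⟨(x : G)⁻¹ * g, by rw [map_mul, mul_smul, ← h4, map_inv, inv_smul_smul]⟩

end

theorem thm_4022 (r : ℕ) (n : ℕ) : ∀ (G : Type u) [Group G] [Finite G] [Group.IsSolvable G], Nat.card G = n →
    (∀ p, p.Prime → DC p G) → (∀ p, p.Prime → p ≠ r → CyP p G) → AllC G := by
  induction n using Nat.strong_induction_on with
  | _ n ih =>
  intro G _ _ _ hn hD hC H K hc
  by_cases h0 : (⊤ : Subgroup G) = ⊥
  · exact ⟨1, by rw [map_one, one_smul, eq_bot_iff.2 (h0 ▸ le_top : H ≤ ⊥), eq_bot_iff.2 (h0 ▸ le_top : K ≤ ⊥)]⟩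
  obtain ⟨N, -, hNn, hN0, hmin⟩ := Solv.exists_minimal_normal_le ⊤ h0
  obtain ⟨hNc, p, hp, hNp⟩ := Solv.minimal_normal_elementary N inferInstance hN0 hmin
  haveI := Fact.mk hp
  have hN : IsPGroup p N := fun x => ⟨1, Subtype.ext (by simpa using hNp x x.2)⟩
  obtain ⟨m, hm0, hm⟩ := hN.nontrivial_iff_card.1 ((nontrivial_iff_ne_bot N).2 hN0)
  have hin : ∀ (j : ℕ) (A : Subgroup G), j ≤ m → Nat.card A = p ^ j → A ≤ N := fun j A hj hA => by
    obtain ⟨B, hB⟩ := Sylow.exists_subgroup_card_pow_prime p (G := N) (n := j) (hm ▸ pow_dvd_pow p hj)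
    rw [← card_map_of_injective N.subtype_injective] at hB
    obtain ⟨g, rfl⟩ := hD p hp _ A (.of_card hB) (.of_card hA) (hB.trans hA.symm)
    exact (pointwise_smul_le_pointwise_smul_iff.2 (map_subtype_le _)).trans (Normal.conj_smul_eq_self g N).le
  have hlt : ∀ L : Subgroup G, N ≤ L → Nat.card (L ⧸ N.subgroupOf L) < n := fun L hL => by
    have h1 := (N.subgroupOf L).card_mul_index
    rw [Nat.card_congr (subgroupOfEquivOfLe hL).toEquiv, hm] at h1
    have h2 := card_le_card_group L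
    have h3 := Nat.one_lt_pow hm0.ne' hp.one_lt
    have h4 : 0 < (N.subgroupOf L).index := Nat.pos_of_ne_zero index_ne_zero_of_finite
    show (N.subgroupOf L).index < n
    nlinarith
  by_cases h1 : m = 1
  · subst h1
    have hq := QuotientGroup.mk'_surjective N
    have h2 : AllC (G ⧸ N) := ih _ (by
      have h1 := N.card_mul_index
      have h3 := hp.one_lt
      have h4 : 0 < N.index := Nat.pos_of_ne_zero index_ne_zero_of_finite
      rw [hm, pow_one, hn] at h1
      show N.index < n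
      nlinarith) _ rfl (fun q hq' => haveI := Fact.mk hq'; (hD q hq').map hq)
      fun q hq' h => haveI := Fact.mk hq'; (hC q hq' h).map hq
    have h3 : ∀ H : Subgroup G, p ∣ Nat.card H → N ≤ H := fun H h => by
      obtain ⟨B, hB⟩ := Sylow.exists_subgroup_card_pow_prime p (G := H) (n := 1) (by simpa using h)
      rw [← card_map_of_injective H.subtype_injective] at hB
      rw [← eq_of_le_of_card_ge (hin 1 _ le_rfl hB) (by rw [hm, hB])]
      exact map_subtype_le _
    have h4 : ∀ H : Subgroup G, ¬ p ∣ Nat.card H → H ⊓ N = ⊥ := fun H h =>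
      disjoint_iff.1 (disjoint_of_coprime_natCard (hm ▸ ((Nat.Prime.coprime_iff_not_dvd hp).2 h).symm.pow_right 1))
    by_cases hd : p ∣ Nat.card H
    · haveI : (H ⊓ N).Normal := by rwa [inf_eq_right.2 (h3 H hd)]
      exact mid_step hN h2 (by rw [inf_eq_right.2 (h3 H hd), inf_eq_right.2 (h3 K (hc ▸ hd))]) hc (.inl (h3 H hd))
    · haveI : (H ⊓ N).Normal := by rw [h4 H hd]; infer_instance
      exact mid_step hN h2 (by rw [h4 H hd, h4 K (hc ▸ hd)]) hc
        (.inr fun e => hd (hc ▸ e.trans (relIndex_dvd_card _ _)))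
  have hpr : p = r := by
    by_contra h
    haveI := hC p hp h N hN
    have := IsCyclic.exponent_eq_card (α := N) ▸ Monoid.exponent_dvd_of_forall_pow_eq_one
      (G := N) (n := p) fun x => Subtype.ext (hNp x x.2)
    rw [hm] at this
    have := (Nat.pow_dvd_pow_iff_le_right hp.one_lt).1 (this.trans (pow_one p).symm.dvd)
    omega
  subst hpr
  have hall : ∀ A : Subgroup G, IsPGroup p A → A ≤ N := fun A hA x hx => by
    obtain ⟨j, hj⟩ := IsPGroup.iff_orderOf.1 hA ⟨x, hx⟩
    rw [orderOf_mk] at hj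
    by_cases h2 : j ≤ 2
    · exact hin j _ (by omega) ((Nat.card_zpowers x).trans hj) (mem_zpowers x)
    · obtain ⟨y, -, hy⟩ := cyc_ex x (k := p ^ 2) (by rw [hj]; exact pow_dvd_pow p (by omega))
      have := orderOf_dvd_of_pow_eq_one (hNp y (hin 2 _ (by omega) ((Nat.card_zpowers y).trans hy) (mem_zpowers y)))
      rw [hy] at this
      have := (Nat.pow_dvd_pow_iff_le_right hp.one_lt).1 (this.trans (pow_one p).symm.dvd)
      omega
  have hsy : ∀ H : Subgroup G, Nat.card ↥(H ⊓ N) = p ^ (Nat.card H).factorization p ∧ ¬ p ∣ N.relIndex H := fun H => by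
    obtain ⟨S⟩ : Nonempty (Sylow p H) := inferInstance
    have : N.subgroupOf H = S := S.is_maximal' hN.comap_subtype fun x hx => hall _ (S.2.map H.subtype) ⟨x, hx, rfl⟩
    refine ⟨?_, by rw [relIndex, this]; exact S.not_dvd_index⟩
    rw [← S.card_eq_multiplicity, ← this, ← inf_subgroupOf_left,
      Nat.card_congr (subgroupOfEquivOfLe inf_le_left).toEquiv]
  obtain ⟨g, hg⟩ := hD p hp (H ⊓ N) (K ⊓ N) (hN.to_le inf_le_right) (hN.to_le inf_le_right)
    (by rw [(hsy H).1, (hsy K).1, hc])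
  rw [smul_inf, Normal.conj_smul_eq_self g N] at hg
  suffices ∀ H : Subgroup G, Nat.card H = Nat.card K → H ⊓ N = K ⊓ N → ∃ g : G, MulAut.conj g • H = K by
    obtain ⟨x, hx⟩ := this _ ((Solv.card_conj_smul _ _).trans hc) hg
    exact ⟨x * g, by rw [map_mul, mul_smul, hx]⟩
  intro H hc e
  let L := normalizer ((H ⊓ N : Subgroup G) : Set G) 
  have hl : ∀ H : Subgroup G, H ≤ normalizer ((H ⊓ N : Subgroup G) : Set G) := fun H =>
    (normal_subgroupOf_iff_le_normalizer inf_le_left).1 (by rw [inf_subgroupOf_left]; infer_instance)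
  have hHL : H ≤ L := hl H
  have hKL : K ≤ L := by simp only [L, e]; exact hl K
  have hNL : N ≤ L := (normal_subgroupOf_iff_le_normalizer inf_le_right).1
    ⟨fun a ha b => by rwa [mul_comm' b a, mul_inv_cancel_right]⟩
  have hq := QuotientGroup.mk'_surjective (N.subgroupOf L)
  have hcy : ∀ q, q.Prime → CyP q (L ⧸ N.subgroupOf L) := fun q hq' => by
    haveI := Fact.mk hq'
    by_cases h : q = p
    · subst h
      intro A hA
      obtain ⟨B, b1, rfl, -⟩ := syl_lift hq A hA
      rw [(Subgroup.map_eq_bot_iff B).2 (by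
        rw [QuotientGroup.ker_mk']; exact fun x hx => hall _ (b1.map L.subtype) ⟨x, hx, rfl⟩)]
      infer_instance
    · exact ((hC q hq' h).sub L).map hq
  haveI : (H.subgroupOf L ⊓ N.subgroupOf L).Normal := (normal_subgroupOf_iff_le_normalizer le_normalizer).2 le_rfl
  obtain ⟨x, hx⟩ := mid_step (N := N.subgroupOf L) (H := H.subgroupOf L) (K := K.subgroupOf L) hN.comap_subtype
    (ih _ (hlt L hNL) _ rfl (fun q hq' => haveI := Fact.mk hq'; (hcy q hq').dc) fun q hq' _ => hcy q hq')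
    (congrArg (comap L.subtype) e) (by
      rw [Nat.card_congr (subgroupOfEquivOfLe hHL).toEquiv, Nat.card_congr (subgroupOfEquivOfLe hKL).toEquiv, hc])
    (.inr (by rw [relIndex_subgroupOf hKL]; exact (hsy K).2))
  exact ⟨x, Solv.conj_of_conj_subgroupOf hHL hKL x hx⟩

end Cfsg.Agent.PU.Af
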