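import Cfsg.Agent.Lib.PU.Af9
import Cfsg.Agent.Lib.Solv.MaxCl
import Cfsg.Agent.S0519
import Cfsg.Agent.S0016

/-! Counting involutions in `2`-groups. -/

set_option autoImplicit false
set_option linter.unusedSectionVars false
set_option linter.unusedVariables false
set_option linter.style.haveILetI false

namespace Cfsg.Agent.PU.Af
open Subgroup
open scoped commutatorElement

theorem odd_inv {α : Type*} [Finite α] (h : Odd (Nat.card α)) (f : α → α) (hf : ∀ a, f (f a) = a) : ∃ a, f a = a := by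
  classical
  cases nonempty_fintype α
  by_contra! hc
  have := Equiv.Perm.card_fixedPoints_modEq (p := 2) (n := 1) (f := (f : Function.End α)) (funext hf)
  haveI h0 : IsEmpty (Function.fixedPoints f) := ⟨fun a => hc a.1 a.2⟩
  rw [← Nat.card_eq_fintype_card, ← Nat.card_eq_fintype_card, Nat.card_of_isEmpty (α := Function.fixedPoints _)] at this
  exact Nat.not_even_iff_odd.2 h (even_iff_two_dvd.2 (Nat.modEq_zero_iff_dvd.1 this))

section
variable {G : Type*} [Group G] [Finite G]

theorem idx4 (hG : IsPGroup 2 G) (hc : ¬ IsCyclic G) (x : G) (h1 : 4 * orderOf x = Nat.card G)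
    (h2 : x ∈ commutator G) : (commutator G).index = 4 := by
  refine Nat.dvd_antisymm ?_ (Solv.sq_dvd_index_commutator hG hc)
  have := (zpowers x).index_mul_card
  rw [Nat.card_zpowers, ← h1] at this
  exact Nat.eq_of_mul_eq_mul_right (orderOf_pos x) this ▸ index_dvd_of_le (zpowers_le.2 h2)

theorem idx4_q (hG : IsPGroup 2 G) (hc : ¬ IsCyclic G) {n : ℕ} (e : G ≃* QuaternionGroup n) : (commutator G).index = 4 := by
  haveI := Finite.of_equiv _ e.toEquiv
  haveI : NeZero n := ⟨by
    rintro rfl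
    haveI : Finite ℤ := Finite.of_injective (QuaternionGroup.a (n := 0)) fun _ _ => QuaternionGroup.a.inj
    exact not_finite ℤ⟩
  refine idx4 hG hc ⁅e.symm (.a 1), e.symm (.xa 0)⁆ ?_ (commutator_mem_commutator (mem_top _) (mem_top _))
  rw [← map_commutatorElement, MulEquiv.orderOf_eq, Nat.card_congr e.toEquiv, Nat.card_eq_fintype_card,
    QuaternionGroup.card, show ⁅QuaternionGroup.a (n := n) 1, QuaternionGroup.xa 0⁆ = QuaternionGroup.a 1 ^ 2 by
      rw [commutatorElement_def, mul_inv_eq_iff_eq_mul, mul_inv_eq_iff_eq_mul]; simp [sq],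
    orderOf_pow_of_dvd two_ne_zero (by simp [QuaternionGroup.orderOf_a_one]), QuaternionGroup.orderOf_a_one]
  simp

theorem idx4_d (hG : IsPGroup 2 G) (hc : ¬ IsCyclic G) {n : ℕ} (hn : 8 ≤ n) (e : G ≃* DihedralGroup n) :
    (commutator G).index = 4 := by
  haveI : NeZero n := ⟨by omega⟩
  obtain ⟨k, hk⟩ := IsPGroup.iff_orderOf.1 hG (e.symm (.r 1))
  rw [MulEquiv.orderOf_eq, DihedralGroup.orderOf_r_one] at hk
  obtain ⟨m, hm⟩ : 2 ∣ n := hk ▸ dvd_pow_self 2 (by rintro rfl; omega)
  refine idx4 hG hc ⁅e.symm (.r 1), e.symm (.sr 0)⁆ ?_ (commutator_mem_commutator (mem_top _) (mem_top _))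
  rw [← map_commutatorElement, MulEquiv.orderOf_eq, DihedralGroup.nat_card.symm.trans (Nat.card_congr e.toEquiv).symm |>.symm,
    show ⁅DihedralGroup.r (n := n) 1, DihedralGroup.sr 0⁆ = DihedralGroup.r 1 ^ 2 by
      rw [commutatorElement_def, sq]; simp,
    orderOf_pow_of_dvd two_ne_zero (by rw [DihedralGroup.orderOf_r_one]; exact ⟨m, hm⟩), DihedralGroup.orderOf_r_one]
  omega

theorem idx4_s (hG : IsPGroup 2 G) (hc : ¬ IsCyclic G) (h : IsQuasiDihedral G) : (commutator G).index = 4 := by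
  obtain ⟨n, hn, h1, x, y, hx, -, h2⟩ := h
  obtain ⟨n, rfl⟩ := Nat.exists_eq_add_of_le' hn
  refine idx4 hG hc ⁅y, x⁆ ?_ (commutator_mem_commutator (mem_top _) (mem_top _))
  have h3 : 0 < 2 ^ n := by positivity
  have h4 : ⁅y, x⁆ = (x ^ 2) ^ (2 * 2 ^ n - 1) := by
    rw [commutatorElement_def, h2, mul_inv_eq_iff_eq_mul, ← pow_mul, ← pow_succ]
    congr 1
    rw [show n + 3 - 1 = n + 2 from rfl, pow_add]; omega
  have h5 : orderOf (x ^ 2) = 2 ^ (n + 2) := by
    rw [orderOf_pow_of_dvd two_ne_zero (hx ▸ dvd_pow_self 2 (by omega)), hx, pow_succ]; omega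
  rw [h4, Nat.Coprime.orderOf_pow (by
    rw [h5]; exact Nat.Coprime.pow_left _ (Nat.coprime_two_left.2 ⟨2 ^ n - 1, by omega⟩)), h5, h1]
  ring

theorem cen_meet (hG : IsPGroup 2 G) (N : Subgroup G) [N.Normal] (h : N ≠ ⊥) :
    ∃ c ∈ N, c ∈ center G ∧ c ≠ 1 ∧ c ^ 2 = 1 := by
  haveI := hG.isNilpotent
  have h1 : N ⊓ center G ≠ ⊥ := fun e => Solv.inf_centralizer_ne_bot_of_nilpotent (L := ⊤)
    inferInstance le_top le_normalizer_of_normal h (by rwa [coe_top, centralizer_univ])
  obtain ⟨k, hk⟩ := IsPGroup.iff_card.1 (hG.to_subgroup (N ⊓ center G))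
  obtain ⟨c, hc⟩ := exists_prime_orderOf_dvd_card' (G := (N ⊓ center G :)) 2 (hk ▸ dvd_pow_self 2 (by
    rintro rfl; exact h1 (card_eq_one.1 hk)))
  rw [← orderOf_coe] at hc
  exact ⟨c, c.2.1, c.2.2, fun e => by simp [e] at hc, hc ▸ pow_orderOf_eq_one _⟩

theorem thm_4477 (hG : IsPGroup 2 G) (ht : Nat.card {x : G // orderOf x = 2} % 4 = 1) :
    IsCyclic G ∨ (commutator G).index = 4 := by
  classical
  refine or_iff_not_imp_left.2 fun hc => ?_
  obtain ⟨z, -, hz, hz1, hz2⟩ := cen_meet hG ⊤ (fun e => hc (by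
    haveI : Subsingleton G := ⟨fun a b => (mem_bot.1 (e ▸ mem_top a)).trans (mem_bot.1 (e ▸ mem_top b)).symm⟩
    infer_instance))
  have hzc : ∀ g, Commute g z := mem_center_iff.1 hz
  have hoz : orderOf z = 2 := orderOf_eq_prime hz2 hz1
  haveI : (zpowers z).Normal := ⟨fun a ha g => by rwa [mem_center_iff.1 (zpowers_le.2 hz ha) g, mul_inv_cancel_right]⟩
  let q := QuotientGroup.mk' (zpowers z)
  have hq : Function.Surjective q := QuotientGroup.mk'_surjective _
  have hZ : ∀ a, q a = 1 → a = 1 ∨ a = z := fun a ha => by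
    have := (QuotientGroup.eq_one_iff a).1 ha
    rw [mem_zpowers_iff_mem_range_orderOf, hoz] at this
    simpa [Finset.range_add_one, eq_comm, or_comm] using this
  have hqz : q z = 1 := (QuotientGroup.eq_one_iff z).2 (mem_zpowers z)
  have hE : ∀ a b, q a = q b → a = b ∨ a = b * z := fun a b h => by
    rcases hZ (b⁻¹ * a) (by rw [map_mul, map_inv, h, inv_mul_cancel]) with e | e
    · exact .inl (inv_mul_eq_one.1 e).symm
    · exact .inr (inv_mul_eq_iff_eq_mul.1 e)
  have hsq : ∀ a b, q a = q b → a ^ 2 = b ^ 2 := fun a b h => by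
    rcases hE a b h with rfl | rfl
    · rfl
    · rw [(hzc b).mul_pow, hz2, mul_one]
  let X : SubMulAction (ConjAct (G ⧸ zpowers z)) (G ⧸ zpowers z) := ⟨q '' {x | x ^ 2 = 1}, by
    rintro g _ ⟨x, hx, rfl⟩
    obtain ⟨g, hg⟩ := hq (ConjAct.ofConjAct g)
    exact ⟨g * x * g⁻¹, by rw [Set.mem_ofPred_eq, conj_pow, hx]; simp, by simp [ConjAct.smul_def, ← hg]⟩⟩
  have hX : Odd (Nat.card X) := by
    have h1 := QuotientGroup.card_preimage_mk (zpowers z) (q '' {x | x ^ 2 = 1})
    have h2 : QuotientGroup.mk ⁻¹' (q '' {x | x ^ 2 = 1}) = insert 1 {x : G | orderOf x = 2} := by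
      ext x
      constructor
      · rintro ⟨y, hy, e⟩
        exact or_iff_not_imp_left.2 fun h => orderOf_eq_prime ((hsq _ _ e).symm.trans hy) h
      · rintro (rfl | h)
        · exact ⟨1, by simp, rfl⟩
        · exact ⟨x, by rw [Set.mem_ofPred_eq, ← h, pow_orderOf_eq_one], rfl⟩
    rw [h2, Nat.card_zpowers, hoz, Nat.card_coe_set_eq, Set.ncard_insert_of_notMem (by simp)] at h1
    have h3 : Set.ncard {x : G | orderOf x = 2} % 4 = 1 := ht
    have h4 : Nat.card X = Nat.card (q '' {x | x ^ 2 = 1}) := rfl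
    exact Nat.odd_iff.2 (by omega)
  have hF : Odd (Nat.card {y : G ⧸ zpowers z // y ∈ center _ ∧ y ∈ q '' {x | x ^ 2 = 1}}) := by
    have := ((hG.to_quotient (zpowers z)).of_equiv ConjAct.toConjAct).card_modEq_card_fixedPoints X
    rw [Nat.odd_iff, ← Nat.odd_iff.1 hX, this]
    congr 1
    exact Nat.card_congr ⟨fun y => ⟨⟨y.1, y.2.2⟩, fun g => Subtype.ext
      (mul_inv_eq_iff_eq_mul.2 (mem_center_iff.1 y.2.1 _))⟩, fun y => ⟨y.1.1, mem_center_iff.2 fun g =>
        mul_inv_eq_iff_eq_mul.1 (congrArg Subtype.val (y.2 (ConjAct.toConjAct g))), y.1.2⟩, fun _ => rfl, fun _ => rfl⟩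
  have hcm : ∀ a b : G, q a ∈ center _ → Commute a b ∨ a * b = b * a * z := fun a b h =>
    hE _ _ (by rw [map_mul, map_mul, mem_center_iff.1 h])
  by_cases hv : ∃ v, q v ∈ center _ ∧ v ^ 2 = 1 ∧ q v ≠ 1
  · obtain ⟨v, v1, v2, v3⟩ := hv
    have qv : q v * q v = 1 := by rw [← map_mul, ← sq, v2, map_one]
    have hcj : ∀ a b, q a = q b → Commute a v → Commute b v := fun a b h h' => by
      rcases hE b a h.symm with rfl | rfl
      · exact h'
      · exact h'.mul_left (hzc v).symm
    have hnc : ∀ a, ¬ Commute a v → (a * v) ^ 2 = a ^ 2 * z := fun a h => by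
      have := (hcm v a v1).resolve_left fun e => h e.symm
      calc (a * v) ^ 2 = a * (v * a) * v := by rw [sq]; group
        _ = a ^ 2 * (v * z * v) := by rw [this, sq]; group
        _ = _ := by rw [(hzc v).eq, mul_assoc z, ← sq, v2, mul_one]
    have key : ∀ c, q c ∈ center _ → q c * q c = 1 → Commute c v → ∃ y, q y ∈ center _ ∧ y ^ 2 = 1 ∧
        ¬ Commute y v ∧ (q c = 1 ∨ q c = q v) := by
      intro c c1 c2 c3
      have hstep : ∀ y : {y : G ⧸ zpowers z // y ∈ center _ ∧ y ∈ q '' {x | x ^ 2 = 1}},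
          ∃ w : {y : G ⧸ zpowers z // y ∈ center _ ∧ y ∈ q '' {x | x ^ 2 = 1}},
          (Commute y.1.out v ∧ w.1 = y.1 * q v) ∨ (¬ Commute y.1.out v ∧ (w.1 = y.1 * q c ∨ w.1 = y.1 * q c * q v)) := by
        rintro ⟨_, y1, y, y2, rfl⟩
        have ho : q (q y).out = q y := QuotientGroup.out_eq' _
        by_cases h : Commute y v
        · exact ⟨⟨q y * q v, mul_mem y1 v1, y * v, by rw [Set.mem_ofPred_eq, h.mul_pow, y2, v2, mul_one], map_mul _ _ _⟩,
            .inl ⟨hcj _ _ ho.symm h, rfl⟩⟩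
        have h' : ¬ Commute (y * c) v := fun e => h (by simpa using e.mul_left c3.inv_left)
        rcases hZ ((y * c) ^ 2) (by
          rw [map_pow, map_mul, (show Commute (q y) (q c) from mem_center_iff.1 c1 _).mul_pow, ← map_pow, y2, sq, c2]
          simp) with e | e
        · exact ⟨⟨q y * q c, mul_mem y1 c1, y * c, e, map_mul _ _ _⟩, .inr ⟨fun e => h (hcj _ _ ho e), .inl rfl⟩⟩
        · exact ⟨⟨q y * q c * q v, mul_mem (mul_mem y1 c1) v1, y * c * v, by
            rw [Set.mem_ofPred_eq, hnc _ h', e, ← sq, hz2], by rw [map_mul, map_mul]⟩,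
            .inr ⟨fun e => h (hcj _ _ ho e), .inr rfl⟩⟩
      choose f hf using hstep
      have hcv : q c * q v = q v * q c := by rw [← map_mul, c3.eq, map_mul]
      obtain ⟨⟨_, y1, y, y2, rfl⟩, hy⟩ := odd_inv hF f (by
        rintro ⟨_, y1, y, y2, rfl⟩
        have ho : q (q y).out = q y := QuotientGroup.out_eq' _
        have ho' := QuotientGroup.out_eq' (f ⟨q y, y1, y, y2, rfl⟩).1
        have hne : ¬ Commute y v → (f (f ⟨q y, y1, y, y2, rfl⟩)).1 ≠ q y * q v := fun h e => by
          obtain ⟨w, w2, w3⟩ := (f (f ⟨q y, y1, y, y2, rfl⟩)).2.2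
          have := hsq _ _ (w3.trans (e.trans (map_mul q y v).symm))
          rw [w2, hnc y h, y2, one_mul] at this
          exact hz1 this.symm
        apply Subtype.ext
        rcases hf ⟨q y, y1, y, y2, rfl⟩ with ⟨a1, a2⟩ | ⟨a1, a2⟩ <;>
          rcases hf (f ⟨q y, y1, y, y2, rfl⟩) with ⟨b1, b2⟩ | ⟨b1, b2⟩
        · rw [b2, a2, mul_assoc, qv, mul_one]
        · exact absurd (hcj (y * v) _ ((map_mul q y v).trans (a2.symm.trans ho'.symm))
            ((hcj _ _ ho a1).mul_left (.refl v))) b1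
        · refine absurd (hcj _ _ ho.symm ?_) a1
          rcases a2 with a2 | a2
          · simpa using (hcj _ (y * c) (ho'.trans (a2.trans (map_mul q y c).symm)) b1).mul_left c3.inv_left
          · simpa using ((hcj _ (y * c * v) (ho'.trans (a2.trans (by rw [map_mul, map_mul]))) b1).mul_left
              (Commute.refl v).inv_left).mul_left c3.inv_left
        · have h := hne fun e => a1 (hcj _ _ ho.symm e)
          rcases a2 with a2 | a2 <;> rcases b2 with b2 | b2
          · rw [b2, a2, mul_assoc, c2, mul_one]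
          · exact absurd (by rw [b2, a2, mul_assoc (q y), c2, mul_one]) h
          · exact absurd (by rw [b2, a2, mul_assoc (q y * q c), ← hcv, ← mul_assoc, mul_assoc (q y), c2, mul_one]) h
          · rw [b2, a2, mul_assoc (q y * q c), ← hcv, ← mul_assoc, mul_assoc (q y), c2, mul_one, mul_assoc, qv, mul_one])
      have ho : q (q y).out = q y := QuotientGroup.out_eq' _
      rcases hf ⟨q y, y1, y, y2, rfl⟩ with ⟨a1, a2⟩ | ⟨a1, a2⟩ <;> rw [hy] at a2
      · exact absurd (left_eq_mul.1 a2) v3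
      refine ⟨y, y1, y2, fun e => a1 (hcj _ _ ho.symm e), a2.imp left_eq_mul.1 fun e => ?_⟩
      rw [mul_assoc, left_eq_mul] at e
      exact mul_right_cancel (e.trans qv.symm)
    obtain ⟨x, x1, x2, x3, -⟩ := key 1 (by simp) (by simp) (by simp)
    have hn : ∀ a, q a ∈ center _ → (centralizer {a}).Normal ∧ (centralizer {a}).index ≤ 2 := fun a ha => by
      have h1 : ∀ g : G, ⁅g, a⁆ ∈ zpowers z := fun g => (QuotientGroup.eq_one_iff _).1 ((map_commutatorElement q g a).trans
        (commutatorElement_eq_one_iff_mul_comm.2 (mem_center_iff.1 ha _)))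
      refine ⟨⟨fun b hb g => mem_centralizer_singleton_iff.2 ?_⟩, by
        simpa [hoz] using Sm.idx_cent h1 (zpowers_le.2 hz)⟩
      have h2 : Commute b (⁅g⁻¹, a⁆ * a) := Commute.mul_right (mem_center_iff.1 (zpowers_le.2 hz (h1 _)) b)
        (mem_centralizer_singleton_iff.1 hb)
      have h3 := h2.conj g
      rwa [show g * (⁅g⁻¹, a⁆ * a) * g⁻¹ = a by simp only [commutatorElement_def]; group] at h3
    haveI := (hn x x1).1
    haveI := (hn v v1).1
    have hR : (centralizer {x} ⊓ centralizer {v}).map q = ⊥ := by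
      by_contra h
      haveI := Normal.map (inferInstance : (centralizer {x} ⊓ centralizer {v}).Normal) q hq
      obtain ⟨_, ⟨c, hc', rfl⟩, c1, c2, c3⟩ := cen_meet (hG.to_quotient _) _ h
      obtain ⟨-, -, -, -, e | e⟩ := key c c1 (sq (q c) ▸ c3) (mem_centralizer_singleton_iff.1 hc'.2)
      · exact c2 e
      · rcases hE v c e.symm with rfl | rfl
        · exact x3 (mem_centralizer_singleton_iff.1 hc'.1).symm
        · exact x3 (Commute.mul_right (mem_centralizer_singleton_iff.1 hc'.1).symm (hzc x))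
    rw [Subgroup.map_eq_bot_iff, QuotientGroup.ker_mk'] at hR
    have h8 : Nat.card G ≤ 8 := by
      rw [← (centralizer {x} ⊓ centralizer {v}).card_mul_index]
      exact Nat.mul_le_mul ((card_le_of_le hR).trans (by rw [Nat.card_zpowers, hoz]))
        (index_inf_le.trans (Nat.mul_le_mul (hn x x1).2 (hn v v1).2))
    obtain ⟨k, hk⟩ := Solv.sq_dvd_index_commutator hG hc
    have h9 := (commutator G).card_mul_index
    have h10 : 1 < Nat.card (commutator G) := (one_lt_card_iff_ne_bot _).2 fun e => x3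
      (commutatorElement_eq_one_iff_commute.1 (mem_bot.1 (e ▸ commutator_mem_commutator (mem_top x) (mem_top v))))
    have h11 : k ≠ 0 := by rintro rfl; exact index_ne_zero_of_finite hk
    rw [hk] at h9 ⊢
    have : k = 1 := by
      by_contra h
      have : 2 * (2 ^ 2 * 2) ≤ Nat.card (commutator G) * (2 ^ 2 * k) := Nat.mul_le_mul h10 (Nat.mul_le_mul_left _ (by omega))
      omega
    rw [this]; norm_num
  push Not at hv
  have hn : ∀ A : Subgroup G, A.Normal → IsMulCommutative A → IsCyclic A := by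
    intro A hA hA'
    by_contra hnc
    haveI := hG.isNilpotent
    obtain ⟨E, -, e1, -, e2, e3⟩ := Solv.exists_normal_elementary_sq_of_abelian (L := ⊤) inferInstance hA'
      (hG.to_subgroup A) le_top le_normalizer_of_normal hnc
    haveI := Solv.normal_iff_top_le_normalizer.2 e3
    haveI := Normal.map (inferInstance : E.Normal) q hq
    by_cases h : E.map q = ⊥
    · rw [Subgroup.map_eq_bot_iff, QuotientGroup.ker_mk'] at h
      have := card_le_of_le h
      rw [e1, Nat.card_zpowers, hoz] at this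
      omega
    · obtain ⟨_, ⟨c, hc', rfl⟩, c1, c2, -⟩ := cen_meet (hG.to_quotient _) _ h
      exact c2 (hv c c1 (e2 c hc'))
  by_cases hm : ∃ B : Subgroup G, IsMulCommutative B ∧ ¬ IsCyclic B
  · obtain ⟨-, ⟨n, ⟨e⟩⟩ | ⟨n, h, ⟨e⟩⟩ | h⟩ := S0519.result 2 hG hn hm
    exacts [idx4_q hG hc e, idx4_d hG hc h e, idx4_s hG hc h]
  push Not at hm
  have hu : ∀ H : Subgroup G, Nat.card H = 2 → H = zpowers z := fun H hH => by
    refine eq_of_le_of_card_ge (fun x hx => ?_) (by rw [hH, Nat.card_zpowers, hoz])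
    have x2 : x ^ 2 = 1 := by simpa [hH] using congrArg Subtype.val (pow_card_eq_one' (x := (⟨x, hx⟩ : H)))
    by_contra hxz
    haveI := hm (closure {x, z}) (isMulCommutative_closure (by
      rintro a (rfl | rfl) b (rfl | rfl)
      exacts [rfl, hzc _, (hzc _).symm, rfl]))
    cases nonempty_fintype (closure ({x, z} : Set G))
    have h1 := IsCyclic.card_pow_eq_one_le (α := closure ({x, z} : Set G)) two_pos
    have h2 : x ≠ 1 := by rintro rfl; exact hxz (one_mem _)
    have h3 : x ≠ z := by rintro rfl; exact hxz (mem_zpowers _)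
    refine absurd h1 (not_le.2 (Finset.two_lt_card_iff.2 ⟨1, ⟨x, subset_closure (by simp)⟩, ⟨z, subset_closure (by simp)⟩, ?_⟩))
    simp [Subtype.ext_iff, x2, hz2, h2.symm, hz1.symm, h3]
  rcases S0016.result 2 hG (fun H K h1 h2 => (hu H h1).trans (hu K h2).symm) with h | ⟨-, n, ⟨e⟩⟩
  exacts [absurd h hc, idx4_q hG hc e]

end

end Cfsg.Agent.PU.Af
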