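import Cfsg.Agent.Lib.SSF.Final
import Cfsg.Agent.Lib.BG.Pgp
import Cfsg.Agent.Lib.Comp.Fact

/-! The `k`-balanced signalizer functor. -/

set_option autoImplicit false
set_option linter.unusedSectionVars false
set_option linter.unusedVariables false

namespace Cfsg.Agent.PU.Af
open Subgroup Cfsg.Agent.Comp

variable {G : Type*} [Group G] [Finite G] {p k : ℕ} [hp : Fact p.Prime] {A : Subgroup G}

/-- the join of the `Δ(F)` over the large `F` between `B` and `A` -/
def Th (p k : ℕ) (A B : Subgroup G) : Subgroup G :=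
  ⨆ F : {F : Subgroup G // B ≤ F ∧ F ≤ A ∧ p ^ k ≤ Nat.card F}, signalizerDelta p (F : Subgroup G)

theorem Th_anti {B C : Subgroup G} (h : B ≤ C) : Th p k A C ≤ Th p k A B :=
  iSup_le fun F => le_iSup_of_le ⟨F.1, h.trans F.2.1, F.2.2⟩ le_rfl

theorem Th_le {B : Subgroup G} {x : G} (h : x ∈ B) (h1 : x ≠ 1) : Th p k A B ≤ Opp p (centralizer ({x} : Set G)) :=
  iSup_le fun F => signalizerDelta_le (F.2.1 h) h1

theorem Th_cent (B : Subgroup G) : Th p k A B ≤ centralizer (B : Set G) :=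
  iSup_le fun F => (signalizerDelta_le_centralizer _).trans (centralizer_mono F.2.1)

theorem Th_norm (hA : IsElementaryAbelian p A) (B : Subgroup G) : A ≤ normalizer (Th p k A B : Set G) :=
  le_normalizer_iSup fun F => le_normalizer_iInf fun b =>
    le_normalizer_Opp_of_le (IsElementaryAbelian.le_centralizer_singleton hA (F.2.2.1 b.2.1))

theorem delta_anti' {B C : Subgroup G} (h : B ≤ C) : signalizerDelta p C ≤ signalizerDelta p B :=
  le_signalizerDelta_iff.2 fun a ha h1 => signalizerDelta_le (h ha) h1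

theorem ex_card (hA : IsElementaryAbelian p A) {F : Subgroup G} (hF : F ≤ A) (h : p ^ k ≤ Nat.card F) :
    ∃ D ≤ F, Nat.card D = p ^ k := by
  obtain ⟨D, hD⟩ := Sylow.exists_subgroup_card_pow_prime_of_le_card hp.out
    ((IsElementaryAbelian.isPGroup hA).to_le hF) h
  exact ⟨D.map F.subtype, map_subtype_le _, by rw [card_map_of_injective F.subtype_injective, hD]⟩

theorem delta_step (hbal : IsKBalanced p k G) (hA : IsElementaryAbelian p A) {B : Subgroup G} (hB : B ≤ A)
    (h : p ^ k ≤ Nat.card B) {y : G} (hy : y ∈ A) :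
    signalizerDelta p B ⊓ centralizer {y} ≤ Th p k A (B ⊔ zpowers y) := by
  have h1 : B ⊔ zpowers y ≤ A := sup_le hB (zpowers_le.2 hy)
  refine le_iSup_of_le ⟨B ⊔ zpowers y, le_rfl, h1, h.trans (card_le_of_le le_sup_left)⟩
    (le_signalizerDelta_iff.2 fun a ha a1 => ?_)
  obtain ⟨D, hD, hc⟩ := ex_card hA hB h
  refine le_trans (le_inf (inf_le_left.trans (delta_anti' hD)) ?_)
    (hbal D (IsElementaryAbelian.of_le hA (hD.trans hB)) hc a (IsElementaryAbelian.orderOf_eq hA (h1 ha) a1)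
      fun d hd => mem_centralizer_singleton_iff.1 (IsElementaryAbelian.le_centralizer_singleton hA (h1 ha) (hB (hD hd))))
  exact le_centralizer_iff_forall.1 (le_centralizer_sup (inf_le_left.trans (signalizerDelta_le_centralizer _))
    (by rw [centralizer_zpowers]; exact inf_le_right)) a ha

theorem Th_step (hbal : IsKBalanced p k G) (hA : IsElementaryAbelian p A) (hAk : p ^ (k + 2) ≤ Nat.card A)
    (hsolv : ∀ a ∈ A, a ≠ 1 → Group.IsSolvable (centralizerPPrimeCore p a)) (B : Subgroup G) :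
    B ≤ A → ∀ y ∈ A, Th p k A B ⊓ centralizer {y} ≤ Th p k A (B ⊔ zpowers y) := by
  induction B using WellFoundedGT.induction with | _ B ih => ?_
  intro hB y hy
  by_cases h : p ^ k ≤ Nat.card B
  · exact (inf_le_inf_right _ (iSup_le fun F => delta_anti' F.2.1)).trans (delta_step hbal hA hB h hy)
  obtain ⟨W, w1, w2⟩ := BG.exists_compl_of_elem hA hB
  have hW : W ≤ A := w2 ▸ le_sup_right
  have hn : W ≤ normalizer (B : Set G) := le_normalizer_of_le_centralizer
    (hW.trans ((IsElementaryAbelian.le_centralizer hA).trans (centralizer_mono hB)))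
  have hdec : ∀ y ∈ A, ∃ b ∈ B, ∃ x ∈ W, b * x = y := fun y hy => (mem_sup_of_le_normalizer' hn).1 (w2 ▸ hy)
  have h3 : p ^ 3 ≤ Nat.card W := by
    obtain ⟨j, hj⟩ := IsPGroup.iff_card.1 ((IsElementaryAbelian.isPGroup hA).to_le hB)
    have h4 := Nat.le_of_dvd (Nat.mul_pos Nat.card_pos Nat.card_pos) (card_sup_dvd hn)
    rw [sup_comm, w2, hj] at h4
    rw [hj, not_le, Nat.pow_lt_pow_iff_right hp.out.one_lt] at h
    refine Nat.le_of_mul_le_mul_right (le_trans ?_ (hAk.trans h4)) (Nat.pow_pos hp.out.pos)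
    rw [← pow_add]
    exact Nat.pow_le_pow_right hp.out.pos (by omega)
  have hx : ∀ x : G, x ∈ B ⊔ zpowers x := fun x => mem_sup_right (mem_zpowers x)
  have hS : SSF p W fun x => Th p k A (B ⊔ zpowers x) :=
    ⟨IsElementaryAbelian.of_le hA hW, fun a ha h1 => (Th_le (hx a) h1).trans (Opp_le p _),
      fun a ha h1 => coprime_of_le (coprime_Opp p _) (Th_le (hx a) h1), fun a ha h1 => hW.trans (Th_norm hA _),
      fun a ha h1 b hb h2 => (ih _ (lt_of_le_of_ne le_sup_left fun e => h1 (mem_bot.1 (w1 ▸ ⟨ha, e ▸ hx a⟩)))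
        (sup_le hB (zpowers_le.2 (hW ha))) b (hW hb)).trans (Th_anti (sup_le_sup_right le_sup_left _)),
      fun a ha h1 => isSolvable_of_le (Th_le (hx a) h1) (hsolv a (hW ha) h1)⟩
  obtain ⟨b, hb, x, hxW, rfl⟩ := hdec y hy
  have e : B ⊔ zpowers (b * x) = B ⊔ zpowers x := le_antisymm
    (sup_le le_sup_left (zpowers_le.2 (mul_mem (mem_sup_left hb) (hx x))))
    (sup_le le_sup_left (zpowers_le.2 (by simpa using mul_mem (mem_sup_left (inv_mem hb)) (hx (b * x)))))
  rw [e]
  by_cases x1 : x = 1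
  · subst x1
    exact inf_le_left.trans (by simp)
  refine le_trans (le_inf (inf_le_left.trans (iSup_le fun F => ?_)) ?_) ((Sg.ssft hS h3).le x hxW x1)
  · obtain ⟨f, f1, f2⟩ : ∃ f ∈ F.1, f ∉ B := SetLike.not_le_iff_exists.1 fun e => h (F.2.2.2.trans (card_le_of_le e))
    obtain ⟨c, hc, z, hz, rfl⟩ := hdec f (F.2.2.1 f1)
    have z1 : z ≠ 1 := by rintro rfl; exact f2 (by simpa using hc)
    refine le_iSup_of_le (⟨z, hz, z1⟩ : {a : G // a ∈ W ∧ a ≠ 1}) (le_iSup_of_le ⟨F.1, sup_le F.2.1 (zpowers_le.2 ?_), F.2.2⟩ le_rfl)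
    simpa using mul_mem (inv_mem (F.2.1 hc)) f1
  · refine le_centralizer_iff_forall.1 (e ▸ le_centralizer_sup (inf_le_left.trans (Th_cent _))
      (by rw [centralizer_zpowers]; exact inf_le_right)) x (hx x)

theorem thm_1299 (hbal : IsKBalanced p k G) (hA : IsElementaryAbelian p A) (hAk : p ^ (k + 2) ≤ Nat.card A)
    (hsolv : ∀ a ∈ A, a ≠ 1 → Group.IsSolvable (centralizerPPrimeCore p a)) :
    IsSignalizerFunctor p A (fun a => ⨆ D : {D : Subgroup G // D ≤ A ∧ Nat.card D = p ^ k},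
      signalizerDelta p (D : Subgroup G) ⊓ centralizer {a}) := by
  have e : ∀ a ∈ A, (⨆ D : {D : Subgroup G // D ≤ A ∧ Nat.card D = p ^ k},
      signalizerDelta p (D : Subgroup G) ⊓ centralizer {a}) = Th p k A (zpowers a) := fun a ha => by
    refine le_antisymm (iSup_le fun D => (delta_step hbal hA D.2.1 D.2.2.ge ha).trans (Th_anti le_sup_right))
      (iSup_le fun F => ?_)
    obtain ⟨D, hD, hc⟩ := ex_card hA F.2.2.1 F.2.2.2
    exact le_iSup_of_le ⟨D, hD.trans F.2.2.1, hc⟩ (le_inf (delta_anti' hD)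
      (le_centralizer_iff_forall.1 (signalizerDelta_le_centralizer _) a (F.2.1 (mem_zpowers a))))
  refine ⟨fun a ha h1 => ?_, fun a ha h1 => ?_, fun a ha h1 => ?_, fun a ha h1 b hb h2 => ?_⟩ <;> dsimp only
  · rw [e a ha]; exact (Th_le (mem_zpowers a) h1).trans (Opp_le p _)
  · rw [e a ha]; exact coprime_iff_not_dvd.1 (coprime_of_le (coprime_Opp p _) (Th_le (mem_zpowers a) h1))
  · rw [e a ha]; exact le_normalizer_iff.1 (Th_norm hA _)
  · rw [e a ha, e b hb]
    exact (Th_step hbal hA hAk hsolv _ (zpowers_le.2 ha) b hb).trans (Th_anti le_sup_right)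

end Cfsg.Agent.PU.Af
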