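import Mathlib

/-! Two small facts on `p`-groups. -/

set_option autoImplicit false
set_option linter.unusedSectionVars false
set_option linter.unusedVariables false

namespace Cfsg.Agent.PU.Af
open Subgroup
open scoped commutatorElement

theorem mat_p {p : ℕ} [hp : Fact p.Prime] (h3 : 3 < p) (A : Matrix (Fin 2) (Fin 2) (ZMod (p ^ 2))) (hA : A ^ p = 1) :
    (p : ZMod (p ^ 2)) • (A - 1) = 0 := by
  have hp0 : p ≠ 0 := hp.out.ne_zero
  have hpp : (p : ZMod (p ^ 2)) * p = 0 := by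
    rw [← sq]; exact_mod_cast ZMod.natCast_self (p ^ 2)
  let φ : ZMod (p ^ 2) →+* ZMod p := ZMod.castHom (dvd_pow_self p two_ne_zero) (ZMod p)
  have hker : ∀ x : ZMod (p ^ 2), φ x = 0 → (p : ZMod (p ^ 2)) * x = 0 := by
    intro x hx
    obtain ⟨n, rfl⟩ := ZMod.natCast_zmod_surjective x
    rw [map_natCast, ZMod.natCast_eq_zero_iff] at hx
    obtain ⟨m, rfl⟩ := hx
    rw [Nat.cast_mul, ← mul_assoc, hpp, zero_mul]
  obtain ⟨N, rfl⟩ : ∃ N, A = N + 1 := ⟨A - 1, by simp⟩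
  rw [add_sub_cancel_right]
  have hn : IsNilpotent (φ.mapMatrix N) := by
    refine ⟨p, ?_⟩
    have h1 := congrArg φ.mapMatrix hA
    rw [map_pow, map_add, map_one, add_pow_char_of_commute _ (Commute.one_right _), one_pow] at h1
    simpa using h1
  have ht : φ N.trace = 0 := by
    have := (Matrix.isNilpotent_trace_of_isNilpotent hn).eq_zero
    simpa [Matrix.trace_fin_two] using this
  have hd : φ N.det = 0 := by
    obtain ⟨k, hk⟩ := hn
    have := congrArg Matrix.det hk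
    rw [Matrix.det_pow, Matrix.det_zero] at this
    rw [RingHom.map_det]
    exact pow_eq_zero_iff (by rintro rfl; simp at this) |>.1 this
  have hN2 : N ^ 2 = N.trace • N - N.det • 1 := by
    ext i j; fin_cases i <;> fin_cases j <;>
      simp [sq, Matrix.mul_apply, Fin.sum_univ_two, Matrix.trace_fin_two, Matrix.det_fin_two] <;> ring
  have hp2 : (p : ZMod (p ^ 2)) • N ^ 2 = 0 := by
    rw [hN2, smul_sub, smul_smul, smul_smul, hker _ ht, hker _ hd]; simp
  have hN4 : N ^ 4 = 0 := by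
    have hdv : ∀ x : ZMod (p ^ 2), φ x = 0 → ∃ y, x = p * y := by
      intro x hx
      obtain ⟨n, rfl⟩ := ZMod.natCast_zmod_surjective x
      rw [map_natCast, ZMod.natCast_eq_zero_iff] at hx
      obtain ⟨m, rfl⟩ := hx
      exact ⟨m, Nat.cast_mul _ _⟩
    obtain ⟨y, hy⟩ := hdv _ ht
    obtain ⟨z, hz⟩ := hdv _ hd
    have : N ^ 2 = (p : ZMod (p ^ 2)) • (y • N - z • 1) := by
      rw [smul_sub, smul_smul, smul_smul, ← hy, ← hz, hN2]
    calc N ^ 4 = N ^ 2 * N ^ 2 := by rw [← pow_add]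
      _ = 0 := by
        nth_rewrite 2 [this]
        rw [mul_smul_comm, ← smul_mul_assoc, hp2, zero_mul]
  rw [(Commute.one_right N).add_pow] at hA
  simp only [one_pow, mul_one] at hA
  have hterm : ∀ m ∈ Finset.range (p + 1), m ∉ Finset.range 2 → N ^ m * (p.choose m : Matrix _ _ _) = 0 := by
    intro m hm hm2
    rw [Finset.mem_range] at hm hm2
    by_cases h4 : 4 ≤ m
    · obtain ⟨k, rfl⟩ := Nat.exists_eq_add_of_le h4
      rw [pow_add, hN4, zero_mul, zero_mul]
    · obtain ⟨c, hc⟩ := hp.out.dvd_choose_self (k := m) (by omega) (by omega)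
      obtain ⟨k, rfl⟩ := Nat.exists_eq_add_of_le (show 2 ≤ m by omega)
      rw [hc, ← nsmul_eq_mul', mul_comm p c, mul_nsmul', ← Nat.cast_smul_eq_nsmul (ZMod (p ^ 2)) p, pow_add,
        ← smul_mul_assoc, hp2, zero_mul, smul_zero]
  rw [← Finset.sum_subset (Finset.range_mono (by omega)) hterm] at hA
  simp only [Finset.sum_range_succ, Finset.sum_range_zero, zero_add, pow_zero, Nat.choose_zero_right, Nat.cast_one,
    mul_one, pow_one, Nat.choose_one_right, add_eq_left] at hA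
  rw [← hA, ← nsmul_eq_mul', Nat.cast_smul_eq_nsmul]

theorem zm_p {p : ℕ} [hp : Fact p.Prime] (x : ZMod (p ^ 2)) (hx : p • x = 0) : ∃ y : ZMod (p ^ 2), x = p • y := by
  obtain ⟨n, rfl⟩ := ZMod.natCast_zmod_surjective x
  rw [nsmul_eq_mul, ← Nat.cast_mul, ZMod.natCast_eq_zero_iff, sq] at hx
  obtain ⟨m, rfl⟩ := Nat.dvd_of_mul_dvd_mul_left hp.out.pos hx
  exact ⟨m, by rw [nsmul_eq_mul, Nat.cast_mul]⟩

theorem fix_p {p : ℕ} [hp : Fact p.Prime] (h3 : 3 < p) (f : Module.End (ZMod (p ^ 2)) (ZMod (p ^ 2) × ZMod (p ^ 2)))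
    (hf : f ^ p = 1) (x : ZMod (p ^ 2) × ZMod (p ^ 2)) (hx : p • x = 0) : f x = x := by
  let e := LinearMap.toMatrixAlgEquiv (Module.Basis.finTwoProd (ZMod (p ^ 2)))
  have h := mat_p h3 (e f) (by rw [← map_pow, hf, map_one])
  rw [← map_one e, ← map_sub, ← map_smul, map_eq_zero_iff _ e.injective] at h
  obtain ⟨y1, h1⟩ := zm_p x.1 (congrArg Prod.fst hx)
  obtain ⟨y2, h2⟩ := zm_p x.2 (congrArg Prod.snd hx)
  have hxy : x = (p : ZMod (p ^ 2)) • (y1, y2) := by
    rw [Nat.cast_smul_eq_nsmul]; exact Prod.ext h1 h2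
  have := LinearMap.congr_fun h (y1, y2)
  rw [LinearMap.smul_apply, ← map_smul, ← hxy, LinearMap.sub_apply] at this
  exact sub_eq_zero.1 this

theorem card_chars {H : Type*} [Group H] [Finite H] (C : Subgroup H) {ι : Type*} [Finite ι] (χ : ι → H →* ℂ)
    (hi : Function.Injective χ) (hC : ∀ i, ∀ c ∈ C, χ i c = 1) : Nat.card ι ≤ C.index := by
  classical
  let f : ι → (H ⧸ C) → ℂ := fun i => Quotient.lift (χ i) (fun a b hab => by
    have h : a⁻¹ * b ∈ C := QuotientGroup.leftRel_apply.1 hab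
    have := hC i _ h
    calc χ i a = χ i a * χ i (a⁻¹ * b) := by rw [this, mul_one]
      _ = χ i b := by rw [← map_mul, mul_inv_cancel_left])
  have h1 := (linearIndependent_monoidHom H ℂ).comp χ hi
  have h2 : LinearIndependent ℂ f :=
    LinearIndependent.of_comp (LinearMap.funLeft ℂ ℂ (QuotientGroup.mk : H → H ⧸ C)) h1
  cases nonempty_fintype ι
  cases nonempty_fintype (H ⧸ C)
  have := h2.fintype_card_le_finrank
  rwa [Module.finrank_fintype_fun_eq_card, ← Nat.card_eq_fintype_card, ← Nat.card_eq_fintype_card] at this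

theorem idx_le {G : Type*} [Group G] [Finite G] (A B Z : Subgroup G) [IsCyclic Z] (hZ : ∀ a ∈ A, ∀ b ∈ B, ⁅a, b⁆ ∈ Z)
    (hA : ∀ a ∈ A, ∀ z ∈ Z, Commute a z) (hB : ∀ b ∈ B, ∀ z ∈ Z, Commute b z) :
    (A ⊓ centralizer (B : Set G)).relIndex A ≤ (B ⊓ centralizer (A : Set G)).relIndex B := by
  classical
  haveI : NeZero (Nat.card Z) := ⟨Nat.card_pos.ne'⟩
  let e : Z ≃* rootsOfUnity (Nat.card Z) ℂ := mulEquivOfCyclicCardEq (by
    rw [Complex.card_rootsOfUnity])
  let ι : Z →* ℂ := (Units.coeHom ℂ).comp ((rootsOfUnity (Nat.card Z) ℂ).subtype.comp e.toMonoidHom)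
  have hι : Function.Injective ι := Units.val_injective.comp (Subtype.val_injective.comp e.injective)
  let χ : A → B →* ℂ := fun a => ι.comp (MonoidHom.mk' (fun b => ⟨⁅(a : G), (b : G)⁆, hZ _ a.2 _ b.2⟩) (by
    intro b c
    apply Subtype.ext
    have h := (hB _ b.2 _ (hZ _ a.2 _ c.2)).eq
    show ⁅(a : G), (b : G) * c⁆ = ⁅(a : G), (b : G)⁆ * ⁅(a : G), (c : G)⁆
    calc ⁅(a : G), (b : G) * c⁆ = ⁅(a : G), (b : G)⁆ * (b * ⁅(a : G), (c : G)⁆) * (b : G)⁻¹ := by
          simp only [commutatorElement_def]; group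
      _ = _ := by rw [h]; group))
  have hχ : ∀ a a' : A, χ a = χ a' ↔ a⁻¹ * a' ∈ (A ⊓ centralizer (B : Set G)).subgroupOf A := by
    intro a a'
    have key : ∀ b ∈ B, ⁅(a : G), b⁆ = ⁅(a' : G), b⁆ ↔ b * ((a : G)⁻¹ * a') = (a : G)⁻¹ * a' * b := by
      intro b hb
      simp only [commutatorElement_def]
      constructor
      · intro h
        have h1 : (a : G) * b * (a : G)⁻¹ = a' * b * (a' : G)⁻¹ := mul_right_cancel h
        calc b * ((a : G)⁻¹ * a') = (a : G)⁻¹ * (a * b * (a : G)⁻¹) * a' := by group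
          _ = _ := by rw [h1]; group
      · intro h
        calc (a : G) * b * (a : G)⁻¹ * b⁻¹ = a * (b * ((a : G)⁻¹ * a')) * (a' : G)⁻¹ * b⁻¹ := by group
          _ = _ := by rw [h]; group
    rw [mem_subgroupOf, mem_inf, mem_centralizer_iff]
    constructor
    · intro h
      refine ⟨(a⁻¹ * a').2, fun b hb => (key b hb).1 ?_⟩
      exact congrArg Subtype.val (hι (DFunLike.congr_fun h ⟨b, hb⟩))
    · intro h
      ext b
      exact congrArg ι (Subtype.ext ((key b b.2).2 (h.2 b b.2)))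
  refine card_chars (ι := A ⧸ (A ⊓ centralizer (B : Set G)).subgroupOf A) _ (fun q => χ q.out) ?_ ?_
  · intro q q' h
    rw [← q.out_eq, ← q'.out_eq]
    exact QuotientGroup.eq.2 ((hχ _ _).1 h)
  · intro q c hc
    rw [← map_one ι]
    refine congrArg ι (Subtype.ext ?_)
    exact commutatorElement_eq_one_iff_mul_comm.2 (hc.2 _ q.out.2)

theorem cen_p {G : Type*} [Group G] [Finite G] {p : ℕ} [Fact p.Prime] (hG : IsPGroup p G) (Z : Subgroup G)
    (hZ : Nat.card Z ≤ p) : IsCyclic Z ∧ ∀ a ∈ normalizer (Z : Set G), ∀ z ∈ Z, Commute a z := by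
  obtain ⟨k, hk⟩ := IsPGroup.iff_card.1 (hG.to_subgroup Z)
  have hk1 : k ≤ 1 := by
    rw [hk] at hZ
    exact (Nat.pow_le_pow_iff_right (Fact.out : p.Prime).one_lt).1 (by simpa using hZ)
  have hc : IsCyclic Z := isCyclic_of_card_dvd_prime (p := p) (by
    rw [hk]; simpa using pow_dvd_pow p hk1)
  refine ⟨hc, fun a ha z hz => ?_⟩
  let φ := Z.normalizerMonoidHom ⟨a, ha⟩
  have h1 : orderOf φ ∣ Nat.totient (p ^ k) := by
    rw [← hk, ← IsCyclic.card_mulAut]; exact orderOf_dvd_natCard φ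
  obtain ⟨m, hm⟩ := IsPGroup.iff_orderOf.1 hG a
  have h2 : orderOf φ ∣ p ^ m := by
    rw [← hm]
    exact (orderOf_map_dvd _ _).trans (by rw [← Subgroup.orderOf_coe])
  have h3 : Nat.Coprime (p ^ m) (Nat.totient (p ^ k)) := by
    apply Nat.Coprime.pow_left
    interval_cases k
    · simp
    · rw [pow_one, Nat.totient_prime Fact.out]
      exact (Nat.coprime_self_sub_right (Fact.out : p.Prime).one_le).2 (by simp)
  have h4 : φ = 1 := orderOf_eq_one_iff.1 (Nat.eq_one_of_dvd_coprimes h3 h2 h1)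
  have h5 : a * z * a⁻¹ = z := by
    have := congrArg Subtype.val (DFunLike.congr_fun h4 (⟨z, hz⟩ : Z))
    exact this
  exact mul_inv_eq_iff_eq_mul.1 h5

end Cfsg.Agent.PU.Af
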