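import Mathlib

/-! Subgroups of dihedral groups. -/

set_option autoImplicit false
set_option linter.unusedSectionVars false
set_option linter.unusedVariables false

namespace Cfsg.Agent.PU.Af
open Subgroup DihedralGroup

def ix {n : ℕ} : DihedralGroup n → ZMod n
  | r i => i
  | sr i => i

def Hd {n d : ℕ} (h : d ∣ n) : Subgroup (DihedralGroup n) where
  carrier := {g | ZMod.castHom h (ZMod d) (ix g) = 0}
  one_mem' := map_zero _
  mul_mem' := by
    rintro (i | i) (j | j) hi hj <;> simp only [Set.mem_setOf_eq, ix, r_mul_r, r_mul_sr, sr_mul_r, sr_mul_sr,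
      map_add, map_sub] at * <;> simp [hi, hj]
  inv_mem' := by
    rintro (i | i) hi <;> simp only [Set.mem_setOf_eq, ix, inv_r, inv_sr, map_neg] at * <;> simp [hi]

theorem r_mem {n d : ℕ} (h : d ∣ n) (k : ℕ) : (r k : DihedralGroup n) ∈ Hd h ↔ d ∣ k := by
  show ZMod.castHom h (ZMod d) (k : ZMod n) = 0 ↔ _
  rw [map_natCast, ZMod.natCast_eq_zero_iff]

theorem sr_mem {n d : ℕ} (h : d ∣ n) : (sr 0 : DihedralGroup n) ∈ Hd h := map_zero (ZMod.castHom h (ZMod d))

theorem Hd_nc {n d : ℕ} (h : d ∣ n) (h2 : ¬ n ∣ 2 * d) : ¬ IsMulCommutative (Hd h) := by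
  intro hc
  have := congrArg Subtype.val (hc.is_comm.comm ⟨_, (r_mem h d).2 dvd_rfl⟩ ⟨_, sr_mem h⟩)
  simp only [coe_mul, r_mul_sr, sr_mul_r, sr.injEq] at this
  apply h2
  rw [← ZMod.natCast_eq_zero_iff]
  push_cast
  linear_combination -this

theorem Hd_normal {n : ℕ} (h : 2 ∣ n) : (Hd h).Normal := by
  have h2 : ∀ x : ZMod 2, x + x = 0 := by decide
  constructor
  rintro (i | i) hi (j | j) <;> change ZMod.castHom h (ZMod 2) (ix _) = 0 at * <;>
    simp only [ix, r_mul_r, r_mul_sr, sr_mul_r, sr_mul_sr, inv_r, inv_sr, map_add, map_sub, map_neg] at *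
  · linear_combination hi
  · linear_combination -hi
  · linear_combination hi - h2 (ZMod.castHom h (ZMod 2) j)
  · linear_combination -hi + h2 (ZMod.castHom h (ZMod 2) j)

theorem r_nsmul {n : ℕ} (i : ZMod n) (c : ℕ) : (r i : DihedralGroup n) ^ c = r (c • i) := by
  induction c with
  | zero => simp
  | succ c ih => rw [pow_succ, ih, r_mul_r, succ_nsmul]

theorem exists_sr {n : ℕ} [NeZero n] {H : Subgroup (DihedralGroup n)} (h : ¬ IsCyclic H) : ∃ j, sr j ∈ H := by
  by_contra! hc
  refine h (Subgroup.isCyclic_of_le (H' := zpowers (r 1)) ?_)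
  rintro (i | i) hi
  · exact ⟨i.val, by simp⟩
  · exact absurd hi (hc i)

theorem exists_r {n : ℕ} [NeZero n] {H : Subgroup (DihedralGroup n)} (h : ¬ IsCyclic H) : ∃ j, j ≠ 0 ∧ r j ∈ H := by
  obtain ⟨j, hj⟩ := exists_sr h
  by_contra! hc
  refine h (Subgroup.isCyclic_of_le (H' := zpowers (sr j)) ?_)
  rintro (i | i) hi
  · obtain rfl : i = 0 := by_contra fun e => hc i e hi
    exact one_mem _
  · have : i - j = 0 := by_contra fun e => hc _ e (by simpa using H.mul_mem hj hi)
    rw [sub_eq_zero.1 this]; exact mem_zpowers _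

theorem inv_mult {n : ℕ} [NeZero n] (hn : Odd n ∨ ∃ k : ℕ, n = 2 ^ k) {i m : ZMod n} (hi : i ≠ 0) (hm : -m = m) :
    ∃ c : ℕ, m = c • i := by
  rcases (ZMod.neg_eq_self_iff m).1 hm with rfl | hm
  · exact ⟨0, by simp⟩
  rcases hn with hn | ⟨k, hk⟩
  · exact absurd hn (by rw [← hm]; simp)
  have hex : ∃ l, 2 ^ l • i = 0 := ⟨k, by rw [← hk, nsmul_eq_mul, ZMod.natCast_self, zero_mul]⟩
  classical
  have h0 := Nat.find_spec hex
  obtain ⟨l, hl⟩ := Nat.exists_eq_succ_of_ne_zero (n := Nat.find hex) (fun e => hi (by rwa [e, pow_zero, one_nsmul] at h0))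
  have h1 := Nat.find_min hex (m := l) (by omega)
  rw [hl, Nat.succ_eq_add_one, pow_succ, mul_nsmul, two_nsmul] at h0
  rcases (ZMod.neg_eq_self_iff (2 ^ l • i)).1 (neg_eq_of_add_eq_zero_left h0) with e | e
  · exact absurd e h1
  · exact ⟨2 ^ l, ZMod.val_injective n (by omega)⟩

theorem thm_3920 (n : ℕ) (hn : 3 ≤ n) : (∀ H : Subgroup (DihedralGroup n), ¬ IsCyclic ↥H →
    Subgroup.centralizer (H : Set (DihedralGroup n)) ≤ H) ↔ (Odd n ∨ ∃ k : ℕ, n = 2 ^ k) := by
  haveI : NeZero n := ⟨by omega⟩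
  constructor
  · intro h
    by_contra! hc
    obtain ⟨a, m, hm, rfl⟩ := Nat.exists_eq_two_pow_mul_odd (n := n) (by omega)
    obtain ⟨a, rfl⟩ := Nat.exists_eq_succ_of_ne_zero (n := a) (by rintro rfl; exact hc.1 (by simpa using hm))
    have hd : 2 ^ (a + 1) ∣ 2 ^ (a + 1) * m := dvd_mul_right _ _
    have h1 : ¬ IsCyclic (Hd hd) := fun hcy => Hd_nc hd (by
      intro e
      rw [mul_comm 2] at e
      have := Nat.dvd_of_mul_dvd_mul_left (by positivity) e
      rcases (Nat.dvd_prime Nat.prime_two).1 this with rfl | rfl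
      · exact hc.2 (a + 1) (by simp)
      · exact absurd hm (by decide)) inferInstance
    have h2 : ((2 ^ a * m : ℕ) : ZMod (2 ^ (a + 1) * m)) + (2 ^ a * m : ℕ) = 0 := by
      rw [← Nat.cast_add, ZMod.natCast_eq_zero_iff]; exact ⟨1, by ring⟩
    have h3 := (r_mem hd (2 ^ a * m)).1 (h _ h1 (by
      rintro (i | i) -
      · simp only [r_mul_r, add_comm]
      · simp only [r_mul_sr, sr_mul_r, sr.injEq]; linear_combination h2))
    rw [pow_succ] at h3
    exact absurd hm (Nat.not_odd_iff_even.2 (even_iff_two_dvd.2 (Nat.dvd_of_mul_dvd_mul_left (by positivity) h3)))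
  · intro h H hH
    obtain ⟨j, hj⟩ := exists_sr hH
    obtain ⟨i, hi0, hi⟩ := exists_r hH
    have key : ∀ m : ZMod n, -m = m → r m ∈ H := fun m hm => by
      obtain ⟨c, rfl⟩ := inv_mult h hi0 hm
      rw [← r_nsmul]; exact pow_mem hi c
    rintro (m | m) hm
    · have := hm _ hj
      simp only [r_mul_sr, sr_mul_r, sr.injEq] at this
      exact key m (by linear_combination -this)
    · have := hm _ hj
      simp only [sr_mul_sr, r.injEq] at this
      simpa using H.mul_mem hj (key (m - j) (by linear_combination -this))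

theorem d4_gen : ∀ x y : DihedralGroup 4, x * y ≠ y * x → ∀ g, ∃ i j k : Fin 4,
    g = (x * y) ^ i.val * x ^ j.val * y ^ k.val := by decide +kernel

theorem thm_4074 (n : ℕ) (hn : 2 < n) :
    (∀ H : Subgroup (DihedralGroup n), ¬ IsMulCommutative H → Subgroup.normalizer (H : Set (DihedralGroup n)) = H) ↔
    (n = 4 ∨ Odd n) := by
  haveI : NeZero n := ⟨by omega⟩
  constructor
  · intro h
    by_contra! hc
    have hd : 2 ∣ n := even_iff_two_dvd.1 (Nat.not_odd_iff_even.1 hc.2)
    have h1 := h _ (Hd_nc hd fun e => by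
      have := Nat.le_of_dvd (by norm_num) e
      omega)
    haveI := Hd_normal hd
    rw [normalizer_eq_top] at h1
    exact absurd ((r_mem hd 1).1 (h1 ▸ mem_top _)) (by decide)
  · rintro (rfl | h) H hH
    · obtain ⟨x, y, hxy⟩ : ∃ x y : H, x * y ≠ y * x := by
        by_contra! hc; exact hH ⟨⟨hc⟩⟩
      refine le_antisymm (fun g _ => ?_) le_normalizer
      obtain ⟨i, j, k, rfl⟩ := d4_gen x y (fun e => hxy (Subtype.ext e)) g
      exact mul_mem (mul_mem (pow_mem (mul_mem x.2 y.2) _) (pow_mem x.2 _)) (pow_mem y.2 _)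
    · obtain ⟨j, hj⟩ := exists_sr (H := H) (fun hc => hH inferInstance)
      have key : ∀ m : ZMod n, r m ∈ normalizer (H : Set (DihedralGroup n)) → r m ∈ H := fun m hm => by
        have h1 := H.mul_mem ((mem_normalizer_iff.1 hm _).1 hj) hj
        simp only [r_mul_sr, sr_mul_r, sr_mul_sr, inv_r] at h1
        obtain ⟨c, hc⟩ := h
        have h2 : m = (c + 1) • (j - (j - m + -m)) := by
          have : ((2 * c + 1 : ℕ) : ZMod n) = 0 := by rw [← hc, ZMod.natCast_self]
          rw [nsmul_eq_mul]; push_cast at this ⊢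
          linear_combination (-m) * this
        rw [h2, ← r_nsmul]; exact pow_mem h1 _
      refine le_antisymm ?_ le_normalizer
      rintro (m | m) hm
      · exact key m hm
      · simpa using H.mul_mem hj (key (m - j) (by simpa using mul_mem (le_normalizer hj) hm))

end Cfsg.Agent.PU.Af
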