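import Mathlib

/-! Linear groups all of whose point stabilisers have order two. -/

set_option autoImplicit false
set_option linter.unusedSectionVars false
set_option linter.unusedVariables false

namespace Cfsg.Agent.PU.Af
open Subgroup

theorem card_ne0 {W : Type*} [Zero W] [Finite W] : Nat.card {v : W // v ≠ 0} = Nat.card W - 1 := by
  classical
  cases nonempty_fintype W
  simp

section
variable {q : ℕ} [Fact q.Prime] {V : Type*} [AddCommGroup V] [Module (ZMod q) V] [Finite V] [Nontrivial V]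
    {G : Type*} [Group G] [Finite G] {ρ : G →* (V ≃ₗ[ZMod q] V)}

theorem st_ex (hstab : ∀ v : V, v ≠ 0 → Nat.card {g : G // ρ g v = v} = 2) {v : V} (hv : v ≠ 0) :
    ∃ t : G, t ≠ 1 ∧ ρ t v = v ∧ ∀ s, s ≠ 1 → ρ s v = v → s = t := by
  obtain ⟨t, ht, hu⟩ := (Nat.card_eq_two_iff' (⟨1, by simp⟩ : {g : G // ρ g v = v})).1 (hstab v hv)
  exact ⟨t.1, fun e => ht (Subtype.ext e), t.2, fun s hs hsv =>
    congrArg Subtype.val (hu ⟨s, hsv⟩ fun e => hs (congrArg Subtype.val e))⟩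

theorem st_uq (hstab : ∀ v : V, v ≠ 0 → Nat.card {g : G // ρ g v = v} = 2) {v : V} (hv : v ≠ 0) {s t : G}
    (hs : s ≠ 1) (ht : t ≠ 1) (h1 : ρ s v = v) (h2 : ρ t v = v) : s = t := by
  obtain ⟨u, -, -, hu⟩ := st_ex hstab hv
  rw [hu s hs h1, hu t ht h2]

theorem st_ord (hstab : ∀ v : V, v ≠ 0 → Nat.card {g : G // ρ g v = v} = 2) {v : V} (hv : v ≠ 0) {s : G}
    (hs : s ≠ 1) (h1 : ρ s v = v) : orderOf s = 2 := by
  refine orderOf_eq_prime ?_ hs
  by_contra h
  have := st_uq hstab hv h hs (by rw [sq, map_mul, LinearEquiv.mul_apply, h1, h1]) h1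
  exact hs (by simpa [sq] using this)

theorem invol {t : G} (ht : orderOf t = 2) (v : V) : ρ t (ρ t v) = v := by
  rw [← LinearEquiv.mul_apply, ← map_mul, ← sq, ← ht, pow_orderOf_eq_one, map_one]; rfl

theorem exists_mv (hρ : Function.Injective ρ) {t : G} (ht : t ≠ 1) : ∃ v, ρ t v ≠ v := by
  by_contra! h
  exact ht (hρ (by rw [map_one]; exact LinearEquiv.ext h))

theorem cen_free (hρ : Function.Injective ρ) (hstab : ∀ v : V, v ≠ 0 → Nat.card {g : G // ρ g v = v} = 2)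
    {z : G} (hz : orderOf z = 2) (hzc : z ∈ center G) : (2 : ZMod q) ≠ 0 ∧ ∀ v, ρ z v = -v := by
  have hz1 : z ≠ 1 := by rintro rfl; simp at hz
  have hc : ∀ s v, ρ s (ρ z v) = ρ z (ρ s v) := fun s v => by
    rw [← LinearEquiv.mul_apply, ← map_mul, mem_center_iff.1 hzc s, map_mul, LinearEquiv.mul_apply]
  obtain ⟨v, hv⟩ := exists_mv hρ hz1
  obtain ⟨t, ht1, htv, -⟩ := st_ex hstab (v := v) (by rintro rfl; simp at hv)
  have htz : t ≠ z := by rintro rfl; exact hv htv
  have hu0 : v - ρ z v ≠ 0 := sub_ne_zero.2 hv.symm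
  have htu : ρ t (v - ρ z v) = v - ρ z v := by rw [map_sub, hc, htv]
  have hzu : ρ z (v - ρ z v) = -(v - ρ z v) := by rw [map_sub, invol hz, neg_sub]
  generalize v - ρ z v = u at hu0 htu hzu
  have h2 : (2 : ZMod q) ≠ 0 := by
    intro h2
    refine htz (st_uq hstab hu0 ht1 hz1 htu ?_)
    rw [hzu, neg_eq_iff_add_eq_zero, ← two_smul (ZMod q), h2, zero_smul]
  refine ⟨h2, fun x => ?_⟩
  by_contra hx
  have hw0 : ρ z x + x ≠ 0 := fun e => hx (eq_neg_of_add_eq_zero_left e)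
  have hzw : ρ z (ρ z x + x) = ρ z x + x := by rw [map_add, invol hz, add_comm]
  generalize ρ z x + x = w at hw0 hzw
  by_cases hwu : w + u = 0
  · refine htz (st_uq hstab hw0 ht1 hz1 ?_ hzw)
    rw [eq_neg_of_add_eq_zero_left hwu, map_neg, htu]
  obtain ⟨s, hs1, hs, -⟩ := st_ex hstab hwu
  have hs' := hc s (w + u)
  rw [hs, map_add (ρ z), hzw, hzu] at hs'
  rw [map_add] at hs hs'
  rw [map_neg] at hs'
  have e1 : ρ s w = w := smul_right_injective V h2 (by
    show (2 : ZMod q) • ρ s w = (2 : ZMod q) • w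
    rw [two_smul, two_smul]; linear_combination (norm := abel_nf) hs + hs')
  have e2 : ρ s u = u := by rw [e1] at hs; exact add_left_cancel hs
  exact htz ((st_uq hstab hu0 ht1 hs1 htu e2).trans (st_uq hstab hw0 hs1 hz1 e1 hzw))

/-- the fixed space -/
def Fx (ρ : G →* (V ≃ₗ[ZMod q] V)) (t : G) : Submodule (ZMod q) V :=
  LinearMap.eqLocus (ρ t : V →ₗ[ZMod q] V) LinearMap.id

theorem mem_Fx {t : G} {v : V} : v ∈ Fx ρ t ↔ ρ t v = v := Iff.rfl

theorem fx_le (hstab : ∀ v : V, v ≠ 0 → Nat.card {g : G // ρ g v = v} = 2) {s t : G} (hs : s ≠ 1) (ht : t ≠ 1)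
    (hst : s ≠ t) : Nat.card (Fx ρ s) * Nat.card (Fx ρ t) ≤ Nat.card V := by
  rw [← Nat.card_prod]
  refine Nat.card_le_card_of_injective (fun x => x.1.1 + x.2.1) ?_
  rintro ⟨a, b⟩ ⟨c, d⟩ h
  have h' : (a : V) + b = c + d := h
  have h1 : (a : V) - c = d - b := by linear_combination (norm := abel_nf) h'
  have h2 : (a : V) - c = 0 := by
    by_contra h0
    exact hst (st_uq hstab h0 hs ht (a - c).2 (by rw [h1]; exact (d - b).2))
  rw [h2] at h1
  exact Prod.ext (Subtype.ext (sub_eq_zero.1 h2)) (Subtype.ext (sub_eq_zero.1 h1.symm).symm)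

theorem fx_ge {z t : G} (h2 : (2 : ZMod q) ≠ 0) (hz : ∀ v, ρ z v = -v) (ht : orderOf t = 2) :
    Nat.card V ≤ Nat.card (Fx ρ t) * Nat.card (Fx ρ (t * z)) := by
  rw [← Nat.card_prod]
  refine Nat.card_le_card_of_injective (fun v => (⟨v + ρ t v, ?_⟩, ⟨v - ρ t v, ?_⟩)) ?_
  · rw [mem_Fx, map_add, invol ht, add_comm]
  · rw [mem_Fx, map_mul, LinearEquiv.mul_apply, hz, map_neg, map_sub, invol ht, neg_sub]
  · intro v w h
    have h1 : v + ρ t v = w + ρ t w := congrArg (fun x => x.1.1) h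
    have h3 : v - ρ t v = w - ρ t w := congrArg (fun x => x.2.1) h
    refine smul_right_injective V h2 ?_
    show (2 : ZMod q) • v = (2 : ZMod q) • w
    rw [two_smul, two_smul]; linear_combination (norm := abel_nf) h1 + h3

theorem thm_3381 (hρ : Function.Injective ρ) (hstab : ∀ v : V, v ≠ 0 → Nat.card {g : G // ρ g v = v} = 2)
    (z : G) (hz : orderOf z = 2) (hzc : z ∈ center G) :
    ∃ r : ℕ, Nat.card V = q ^ (2 * r) ∧ Nat.card {g : G // orderOf g = 2 ∧ g ∉ center G} = q ^ r + 1 := by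
  classical
  obtain ⟨h2, hzv⟩ := cen_free hρ hstab hz hzc
  have hne : ∀ {t : G}, orderOf t = 2 → t ≠ 1 := by rintro t ht rfl; simp at ht
  have hneg : ∀ v : V, v ≠ 0 → -v ≠ v := fun v hv e => hv (smul_right_injective V h2 (by
    show (2 : ZMod q) • v = (2 : ZMod q) • (0 : V)
    rw [two_smul, smul_zero]; linear_combination (norm := abel_nf) -e))
  have hI : ∀ {v : V} {s : G}, v ≠ 0 → s ≠ 1 → ρ s v = v → orderOf s = 2 ∧ s ∉ center G := fun hv hs h =>
    ⟨st_ord hstab hv hs h, fun hc => hneg _ hv (by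
      rw [← (cen_free hρ hstab (st_ord hstab hv hs h) hc).2, h])⟩
  have hz2 : z * z = 1 := by rw [← sq, ← hz, pow_orderOf_eq_one]
  have hmul : ∀ {t : G}, orderOf t = 2 ∧ t ∉ center G → orderOf (t * z) = 2 ∧ t * z ∉ center G := by
    intro t ht
    have h1 : t * z ∉ center G := fun h => ht.2 ((mul_mem_cancel_right hzc).1 h)
    refine ⟨orderOf_eq_prime ?_ (fun e => h1 (e ▸ one_mem _)), h1⟩
    rw [(show Commute t z from mem_center_iff.1 hzc t).mul_pow, ← ht.1, pow_orderOf_eq_one, ht.1, sq, hz2, one_mul]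
  have hsq : ∀ {s : G}, orderOf s = 2 ∧ s ∉ center G → Nat.card (Fx ρ s) * Nat.card (Fx ρ s) = Nat.card V := by
    intro s hs
    have hs' := hmul hs
    have hne0 : ∀ {t : G}, orderOf t = 2 ∧ t ∉ center G → ∃ v, v ≠ 0 ∧ ρ t v = v := by
      intro t ht
      obtain ⟨v, hv⟩ := exists_mv hρ (hne (hmul ht).1)
      refine ⟨v + ρ t v, fun e => hv ?_, by rw [map_add, invol ht.1, add_comm]⟩
      rw [map_mul, LinearEquiv.mul_apply, hzv, map_neg]; exact (eq_neg_of_add_eq_zero_left e).symm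
    obtain ⟨a, ha0, ha⟩ := hne0 hs
    obtain ⟨b, hb0, hb⟩ := hne0 hs'
    have hsb : ρ s b = -b := by
      rw [map_mul, LinearEquiv.mul_apply, hzv, map_neg] at hb; exact neg_eq_iff_eq_neg.1 hb
    have hab : a + b ≠ 0 := fun e => hneg b hb0 (by
      rw [← hsb, eq_neg_of_add_eq_zero_right e, map_neg, ha])
    obtain ⟨t, ht1, ht, -⟩ := st_ex hstab hab
    have hT := hI hab ht1 ht
    have hT' := hmul hT
    have n1 : s ≠ t := by
      rintro rfl; rw [map_add, ha, hsb] at ht; exact hneg b hb0 (add_left_cancel ht)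
    have n2 : s * z ≠ t := by
      rintro rfl
      rw [map_add, hb, map_mul, LinearEquiv.mul_apply, hzv, map_neg, ha] at ht
      exact hneg a ha0 (add_right_cancel ht)
    have n3 : s ≠ t * z := fun e => n2 (by rw [e, mul_assoc, hz2, mul_one])
    have n4 : s * z ≠ t * z := fun e => n1 (mul_right_cancel e)
    have a1 := fx_le hstab (hne hs.1) ht1 n1
    have a2 := fx_le hstab (hne hs'.1) ht1 n2
    have a3 := fx_le hstab (hne hs.1) (hne hT'.1) n3
    have a4 := fx_le hstab (hne hs'.1) (hne hT'.1) n4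
    have b1 := fx_ge h2 hzv hs.1
    have b2 := fx_ge h2 hzv hT.1
    have hN : 0 < Nat.card V := Nat.card_pos
    generalize Nat.card (Fx ρ s) = x at *
    generalize Nat.card (Fx ρ (s * z)) = y at *
    generalize Nat.card (Fx ρ t) = u at *
    generalize Nat.card (Fx ρ (t * z)) = w at *
    generalize Nat.card V = N at *
    have c1 : x * x ≤ N := Nat.le_of_mul_le_mul_right (by
      calc x * x * N ≤ x * x * (u * w) := Nat.mul_le_mul_left _ b2
        _ = (x * u) * (x * w) := by ring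
        _ ≤ N * N := Nat.mul_le_mul a1 a3) hN
    have c2 : y * y ≤ N := Nat.le_of_mul_le_mul_right (by
      calc y * y * N ≤ y * y * (u * w) := Nat.mul_le_mul_left _ b2
        _ = (y * u) * (y * w) := by ring
        _ ≤ N * N := Nat.mul_le_mul a2 a4) hN
    refine le_antisymm c1 (Nat.le_of_mul_le_mul_right ?_ hN)
    calc N * N ≤ (x * y) * (x * y) := Nat.mul_le_mul b1 b1
      _ = x * x * (y * y) := by ring
      _ ≤ x * x * N := Nat.mul_le_mul_left _ c2
  obtain ⟨v0, hv0⟩ := exists_ne (0 : V)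
  obtain ⟨t0, h01, h0, -⟩ := st_ex hstab hv0
  have hT0 := hI hv0 h01 h0
  have hr : Nat.card (Fx ρ t0) = q ^ Module.finrank (ZMod q) (Fx ρ t0) := by
    rw [Module.natCard_eq_pow_finrank (K := ZMod q), Nat.card_zmod]
  generalize Module.finrank (ZMod q) (Fx ρ t0) = r at hr
  have hV : Nat.card V = q ^ r * q ^ r := by rw [← hsq hT0, hr]
  refine ⟨r, by rw [hV, two_mul, pow_add], ?_⟩
  have hall : ∀ s : {g : G // orderOf g = 2 ∧ g ∉ center G}, Nat.card {v : Fx ρ s.1 // v ≠ 0} = q ^ r - 1 := by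
    intro s
    have := (hsq s.2).trans hV
    rw [card_ne0, Nat.mul_self_inj.1 this]
  let f : (Σ s : {g : G // orderOf g = 2 ∧ g ∉ center G}, {v : Fx ρ s.1 // v ≠ 0}) → {v : V // v ≠ 0} :=
    fun x => ⟨x.2.1.1, fun e => x.2.2 (Subtype.ext e)⟩
  have hf : Function.Bijective f := by
    constructor
    · rintro ⟨⟨s, hs⟩, ⟨v, hv⟩, hv0⟩ ⟨⟨t, ht⟩, ⟨w, hw⟩, hw0⟩ h
      obtain rfl : v = w := congrArg Subtype.val h
      obtain rfl : s = t := st_uq hstab (fun e => hv0 (Subtype.ext e)) (hne hs.1) (hne ht.1) hv hw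
      rfl
    · rintro ⟨v, hv⟩
      obtain ⟨t, ht1, ht, -⟩ := st_ex hstab hv
      exact ⟨⟨⟨t, hI hv ht1 ht⟩, ⟨v, ht⟩, fun e => hv (congrArg Subtype.val e)⟩, rfl⟩
  have hc := Nat.card_eq_of_bijective f hf
  cases nonempty_fintype {g : G // orderOf g = 2 ∧ g ∉ center G}
  rw [Nat.card_sigma, Finset.sum_congr rfl (fun s _ => hall s), Finset.sum_const, smul_eq_mul, Finset.card_univ,
    ← Nat.card_eq_fintype_card, card_ne0, hV] at hc
  have h1 : 1 < q ^ r := by
    have : 1 < Nat.card V := Finite.one_lt_card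
    by_contra hh
    have : q ^ r * q ^ r ≤ 1 * 1 := Nat.mul_le_mul (by omega) (by omega)
    omega
  obtain ⟨m, hm⟩ := Nat.exists_eq_add_of_lt h1
  rw [hm] at hc ⊢
  refine Nat.eq_of_mul_eq_mul_right (show 0 < 1 + m + 1 - 1 by omega) (hc.trans ?_)
  rw [Nat.add_sub_cancel, Nat.sub_eq_iff_eq_add (Nat.one_le_iff_ne_zero.2 (by positivity))]; ring

end

end Cfsg.Agent.PU.Af
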