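import Mathlib

/-! Faithful modules for extraspecial groups are large. -/

set_option autoImplicit false
set_option linter.unusedSectionVars false
set_option linter.unusedVariables false
set_option linter.style.haveILetI false

namespace Cfsg.Agent.PU.Af
open Subgroup
open scoped commutatorElement

theorem idx_le_sq {K V H : Type*} [Field K] [AddCommGroup V] [Module K V] [FiniteDimensional K V] [Nontrivial V]
    [Group H] [Finite H] (τ : H →* Module.End K V) (hi : Function.Injective τ)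
    (hc : ∀ c ∈ center H, ∃ k : K, τ c = k • 1) (hd : ∀ x g : H, ⁅x, g⁆ ∈ center H) :
    (center H).index ≤ Module.finrank K V ^ 2 := by
  classical
  have h0 : ∀ g, τ g ≠ 0 := fun g => ((Group.isUnit g).map τ).ne_zero
  have h1 : ∀ g x, ∃ k : K, τ (x * g * x⁻¹) = k • τ g := fun g x => by
    obtain ⟨k, hk⟩ := hc _ (hd x g)
    exact ⟨k, by rw [show x * g * x⁻¹ = ⁅x, g⁆ * g by simp [commutatorElement_def], map_mul, hk, smul_mul_assoc, one_mul]⟩
  choose k hk using h1
  have hcj : ∀ x y : H, τ (x * y * x⁻¹) = τ x * τ y * τ x⁻¹ := fun x y => by rw [map_mul, map_mul]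
  let χ : H → H →* K := fun g => ⟨⟨k g, smul_left_injective K (h0 g) (by
      show k g 1 • τ g = (1 : K) • τ g
      rw [← hk, one_smul]; simp)⟩, fun x y => smul_left_injective K (h0 g) (by
      show k g (x * y) • τ g = (k g x * k g y) • τ g
      rw [← hk, show x * y * g * (x * y)⁻¹ = x * (y * g * y⁻¹) * x⁻¹ by group, hcj, hk, mul_smul_comm,
        smul_mul_assoc, ← hcj, hk, smul_smul, mul_comm])⟩
  have hχ : Function.Injective fun q : H ⧸ center H => χ q.out := by
    intro q q' h
    rw [← q.out_eq, ← q'.out_eq]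
    refine QuotientGroup.eq.2 (mem_center_iff.2 fun x => ?_)
    have e : k q.out x = k q'.out x := DFunLike.congr_fun h x
    generalize q.out = a at *
    generalize q'.out = b at *
    have : τ (x * a * x⁻¹ * (a⁻¹ * b)) = τ (x * b * x⁻¹) := by
      rw [map_mul, hk, hk, smul_mul_assoc, ← map_mul, mul_inv_cancel_left, e]
    have := hi this
    calc x * (a⁻¹ * b) = (x * a * x⁻¹)⁻¹ * (x * b * x⁻¹) * x := by group
      _ = _ := by rw [← this]; group
  have hl := (linearIndependent_monoidHom H K).comp _ hχ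
  cases nonempty_fintype (H ⧸ center H)
  have hL : LinearIndependent K fun q : H ⧸ center H => τ q.out := by
    rw [Fintype.linearIndependent_iff] at hl ⊢
    intro c hcs q
    obtain ⟨φ, hφ⟩ := Module.Projective.exists_dual_ne_zero K (h0 q.out)
    have := hl (fun q => c q * φ (τ q.out)) (by
      funext x
      have h2 : ∑ q : H ⧸ center H, c q • (k q.out x • τ q.out) = 0 := by
        have : τ x * (∑ q : H ⧸ center H, c q • τ q.out) * τ x⁻¹ = 0 := by rw [hcs, mul_zero, zero_mul]
        rw [← this, Finset.mul_sum, Finset.sum_mul]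
        simp only [← hk, hcj, smul_mul_assoc, mul_smul_comm]
      have h3 := congrArg φ h2
      simp only [map_sum, map_smul, smul_eq_mul, map_zero] at h3
      simp only [Finset.sum_apply, Pi.smul_apply, smul_eq_mul, Function.comp, Pi.zero_apply]
      rw [← h3]
      exact Finset.sum_congr rfl fun q _ => by
        show _ * k q.out x = _
        ring) q
    exact (mul_eq_zero.1 this).resolve_right hφ
  have := hL.fintype_card_le_finrank
  rwa [Module.finrank_linearMap, ← sq, ← Nat.card_eq_fintype_card] at this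

universe u

theorem big_fpf {H : Type*} [Group H] [Finite H] {p r n w : ℕ} [hp : Fact p.Prime] [hr : Fact r.Prime]
    (hZ : Nat.card (center H) = p) (hd : ∀ x g : H, ⁅x, g⁆ ∈ center H) (hw : (center H).index = (p ^ w) ^ 2)
    (hmin : ∀ k : ℕ, 1 ≤ k → p ∣ r ^ k - 1 → n ≤ k) (N : ℕ) :
    ∀ (V : Type u) [AddCommGroup V] [Finite V] [Nontrivial V] (ρ : Representation ℤ H V), Nat.card V = N →
      (∀ v : V, r • v = 0) → (∀ c ∈ center H, c ≠ 1 → ∀ v, ρ c v = v → v = 0) → r ^ (n * p ^ w) ≤ N := by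
  induction N using Nat.strong_induction_on with
  | _ N ih =>
  intro V _ _ _ ρ hN hV hf
  by_cases hirr : ∃ T : Submodule ℤ V, T ≠ ⊥ ∧ T ≠ ⊤ ∧ ∀ g, T ≤ T.comap (ρ g)
  · obtain ⟨T, h1, h2, h3⟩ := hirr
    haveI : Nontrivial T := Submodule.nontrivial_iff_ne_bot.2 h1
    obtain ⟨x, hx⟩ : ∃ x, x ∉ T := by
      by_contra! hc; exact h2 (Submodule.eq_top_iff'.2 hc)
    have hlt : Nat.card T < N := hN ▸ Finite.card_subtype_lt (p := (· ∈ T)) hx
    exact (ih _ hlt T (ρ.subrepresentation T h3) rfl (fun v => Subtype.ext (hV v))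
      fun c hc h v hv => Subtype.ext (hf c hc h v (congrArg Subtype.val hv))).trans hlt.le
  push Not at hirr
  let K := Subalgebra.centralizer ℤ (Set.range ρ)
  haveI : Finite (Module.End ℤ V) := Finite.of_injective _ (DFunLike.coe_injective (F := Module.End ℤ V))
  have hK : ∀ (k : K) g v, ρ g (k.1 v) = k.1 (ρ g v) := fun k g v =>
    LinearMap.congr_fun (k.2 _ ⟨g, rfl⟩) v
  have hinj : ∀ k : K, k ≠ 0 → LinearMap.ker k.1 = ⊥ := fun k hk => by
    by_contra h
    obtain ⟨g, hg⟩ := hirr _ h (fun e => hk (Subtype.ext (LinearMap.ker_eq_top.1 e)))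
    exact hg fun v hv => by
      rw [Submodule.mem_comap, LinearMap.mem_ker, ← hK, LinearMap.mem_ker.1 hv, map_zero]
  haveI : NoZeroDivisors K := ⟨fun {a b} h => by
    by_cases ha : a = 0
    · exact .inl ha
    · refine .inr (Subtype.ext (LinearMap.ext fun v => ?_))
      have : b.1 v ∈ LinearMap.ker a.1 := LinearMap.congr_fun (congrArg Subtype.val h) v
      rwa [hinj a ha] at this⟩
  haveI : IsDomain K := NoZeroDivisors.to_isDomain K
  letI : Field K := (Finite.isDomain_to_isField K).toField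
  let τ : H →* Module.End K V :=
    ⟨⟨fun g => ⟨⟨ρ g, map_add _⟩, fun k v => hK k g v⟩, by ext v; simp⟩, fun a b => by ext v; simp⟩
  have hτ : ∀ g v, τ g v = ρ g v := fun _ _ => rfl
  obtain ⟨v0, hv0⟩ := exists_ne (0 : V)
  have hti : Function.Injective τ := by
    rw [injective_iff_map_eq_one]
    intro g hg
    by_contra h
    have hgc : g ∉ center H := fun hc => hv0 (hf g hc h v0 (LinearMap.congr_fun hg v0))
    obtain ⟨x, hx⟩ : ∃ x, x * g ≠ g * x := by
      by_contra! h'; exact hgc (mem_center_iff.2 h')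
    refine hv0 (hf _ (hd x g) (fun e => hx (commutatorElement_eq_one_iff_mul_comm.1 e)) v0 ?_)
    have : τ ⁅x, g⁆ = 1 := by
      have hk : g ∈ τ.toHomUnits.ker := Units.ext hg
      have := MonoidHom.mem_ker.1 (commutator_le_right ⊤ _ (commutator_mem_commutator (mem_top x) hk))
      exact congrArg Units.val this
    rw [← hτ, this]; rfl
  have hmem : ∀ c ∈ center H, ρ c ∈ K := by
    rintro c hc _ ⟨g, rfl⟩
    rw [← map_mul, ← map_mul, mem_center_iff.1 hc g]
  haveI : Module.Finite K V := Module.Finite.of_finite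
  have h1 := idx_le_sq τ hti (fun c hc => ⟨⟨ρ c, hmem c hc⟩, rfl⟩) hd
  rw [hw] at h1
  have h2 : p ^ w ≤ Module.finrank K V := (Nat.pow_le_pow_iff_left two_ne_zero).1 h1
  haveI : CharP K r := (CharP.charP_iff_prime_eq_zero hr.out).2 (Subtype.ext (LinearMap.ext fun v => by
    simpa using hV v))
  cases nonempty_fintype K
  obtain ⟨m, -, hm⟩ := FiniteField.card K r
  obtain ⟨z, hz⟩ := exists_prime_orderOf_dvd_card' (G := center H) p (by rw [hZ])
  have hz1 : (z : H) ≠ 1 := by
    intro e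
    rw [show z = 1 from Subtype.ext e, orderOf_one] at hz
    exact hp.out.one_lt.ne hz
  have hζp : (⟨ρ z, hmem _ z.2⟩ : K) ^ p = 1 := Subtype.ext (by
    show ρ z ^ p = 1
    rw [← map_pow, ← coe_pow, ← hz, pow_orderOf_eq_one]; simp)
  have hζ : orderOf (⟨ρ z, hmem _ z.2⟩ : K) = p := orderOf_eq_prime hζp fun e =>
    hv0 (hf _ z.2 hz1 v0 (LinearMap.congr_fun (congrArg Subtype.val e) v0))
  have h3 := orderOf_dvd_of_pow_eq_one (FiniteField.pow_card_sub_one_eq_one (⟨ρ z, hmem _ z.2⟩ : K)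
    (fun e => by rw [e, zero_pow hp.out.ne_zero] at hζp; exact zero_ne_one hζp))
  rw [hζ, hm] at h3
  rw [← hN, Module.natCard_eq_pow_finrank (K := K), Nat.card_eq_fintype_card, hm, ← pow_mul]
  exact Nat.pow_le_pow_right hr.out.pos (Nat.mul_le_mul (hmin m m.2 h3) h2)

theorem big_faith {H : Type*} [Group H] [Finite H] {p r n w : ℕ} [hp : Fact p.Prime] [hr : Fact r.Prime] (hpr : p ≠ r)
    (hZ : Nat.card (center H) = p) (hd : ∀ x g : H, ⁅x, g⁆ ∈ center H) (hw : (center H).index = (p ^ w) ^ 2)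
    (hmin : ∀ k : ℕ, 1 ≤ k → p ∣ r ^ k - 1 → n ≤ k) (V : Type u) [AddCommGroup V] [Finite V]
    (ρ : Representation ℤ H V) (hV : ∀ v : V, r • v = 0) (hf : ∀ c, (∀ v, ρ c v = v) → c = 1) :
    r ^ (n * p ^ w) ≤ Nat.card V := by
  obtain ⟨z, hz⟩ := exists_prime_orderOf_dvd_card' (G := center H) p (by rw [hZ])
  have hz1 : (z : H) ≠ 1 := by
    intro e
    rw [show z = 1 from Subtype.ext e, orderOf_one] at hz
    exact hp.out.one_lt.ne hz
  have hzp : ρ z ^ p = 1 := by rw [← map_pow, ← coe_pow, ← hz, pow_orderOf_eq_one]; simp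
  let T := LinearMap.range (ρ z - 1)
  have hT : ∀ g, T ≤ T.comap (ρ g) := by
    rintro g _ ⟨v, rfl⟩
    refine ⟨ρ g v, ?_⟩
    simp only [LinearMap.sub_apply, Module.End.one_apply, map_sub]
    rw [← Module.End.mul_apply, ← Module.End.mul_apply, ← map_mul, ← map_mul, mem_center_iff.1 z.2 g]
  haveI : Nontrivial T := Submodule.nontrivial_iff_ne_bot.2 fun e => hz1 (hf _ fun v => by
    have := LinearMap.congr_fun (LinearMap.range_eq_bot.1 e) v
    exact sub_eq_zero.1 this)
  refine (big_fpf hZ hd hw hmin _ T (ρ.subrepresentation T hT) rfl (fun v => Subtype.ext (hV v)) ?_).trans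
    (Nat.card_le_card_of_injective _ Subtype.val_injective)
  rintro c hc hc1 ⟨v, u, rfl⟩ hv
  have hv' : ρ c ((ρ z - 1) u) = (ρ z - 1) u := congrArg Subtype.val hv
  apply Subtype.ext
  show (ρ z - 1) u = 0
  obtain ⟨j, hj⟩ := mem_powers_of_prime_card hZ (g := ⟨c, hc⟩) (g' := z) (fun e => hc1 (congrArg Subtype.val e))
  have hpow : ∀ (f : Module.End ℤ V) v, f v = v → ∀ i : ℕ, (f ^ i) v = v := fun f v h i => by
    induction i with
    | zero => rfl
    | succ i ih => rw [pow_succ, Module.End.mul_apply, h, ih]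
  have h1 : ρ z ((ρ z - 1) u) = (ρ z - 1) u := by
    have := hpow _ _ hv' j
    rwa [← map_pow, show c ^ j = z from congrArg Subtype.val hj] at this
  have h2 := LinearMap.congr_fun (geom_sum_mul (ρ z) p) u
  rw [hzp, sub_self, Module.End.mul_apply, LinearMap.sum_apply, Finset.sum_congr rfl fun i _ => hpow _ _ h1 i,
    Finset.sum_const, Finset.card_range] at h2
  exact AddMonoid.addOrderOf_eq_one_iff.1 (Nat.eq_one_of_dvd_coprimes ((Nat.coprime_primes hp.out hr.out).2 hpr)
    (addOrderOf_dvd_of_nsmul_eq_zero h2) (addOrderOf_dvd_of_nsmul_eq_zero (hV _)))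

open scoped IsMulCommutative in
theorem thm_2912 {G : Type*} [Group G] [Finite G] {p r : ℕ} [hp : Fact p.Prime] [hr : Fact r.Prime] (hpr : p ≠ r)
    (E A : Subgroup G) (w : ℕ) (hZ : Nat.card (center E) = p) (hd : commutator E = center E)
    (hEcard : Nat.card ↥E = p ^ (2 * w + 1)) [IsMulCommutative A] (hA : ∀ a ∈ A, a ^ r = 1)
    (hnorm : E ≤ normalizer (A : Set G)) (hfaith : E ⊓ centralizer (A : Set G) = ⊥) (n : ℕ)
    (hmin : ∀ k : ℕ, 1 ≤ k → p ∣ r ^ k - 1 → n ≤ k) : r ^ (n * p ^ w) ≤ Nat.card ↥A := by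
  refine big_faith hpr hZ (fun x g => hd ▸ commutator_mem_commutator (mem_top x) (mem_top g)) ?_ hmin (Additive A)
    ((Representation.ofMulDistribMulAction (normalizer (A : Set G)) A).comp (inclusion hnorm))
    (fun v => Subtype.ext (hA _ v.toMul.2)) fun c hc => ?_
  · have := (center E).card_mul_index
    rw [hZ, hEcard, pow_succ', mul_comm 2, pow_mul] at this
    exact Nat.eq_of_mul_eq_mul_left hp.out.pos this
  · refine Subtype.ext (mem_bot.1 (hfaith ▸ ⟨c.2, fun a ha => ?_⟩))
    have : (c : G) * a * (c : G)⁻¹ = a := congrArg (fun x : Additive A => (x.toMul : G)) (hc (.ofMul ⟨a, ha⟩))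
    exact (mul_inv_eq_iff_eq_mul.1 this).symm

end Cfsg.Agent.PU.Af
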