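import Mathlib

/-! Power graphs see elements of order `p * q`. -/

set_option autoImplicit false
set_option linter.unusedSectionVars false
set_option linter.unusedVariables false
set_option linter.style.haveILetI false

namespace Cfsg.Agent.PU.Af
open Subgroup

theorem nt_twin {s t M : ℕ} (hs : s ≠ 1) (hst : s ∣ t) (htM : t ∣ M) (hne : s ≠ t) (hM : M ≠ 0)
    (h : ∀ d, d ∣ M → ((d ∣ s ∨ s ∣ d) ↔ (d ∣ t ∨ t ∣ d))) : ∃ r k, r.Prime ∧ M = r ^ k := by
  have ht0 : t ≠ 0 := ne_zero_of_dvd_ne_zero hM htM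
  obtain ⟨c, rfl⟩ := hst
  have hs0 : s ≠ 0 := left_ne_zero_of_mul ht0
  obtain ⟨r, hr, hrc⟩ := Nat.exists_prime_and_dvd (n := c) (by rintro rfl; simp at hne)
  have h1 := Nat.ordProj_dvd (s * c) r
  have h2 : s ∣ r ^ (s * c).factorization r := ((h _ (h1.trans htM)).2 (.inl h1)).resolve_left fun e =>
    Nat.pow_succ_factorization_not_dvd ht0 hr (by rw [pow_succ]; exact mul_dvd_mul e hrc)
  have h3 : r ∣ s := by
    obtain ⟨u, hu, hus⟩ := Nat.exists_prime_and_dvd hs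
    rwa [← (Nat.prime_dvd_prime_iff_eq hu hr).1 (hu.dvd_of_dvd_pow (hus.trans h2))]
  refine ⟨r, _, hr, Nat.eq_prime_pow_of_unique_prime_dvd hM fun {u} hu huM => ?_⟩
  by_contra hur
  have h4 : ¬ u ∣ s := fun e => hur ((Nat.prime_dvd_prime_iff_eq hu hr).1 (hu.dvd_of_dvd_pow (e.trans h2)))
  have h5 : ¬ r ∣ u := fun e => hur ((Nat.prime_dvd_prime_iff_eq hr hu).1 e).symm
  have h6 : s * u ∣ M := ((Nat.Prime.coprime_iff_not_dvd hu).2 h4).symm.mul_dvd_of_dvd_of_dvd
    ((dvd_mul_right s c).trans htM) huM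
  rcases (h _ h6).1 (.inr (dvd_mul_right _ _)) with e | e
  · rcases (h u huM).2 (.inl ((dvd_mul_left u s).trans e)) with e | e
    · exact h4 e
    · exact h5 (h3.trans e)
  · exact h5 (hrc.trans (Nat.dvd_of_mul_dvd_mul_left (Nat.pos_of_ne_zero hs0) e))

theorem nt_prime {m n : ℕ} (hm : m ≠ 0) (hn : n ≠ 0) (h1 : ¬ m ∣ n) (h2 : ¬ n ∣ m) (ha : ∀ d, d ∣ m → d ≠ m → d ∣ n)
    (hb : ∀ d, d ∣ n → d ≠ n → d ∣ m) : m.Prime := by
  have key : ∀ {m n : ℕ}, m ≠ 0 → ¬ m ∣ n → (∀ d, d ∣ m → d ≠ m → d ∣ n) → ∀ u, u.Prime → u ∣ m →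
      m = u * Nat.gcd m n := by
    rintro m n hm h1 ha u hu ⟨d, rfl⟩
    have hd0 : 0 < d := Nat.pos_of_ne_zero (right_ne_zero_of_mul hm)
    have h3 : d ∣ Nat.gcd (u * d) n := Nat.dvd_gcd (dvd_mul_left _ _) (ha d (dvd_mul_left _ _) (by
      have := hu.two_le; nlinarith))
    obtain ⟨f, hf⟩ := h3
    have h4 : d * f ∣ d * u := by rw [← hf, mul_comm d]; exact Nat.gcd_dvd_left _ _
    rcases (Nat.dvd_prime hu).1 (Nat.dvd_of_mul_dvd_mul_left hd0 h4) with rfl | rfl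
    · rw [hf, mul_one]
    · exact absurd (by rw [mul_comm, ← hf]; exact Nat.gcd_dvd_right _ _) h1
  obtain ⟨u, hu, hum⟩ := Nat.exists_prime_and_dvd (n := m) (by rintro rfl; simp at h1)
  by_cases hk : Nat.gcd m n = 1
  · rwa [key hm h1 ha u hu hum, hk, mul_one]
  obtain ⟨w, hw, hwk⟩ := Nat.exists_prime_and_dvd hk
  have e1 := key hm h1 ha w hw (hwk.trans (Nat.gcd_dvd_left _ _))
  have e2 := key hn h2 hb w hw (hwk.trans (Nat.gcd_dvd_right _ _))
  rw [Nat.gcd_comm, ← e1] at e2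
  exact absurd (e2 ▸ dvd_rfl) h1

section
variable {G : Type*} [Group G] [Finite G]

theorem cyc_mem {c x y : G} (hx : x ∈ zpowers c) (hy : y ∈ zpowers c) : x ∈ zpowers y ↔ orderOf x ∣ orderOf y := by
  classical
  refine ⟨orderOf_dvd_of_mem_zpowers, fun h => ?_⟩
  cases nonempty_fintype (zpowers c)
  have h1 := IsCyclic.card_pow_eq_one_le (α := zpowers c) (orderOf_pos y)
  let Y := zpowers (⟨y, hy⟩ : zpowers c)
  have h2 : Finset.univ.filter (· ∈ Y) = Finset.univ.filter fun a : zpowers c => a ^ orderOf y = 1 := by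
    apply Finset.eq_of_subset_of_card_le
    · intro a ha
      rw [Finset.mem_filter] at ha ⊢
      refine ⟨ha.1, orderOf_dvd_iff_pow_eq_one.1 ?_⟩
      simpa using orderOf_dvd_of_mem_zpowers ha.2
    · refine h1.trans (le_of_eq ?_)
      rw [← Fintype.card_subtype, ← Nat.card_eq_fintype_card, Nat.card_zpowers, orderOf_mk]
  have h3 : (⟨x, hx⟩ : zpowers c) ∈ Finset.univ.filter (· ∈ Y) := by
    rw [h2, Finset.mem_filter]
    exact ⟨Finset.mem_univ _, Subtype.ext (orderOf_dvd_iff_pow_eq_one.1 h)⟩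
  obtain ⟨k, hk⟩ := (Finset.mem_filter.1 h3).2
  exact ⟨k, congrArg Subtype.val hk⟩

theorem cyc_card (c : G) {k : ℕ} (hk : k ∣ orderOf c) :
    Nat.card {x : G // x ∈ zpowers c ∧ orderOf x = k} = Nat.totient k := by
  classical
  cases nonempty_fintype (zpowers c)
  rw [← IsCyclic.card_orderOf_eq_totient (α := zpowers c) (by rwa [← Nat.card_eq_fintype_card, Nat.card_zpowers]), ← Fintype.card_subtype,
    ← Nat.card_eq_fintype_card]
  exact Nat.card_congr ⟨fun x => ⟨⟨x.1, x.2.1⟩, by simpa using x.2.2⟩, fun x => ⟨x.1.1, x.1.2, by simpa using x.2⟩,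
    fun _ => rfl, fun _ => rfl⟩

theorem cyc_ex (c : G) {k : ℕ} (hk : k ∣ orderOf c) : ∃ x ∈ zpowers c, orderOf x = k :=
  ⟨c ^ (orderOf c / k), npow_mem_zpowers _ _, orderOf_pow_orderOf_div (orderOf_pos c).ne' hk⟩

def Adj (x y : G) : Prop := x ∈ zpowers y ∨ y ∈ zpowers x
def Tw (x y : G) : Prop := ∀ z, Adj x z ↔ Adj y z

theorem Adj.symm {x y : G} (h : Adj x y) : Adj y x := Or.symm h
theorem adj_rfl (x : G) : Adj x x := .inl (mem_zpowers x)

theorem adj_iff {c x y : G} (hx : x ∈ zpowers c) (hy : y ∈ zpowers c) :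
    Adj x y ↔ orderOf x ∣ orderOf y ∨ orderOf y ∣ orderOf x := by rw [Adj, cyc_mem hx hy, cyc_mem hy hx]

theorem tw_of {c x y : G} (hx : x ∈ zpowers c) (hy : y ∈ zpowers c) (h : orderOf x = orderOf y) : Tw x y := by
  have h1 : zpowers x = zpowers y := le_antisymm (zpowers_le.2 ((cyc_mem hx hy).2 h.dvd))
    (zpowers_le.2 ((cyc_mem hy hx).2 h.symm.dvd))
  intro z
  rw [Adj, Adj, ← zpowers_le, ← zpowers_le (g := y), h1]

theorem tw_ord {c x y : G} (hx : x ∈ zpowers c) (hy : y ∈ zpowers c) (h : Tw x y) (hx1 : x ≠ 1) (hy1 : y ≠ 1) :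
    orderOf x = orderOf y ∨ ∃ r k, r.Prime ∧ orderOf c = r ^ k := by
  by_cases e : orderOf x = orderOf y
  · exact .inl e
  have key : ∀ d, d ∣ orderOf c → ((d ∣ orderOf x ∨ orderOf x ∣ d) ↔ (d ∣ orderOf y ∨ orderOf y ∣ d)) := by
    intro d hd
    obtain ⟨z, hz, rfl⟩ := cyc_ex c hd
    rw [or_comm, ← adj_iff hx hz, h z, adj_iff hy hz, or_comm]
  rcases (adj_iff hx hy).1 ((h y).2 (adj_rfl y)) with h1 | h1
  · exact .inr (nt_twin (by simpa using hx1) h1 (orderOf_dvd_of_mem_zpowers hy) e (orderOf_pos c).ne' key)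
  · exact .inr (nt_twin (by simpa using hy1) h1 (orderOf_dvd_of_mem_zpowers hx) (Ne.symm e) (orderOf_pos c).ne'
      fun d hd => (key d hd).symm)

theorem g_side {p q : ℕ} (hp : p.Prime) (hq : q.Prime) (hpq : p ≠ q) {g a b : G} (hg : orderOf g = p * q)
    (ha : a ∈ zpowers g) (hb : b ∈ zpowers g) (oa : orderOf a = p) (ob : orderOf b = q) :
    ¬ Adj a b ∧ (∀ u, Adj u a → Adj u g → Tw u a ∨ Adj u b) ∧ Nat.card {u // Tw u a} = p - 1 := by
  have h1 : ¬ Adj a b := by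
    rw [adj_iff ha hb, oa, ob, Nat.prime_dvd_prime_iff_eq hp hq, Nat.prime_dvd_prime_iff_eq hq hp]; omega
  have h2 : ∀ u, Adj u a → Adj u g → (u ∈ zpowers g ∧ orderOf u = p) ∨ Adj u b := by
    rintro u hu (hg' | hg')
    · rw [adj_iff hg' ha, oa] at hu
      rw [adj_iff hg' hb, ob]
      rcases hu with hu | ⟨d, hd⟩
      · rcases (Nat.dvd_prime hp).1 hu with e | e
        · exact .inr (.inl (e ▸ one_dvd _))
        · exact .inl ⟨hg', e⟩
      · have := orderOf_dvd_of_mem_zpowers hg'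
        rw [hg, hd] at this
        rcases (Nat.dvd_prime hq).1 (Nat.dvd_of_mul_dvd_mul_left hp.pos this) with rfl | rfl
        · exact .inl ⟨hg', by simpa using hd⟩
        · exact .inr (.inr (hd ▸ dvd_mul_left _ _))
    · exact .inr (.inr (zpowers_le.2 hg' hb))
  refine ⟨h1, fun u h h' => (h2 u h h').imp_left fun e => tw_of e.1 ha (e.2.trans oa.symm), ?_⟩
  rw [← Nat.totient_prime hp, ← cyc_card g (hg ▸ dvd_mul_right p q)]
  refine Nat.card_congr (Equiv.subtypeEquivRight fun u => ⟨fun h => ?_, fun e => tw_of e.1 ha (e.2.trans oa.symm)⟩)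
  exact (h2 u ((h a).2 (adj_rfl a)) ((h g).2 (.inl ha))).resolve_right fun e => h1 ((h b).1 e)

theorem h_side {c a b : G} (ha : a ∈ zpowers c) (hb : b ∈ zpowers c) (h : ¬ Adj a b)
    (h1 : ∀ u, Adj u a → Adj u c → Tw u a ∨ Adj u b) :
    (∀ d, d ∣ orderOf a → d ≠ orderOf a → d ∣ orderOf b) ∧ Nat.card {u // Tw u a} = Nat.totient (orderOf a) := by
  have key : ∀ u, Tw u a → u ∈ zpowers c ∧ orderOf u = orderOf a := by
    intro u hu
    have hub : ¬ Adj u b := fun e => h ((hu b).1 e)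
    have huc : u ∈ zpowers c := ((hu c).2 (.inl ha)).resolve_right fun e => hub (.inr (zpowers_le.2 e hb))
    refine ⟨huc, (tw_ord huc ha hu ?_ ?_).resolve_right ?_⟩
    · rintro rfl; exact hub (.inl (one_mem _))
    · rintro rfl; exact h (.inl (one_mem _))
    · rintro ⟨r, k, hr, hk⟩
      apply h
      rw [adj_iff ha hb]
      obtain ⟨i, -, hi⟩ := (Nat.dvd_prime_pow hr).1 (hk ▸ orderOf_dvd_of_mem_zpowers ha)
      obtain ⟨j, -, hj⟩ := (Nat.dvd_prime_pow hr).1 (hk ▸ orderOf_dvd_of_mem_zpowers hb)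
      rw [hi, hj]
      exact (le_total i j).imp (pow_dvd_pow r) (pow_dvd_pow r)
  constructor
  · intro d hd hne
    obtain ⟨u, hu, rfl⟩ := cyc_ex a hd
    have huc := zpowers_le.2 ha hu
    rcases h1 u (.inl hu) (.inl huc) with e | e | e
    · exact absurd (key u e).2 hne
    · exact orderOf_dvd_of_mem_zpowers e
    · exact absurd (.inr (zpowers_le.2 hu e)) h
  · rw [← cyc_card c (orderOf_dvd_of_mem_zpowers ha)]
    exact Nat.card_congr (Equiv.subtypeEquivRight fun u => ⟨key u, fun e => tw_of e.1 ha e.2⟩)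

end

section
variable {G H : Type*} [Group G] [Finite G] [Group H] [Finite H]

theorem pg_main (e : G ≃ H) (he : ∀ x y, Adj x y ↔ Adj (e x) (e y)) (h1 : e 1 = 1) {p q : ℕ} (hp : p.Prime)
    (hq : q.Prime) (hpq : p < q) (g : G) (hg : orderOf g = p * q) : ∃ h : H, orderOf h = p * q := by
  obtain ⟨a, ha, oa⟩ := cyc_ex g (hg ▸ dvd_mul_right p q)
  obtain ⟨b, hb, ob⟩ := cyc_ex g (hg ▸ dvd_mul_left q p)
  have htw : ∀ x y, Tw x y ↔ Tw (e x) (e y) := fun x y => by
    simp only [Tw, e.forall_congr_left, he, Equiv.apply_symm_apply]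
  have hcard : ∀ x, Nat.card {u // Tw u x} = Nat.card {u // Tw u (e x)} := fun x =>
    Nat.card_congr (e.subtypeEquiv fun u => htw u x)
  obtain ⟨n1, a2, a3⟩ := g_side hp hq hpq.ne hg ha hb oa ob
  obtain ⟨n2, b2, b3⟩ := g_side hq hp hpq.ne' (hg.trans (mul_comm _ _)) hb ha ob oa
  rw [he] at n1 n2
  rw [hcard] at a3 b3
  by_cases hx : ∃ x, (x ∈ zpowers g ∧ orderOf x = p * q) ∧ e a ∈ zpowers (e x)
  · obtain ⟨x, ⟨hx, ox⟩, hax⟩ := hx
    have txg : Tw x g := tw_of hx (mem_zpowers g) (ox.trans hg.symm)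
    have hbx : e b ∈ zpowers (e x) := ((he _ _).1 ((txg b).2 (.inr hb))).resolve_left fun h =>
      n1 (.inl (zpowers_le.2 h hax))
    obtain ⟨c1, c2⟩ := h_side hax hbx n1 (fun u h h' => by
      obtain ⟨u, rfl⟩ := e.surjective u
      rw [← he] at h h' ⊢
      rw [← htw]
      exact a2 u h ((txg u).1 h'.symm).symm)
    obtain ⟨d1, d2⟩ := h_side hbx hax n2 (fun u h h' => by
      obtain ⟨u, rfl⟩ := e.surjective u
      rw [← he] at h h' ⊢
      rw [← htw]
      exact b2 u h ((txg u).1 h'.symm).symm)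
    rw [adj_iff hax hbx, not_or] at n1
    have p1 := nt_prime (orderOf_pos _).ne' (orderOf_pos _).ne' n1.1 n1.2 c1 d1
    have p2 := nt_prime (orderOf_pos _).ne' (orderOf_pos _).ne' n1.2 n1.1 d1 c1
    rw [a3, Nat.totient_prime p1] at c2
    rw [b3, Nat.totient_prime p2] at d2
    have e1 : orderOf (e a) = p := by have := p1.pos; have := hp.pos; omega
    have e2 : orderOf (e b) = q := by have := p2.pos; have := hq.pos; omega
    obtain ⟨y, -, hy⟩ := cyc_ex (e x) (((Nat.coprime_primes hp hq).2 hpq.ne).mul_dvd_of_dvd_of_dvd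
      (e1 ▸ orderOf_dvd_of_mem_zpowers hax) (e2 ▸ orderOf_dvd_of_mem_zpowers hbx))
    exact ⟨y, hy⟩
  exfalso
  push Not at hx
  have hT := cyc_card g (k := p * q) (hg ▸ dvd_rfl)
  rw [Nat.totient_mul ((Nat.coprime_primes hp hq).2 hpq.ne), Nat.totient_prime hp, Nat.totient_prime hq] at hT
  have hin : ∀ x, x ∈ zpowers g ∧ orderOf x = p * q → e x ∈ zpowers (e a) := fun x h =>
    ((he _ _).1 ((tw_of h.1 (mem_zpowers g) (h.2.trans hg.symm) a).2 (.inr ha))).resolve_right (hx x h)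
  have hne : ∀ x, x ∈ zpowers g ∧ orderOf x = p * q → e x ≠ 1 := fun x h h' => by
    rw [← h1, e.apply_eq_iff_eq] at h'
    have := h.2
    rw [h', orderOf_one] at this
    exact hp.one_lt.ne' (Nat.eq_one_of_mul_eq_one_right this.symm)
  have hgT : g ∈ zpowers g ∧ orderOf g = p * q := ⟨mem_zpowers g, hg⟩
  have hm : Nat.totient (orderOf (e a)) ≤ p - 1 := by
    rw [← a3, ← cyc_card (e a) dvd_rfl]
    refine Nat.card_le_card_of_injective _ (Subtype.map_injective (fun u h => ?_) Function.injective_id)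
    exact tw_of h.1 (mem_zpowers _) h.2
  suffices Nat.card {x : G // x ∈ zpowers g ∧ orderOf x = p * q} ≤ Nat.totient (orderOf (e a)) by
    have h3 := this.trans hm
    rw [hT] at h3
    have := hp.two_le
    have : (p - 1) * 2 ≤ (p - 1) * (q - 1) := Nat.mul_le_mul_left _ (by omega)
    omega
  by_cases hr : ∃ r k, r.Prime ∧ orderOf (e a) = r ^ k
  · obtain ⟨r, k, hr, hk⟩ := hr
    have hlt : ∀ x, x ∈ zpowers g ∧ orderOf x = p * q → ∃ i < k, orderOf (e x) = r ^ i := fun x h => by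
      obtain ⟨i, hi, e1⟩ := (Nat.dvd_prime_pow hr).1 (hk ▸ orderOf_dvd_of_mem_zpowers (hin x h))
      refine ⟨i, lt_of_le_of_ne hi ?_, e1⟩
      rintro rfl
      exact hx x h ((cyc_mem (mem_zpowers _) (hin x h)).2 (by rw [hk, e1]))
    obtain ⟨k, rfl⟩ := Nat.exists_eq_succ_of_ne_zero (n := k) (by obtain ⟨i, hi, -⟩ := hlt g hgT; omega)
    obtain ⟨z, hz, oz⟩ := cyc_ex (e a) (k := r ^ k) (hk ▸ pow_dvd_pow r (Nat.le_succ k))
    rw [hk, Nat.totient_prime_pow_succ hr]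
    refine le_trans ?_ (Nat.le_mul_of_pos_right _ (by have := hr.two_le; omega))
    rw [← oz, ← Nat.card_zpowers]
    refine Nat.card_le_card_of_injective _ (Subtype.map_injective (fun x h => ?_) e.injective)
    obtain ⟨i, hi, e1⟩ := hlt x h
    exact (cyc_mem (hin x h) hz).2 (by rw [e1, oz]; exact pow_dvd_pow r (by omega))
  · have hd := orderOf_dvd_of_mem_zpowers (hin g hgT)
    refine le_trans ?_ (Nat.le_of_dvd (Nat.totient_pos.2 (orderOf_pos _)) (Nat.totient_dvd_of_dvd hd))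
    rw [← cyc_card (e a) hd]
    refine Nat.card_le_card_of_injective _ (Subtype.map_injective (fun x h => ⟨hin x h, ?_⟩) e.injective)
    exact (tw_ord (hin x h) (hin g hgT) ((htw _ _).1 (tw_of h.1 (mem_zpowers g) (h.2.trans hg.symm)))
      (hne x h) (hne g hgT)).resolve_right hr

theorem pg_one (e : G ≃ H) (he : ∀ x y, Adj x y ↔ Adj (e x) (e y)) {p q : ℕ} (hp : p.Prime)
    (hq : q.Prime) (hpq : p ≠ q) (g : G) (hg : orderOf g = p * q) : ∃ h : H, orderOf h = p * q := by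
  classical
  have hu : ∀ z : H, Adj (e 1) z := fun z => by
    obtain ⟨z, rfl⟩ := e.surjective z
    exact (he _ _).1 (.inl (one_mem _))
  have hs : ∀ x y : H, Adj x y ↔ Adj (Equiv.swap (e 1) 1 x) (Equiv.swap (e 1) 1 y) := by
    have h1 : ∀ z : H, Adj 1 z := fun z => .inl (one_mem _)
    intro x y
    by_cases a1 : x = e 1
    · rw [a1, Equiv.swap_apply_left]; exact iff_of_true (hu _) (h1 _)
    by_cases a2 : x = 1
    · rw [a2, Equiv.swap_apply_right]; exact iff_of_true (h1 _) (hu _)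
    by_cases a3 : y = e 1
    · rw [a3, Equiv.swap_apply_left]; exact iff_of_true (hu _).symm (h1 _).symm
    by_cases a4 : y = 1
    · rw [a4, Equiv.swap_apply_right]; exact iff_of_true (h1 _).symm (hu _).symm
    rw [Equiv.swap_apply_of_ne_of_ne a1 a2, Equiv.swap_apply_of_ne_of_ne a3 a4]
  have h2 : ∀ x y, Adj x y ↔ Adj ((e.trans (Equiv.swap (e 1) 1)) x) ((e.trans (Equiv.swap (e 1) 1)) y) :=
    fun x y => (he x y).trans (hs _ _)
  rcases lt_or_gt_of_ne hpq with h | h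
  · exact pg_main _ h2 (by simp) hp hq h g hg
  · rw [mul_comm] at hg ⊢
    exact pg_main _ h2 (by simp) hq hp h g hg

end

end Cfsg.Agent.PU.Af
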