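import Mathlib

/-! Subgroups `A₄` of `GL₂(ℤ/2^k)`. -/

set_option autoImplicit false
set_option linter.unusedSectionVars false
set_option linter.unusedVariables false
set_option linter.style.haveILetI false

namespace Cfsg.Agent.PU.Af
open Subgroup Matrix

section
variable {R : Type*} [CommRing R]

def mT : Matrix (Fin 2) (Fin 2) R := !![0, -1; 1, -1]
def mT2 : Matrix (Fin 2) (Fin 2) R := !![-1, 1; -1, 0]
def mW (r s : R) : Matrix (Fin 2) (Fin 2) R := !![1 - s, r; r - s, 1 + s]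

theorem mT_sq : (mT : Matrix (Fin 2) (Fin 2) R) * mT = mT2 := by simp [mT, mT2]

theorem mW1 (r s : R) : mT * mW r s * mT2 = mW (s - r) (-r) := by
  ext i j; fin_cases i <;> fin_cases j <;> simp [mT, mT2, mW] <;> ring

theorem mW2 (r s : R) : mT2 * mW r s * mT = mW (-s) (r - s) := by
  ext i j; fin_cases i <;> fin_cases j <;> simp [mT, mT2, mW] <;> ring

theorem exists_W {u : R} (hu : 3 * u = 1) (w : Matrix (Fin 2) (Fin 2) R) (h1 : w * w = 1)
    (h2 : w * (mT * w * mT2) = mT2 * w * mT) : ∃ r s, r + r = 0 ∧ s + s = 0 ∧ w = mW r s := by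
  obtain ⟨p, q, r, s, rfl⟩ : ∃ p q r s, w = !![p - s, r - q; q + r - s, p - q + s] := by
    refine ⟨w 0 0 + (2 * (u * (2 * w 1 0 - 2 * w 0 1 - w 0 0 + w 1 1)) - w 1 0 + w 0 1),
      u * (2 * w 1 0 - 2 * w 0 1 - w 0 0 + w 1 1), w 0 1 + u * (2 * w 1 0 - 2 * w 0 1 - w 0 0 + w 1 1),
      2 * (u * (2 * w 1 0 - 2 * w 0 1 - w 0 0 + w 1 1)) - w 1 0 + w 0 1, ?_⟩
    ext i j; fin_cases i <;> fin_cases j <;> simp
    · ring
    · linear_combination (-(2 * w 1 0 - 2 * w 0 1 - w 0 0 + w 1 1)) * hu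
  have a0 := congrFun (congrFun h1 0) 0
  have a1 := congrFun (congrFun h1 0) 1
  have a2 := congrFun (congrFun h1 1) 0
  have a3 := congrFun (congrFun h1 1) 1
  have b0 := congrFun (congrFun h2 0) 0
  have b1 := congrFun (congrFun h2 0) 1
  have b2 := congrFun (congrFun h2 1) 0
  have b3 := congrFun (congrFun h2 1) 1
  simp only [mT, mT2, mul_fin_two, of_apply, cons_val', cons_val_zero, cons_val_one, cons_val_fin_one,
    one_apply_eq, ne_eq, zero_ne_one, one_ne_zero, not_false_eq_true, one_apply_ne] at a0 a1 a2 a3 b0 b1 b2 b3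
  have c3 : ∀ x : R, 3 * x = 0 → x = 0 := fun x h => by linear_combination u * h - x * hu
  have e1 : 2 * p * q - q ^ 2 = 0 := c3 _ (by linear_combination 2 * a2 - 2 * a1 - a0 + a3)
  have e2 : p ^ 2 - q ^ 2 + (r ^ 2 - r * s + s ^ 2) - 1 = 0 := c3 _ (by
    linear_combination 3 * a0 + 2 * (2 * a2 - 2 * a1 - a0 + a3) - 3 * (a2 - a1))
  have e3 : 2 * p * q - q ^ 2 + (r ^ 2 - r * s + s ^ 2) - q = 0 := c3 _ (by
    linear_combination 2 * b2 - 2 * b1 - b0 + b3)
  have e4 : p ^ 2 - q ^ 2 - p = 0 := c3 _ (by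
    linear_combination 3 * b0 + 2 * (2 * b2 - 2 * b1 - b0 + b3) - 3 * (b2 - b1))
  have e5 : p + q = 1 := by linear_combination e2 - e3 - e4 + e1
  have e6 : q = 0 := by linear_combination (p - q) * e5 - e4
  subst e6
  obtain rfl : p = 1 := by simpa using e5
  refine ⟨r, s, by linear_combination a1, by linear_combination a1 - a2, by simp [mW]⟩

end

section
variable {k : ℕ}

theorem unit_of (hk : 2 ≤ k) (x : ZMod (2 ^ k))
    (h : ZMod.castHom (dvd_pow_self 2 (by omega : k ≠ 0)) (ZMod 2) x ≠ 0) : IsUnit x := by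
  obtain ⟨n, rfl⟩ := ZMod.natCast_zmod_surjective x
  rw [map_natCast, Ne, ZMod.natCast_eq_zero_iff] at h
  exact (ZMod.isUnit_iff_coprime _ _).2 (((Nat.Prime.coprime_iff_not_dvd Nat.prime_two).2 h).symm.pow_right _)

theorem f2_ord3 : ∀ m : Matrix (Fin 2) (Fin 2) (ZMod 2), m * m * m = 1 →
    (m * m + m + 1).det ≠ 0 ∨ ((m - 1).det ≠ 0 ∧ m 1 0 ≠ 0) := by
  simp only [det_fin_two]
  decide +kernel

theorem exists_P (hk : 2 ≤ k) (t : Matrix (Fin 2) (Fin 2) (ZMod (2 ^ k))) (h3 : t * t * t = 1) (h1 : t ≠ 1) :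
    ∃ P : GL (Fin 2) (ZMod (2 ^ k)), t * P.1 = P.1 * mT := by
  let φ := ZMod.castHom (dvd_pow_self 2 (by omega : k ≠ 0)) (ZMod 2)
  have hf : (t - 1) * (t * t + t + 1) = 0 := by
    rw [← sub_eq_zero] at h3; rw [← h3]; noncomm_ring
  rcases f2_ord3 (φ.mapMatrix t) (by rw [← map_mul, ← map_mul, h3, map_one]) with h | ⟨h, h'⟩
  · rw [← map_mul, ← map_add, ← map_one φ.mapMatrix, ← map_add, ← RingHom.map_det] at h
    exact absurd (sub_eq_zero.1 (((isUnit_iff_isUnit_det _).2 (unit_of hk _ h)).mul_left_eq_zero.1 hf)) h1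
  · rw [← map_one φ.mapMatrix, ← map_sub, ← RingHom.map_det] at h
    have h4 := ((isUnit_iff_isUnit_det _).2 (unit_of hk _ h)).mul_right_eq_zero.1 hf
    have h5 : IsUnit (!![1, t 0 0; 0, t 1 0] : Matrix (Fin 2) (Fin 2) (ZMod (2 ^ k))) :=
      (isUnit_iff_isUnit_det _).2 (by simpa [det_fin_two] using unit_of hk (t 1 0) h')
    refine ⟨h5.unit, ?_⟩
    have a0 := congrFun (congrFun h4 0) 0
    have a2 := congrFun (congrFun h4 1) 0
    simp [mul_apply, Fin.sum_univ_two] at a0 a2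
    rw [h5.unit_spec]
    ext i j; fin_cases i <;> fin_cases j <;> simp [mT, mul_apply, Fin.sum_univ_two]
    · linear_combination a0
    · linear_combination a2

theorem W_conj (hk : 2 ≤ k) {r s r' s' : ZMod (2 ^ k)} (hr : r + r = 0) (hs : s + s = 0) (hr' : r' + r' = 0)
    (hs' : s' + s' = 0) (h : mW r s ≠ 1) :
    mW r' s' = 1 ∨ mW r' s' = mW r s ∨ mW r' s' = mT * mW r s * mT2 ∨ mW r' s' = mT2 * mW r s * mT := by
  obtain ⟨c, hc, hx⟩ : ∃ c : ZMod (2 ^ k), -c = c ∧ ∀ x : ZMod (2 ^ k), x + x = 0 → x = 0 ∨ x = c := by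
    by_cases e : ∃ c : ZMod (2 ^ k), -c = c ∧ c ≠ 0
    · obtain ⟨c, h1, h2⟩ := e
      refine ⟨c, h1, fun x hx => ((ZMod.neg_eq_self_iff x).1 (neg_eq_of_add_eq_zero_left hx)).imp_right fun e => ?_⟩
      have := ((ZMod.neg_eq_self_iff c).1 h1).resolve_left h2
      exact ZMod.val_injective _ (by omega)
    · push Not at e
      exact ⟨0, neg_zero, fun x hx => .inl (e x (neg_eq_of_add_eq_zero_left hx))⟩
  have h0 : mW (0 : ZMod (2 ^ k)) 0 = 1 := by simp [mW, one_fin_two]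
  rw [mW1, mW2]
  rcases hx r hr with rfl | rfl <;> rcases hx s hs with rfl | e <;> (try subst e) <;> (try exact absurd h0 h) <;>
    rcases hx r' hr' with rfl | e <;> (try subst e) <;> rcases hx s' hs' with rfl | e <;> (try subst e) <;>
    simp [h0, hc]

theorem a4_gen : ∀ x : Equiv.Perm (Fin 4), Equiv.Perm.sign x = 1 → ∃ i j : Fin 3, ∃ e : Fin 2,
    x = (Equiv.swap 0 1 * Equiv.swap 1 2) ^ i.val * (Equiv.swap 0 1 * Equiv.swap 2 3) ^ e.val *
      (Equiv.swap 0 1 * Equiv.swap 1 2) ^ j.val := by decide +kernel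

theorem a4_pres {G : Type*} [Group G] (H : Subgroup G) (e : H ≃* alternatingGroup (Fin 4)) :
    ∃ t v : G, H = closure {t, v} ∧ t * t * t = 1 ∧ t ≠ 1 ∧ v * v = 1 ∧ v ≠ 1 ∧
      v * (t * v * (t * t)) = t * t * v * t := by
  let t : alternatingGroup (Fin 4) := ⟨Equiv.swap 0 1 * Equiv.swap 1 2, by simp⟩
  let v : alternatingGroup (Fin 4) := ⟨Equiv.swap 0 1 * Equiv.swap 2 3, by simp⟩
  let f : alternatingGroup (Fin 4) →* G := H.subtype.comp e.symm.toMonoidHom
  have hf : Function.Injective f := Subtype.val_injective.comp e.symm.injective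
  refine ⟨f t, f v, le_antisymm (fun x hx => ?_) ((closure_le _).2 ?_), ?_, ?_, ?_, ?_, ?_⟩
  · obtain ⟨i, j, l, h⟩ := a4_gen (e ⟨x, hx⟩).1 (e ⟨x, hx⟩).2
    have h1 : e ⟨x, hx⟩ = t ^ i.val * v ^ l.val * t ^ j.val := Subtype.ext h
    have h2 : x = f (e ⟨x, hx⟩) := by simp [f]
    rw [h2, h1, map_mul, map_mul, map_pow, map_pow, map_pow]
    exact mul_mem (mul_mem (pow_mem (subset_closure (by simp)) _) (pow_mem (subset_closure (by simp)) _))
      (pow_mem (subset_closure (by simp)) _)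
  · rintro _ (rfl | rfl) <;> exact Subtype.property _
  · simp only [← map_mul]; rw [← map_one f]; exact congrArg f (by decide)
  · exact fun h => absurd (hf (h.trans (map_one f).symm)) (by decide)
  · simp only [← map_mul]; rw [← map_one f]; exact congrArg f (by decide)
  · exact fun h => absurd (hf (h.trans (map_one f).symm)) (by decide)
  · simp only [← map_mul]; exact congrArg f (by decide)

theorem a4_nf (hk : 2 ≤ k) (H : Subgroup (GL (Fin 2) (ZMod (2 ^ k)))) (e : H ≃* alternatingGroup (Fin 4)) :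
    ∃ (g T w : GL (Fin 2) (ZMod (2 ^ k))) (r s : ZMod (2 ^ k)), H.map (MulAut.conj g).toMonoidHom = Subgroup.closure {T, w} ∧
      T.1 = mT ∧ w.1 = mW r s ∧ r + r = 0 ∧ s + s = 0 ∧ w ≠ 1 := by
  obtain ⟨t, v, rfl, h1, h2, h3, h4, h5⟩ := a4_pres H e
  obtain ⟨P, hP⟩ := exists_P hk t.1 (congrArg Units.val h1) (fun e => h2 (Units.ext e))
  have hT : (MulAut.conj P⁻¹ t).1 = mT := by
    rw [MulAut.conj_apply, inv_inv, mul_assoc, Units.val_mul, Units.val_mul, hP, Units.inv_mul_cancel_left]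
  obtain ⟨u, hu⟩ := (unit_of hk (3 : ℕ) (by rw [map_natCast]; decide)).exists_right_inv
  have k3 := congrArg (fun x => (MulAut.conj P⁻¹ x).1) h3
  have k5 := congrArg (fun x => (MulAut.conj P⁻¹ x).1) h5
  simp only [map_mul, map_one, Units.val_mul, hT, mT_sq, Units.val_one] at k3 k5
  obtain ⟨r, s, hr, hs, hw⟩ := exists_W (u := u) (by exact_mod_cast hu) _ k3 k5
  refine ⟨P⁻¹, _, _, r, s, ?_, hT, hw, hr, hs, fun e => h4 ((MulAut.conj P⁻¹).map_eq_one_iff.1 e)⟩
  rw [MonoidHom.map_closure, Set.image_pair]; rfl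

theorem thm_2874 (hk : 2 ≤ k) (H₁ H₂ : Subgroup (GL (Fin 2) (ZMod (2 ^ k)))) (e₁ : H₁ ≃* alternatingGroup (Fin 4))
    (e₂ : H₂ ≃* alternatingGroup (Fin 4)) : ∃ g, H₂ = H₁.map (MulAut.conj g).toMonoidHom := by
  obtain ⟨g, T, w, r, s, h1, h2, h3, h4, h5, h6⟩ := a4_nf hk H₁ e₁
  obtain ⟨g', T', w', r', s', h1', h2', h3', h4', h5', h6'⟩ := a4_nf hk H₂ e₂
  obtain rfl : T = T' := Units.ext (h2.trans h2'.symm)
  have key : ∀ (w w' : GL (Fin 2) (ZMod (2 ^ k))) r s r' s', w.1 = mW r s → r + r = 0 → s + s = 0 → w ≠ 1 →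
      w'.1 = mW r' s' → r' + r' = 0 → s' + s' = 0 → Subgroup.closure {T, w'} ≤ Subgroup.closure {T, w} := by
    intro w w' r s r' s' h3 h4 h5 h6 h3' h4' h5'
    have hT : T ∈ Subgroup.closure {T, w} := Subgroup.subset_closure (by simp)
    have hw : w ∈ Subgroup.closure {T, w} := Subgroup.subset_closure (by simp)
    rw [closure_le]
    rintro x (rfl | hx)
    · exact hT
    rw [Set.mem_singleton_iff.1 hx]
    have := W_conj hk h4 h5 h4' h5' (fun e => h6 (Units.ext (h3.trans e)))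
    rw [← h3, ← h3', ← mT_sq, ← h2] at this
    rcases this with e | e | e | e
    · rw [show w' = 1 from Units.ext e]; exact one_mem _
    · rw [show w' = w from Units.ext e]; exact hw
    · rw [show w' = T * w * (T * T) from Units.ext e]; exact mul_mem (mul_mem hT hw) (mul_mem hT hT)
    · rw [show w' = T * T * w * T from Units.ext e]; exact mul_mem (mul_mem (mul_mem hT hT) hw) hT
  have h7 := le_antisymm (key _ _ _ _ _ _ h3 h4 h5 h6 h3' h4' h5') (key _ _ _ _ _ _ h3' h4' h5' h6' h3 h4 h5)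
  rw [← h1, ← h1'] at h7
  refine ⟨g'⁻¹ * g, map_injective (f := (MulAut.conj g').toMonoidHom) (MulAut.conj g').injective ?_⟩
  rw [h7, Subgroup.map_map]
  congr 1
  ext1 x
  simp [mul_assoc]

end

end Cfsg.Agent.PU.Af
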