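import Cfsg.Agent.Lib.Solv.Frattini

/-! Heisenberg groups over `ZMod p`. -/

set_option autoImplicit false
set_option linter.unusedSectionVars false
set_option linter.unusedVariables false
set_option linter.style.haveILetI false

namespace Cfsg.Agent.PU.Af
open Subgroup
open scoped commutatorElement

@[ext] structure Hs (n : ℕ) (F : Type) [Field F] where
  a : Fin n → F
  b : Fin n → F
  c : F

section
variable {n : ℕ} {F : Type} [Field F]
instance : Mul (Hs n F) := ⟨fun x y => ⟨x.a + y.a, x.b + y.b, x.c + y.c + x.a ⬝ᵥ y.b⟩⟩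
instance : One (Hs n F) := ⟨⟨0, 0, 0⟩⟩
instance : Inv (Hs n F) := ⟨fun x => ⟨-x.a, -x.b, -x.c + x.a ⬝ᵥ x.b⟩⟩
@[simp] theorem Hs.mul_a (x y : Hs n F) : (x * y).a = x.a + y.a := rfl
@[simp] theorem Hs.mul_b (x y : Hs n F) : (x * y).b = x.b + y.b := rfl
@[simp] theorem Hs.mul_c (x y : Hs n F) : (x * y).c = x.c + y.c + x.a ⬝ᵥ y.b := rfl
@[simp] theorem Hs.one_a : (1 : Hs n F).a = 0 := rfl
@[simp] theorem Hs.one_b : (1 : Hs n F).b = 0 := rfl
@[simp] theorem Hs.one_c : (1 : Hs n F).c = 0 := rfl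
@[simp] theorem Hs.inv_a (x : Hs n F) : (x⁻¹).a = -x.a := rfl
@[simp] theorem Hs.inv_b (x : Hs n F) : (x⁻¹).b = -x.b := rfl
@[simp] theorem Hs.inv_c (x : Hs n F) : (x⁻¹).c = -x.c + x.a ⬝ᵥ x.b := rfl
instance : Group (Hs n F) := Group.ofLeftAxioms
  (fun x y z => by ext <;> simp [add_assoc]; ring) (fun x => by ext <;> simp) (fun x => by ext <;> simp)

def Hs.eqv : Hs n F ≃ (Fin n → F) × (Fin n → F) × F :=
  ⟨fun x => (x.a, x.b, x.c), fun x => ⟨x.1, x.2.1, x.2.2⟩, fun _ => rfl, fun _ => rfl⟩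

theorem Hs.pow_eq (x : Hs n F) (m : ℕ) :
    x ^ m = ⟨(m : F) • x.a, (m : F) • x.b, m * x.c + m.choose 2 * x.a ⬝ᵥ x.b⟩ := by
  induction m with
  | zero => ext <;> simp
  | succ m ih =>
    rw [pow_succ, ih]
    ext <;> simp [add_mul, Nat.choose_succ_succ']
    ring

theorem Hs.mem_center (x : Hs n F) : x ∈ center (Hs n F) ↔ x.a = 0 ∧ x.b = 0 := by
  classical
  rw [mem_center_iff]
  constructor
  · intro h
    constructor
    · funext i; simpa using congrArg Hs.c (h ⟨0, Pi.single i 1, 0⟩)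
    · funext i; simpa using congrArg Hs.c (h ⟨Pi.single i 1, 0, 0⟩)
  · intro h g
    ext <;> simp [h.1, h.2, add_comm]

def Hs.rep : Hs n F →* Module.End F (F × (Fin n → F) × F) where
  toFun g :=
    { toFun := fun v => (v.1 + g.a ⬝ᵥ v.2.1 + g.c * v.2.2, v.2.1 + v.2.2 • g.b, v.2.2)
      map_add' := fun v w => by ext <;> simp [add_mul] <;> ring
      map_smul' := fun c v => by ext <;> simp <;> ring }
  map_one' := LinearMap.ext fun v => by ext <;> simp
  map_mul' := fun g h => LinearMap.ext fun v => by ext <;> simp <;> ring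

theorem Hs.rep_inj : Function.Injective (Hs.rep (n := n) (F := F)) := by
  classical
  rw [injective_iff_map_eq_one]
  intro g hg
  have h1 := LinearMap.congr_fun hg (0, 0, 1)
  simp only [Hs.rep, MonoidHom.coe_mk, OneHom.coe_mk, LinearMap.coe_mk, AddHom.coe_mk, Module.End.one_apply,
    Prod.mk.injEq] at h1
  ext i
  · simpa [Hs.rep] using LinearMap.congr_fun hg (0, Pi.single i 1, 0)
  · simpa using congrFun h1.2.1 i
  · simpa using h1.1

end

theorem extra_of_exp {G : Type*} [Group G] [Finite G] {p : ℕ} [hp : Fact p.Prime] (h1 : ∀ x : G, x ^ p = 1)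
    (h2 : Nat.card (center G) = p) (h3 : ∀ x y : G, ⁅x, y⁆ ∈ center G) (h4 : ∃ x y : G, x * y ≠ y * x) :
    IsExtraspecial p G := by
  have hP : IsPGroup p G := fun x => ⟨1, by simpa using h1 x⟩
  have hle : commutator G ≤ center G := commutator_le.2 fun x _ y _ => h3 x y
  have d1 : commutator G = center G := by
    refine eq_of_le_of_card_ge hle ?_
    rcases (Nat.dvd_prime hp.out).1 (h2 ▸ card_dvd_of_le hle) with e | e
    · obtain ⟨x, y, h⟩ := h4
      have := commutator_mem_commutator (mem_top x) (mem_top y)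
      rw [← _root_.commutator_def, card_eq_one.1 e, mem_bot] at this
      exact absurd (commutatorElement_eq_one_iff_mul_comm.1 this) h
    · rw [e, h2]
  exact ⟨⟨hP, le_antisymm (Solv.frattini_le_of_commutator_le_of_pow_mem (p := p) hle fun x => by
    rw [h1]; exact one_mem _) (d1 ▸ Solv.commutator_le_frattini_of_isPGroup hP), d1⟩, h2⟩

theorem thm_3799 (p : ℕ) [hp : Fact p.Prime] (hp2 : p ≠ 2) (n : ℕ) (hn : 1 ≤ n) :
    ∃ E : Subgroup (Matrix.GeneralLinearGroup (Fin (n + 2)) (ZMod p)), IsExtraspecial p ↥E ∧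
      Nat.card E = p ^ (1 + 2 * n) ∧ ∀ x ∈ E, x ^ p = 1 := by
  classical
  let b := Module.finBasisOfFinrankEq (ZMod p) (ZMod p × (Fin n → ZMod p) × ZMod p) (n := n + 2) (by simp; ring)
  let f : Hs n (ZMod p) →* GL (Fin (n + 2)) (ZMod p) :=
    ((LinearMap.toMatrixAlgEquiv b : _ →* _).comp Hs.rep).toHomUnits
  have hf : Function.Injective f := fun x y h =>
    Hs.rep_inj ((LinearMap.toMatrixAlgEquiv b).injective (congrArg Units.val h))
  let e := MonoidHom.ofInjective hf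
  have hpow : ∀ x : Hs n (ZMod p), x ^ p = 1 := fun x => by
    obtain ⟨c, hc⟩ := hp.out.dvd_choose_self (k := 2) two_ne_zero (lt_of_le_of_ne hp.out.two_le hp2.symm)
    rw [Hs.pow_eq, hc]
    ext <;> simp
  have hpow' : ∀ x : f.range, x ^ p = 1 := fun x => by
    obtain ⟨x, rfl⟩ := e.surjective x
    rw [← map_pow, hpow, map_one]
  refine ⟨f.range, extra_of_exp hpow' ?_ (fun x y => ?_) ?_, ?_, fun x hx => congrArg Subtype.val (hpow' ⟨x, hx⟩)⟩
  · rw [← Nat.card_congr (centerCongr e).toEquiv, Nat.card_congr (⟨fun x => x.1.c,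
      fun c => ⟨⟨0, 0, c⟩, (Hs.mem_center _).2 ⟨rfl, rfl⟩⟩, fun x => Subtype.ext (Hs.ext
        ((Hs.mem_center _).1 x.2).1.symm ((Hs.mem_center _).1 x.2).2.symm rfl), fun _ => rfl⟩ :
        center (Hs n (ZMod p)) ≃ ZMod p), Nat.card_zmod]
  · obtain ⟨x, rfl⟩ := e.surjective x
    obtain ⟨y, rfl⟩ := e.surjective y
    rw [← map_commutatorElement]
    exact (centerCongr e ⟨⁅x, y⁆, (Hs.mem_center _).2 (by simp [commutatorElement_def])⟩).2
  · refine ⟨e ⟨Pi.single ⟨0, hn⟩ 1, 0, 0⟩, e ⟨0, Pi.single ⟨0, hn⟩ 1, 0⟩, fun h => ?_⟩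
    rw [← map_mul, ← map_mul] at h
    simpa using congrArg Hs.c (e.injective h)
  · rw [← Nat.card_congr e.toEquiv, Nat.card_congr Hs.eqv]
    simp only [Nat.card_prod, Nat.card_fun, Nat.card_zmod, Nat.card_eq_fintype_card (α := Fin n), Fintype.card_fin]
    ring

end Cfsg.Agent.PU.Af
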