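import Cfsg.Agent.Lib.PU.Ms30
import Cfsg.Agent.Lib.PU.XS5
import Cfsg.Agent.Lib.Transfer.Cyc2
import Cfsg.Agent.Lib.Solv.PCyc

/-! Essential subgroups of order `p ^ 3` and `p ^ 4`. -/

set_option autoImplicit false
set_option linter.unusedSectionVars false
set_option linter.unusedVariables false
open Cfsg Cfsg.FusionSystem
open scoped commutatorElement

namespace Cfsg.Agent.PU.Sm

open Cfsg.Agent.Fusion Subgroup

section
variable {X : Type*} [Group X] [Finite X] {p : ℕ} [hp : Fact p.Prime] {A : Subgroup (MulAut X)}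
  {Y Z : Subgroup X} {x y : X}

theorem conj_triv (hX : IsPGroup p X) [hZ : Z.Normal] [hY : Y.Normal] (hi : Z.relIndex Y ≤ p) (g : X)
    (hy : y ∈ Y) : ⁅g, y⁆ ∈ Z := by
  obtain ⟨k, hk⟩ := hX g
  exact triv_of_idx hX (σ := MulAut.conj g) (k := k) (by rw [← map_pow, hk, map_one]) hi
    (fun y hy => hY.conj_mem y hy g) (fun y hy => hZ.conj_mem y hy g) hy

theorem cen_of_card (hX : IsPGroup p X) [Y.Normal] (h : Nat.card Y ≤ p) : Y ≤ center X :=
  fun y hy => mem_center_iff.2 fun g => commutatorElement_eq_one_iff_mul_comm.1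
    (mem_bot.1 (conj_triv hX (by simpa using h) g hy))

theorem idx_cent (h1 : ∀ g : X, ⁅g, y⁆ ∈ Z) (h2 : Z ≤ center X) :
    (centralizer {y}).index ≤ Nat.card Z := by
  simpa using relIndex_cent_le (Q := ⊤) (mem_top y) (fun q _ => h1 q)
    fun q _ z hz => mem_center_iff.1 (h2 hz) q

theorem comm_frat (hX : IsPGroup p X) (x y : X) : ⁅x, y⁆ ∈ frattini X :=
  Solv.commutator_le_frattini_of_isPGroup hX (commutator_mem_commutator (mem_top x) (mem_top y))

theorem mem_c1 : x ∈ centralizer {y} ↔ Commute x y := mem_centralizer_singleton_iff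

theorem lt_of (h : Z ≤ Y) (h1 : x ∈ Y) (h2 : x ∉ Z) : Z < Y :=
  SetLike.lt_iff_le_and_exists.2 ⟨h, x, h1, h2⟩

theorem chain2 (hX : IsPGroup p X) {W : Subgroup X} (h : ¬ Commute x y) (h1 : Z ≤ W)
    (h2 : Z ≤ centralizer {x}) (h3 : x ∉ Z) (hx : x ∈ W) (hy : y ∈ W) :
    p ^ 2 * Nat.card Z ≤ Nat.card W := by
  have a := mul_card hX (lt_of (le_inf h1 h2) ⟨hx, mem_c1.2 (Commute.refl x)⟩ h3)
  have b := mul_card hX (lt_of (inf_le_left (a := W) (b := centralizer {x})) hy
    fun e => h (mem_c1.1 e.2).symm)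
  rw [sq, mul_assoc]
  exact (Nat.mul_le_mul_left p a).trans b

theorem not_cen (h : ¬ Commute x y) : x ∉ center X := fun e => h (mem_center_iff.1 e y).symm

theorem chain_cen (hX : IsPGroup p X) (h : ¬ Commute x y) :
    p ^ 2 * Nat.card (center X) ≤ Nat.card X := by
  simpa using chain2 hX h le_top (center_le_centralizer _) (not_cen h) (mem_top x) (mem_top y)

theorem le_card_der (hX : IsPGroup p X) (h : ¬ Commute x y) : p ≤ Nat.card (commutator X) := by
  simpa [_root_.commutator_def] using mul_card hX (lt_of bot_le (commutator_mem_commutator (mem_top x) (mem_top y))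
    fun e => h (commutatorElement_eq_one_iff_commute.1 e))

theorem extra_of_card (hX : IsPGroup p X) (hc : Nat.card X = p ^ 3) (h : ¬ Commute x y) :
    IsExtraspecial p X := by
  have pos := hp.out.pos
  have : Nontrivial X := ⟨x * y, y * x, h⟩
  have h1 : Nat.card (center X) = p := le_antisymm
    (Nat.le_of_mul_le_mul_left (by rw [← pow_succ, ← hc]; exact chain_cen hX h) (pow_pos pos 2))
    (by simpa using mul_card hX ((nontrivial_iff_ne_bot _).1 hX.center_nontrivial).bot_lt)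
  have h2 : commutator X ≤ center X := Normal.quotient_commutative_iff_commutator_le.1
    (IsPGroup.isMulCommutative_of_card_eq_prime_sq (p := p) (Nat.eq_of_mul_eq_mul_left pos (by
      rw [← pow_succ', ← hc, ← (center X).card_mul_index, h1]; rfl)))
  have h3 : commutator X = center X := eq_of_le_of_card_ge h2 (h1 ▸ le_card_der hX h)
  refine ⟨⟨hX, le_antisymm (Solv.frattini_le_of_commutator_le_of_pow_mem (p := p) h2 fun g => ?_)
    (h3 ▸ Solv.commutator_le_frattini_of_isPGroup hX), h3⟩, h1⟩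
  by_cases hg : g ∈ center X
  · exact pow_mem hg p
  have a := mul_card hX (lt_top_iff_ne_top.2 (mt centralizer_eq_top_iff_subset.1 (by simpa using hg) :
    centralizer {g} ≠ ⊤))
  rw [card_top, hc, pow_succ'] at a
  rw [← relIndex_eq_of_card (hX.to_subgroup ⊤) le_top (lt_of (center_le_centralizer {g})
    (mem_c1.2 (Commute.refl g)) hg) (k := 1) (Nat.le_of_mul_le_mul_left a pos) (by simp [h1])]
  exact pow_relIndex_mem _ (mem_c1.2 (Commute.refl g))

theorem pow_of_card {n : ℕ} (h : Nat.card Y = n) (hx : x ∈ Y) : x ^ n = 1 :=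
  h ▸ congrArg Subtype.val (pow_card_eq_one' (x := (⟨x, hx⟩ : Y)))

theorem odd_case (hX : IsPGroup p X) (hp2 : p ≠ 2) (hF : Nat.card (frattini X) = p)
    (hZ : ∀ c ∈ center X, c ^ p = 1) (h : ¬ Commute x y) :
    (∀ g : X, g ^ p = 1) ∨ ∃ Y, Inv A Y ∧ center X < Y ∧ Y ≠ ⊤ := by
  have hc := cen_of_card hX hF.le
  let f : X →* X := MonoidHom.mk' (· ^ p) fun a b => by
    have := hc (comm_frat hX b⁻¹ a⁻¹)
    obtain ⟨k, hk⟩ := hp.out.dvd_choose_self two_ne_zero (lt_of_le_of_ne hp.out.two_le hp2.symm)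
    rw [Solv.mul_pow_of_comm (mem_center_iff.1 this a) (mem_center_iff.1 this b)
      (by simp only [commutatorElement_def]; group), hk, pow_mul, hZ _ this, one_pow, mul_one]
  by_cases e : f.ker = ⊤
  · exact .inl fun g => (e.ge trivial : g ∈ _)
  refine .inr ⟨f.ker, fun a _ g hg => ?_, lt_of_le_of_ne hZ fun e2 => ?_, e⟩
  · exact (map_pow a g p).symm.trans (by rw [show g ^ p = 1 from hg, map_one])
  · have a := chain_cen hX h
    have b : f.ker.index ≤ p := by
      rw [index_ker, ← hF]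
      exact card_le_of_le (by rintro _ ⟨g, rfl⟩; exact Solv.pow_mem_frattini hX g)
    rw [← (center X).card_mul_index, e2, mul_comm] at a
    have := (Nat.le_of_mul_le_mul_left a Nat.card_pos).trans b
    have := hp.out.one_lt
    nlinarith

theorem two_case (hX : IsPGroup 2 X) (hF : Nat.card (frattini X) = 2)
    (hZ : ∀ c ∈ center X, c ^ 2 = 1) (h : ¬ Commute x y) :
    (∃ a b : X, ¬ Commute a b ∧ Nonempty (closure {a, b} ≃* QuaternionGroup 2)) ∨
      ∃ Y, Inv A Y ∧ center X < Y ∧ Y ≠ ⊤ := by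
  by_cases H : ∀ a b : X, a ^ 2 ≠ 1 → b ^ 2 ≠ 1 → Commute a b
  · obtain ⟨a, ha⟩ : ∃ a : X, a ^ 2 ≠ 1 := by
      by_contra! hh
      exact h (Commute.of_orderOf_dvd_two (fun g => orderOf_dvd_of_pow_eq_one (hh g)) x y)
    refine .inr ⟨centralizer {g | g ^ 2 ≠ 1}, fun α _ g hg b hb => ?_,
      lt_of (center_le_centralizer _) (fun b hb => (H b a hb ha).eq) fun e => ha (hZ a e),
      fun e => ha (hZ a (centralizer_eq_top_iff_subset.1 e ha))⟩
    simpa using congrArg α (hg (α⁻¹ b) fun e => hb (by simpa using congrArg α e))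
  push Not at H
  obtain ⟨a, b, ha, hb, hab⟩ := H
  obtain ⟨z, -, hz⟩ := (Nat.card_eq_two_iff' (1 : frattini X)).1 hF
  have k : ∀ w ∈ frattini X, w ≠ 1 → w = z := fun w hw h1 =>
    congrArg Subtype.val (hz ⟨w, hw⟩ fun e => h1 (congrArg Subtype.val e))
  have e1 := k _ (Solv.pow_mem_frattini hX a) ha
  have e2 := k _ (Solv.pow_mem_frattini hX b) hb
  have e3 := k _ (comm_frat hX b a) fun e => hab (commutatorElement_eq_one_iff_commute.1 e).symm
  have e4 : a ^ 4 = 1 := by rw [show 4 = 2 * 2 from rfl, pow_mul, e1]; exact pow_of_card hF z.2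
  refine .inl ⟨a, b, hab, Transfer.nonempty_quaternion_closure (n := 2)
    (orderOf_eq_prime_pow (p := 2) (n := 1) (by simpa using ha) e4) ?_ (e2.trans e1.symm)
    fun ⟨i, hi⟩ => hab (hi ▸ (Commute.refl a).zpow_right i)⟩
  rw [eq_inv_iff_mul_eq_one, ← e4, show a ^ 4 = a ^ 2 * a * a by group, e1, ← e3,
    commutatorElement_def]
  group

theorem elem_of (hX : IsPGroup p X) (h : frattini X = ⊥) : IsMulCommutative X ∧ ∀ g : X, g ^ p = 1 :=
  ⟨⟨⟨fun a b => commutatorElement_eq_one_iff_mul_comm.1 (mem_bot.1 (h ▸ comm_frat hX a b))⟩⟩,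
    fun g => mem_bot.1 (h ▸ Solv.pow_mem_frattini hX g)⟩

theorem idx_le (hX : IsPGroup p X) {n : ℕ} (hc : Nat.card X = p ^ (n + 1)) (h : Y ≠ ⊥) :
    Y.index ≤ p ^ n := by
  have a := mul_card hX h.bot_lt
  rw [← Y.card_mul_index, pow_succ'] at hc
  rw [card_bot, mul_one] at a
  exact Nat.le_of_mul_le_mul_left ((Nat.mul_le_mul_right _ a).trans hc.le) hp.out.pos

theorem exists_nc (h : ¬ IsMulCommutative X) : ∃ x y : X, ¬ Commute x y := by
  by_contra! hh
  exact h ⟨⟨fun a b => (hh a b).eq⟩⟩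

theorem Es.three (h : Es p X A) (hc : Nat.card X = p ^ 3) :
    (IsMulCommutative X ∧ ∀ g : X, g ^ p = 1) ∨ (Odd p ∧ IsExtraspecial p X ∧ ∀ g : X, g ^ p = 1) ∨
      (p = 2 ∧ Nonempty (X ≃* QuaternionGroup 2)) := by
  by_cases h0 : frattini X = ⊥
  · exact .inl (elem_of h.pg h0)
  have i := idx_le h.pg hc h0
  by_cases hab : IsMulCommutative X
  · let : CommGroup X := { (inferInstance : Group X) with mul_comm := hab.is_comm.comm }
    obtain ⟨m, -, -, h3, -⟩ := h.homo i
    have := Nat.pow_right_injective hp.out.two_le (hc.symm.trans h3)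
    omega
  obtain ⟨x, y, hxy⟩ := exists_nc hab
  have e := extra_of_card h.pg hc hxy
  have hF : Nat.card (frattini X) = p := e.1.2.1 ▸ e.2
  have k : ¬ ∃ Y, Inv A Y ∧ center X < Y ∧ Y ≠ ⊤ := fun ⟨Y, y1, y2, y3⟩ =>
    h.no2 i y1 (e.1.2.1 ▸ y2) y3
  by_cases h2 : p = 2
  · subst h2
    obtain ⟨a, b, -, ⟨φ⟩⟩ := (two_case h.pg hF (fun c => pow_of_card e.2) hxy).resolve_right k
    have : closure {a, b} = ⊤ := eq_top_of_card_eq _ (by
      rw [Nat.card_congr φ.toEquiv, hc, Nat.card_eq_fintype_card, QuaternionGroup.card]; rfl)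
    rw [this] at φ
    exact .inr (.inr ⟨rfl, ⟨topEquiv.symm.trans φ⟩⟩)
  · exact .inr (.inl ⟨hp.out.odd_of_ne_two h2, e,
      (odd_case h.pg h2 hF (fun c => pow_of_card e.2) hxy).resolve_right k⟩)

theorem der_le_of_gen (e : closure {x, y} = ⊤) (h : ⁅x, y⁆ ∈ center X) :
    commutator X ≤ zpowers ⁅x, y⁆ := by
  have : (zpowers ⁅x, y⁆).Normal := ⟨fun n hn g => by
    rw [mem_center_iff.1 (zpowers_le.2 h hn) g]; simpa using hn⟩
  let π := QuotientGroup.mk' (zpowers ⁅x, y⁆)
  have c : Commute (π x) (π y) := commutatorElement_eq_one_iff_commute.1 (by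
    rw [← map_commutatorElement]; exact (QuotientGroup.eq_one_iff _).2 (mem_zpowers _))
  have k : ∀ K : Subgroup (X ⧸ zpowers ⁅x, y⁆), π x ∈ K → π y ∈ K → ∀ g, π g ∈ K := fun K a b g =>
    (show closure {x, y} ≤ K.comap π from (closure_le _).2 (Set.pair_subset a b)) (e.ge trivial)
  refine commutator_le.2 fun a _ b _ => (QuotientGroup.eq_one_iff _).1 ?_
  exact (map_commutatorElement π a b).trans (commutatorElement_eq_one_iff_commute.2 (mem_c1.1
    (k _ (mem_c1.2 (mem_c1.1 (k _ (mem_c1.2 (.refl _)) (mem_c1.2 c.symm) b)).symm)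
      (mem_c1.2 (mem_c1.1 (k _ (mem_c1.2 c) (mem_c1.2 (.refl _)) b)).symm) a)))

theorem Es.nc2 (h : Es p X A) (i : (frattini X).index ≤ p ^ 2) (hF : Nat.card (frattini X) = p ^ 2)
    (hab : ¬ IsMulCommutative X) : False := by
  have pos := hp.out.pos
  have one := hp.out.one_lt
  have i2 := h.idx i
  have DF := Solv.commutator_le_frattini_of_isPGroup h.pg
  obtain ⟨x, y, hxy⟩ := exists_nc hab
  have big : ∀ Y, frattini X ≤ Y → Y.index ≤ p → frattini X < Y := fun Y a b =>
    lt_of_le_of_ne a fun e => by rw [← e, i2] at b; nlinarith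
  by_cases hD : commutator X = frattini X
  swap
  · have r := relIndex_eq_of_card (h.pg.to_subgroup ⊤) le_top (lt_of_le_of_ne DF hD) (k := 1) hF.le
      (by simpa using le_card_der h.pg hxy)
    let f : X →* Abelianization X := (powMonoidHom p).comp Abelianization.of
    have hf : ∀ g, g ∈ f.ker ↔ g ^ p ∈ commutator X := fun g => by
      rw [← Abelianization.ker_of, MonoidHom.mem_ker, MonoidHom.mem_ker, map_pow]; rfl
    refine h.no2 i (Y := f.ker) (fun a ha g hg => ?_) (big _ (fun g hg => ?_) ?_) fun e =>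
      hD (le_antisymm DF (Solv.frattini_le_of_commutator_le_of_pow_mem (p := p) le_rfl
        fun g => (hf g).1 (e.ge trivial)))
    · rw [hf] at hg ⊢; rw [← map_pow]; exact Inv.char _ a ha _ hg
    · rw [hf, ← r]; exact pow_relIndex_mem _ hg
    · rw [index_ker, ← r, ← Abelianization.ker_of, relIndex_ker]
      exact card_le_of_le (by rintro _ ⟨g, rfl⟩; exact ⟨_, Solv.pow_mem_frattini h.pg g, map_pow _ g p⟩)
  have ab := IsPGroup.isMulCommutative_of_card_eq_prime_sq hF
  have FC : frattini X ≤ centralizer (frattini X) := le_centralizer _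
  by_cases hC : frattini X ≤ center X
  · obtain ⟨a, b, e⟩ := exists_gen2 h.pg i2
    have c := hC (comm_frat h.pg a b)
    have := card_le_of_le (der_le_of_gen e c)
    rw [hD, hF, Nat.card_zpowers] at this
    have k : ∀ n : ℕ, ⁅a ^ n, b⁆ = ⁅a, b⁆ ^ n := fun n => by
      induction n with
      | zero => simp
      | succ n ih =>
        rw [pow_succ', show ⁅a * a ^ n, b⁆ = a * ⁅a ^ n, b⁆ * a⁻¹ * ⁅a, b⁆ by
          simp only [commutatorElement_def]; group, ih, mem_center_iff.1 (pow_mem c n) a,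
          mul_inv_cancel_right, pow_succ]
    have := this.trans (orderOf_le_of_pow_eq_one pos (by
      rw [← k]; exact commutatorElement_eq_one_iff_mul_comm.2
        (mem_center_iff.1 (hC (Solv.pow_mem_frattini h.pg a)) b).symm))
    nlinarith
  obtain ⟨c, c1, c2⟩ := SetLike.not_le_iff_exists.1 hC
  have nt : centralizer (frattini X : Set X) ≠ ⊤ := fun e => hC (centralizer_eq_top_iff_subset.1 e)
  have e : centralizer (frattini X : Set X) = frattini X := by_contra fun e =>
    h.no2 i (.char _) (lt_of_le_of_ne FC (Ne.symm e)) nt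
  have ZF : center X < frattini X := lt_of (e ▸ center_le_centralizer _) c1 c2
  have : Nontrivial X := ⟨x * y, y * x, hxy⟩
  have z1 : p ≤ Nat.card (center X) := by
    simpa using mul_card h.pg ((nontrivial_iff_ne_bot _).1 h.pg.center_nontrivial).bot_lt
  have z2 := mul_card h.pg ZF
  rw [hF, sq] at z2
  have r := relIndex_eq_of_card (h.pg.to_subgroup ⊤) le_top ZF (k := 1) hF.le (by simpa using z1)
  refine (big (centralizer {c}) (FC.trans (centralizer_le (by simpa using c1))) ((idx_cent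
    (fun g => conj_triv h.pg r.le g c1) le_rfl).trans (Nat.le_of_mul_le_mul_left z2 pos))).not_ge ?_
  rw [← e]
  intro g hg w hw
  obtain ⟨j, hj⟩ := dec_of_relIndex (h.pg.to_subgroup _) r c1 c2 hw
  have : Commute (w * (c ^ j)⁻¹ * c ^ j) g :=
    (show Commute _ g from (mem_center_iff.1 hj g).symm).mul_left ((mem_c1.1 hg).symm.pow_left j)
  simpa using this.eq

theorem card_cen (hX : IsPGroup p X) (hc : Nat.card X = p ^ 4) (hF : Nat.card (frattini X) = p)
    (h : ¬ Commute x y) : Nat.card (center X) = p ^ 2 := by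
  have pos := hp.out.pos
  have hZ := cen_of_card hX hF.le
  refine le_antisymm (Nat.le_of_mul_le_mul_left (by rw [← pow_add, ← hc]; exact chain_cen hX h)
    (pow_pos pos 2)) ?_
  have i : ∀ g : X, (centralizer {g}).index ≤ p := fun g => hF ▸ idx_cent (fun a => comm_frat hX a g) hZ
  set D := centralizer {x} ⊓ centralizer ({y} : Set X)
  have xD : x ∉ D := fun e => h (mem_c1.1 e.2)
  have d1 : p ^ 2 ≤ Nat.card D := Nat.le_of_mul_le_mul_right (c := p ^ 2) (by
    rw [← pow_add, ← hc, ← D.card_mul_index, sq]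
    exact Nat.mul_le_mul_left _ (index_inf_le.trans (Nat.mul_le_mul (i x) (i y)))) (pow_pos pos 2)
  have d2 := chain2 hX h le_top inf_le_left xD (mem_top x) (mem_top y)
  rw [card_top, hc, show p ^ 4 = p ^ 2 * p ^ 2 by ring] at d2
  have ab := IsPGroup.isMulCommutative_of_card_eq_prime_sq
    (le_antisymm (Nat.le_of_mul_le_mul_left d2 (pow_pos pos 2)) d1)
  refine d1.trans (card_le_of_le fun d hd => ?_)
  have := chain2 hX h (W := centralizer {d}) ((le_centralizer D).trans (centralizer_le (by simpa using hd)))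
    inf_le_left xD (mem_c1.2 (mem_c1.1 hd.1).symm) (mem_c1.2 (mem_c1.1 hd.2).symm)
  exact centralizer_eq_top_iff_subset.1 (eq_top_of_le_card _ (by
    rw [hc, show p ^ 4 = p ^ 2 * p ^ 2 by ring]; exact (Nat.mul_le_mul_left _ d1).trans this))
    (Set.mem_singleton d)

/-- The map from a cyclic group given by an element. -/
def zm {n : ℕ} [NeZero n] (hx : x ^ n = 1) : Multiplicative (ZMod n) →* X :=
  MonoidHom.mk' (fun a => x ^ a.toAdd.val) fun a b => pv hx _ _

theorem split4 (hX : IsPGroup p X) (hc : Nat.card X = p ^ 4) (hF : Nat.card (frattini X) = p)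
    (hZ : ∀ c ∈ center X, c ^ p = 1) (h : ¬ Commute x y) : Nat.card (closure {x, y} : Subgroup X) = p ^ 3 ∧
      Nonempty (X ≃* (closure {x, y} : Subgroup X) × Multiplicative (ZMod p)) := by
  have pos := hp.out.pos
  have FZ := cen_of_card hX hF.le
  set E : Subgroup X := closure {x, y}
  have xE : x ∈ E := subset_closure (by simp)
  have yE : y ∈ E := subset_closure (by simp)
  have nt : E ≠ ⊤ := fun e => by
    have := le_card_gen hX (n := 3) (Nat.eq_of_mul_eq_mul_left pos (by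
      rw [← pow_succ', ← hc, ← (frattini X).card_mul_index, hF])) [y, x] (by simpa [Set.ofPred_or] using e)
    simp at this
  have e1 := mul_card hX nt.lt_top
  rw [card_top, hc, pow_succ'] at e1
  replace e1 := Nat.le_of_mul_le_mul_left e1 pos
  have FE : frattini X ≤ E := inf_eq_left.1 (eq_of_le_of_card_ge inf_le_left (by
    simpa [hF] using mul_card hX (lt_of (Y := frattini X ⊓ E) bot_le ⟨comm_frat hX x y,
      commutator_le_self E (commutator_mem_commutator xE yE)⟩
        fun e => h (commutatorElement_eq_one_iff_commute.1 e))))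
  have e2 := chain2 hX h FE (FZ.trans (center_le_centralizer _)) (fun e => not_cen h (FZ e)) xE yE
  rw [hF, ← pow_succ] at e2
  obtain ⟨c, c1, c2⟩ : ∃ c ∈ center X, c ∉ E := SetLike.not_le_iff_exists.1 fun e => by
    have := (chain2 hX h e (center_le_centralizer _) (not_cen h) xE yE).trans e1
    rw [card_cen hX hc hF h, ← pow_add, Nat.pow_le_pow_iff_right hp.out.one_lt] at this
    omega
  let φ := E.subtype.noncommCoprod (zm (hZ c c1)) fun a b => (mem_center_iff.1 (pow_mem c1 _) _)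
  refine ⟨le_antisymm e1 e2, ⟨(MulEquiv.ofBijective φ ((Nat.bijective_iff_surjective_and_card _).2
    ⟨MonoidHom.range_eq_top.1 (eq_top_of_le_card _ ?_), by simp [le_antisymm e1 e2, hc, pow_succ]⟩)).symm⟩⟩
  rw [hc, pow_succ']
  exact (Nat.mul_le_mul_left _ e2).trans (mul_card hX (lt_of (fun g hg => ⟨(⟨g, hg⟩, 1),
    (congrArg (g * ·) (map_one (zm (hZ c c1)))).trans (mul_one g)⟩)
    ⟨(1, .ofAdd 1), by simp [φ, MonoidHom.noncommCoprod_apply, zm, p1 (hZ c c1)]⟩ c2))

end

section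
variable {X : Type*} [CommGroup X] [Finite X] {p : ℕ} [hp : Fact p.Prime]

theorem ab3 (hX : IsPGroup p X) (hc : Nat.card X = p ^ 4) (hF : Nat.card (frattini X) = p) :
    Nonempty (X ≃* Multiplicative (ZMod (p ^ 2) × ZMod p × ZMod p)) := by
  have pos := hp.out.pos
  have i : (frattini X).index = p ^ 3 := Nat.eq_of_mul_eq_mul_left pos (by
    rw [← pow_succ', ← hc, ← (frattini X).card_mul_index, hF])
  obtain ⟨x, hx⟩ : ∃ x : X, x ^ p ≠ 1 := by
    by_contra! hh
    rw [Solv.frattini_eq_bot_of_elementary inferInstance hh, card_bot] at hF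
    exact hp.out.one_lt.ne hF
  have x1 := Solv.pow_mem_frattini hX x
  have e : zpowers (x ^ p) = frattini X := eq_of_le_of_card_ge (zpowers_le.2 x1) (by
    rw [hF, Nat.card_zpowers, orderOf_eq_prime (pow_of_card hF x1) hx])
  have adj : ∀ K : Subgroup X, x ∈ K → K ≠ ⊤ → ∃ y ∉ K, y ^ p = 1 := fun K a b => by
    obtain ⟨y, -, hy⟩ := SetLike.exists_of_lt b.lt_top
    obtain ⟨j, hj⟩ := e.ge (Solv.pow_mem_frattini hX y)
    refine ⟨y / x ^ j, fun h => hy (by simpa using mul_mem h (zpow_mem a j)), ?_⟩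
    rw [div_pow, show y ^ p = (x ^ p) ^ j from hj.symm, ← zpow_natCast, ← zpow_natCast, ← zpow_mul, ← zpow_mul, mul_comm, div_self']
  have m : ∀ {s : Set X} {g : X}, g ∈ s → g ∈ closure s := fun h => subset_closure h
  obtain ⟨y, y1, y2⟩ := adj (closure {x}) (m (by simp)) fun h => by
    simpa using le_card_gen hX i [x] (by simpa using h)
  obtain ⟨w, w1, w2⟩ := adj (closure {x, y}) (m (by simp)) fun h => by
    simpa using le_card_gen hX i [y, x] (by simpa [Set.ofPred_or] using h)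
  have x2 : x ^ p ^ 2 = 1 := by rw [sq, pow_mul]; exact pow_of_card hF x1
  have : NeZero (p ^ 2) := ⟨pow_ne_zero _ pos.ne'⟩
  let φ : Multiplicative (ZMod (p ^ 2) × ZMod p × ZMod p) →* X :=
    MonoidHom.mk' (fun a => x ^ a.toAdd.1.val * hom2 y2 w2 (.ofAdd a.toAdd.2)) fun a b => by
      simp only [toAdd_mul, Prod.fst_add, Prod.snd_add, pv x2, ofAdd_add, map_mul]
      exact mul_mul_mul_comm _ _ _ _
  refine ⟨(MulEquiv.ofBijective φ ((Nat.bijective_iff_surjective_and_card _).2
    ⟨MonoidHom.range_eq_top.1 (eq_top_of_le_card _ ?_), by simp [hc]; ring⟩)).symm⟩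
  have a := mul_card hX (lt_of (Y := closure {x}) (e ▸ zpowers_le.2 (pow_mem (m (by simp)) p))
    (m (by simp)) fun h => hx (pow_of_card hF h))
  have b := mul_card hX (lt_of (Y := closure {x, y}) (closure_mono (by simp)) (m (by simp)) y1)
  have c := mul_card hX (lt_of (Y := φ.range) ((closure_le _).2 (Set.pair_subset
    ⟨.ofAdd (1, 0, 0), by simp [φ, hom2, p1 x2]⟩ ⟨.ofAdd (0, 1, 0), by simp [φ, hom2, p1 y2]⟩))
    ⟨.ofAdd (0, 0, 1), by simp [φ, hom2, p1 w2]⟩ w1)
  rw [hF] at a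
  rw [hc, show p ^ 4 = p * (p * (p * p)) by ring]
  exact (Nat.mul_le_mul_left _ ((Nat.mul_le_mul_left _ a).trans b)).trans c

end

theorem Es.four {X : Type*} [Group X] [Finite X] {p : ℕ} [hp : Fact p.Prime] {A : Subgroup (MulAut X)}
    (h : Es p X A) (hc : Nat.card X = p ^ 4) : (IsMulCommutative X ∧ ∀ g : X, g ^ p = 1) ∨
      Nonempty (X ≃* Multiplicative (ZMod (p ^ 2) × ZMod p × ZMod p)) ∨
      ((p = 2 ∨ p = 3) ∧ Nonempty (X ≃* Multiplicative (ZMod (p ^ 2) × ZMod (p ^ 2)))) ∨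
      (Odd p ∧ ∃ (E : Type) (_ : Group E) (_ : Finite E), IsExtraspecial p E ∧ Nat.card E = p ^ 3 ∧
        (∀ x : E, x ^ p = 1) ∧ Nonempty (X ≃* E × Multiplicative (ZMod p))) ∨
      (p = 2 ∧ Nonempty (X ≃* QuaternionGroup 2 × Multiplicative (ZMod 2))) ∨
      (¬ IsMulCommutative X ∧ (∀ x : X, x ^ (p ^ 2) = 1) ∧ IsCyclic (center X) ∧
        Nat.card (center X) = p ^ 2) := by
  have pos := hp.out.pos
  by_cases h0 : frattini X = ⊥
  · exact .inl (elem_of h.pg h0)
  have i := idx_le h.pg hc h0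
  have e := (frattini X).card_mul_index.trans hc
  by_cases i2 : (frattini X).index ≤ p ^ 2
  · by_cases hab : IsMulCommutative X
    · let : CommGroup X := { (inferInstance : Group X) with mul_comm := hab.is_comm.comm }
      obtain ⟨m, h1, -, h3, h4⟩ := h.homo i2
      obtain rfl : m = 1 := by have := Nat.pow_right_injective hp.out.two_le (hc.symm.trans h3); omega
      have := hp.out.two_le
      exact .inr (.inr (.inl ⟨by omega, h4⟩))
    · rw [h.idx i2, show p ^ 4 = p ^ 2 * p ^ 2 by ring] at e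
      exact (h.nc2 i2 (Nat.eq_of_mul_eq_mul_right (pow_pos pos 2) e) hab).elim
  have hF : Nat.card (frattini X) = p := by
    obtain ⟨r, hr⟩ := h.pg.index (frattini X)
    rw [hr, Nat.pow_le_pow_iff_right hp.out.one_lt] at i i2
    rw [hr, show r = 3 by omega, pow_succ'  p 3] at e
    exact Nat.eq_of_mul_eq_mul_right (pow_pos pos 3) e
  by_cases hab : IsMulCommutative X
  · let : CommGroup X := { (inferInstance : Group X) with mul_comm := hab.is_comm.comm }
    exact .inr (.inl (ab3 h.pg hc hF))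
  obtain ⟨x, y, hxy⟩ := exists_nc hab
  have cz := card_cen h.pg hc hF hxy
  by_cases cy : IsCyclic (center X)
  · exact .inr (.inr (.inr (.inr (.inr ⟨hab, fun g => by
      rw [sq, pow_mul]; exact pow_of_card hF (Solv.pow_mem_frattini h.pg g), cy, cz⟩))))
  have hZ : ∀ c ∈ center X, c ^ p = 1 := fun c hc => by_contra fun hn => cy (isCyclic_of_orderOf_eq_card
    ⟨c, hc⟩ (by
      rw [cz, Subgroup.orderOf_mk]
      exact orderOf_eq_prime_pow (n := 1) (by simpa using hn) (pow_of_card cz hc)))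
  have k : ¬ ∃ Y, Inv A Y ∧ center X < Y ∧ Y ≠ ⊤ := fun ⟨Y, y1, y2, y3⟩ =>
    h.no3 i y1 (.char _) (lt_of_le_of_ne (cen_of_card h.pg hF.le) fun e => by
      rw [← e, hF] at cz; have := hp.out.one_lt; nlinarith) y2 y3
  by_cases h2 : p = 2
  · subst h2
    obtain ⟨a, b, hab, ⟨φ⟩⟩ := (two_case h.pg hF hZ hxy).resolve_right k
    obtain ⟨-, ⟨ψ⟩⟩ := split4 h.pg hc hF hZ hab
    exact .inr (.inr (.inr (.inr (.inl ⟨rfl, ⟨ψ.trans (φ.prodCongr (.refl _))⟩⟩))))
  · have ex := (odd_case h.pg h2 hF hZ hxy).resolve_right k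
    obtain ⟨c3, ⟨ψ⟩⟩ := split4 h.pg hc hF hZ hxy
    obtain ⟨E, _, _, ⟨φ⟩⟩ := Finite.exists_type_univ_nonempty_mulEquiv.{_, 0} (closure {x, y} : Subgroup X)
    refine .inr (.inr (.inr (.inl ⟨hp.out.odd_of_ne_two h2, E, inferInstance, inferInstance,
      extraspecial_congr φ (extra_of_card (h.pg.to_subgroup _) c3 (x := ⟨x, subset_closure (by simp)⟩)
        (y := ⟨y, subset_closure (by simp)⟩) fun e => hxy (congrArg Subtype.val e.eq)),
      (Nat.card_congr φ.toEquiv).symm.trans c3, fun g => ?_, ⟨ψ.trans (φ.prodCongr (.refl _))⟩⟩)))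
    obtain ⟨g, rfl⟩ := φ.surjective g
    rw [← map_pow, show g ^ p = 1 from Subtype.ext (ex g), map_one]

end Cfsg.Agent.PU.Sm
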