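import Cfsg.Agent.Lib.PU.Af6
import Cfsg.Agent.Lib.Solv.Basic
import Cfsg.Agent.S0016
import Cfsg.Agent.Lib.PU.Ms31

/-! `p`-groups whose subgroups of equal order are isomorphic. -/

set_option autoImplicit false
set_option linter.unusedSectionVars false
set_option linter.unusedVariables false
set_option linter.style.haveILetI false

namespace Cfsg.Agent.PU.Af
open Subgroup
open scoped commutatorElement

section
variable {P : Type*} [Group P] [Finite P] {p : ℕ} [hp : Fact p.Prime]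

theorem iso_of_conj {G : Type*} [Group G] {S : Subgroup G} {H K : Subgroup S} (g : G)
    (h : K.map S.subtype = (H.map S.subtype).map (MulAut.conj g).toMonoidHom) : Nonempty (H ≃* K) :=
  ⟨((H.equivMapOfInjective _ S.subtype_injective).trans ((equivMapOfInjective _ _ (MulAut.conj g).injective).trans
    (MulEquiv.subgroupCongr h.symm))).trans (K.equivMapOfInjective _ S.subtype_injective).symm⟩

theorem exp_or_uniq (hP : IsPGroup p P) (hI : ∀ H K : Subgroup P, IsMulCommutative H → IsMulCommutative K →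
    Nat.card H = Nat.card K → Nonempty (H ≃* K)) :
    (∀ x : P, x ^ p = 1) ∨ ∀ H K : Subgroup P, Nat.card H = p → Nat.card K = p → H = K := by
  by_contra! hc
  obtain ⟨⟨x, hx⟩, H, K, hH, hK, hHK⟩ := hc
  obtain ⟨k, hk⟩ := IsPGroup.iff_orderOf.1 hP x
  obtain ⟨y, -, hy⟩ := cyc_ex x (k := p ^ 2) (by
    rw [hk]
    refine pow_dvd_pow p ?_
    by_contra! h
    exact hx (orderOf_dvd_iff_pow_eq_one.1 (hk ▸ by simpa using pow_dvd_pow p (show k ≤ 1 by omega))))
  haveI : Nontrivial P := ⟨x, 1, fun e => hx (by simp [e])⟩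
  haveI := hP.center_nontrivial
  obtain ⟨Z, hZc, hZ⟩ := Sylow.exists_subgroup_le_card_pow_prime_of_le_card (n := 1) hp.out hP (H := center P) (by
    obtain ⟨m, hm0, hm⟩ := (hP.to_subgroup (center P)).nontrivial_iff_card.1 inferInstance
    rw [hm]; exact Nat.pow_le_pow_right hp.out.pos hm0)
  rw [pow_one] at hZ
  obtain ⟨L, hL, hLZ⟩ : ∃ L : Subgroup P, Nat.card L = p ∧ L ≠ Z := by
    by_cases e : H = Z
    · exact ⟨K, hK, fun e' => hHK (e.trans e'.symm)⟩
    · exact ⟨H, hH, e⟩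
  haveI := isCyclic_of_prime_card hL
  have hd : L ⊓ Z = ⊥ := by
    rcases (Nat.dvd_prime hp.out).1 (hL ▸ card_dvd_of_le (inf_le_left : L ⊓ Z ≤ L)) with e | e
    · exact card_eq_one.1 e
    · exact absurd (((eq_of_le_of_card_ge inf_le_left (by rw [e, hL])).symm.trans
        (eq_of_le_of_card_ge inf_le_right (by rw [e, hZ])))) hLZ
  haveI : Z.Normal := ⟨fun z hz g => by rwa [mem_center_iff.1 (hZc hz) g, mul_inv_cancel_right]⟩
  have hE := Solv.card_sup_of_disjoint (H := L) (N := Z) (by rw [normalizer_eq_top]; exact le_top) hd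
  have hm : ∀ a ∈ L ⊔ Z, ∃ l ∈ L, ∃ z ∈ Z, l * z = a := fun a ha => mem_sup_of_normal_right.1 ha
  obtain ⟨e⟩ := hI (zpowers y) (L ⊔ Z) inferInstance ⟨⟨by
    rintro ⟨a, ha⟩ ⟨b, hb⟩
    obtain ⟨l, hl, z, hz, rfl⟩ := hm a ha
    obtain ⟨l', hl', z', hz', rfl⟩ := hm b hb
    have h1 : Commute l l' := congrArg Subtype.val (mul_comm' (⟨l, hl⟩ : L) ⟨l', hl'⟩)
    have h2 : ∀ g, Commute g z := mem_center_iff.1 (hZc hz)
    have h3 : ∀ g, Commute g z' := mem_center_iff.1 (hZc hz')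
    exact Subtype.ext ((h1.mul_right (h3 l)).mul_left (h2 _).symm).eq⟩⟩ (by rw [Nat.card_zpowers, hy, hE, hL, hZ, sq])
  obtain ⟨l, hl, z, hz, h4⟩ := hm _ (e ⟨y, mem_zpowers y⟩).2
  have h5 : e ⟨y, mem_zpowers y⟩ ^ p = 1 := Subtype.ext (by
    have a1 : l ^ p = 1 := congrArg Subtype.val (hL ▸ pow_card_eq_one' (x := (⟨l, hl⟩ : L)))
    have a2 : z ^ p = 1 := congrArg Subtype.val (hZ ▸ pow_card_eq_one' (x := (⟨z, hz⟩ : Z)))
    rw [coe_pow, ← h4, (show Commute l z from mem_center_iff.1 (hZc hz) l).mul_pow, a1, a2, one_mul]; rfl)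
  rw [← map_pow, e.map_eq_one_iff] at h5
  have h6 := orderOf_dvd_of_pow_eq_one (show y ^ p = 1 from congrArg Subtype.val h5)
  rw [hy] at h6
  have := Nat.le_of_dvd hp.out.pos h6
  have := hp.out.two_le
  nlinarith

theorem comm_of_sq (h : ∀ x : P, x ^ 2 = 1) : IsMulCommutative P := ⟨⟨fun a b => by
  have h1 : ∀ x : P, x⁻¹ = x := fun x => inv_eq_of_mul_eq_one_right (sq x ▸ h x)
  rw [← h1 (a * b), mul_inv_rev, h1, h1]⟩⟩

theorem quat_small (n : ℕ) (hI : ∀ H K : Subgroup (QuaternionGroup (2 ^ n)), Nat.card H = Nat.card K → Nonempty (H ≃* K)) :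
    n ≤ 1 := by
  by_contra! hn
  obtain ⟨K, hK, hle⟩ := Sylow.exists_subgroup_card_pow_prime_le 2 (n := 2) (m := n + 1)
    (by rw [Nat.card_eq_fintype_card, QuaternionGroup.card]; exact ⟨2, by ring⟩)
    (zpowers (QuaternionGroup.xa (n := 2 ^ n) 0)) (by rw [Nat.card_zpowers, QuaternionGroup.orderOf_xa]; rfl) (by omega)
  obtain ⟨e⟩ := hI (zpowers (.a 1)) K (by rw [Nat.card_zpowers, QuaternionGroup.orderOf_a_one, hK]; ring)
  haveI := isCyclic_of_surjective e e.surjective
  obtain ⟨⟨g, hg⟩, h1⟩ := IsCyclic.exists_generator (α := K)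
  have h2 := orderOf_eq_card_of_forall_mem_zpowers h1
  rw [orderOf_mk, hK] at h2
  rcases g with i | i
  · obtain ⟨k, hk⟩ := h1 ⟨_, hle (mem_zpowers _)⟩
    have h3 : (QuaternionGroup.a i) ^ k = QuaternionGroup.xa 0 := congrArg Subtype.val hk
    have h4 : ∀ m : ℕ, ∃ j, QuaternionGroup.a (n := 2 ^ n) i ^ m = QuaternionGroup.a j := fun m => by
      induction m with
      | zero => exact ⟨0, rfl⟩
      | succ m ih => obtain ⟨j, hj⟩ := ih; exact ⟨j + i, by rw [pow_succ, hj]; rfl⟩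
    obtain ⟨m, hm⟩ := mem_powers_iff_mem_zpowers.2 (⟨k, h3⟩ : _ ∈ zpowers (QuaternionGroup.a (n := 2 ^ n) i))
    obtain ⟨j, hj⟩ := h4 m
    cases hj.symm.trans hm
  · rw [QuaternionGroup.orderOf_xa] at h2
    have : 2 ^ 2 = 2 ^ (n + 1) := h2
    have := Nat.pow_right_injective le_rfl this
    omega

theorem ab_cube (hP : IsPGroup p P) (h3 : p ^ 3 ≤ Nat.card P) (h2 : p ^ 2 ≤ Nat.card (center P)) :
    ∃ K : Subgroup P, Nat.card K = p ^ 3 ∧ IsMulCommutative K := by
  obtain ⟨N, hN, cN⟩ := Sylow.exists_subgroup_le_card_pow_prime_of_le_card hp.out hP h2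
  obtain ⟨m, hm⟩ := IsPGroup.iff_card.1 hP
  obtain ⟨K, cK, hK⟩ := Sylow.exists_subgroup_card_pow_prime_le p (m := 3)
    (hm ▸ pow_dvd_pow p ((Nat.pow_le_pow_iff_right hp.out.one_lt).1 (hm ▸ h3))) N cN (by omega)
  haveI : N.Normal := ⟨fun z hz g => by rwa [mem_center_iff.1 (hN hz) g, mul_inv_cancel_right]⟩
  have hi : Nat.card (K ⧸ N.subgroupOf K) = p := by
    have := (N.subgroupOf K).card_mul_index
    rw [Nat.card_congr (subgroupOfEquivOfLe hK).toEquiv, cN, cK, pow_succ _ 2] at this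
    exact Nat.eq_of_mul_eq_mul_left (pow_pos hp.out.pos 2) this
  haveI := isCyclic_of_prime_card hi
  exact ⟨K, cK, ⟨⟨commutative_of_cyclic_center_quotient (QuotientGroup.mk' (N.subgroupOf K)) (by
    rw [QuotientGroup.ker_mk']
    exact fun z hz => mem_center_iff.2 fun g => Subtype.ext (mem_center_iff.1 (hN hz) g))⟩⟩⟩

theorem cube_of (hP : IsPGroup p P) (he : ∀ x : P, x ^ p = 1) (hna : ¬ IsMulCommutative P)
    (hI : ∀ H K : Subgroup P, Nat.card H = Nat.card K → Nonempty (H ≃* K)) : Nat.card P = p ^ 3 := by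
  haveI := hP.isNilpotent
  obtain ⟨x, hx2, hx1⟩ : ∃ x : P, (∀ g, ⁅x, g⁆ ∈ center P) ∧ x ∉ center P := by
    by_contra! hc
    have h1 : Subgroup.upperCentralSeries P 2 = Subgroup.upperCentralSeries P 1 := le_antisymm (fun x hx => by
      rw [Subgroup.upperCentralSeries_one]
      exact hc x fun g => Subgroup.upperCentralSeries_one P ▸ Subgroup.mem_upperCentralSeries_succ_iff.1 hx g)
      (Subgroup.upperCentralSeries_mono P one_le_two)
    have h2 := Subgroup.upperCentralSeries.eq_top (G := P) (a := 2) (b := 1) (by omega) h1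
    rw [h1, Subgroup.upperCentralSeries_one] at h2
    exact hna ⟨⟨fun a b => mem_center_iff.1 (h2 ▸ mem_top b) a⟩⟩
  obtain ⟨y, hy⟩ : ∃ y, y * x ≠ x * y := by
    by_contra! h; exact hx1 (mem_center_iff.2 h)
  have hz : ∀ g : P, Nat.card (zpowers g) ∣ p := fun g => Nat.card_zpowers g ▸ orderOf_dvd_of_pow_eq_one (he g)
  haveI : (zpowers ⁅x, y⁆).Normal := ⟨fun z hz g => by
    rwa [mem_center_iff.1 (zpowers_le.2 (hx2 y) hz) g, mul_inv_cancel_right]⟩
  have c1 := (Solv.card_sup_dvd (H := zpowers x) (N := zpowers ⁅x, y⁆) (by rw [normalizer_eq_top]; exact le_top)).trans (mul_dvd_mul (hz _) (hz _))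
  have c2 := (Solv.card_sup_dvd (H := zpowers y) (N := zpowers x ⊔ zpowers ⁅x, y⁆) (by
    rw [zpowers_le]
    refine mem_normalizer_fintype ?_
    intro a ha
    refine (show zpowers x ⊔ zpowers ⁅x, y⁆ ≤ comap (MulAut.conj y).toMonoidHom (zpowers x ⊔ zpowers ⁅x, y⁆) from
      sup_le (zpowers_le.2 ?_) (zpowers_le.2 ?_)) ha
    · show y * x * y⁻¹ ∈ zpowers x ⊔ zpowers ⁅x, y⁆
      rw [show y * x * y⁻¹ = ⁅x, y⁆⁻¹ * x by simp only [commutatorElement_def]; group]
      exact mul_mem (inv_mem (mem_sup_right (mem_zpowers _))) (mem_sup_left (mem_zpowers _))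
    · show y * ⁅x, y⁆ * y⁻¹ ∈ zpowers x ⊔ zpowers ⁅x, y⁆
      rw [mem_center_iff.1 (hx2 y) y, mul_inv_cancel_right]
      exact mem_sup_right (mem_zpowers _))).trans (mul_dvd_mul (hz _) c1)
  rw [← sq, ← pow_succ'] at c2
  obtain ⟨j, hj, cj⟩ := (Nat.dvd_prime_pow hp.out).1 c2
  obtain ⟨m, hm⟩ := IsPGroup.iff_card.1 hP
  have hm3 : 3 ≤ m := by
    by_contra! h
    apply hna
    rcases Nat.lt_or_ge m 2 with h1 | h1
    · haveI : IsCyclic P := isCyclic_of_card_dvd_prime (p := p) (by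
        rw [hm]; simpa using pow_dvd_pow p (show m ≤ 1 by omega))
      infer_instance
    · exact IsPGroup.isMulCommutative_of_card_eq_prime_sq (p := p) (by rw [hm]; congr 1; omega)
  obtain ⟨K, cK, hK⟩ := Sylow.exists_subgroup_card_pow_prime_le p (m := 3) (hm ▸ pow_dvd_pow p hm3) _ cj hj
  by_contra h4
  have hm4 : 4 ≤ m := by
    by_contra! h; exact h4 (by rw [hm]; congr 1; omega)
  obtain ⟨A, cA, hA⟩ : ∃ A : Subgroup P, Nat.card A = p ^ 3 ∧ IsMulCommutative A := by
    by_cases h2 : p ^ 2 ≤ Nat.card (center P)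
    · exact ab_cube hP (hm ▸ Nat.pow_le_pow_right hp.out.pos hm3) h2
    · obtain ⟨l, hl⟩ := IsPGroup.iff_card.1 (hP.to_subgroup (center P))
      have hl1 : l ≤ 1 := by
        by_contra! h; exact h2 (hl ▸ Nat.pow_le_pow_right hp.out.pos h)
      have i1 := Sm.idx_cent (y := x) (Z := center P) (fun g => by
        rw [← commutatorElement_inv]; exact inv_mem (hx2 g)) le_rfl
      haveI : Nontrivial P := ⟨x, 1, fun e => hx1 (e ▸ one_mem _)⟩
      haveI := hP.center_nontrivial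
      obtain ⟨l', hl0, hl'⟩ := (hP.to_subgroup (center P)).nontrivial_iff_card.1 inferInstance
      have hlt : center P < (center (centralizer {x})).map (centralizer {x}).subtype := by
        refine SetLike.lt_iff_le_and_exists.2 ⟨fun z hz => ⟨⟨z, center_le_centralizer _ hz⟩,
          mem_center_iff.2 fun g => Subtype.ext (mem_center_iff.1 hz g), rfl⟩, x,
          mem_map.2 ⟨⟨x, mem_centralizer_singleton_iff.2 rfl⟩,
            mem_center_iff.2 fun g => Subtype.ext (mem_centralizer_singleton_iff.1 g.2), rfl⟩, hx1⟩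
      have i2 := Sm.mul_card hP hlt
      rw [card_map_of_injective (centralizer {x}).subtype_injective] at i2
      obtain ⟨A, cA, hA⟩ := ab_cube (hP.to_subgroup (centralizer {x})) (by
        refine Nat.le_of_mul_le_mul_right ?_ hp.out.pos
        calc p ^ 3 * p ≤ p ^ m := by rw [← pow_succ]; exact Nat.pow_le_pow_right hp.out.pos hm4
          _ = Nat.card (centralizer {x} : Subgroup P) * (centralizer {x}).index := by rw [card_mul_index, hm]
          _ ≤ _ := Nat.mul_le_mul_left _ (i1.trans (by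
            rw [hl]; simpa using Nat.pow_le_pow_right hp.out.pos hl1))) (le_trans (by
        rw [hl', ← pow_succ']; exact Nat.pow_le_pow_right hp.out.pos (by omega)) i2)
      exact ⟨A.map (centralizer {x}).subtype, by rw [card_map_of_injective (centralizer {x}).subtype_injective, cA],
        inferInstance⟩
  obtain ⟨e⟩ := hI A K (cA.trans cK.symm)
  obtain ⟨a, ha⟩ := e.surjective ⟨y, hK (mem_sup_left (mem_zpowers y))⟩
  obtain ⟨b, hb⟩ := e.surjective ⟨x, hK (mem_sup_right (mem_sup_left (mem_zpowers x)))⟩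
  have := congrArg e (mul_comm' a b)
  rw [map_mul, map_mul, ha, hb] at this
  exact hy (congrArg Subtype.val this)

end

end Cfsg.Agent.PU.Af
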