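/-
Small facts: involutions, connectedness of the commuting graph of four-groups.
-/
import Cfsg.Agent.Lib.Transfer.ElemC
import Cfsg.Agent.Lib.Transfer.Rank
import Cfsg.Agent.Lib.Solv.PGrp
import Cfsg.Prelude.Def_SporadicB
import Cfsg.Prelude.Def_CaseTheorems

set_option autoImplicit false
set_option linter.unusedSectionVars false
set_option linter.unusedVariables false
set_option linter.style.haveILetI false
set_option linter.unusedSimpArgs false

namespace Cfsg.Agent.PU

open Subgroup Cfsg.Agent.Transfer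

variable {G : Type*} [Group G]

theorem invol_conj_pow {a b : G} (ha : a * a = 1) (hb : b * b = 1) (m : ℕ) :
    a * (a * b) ^ m = ((a * b) ^ m)⁻¹ * a := by
  have h : a * (a * b) * a⁻¹ = (a * b)⁻¹ := by
    have ha' : a⁻¹ = a := inv_eq_of_mul_eq_one_right ha
    have hb' : b⁻¹ = b := inv_eq_of_mul_eq_one_right hb
    rw [mul_inv_rev, hb', ← mul_assoc, ha, one_mul, ha']
  have h2 : a * (a * b) ^ m * a⁻¹ = ((a * b) ^ m)⁻¹ := by
    rw [← conj_pow, h, inv_pow]
  rw [← h2]; group

theorem invol_even {a b : G} (ha : a * a = 1) (hb : b * b = 1) {m : ℕ}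
    (h : (a * b) ^ (2 * m) = 1) : Commute ((a * b) ^ m) a := by
  have h1 : ((a * b) ^ m)⁻¹ = (a * b) ^ m := by
    apply inv_eq_of_mul_eq_one_right; rw [← pow_add, ← two_mul, h]
  have := invol_conj_pow ha hb m
  rw [h1] at this
  exact this.symm

theorem thm_0442 (a g : G) (ha : orderOf a = 2) : (∀ m : ℕ, orderOf (a * (g⁻¹ * a * g)) = 2 * m + 1 → Commute (g * (a * (g⁻¹ * a * g)) ^ m) a) ∧ (∀ m : ℕ, orderOf (a * (g⁻¹ * a * g)) = 2 * m → Commute ((a * (g⁻¹ * a * g)) ^ m) a ∧ Commute ((a * (g * a * g⁻¹)) ^ m) a) := by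
  have a2 : a * a = 1 := by rw [← pow_two, ← ha, pow_orderOf_eq_one]
  have b2 : (g⁻¹ * a * g) * (g⁻¹ * a * g) = 1 := by
    calc _ = g⁻¹ * (a * a) * g := by group
      _ = 1 := by rw [a2]; group
  have c2 : (g * a * g⁻¹) * (g * a * g⁻¹) = 1 := by
    calc _ = g * (a * a) * g⁻¹ := by group
      _ = 1 := by rw [a2]; group
  refine ⟨fun m hm => ?_, fun m hm => ⟨invol_even a2 b2 (by rw [← hm, pow_orderOf_eq_one]), ?_⟩⟩
  · set t := a * (g⁻¹ * a * g) with ht
    have h1 : t ^ (2 * m + 1) = 1 := by rw [← hm, pow_orderOf_eq_one]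
    have h2 := invol_conj_pow a2 b2 m
    rw [← ht] at h2
    have h3 : t ^ m * t ^ m * t = 1 := by rw [← pow_add, ← pow_succ, ← two_mul, h1]
    have h4 : t ^ m * a = a * (t ^ m)⁻¹ := by
      calc t ^ m * a = t ^ m * (a * t ^ m) * (t ^ m)⁻¹ := by group
        _ = a * (t ^ m)⁻¹ := by rw [h2]; group
    have h5 : (t ^ m)⁻¹ = t * t ^ m := by
      have : t * t ^ m = t ^ m * t := (Commute.self_pow t m).eq
      rw [this]; apply inv_eq_of_mul_eq_one_right; rw [← mul_assoc, h3]
    show g * t ^ m * a = a * (g * t ^ m)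
    rw [mul_assoc, h4, h5, ← mul_assoc a t, ht, ← mul_assoc a a, a2]
    group
  · apply invol_even a2 c2
    have h1 : (a * (g⁻¹ * a * g)) ^ (2 * m) = 1 := by rw [← hm, pow_orderOf_eq_one]
    have h2 : a * (g * a * g⁻¹) = g * (a * (g⁻¹ * a * g))⁻¹ * g⁻¹ := by
      have ha' : a⁻¹ = a := inv_eq_of_mul_eq_one_right a2
      simp only [mul_inv_rev, inv_inv, ha']; group
    rw [h2, conj_pow, inv_pow, h1]; group

variable [Finite G]

theorem mem_sylow_of_le_cent {p : ℕ} [Fact p.Prime] (P : Sylow p G) {t : G} (ht : t ^ p = 1)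
    (h : (P : Subgroup G) ≤ centralizer ({t} : Set G)) : t ∈ (P : Subgroup G) := by
  have h1 : IsPGroup p (zpowers t) := elem_isPGroup (elem_zpowers ht)
  have h2 : (P : Subgroup G) ≤ normalizer (zpowers t : Set G) := fun x hx => by
    have := mem_centralizer_singleton_iff.1 (h hx)
    rw [mem_normalizer_iff_cj, cj_zpowers, this]; simp
  have h3 := IsPGroup.to_sup_of_normal_right' P.isPGroup' h1 h2
  have := P.is_maximal' h3 le_sup_left
  rw [← this]; exact mem_sup_right (mem_zpowers t)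

theorem thm_0443 (t : G) (ht : orderOf t = 2) : Cfsg.IsTwoCentralInvolution t ↔ ∃ P : Sylow 2 G, (P : Subgroup G) ≤ Subgroup.centralizer ({t} : Set G) := by
  constructor
  · rintro ⟨-, P, -, h⟩
    exact ⟨P, fun x hx => mem_centralizer_singleton_iff.2 (h x hx)⟩
  · rintro ⟨P, h⟩
    exact ⟨ht, P, mem_sylow_of_le_cent P (by rw [← ht, pow_orderOf_eq_one]) h,
      fun x hx => mem_centralizer_singleton_iff.1 (h hx)⟩

theorem thm_0446 (h : Even (Nat.card G)) : ∃ t : G, Cfsg.IsTwoCentralInvolution t := by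
  obtain ⟨P⟩ : Nonempty (Sylow 2 G) := inferInstance
  obtain ⟨z, hz, h2, hc⟩ := exists_central_invol P.isPGroup' (P.ne_bot_of_dvd_card (even_iff_two_dvd.1 h))
  exact ⟨z, (thm_0443 z h2).2 ⟨P, hc⟩⟩

/-- adjacency of four-groups -/
def KAdj (A B : Subgroup G) : Prop :=
  IsKleinFour A ∧ IsKleinFour B ∧ ∀ a ∈ A, ∀ b ∈ B, a * b = b * a
abbrev KCon (A B : Subgroup G) : Prop := Relation.ReflTransGen KAdj A B

theorem KAdj.symm {A B : Subgroup G} (h : KAdj A B) : KAdj B A :=
  ⟨h.2.1, h.1, fun b hb a ha => (h.2.2 a ha b hb).symm⟩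

theorem KCon.symm {A B : Subgroup G} (h : KCon A B) : KCon B A := by
  induction h with
  | refl => exact Relation.ReflTransGen.refl
  | tail _ h2 ih => exact Relation.ReflTransGen.head h2.symm ih

theorem kadj_of_le {A B : Subgroup G} (hA : IsKleinFour A) (hB : IsKleinFour B)
    (h : A ≤ centralizer (B : Set G)) : KCon A B :=
  Relation.ReflTransGen.single ⟨hA, hB, fun a ha b hb => (h ha b hb).symm⟩

theorem KCon.map {H : Type*} [Group H] [Finite H] {f : G →* H} (hf : Function.Injective f) {A B : Subgroup G}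
    (h : KCon A B) : KCon (A.map f) (B.map f) := by
  induction h with
  | refl => exact Relation.ReflTransGen.refl
  | tail _ h2 ih =>
    refine ih.tail ⟨klein_map h2.1 hf, klein_map h2.2.1 hf, ?_⟩
    rintro _ ⟨a, ha, rfl⟩ _ ⟨b, hb, rfl⟩
    rw [← map_mul, h2.2.2 a ha b hb, map_mul]

theorem exists_notMem_of_card_lt {A B : Subgroup G} (h : Nat.card A < Nat.card B) : ∃ x ∈ B, x ∉ A := by
  by_contra hc
  push Not at hc
  exact absurd (card_le_of_le hc) (not_le.2 h)

theorem klein_with {z w : G} (hz : orderOf z = 2) (hw : w * w = 1) (hwz : w ∉ zpowers z)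
    (hc : Commute z w) : IsKleinFour (zpowers z ⊔ zpowers w : Subgroup G) := by
  refine klein_closure hz ?_ (fun h => hwz (h ▸ mem_zpowers z)) hc
  exact orderOf_eq_prime (by rw [pow_two, hw]) (fun h => hwz (h ▸ one_mem _))

theorem thm_0502 (hP : IsPGroup 2 G)
    (E : Subgroup G) [E.Normal] (hE : IsMulCommutative E) (hE2 : ∀ e ∈ E, e ^ 2 = 1) (hE8 : 8 ≤ Nat.card E) :
    Cfsg.IsFourConnected G := by
  have hEe : IsElementaryAbelian 2 E := ⟨hE, hE2⟩
  have hE0 : ¬ E ≤ ⊥ := fun h => by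
    have := card_le_of_le h; rw [card_bot] at this; omega
  haveI := hP.isNilpotent
  obtain ⟨z, hzE, hz1, hzc⟩ := Solv.exists_central_mod (L := ⊤) (N := ⊥)
    (Subgroup.isNilpotent ⊤) (le_top : E ≤ ⊤) (by rw [normalizer_eq_top]) hE0
  have hz : orderOf z = 2 := orderOf_eq_prime (hE2 z hzE) (fun h => hz1 (h ▸ one_mem _))
  have hzc' : ∀ g, Commute z g := fun g => commutatorElement_eq_one_iff_commute.1 (mem_bot.1 (hzc g trivial))
  have cz : Nat.card (zpowers z) = 2 := by rw [Nat.card_zpowers, hz]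
  have key : ∀ V : Subgroup G, IsKleinFour V → ∃ W ≤ E, IsKleinFour W ∧ KCon V W := by
    intro V hV
    obtain ⟨w, hwV, hw⟩ := exists_notMem_of_card_lt (A := zpowers z) (B := V) (by rw [cz, hV.card_four]; omega)
    have w2 := elem_mul_self (klein_elem hV) hwV
    have h1 := card_le_sq_of_invol hEe (x := w) (by rw [normalizer_eq_top]; trivial) (by rw [w2]; exact one_mem _)
    obtain ⟨e, he, hez⟩ := exists_notMem_of_card_lt (A := zpowers z) (B := E ⊓ centralizer ({w} : Set G))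
      (by rw [cz]; by_contra hc; have := Nat.pow_le_pow_left (not_lt.1 hc) 2; omega)
    have k1 := klein_with hz w2 hw (hzc' w)
    have k2 := klein_with hz (elem_mul_self hEe he.1) hez (hzc' e)
    refine ⟨_, sup_le (zpowers_le.2 hzE) (zpowers_le.2 he.1), k2, (kadj_of_le hV k1 ?_).trans (kadj_of_le k1 k2 ?_)⟩
    · rw [le_centralizer_iff]
      exact sup_le (zpowers_le.2 fun x _ => (hzc' x).symm.eq)
        (zpowers_le.2 fun x hx => (elem_commute (klein_elem hV) hx hwV).eq)
    · refine sup_le (zpowers_le.2 fun x _ => (hzc' x).symm.eq) ?_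
      rw [le_centralizer_iff]
      refine sup_le (zpowers_le.2 fun x _ => (hzc' x).symm.eq) (zpowers_le.2 ?_)
      rintro _ ⟨k, rfl⟩
      exact ((show Commute w e from (mem_centralizer_singleton_iff.1 he.2).symm).zpow_left k).eq
  intro U V hU hV
  obtain ⟨W, hW, kW, cW⟩ := key U hU
  obtain ⟨X, hX, kX, cX⟩ := key V hV
  exact (cW.trans (kadj_of_le kW kX fun a ha b hb => (elem_commute hEe (hX hb) (hW ha)).eq)).trans cX.symm

/-- a subgroup containing the normalisers of all members of an upward closed, conjugation invariant family -/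
theorem mem_of_cj_le_sylow {p : ℕ} [Fact p.Prime] (S : Sylow p G) (Γ : Subgroup G) (P : Subgroup G → Prop)
    (hup : ∀ A B, P A → A ≤ B → P B) (hcj : ∀ A g, P A → P (cj g A))
    (hΓ : ∀ Q : Subgroup G, Q ≤ S → P Q → normalizer (Q : Set G) ≤ Γ) :
    ∀ (n : ℕ) (Q : Subgroup G) (g : G), Nat.card (S : Subgroup G) - Nat.card Q = n → Q ≤ S → P Q →
      cj g Q ≤ S → g ∈ Γ := by
  intro n
  induction n using Nat.strong_induction_on with
  | _ n ih =>
  intro Q g hn hQ hP hg
  have nil : Group.IsNilpotent (S : Subgroup G) := S.isPGroup'.isNilpotent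
  by_cases hQS : Q = S
  · subst hQS
    exact hΓ _ le_rfl hP (mem_normalizer_of_cj_le hg)
  have lt1 : ∀ R : Subgroup G, R ≤ S → Nat.card R = Nat.card Q →
      Nat.card Q < Nat.card (normalizer (R : Set G) ⊓ S : Subgroup G) := by
    intro R hR hc
    have : R ≠ S := fun h => hQS (eq_of_le_of_card_ge hQ (by rw [← hc, h]))
    rw [← hc]
    rw [inf_comm]
    exact card_lt_of_lt (lt_inf_normalizer S.isPGroup' (lt_of_le_of_ne hR this))
  have les : ∀ R : Subgroup G, Nat.card (R ⊓ S : Subgroup G) ≤ Nat.card (S : Subgroup G) :=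
    fun R => card_le_of_le inf_le_right
  obtain ⟨T, hT, hT1⟩ := exists_isSyl_ge (Q := normalizer (Q : Set G) ⊓ S) (H := normalizer (Q : Set G))
    (S.isPGroup'.to_le inf_le_right) inf_le_left
  obtain ⟨x, hx⟩ := exists_cj_le_sylow S hT.pgroup
  have hxΓ : x ∈ Γ := ih _ (by have := lt1 Q hQ rfl; have := les (normalizer (Q : Set G)); omega) _ x rfl
    inf_le_right (hup _ _ hP (le_inf le_normalizer hQ)) ((cj_mono x hT1).trans hx)
  obtain ⟨y, hy, hy1⟩ := hT.exists_cj_le (Q := cj g⁻¹ (normalizer (cj g Q : Set G) ⊓ S))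
    (IsPGroup.cj (S.isPGroup'.to_le inf_le_right) _) (by
      rw [← le_cj_iff_cj_inv_le, cj_normalizer]; exact inf_le_left)
  have h3 : x * y * g⁻¹ ∈ Γ := ih _ (by
      have := lt1 (cj g Q) hg (card_cj g Q); have := les (normalizer (cj g Q : Set G)); omega) _ _ rfl
    inf_le_right (hup _ _ (hcj _ g hP) (le_inf le_normalizer hg)) (by
      rw [← cj_cj, ← cj_cj]; exact (cj_mono x hy1).trans hx)
  have h4 : g = (x * y * g⁻¹)⁻¹ * x * y := by group
  rw [h4]
  exact mul_mem (mul_mem (inv_mem h3) hxΓ) (hΓ Q hQ hP hy)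

theorem exists_klein_of_not_rank {Q : Subgroup G} (h : ¬ PRankLE 2 1 Q) : ∃ V ≤ Q, IsKleinFour V := by
  rw [pRankLE_sub_iff] at h
  push Not at h
  obtain ⟨A, hA, he, hc⟩ := h
  obtain ⟨k, hk⟩ := IsPGroup.iff_card.1 (elem_isPGroup he)
  have h4 : 2 ^ 2 ≤ Nat.card A := by
    rw [hk] at hc ⊢
    exact Nat.pow_le_pow_right (by norm_num) ((Nat.pow_lt_pow_iff_right (by norm_num)).1 hc)
  obtain ⟨K, hK, hKc, -⟩ := Solv.exists_normal_card (p := 2) (elem_isPGroup he).isNilpotent (elem_isPGroup he)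
    le_rfl le_normalizer 2 h4
  exact ⟨K, hK.trans hA, klein_of_elem (elem_mono he hK) hKc⟩

theorem not_rank_of_klein {V : Subgroup G} (h : IsKleinFour V) : ¬ PRankLE 2 1 V := fun hr => by
  have := pRankLE_sub_iff.1 hr V le_rfl (klein_elem h)
  rw [h.card_four] at this; omega

theorem thm_0520 (h2 : ¬ Cfsg.PRankLE 2 1 G)
    (S : Sylow 2 G) (hS : Cfsg.IsFourConnected (S : Subgroup G)) :
    ¬ Cfsg.IsFourConnected G ↔
      (⨆ Q : {Q : Subgroup G // Q ≤ (S : Subgroup G) ∧ ¬ Cfsg.PRankLE 2 1 Q},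
          Subgroup.normalizer ((Q : Subgroup G) : Set G)) ≠ ⊤ := by
  set Γ := (⨆ Q : {Q : Subgroup G // Q ≤ (S : Subgroup G) ∧ ¬ Cfsg.PRankLE 2 1 Q},
          Subgroup.normalizer ((Q : Subgroup G) : Set G)) with hΓ
  have inS : ∀ V W : Subgroup G, V ≤ S → W ≤ S → IsKleinFour V → IsKleinFour W → KCon V W := by
    intro V W hV hW kV kW
    have k : ∀ X : Subgroup G, X ≤ S → IsKleinFour X → IsKleinFour (X.subgroupOf (S : Subgroup G)) := fun X hX kX =>
      klein_of_elem (elem_subgroupOf (klein_elem kX) _)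
        (by rw [Nat.card_congr (subgroupOfEquivOfLe hX).toEquiv, kX.card_four])
    have := KCon.map (S : Subgroup G).subtype_injective (hS _ _ (k V hV kV) (k W hW kW))
    rwa [map_subgroupOf_eq_of_le hV, map_subgroupOf_eq_of_le hW] at this
  have conj : ∀ (g : G) (V W : Subgroup G), KCon V W → KCon (cj g V) (cj g W) := fun g V W h =>
    KCon.map (MulAut.conj g).injective h
  obtain ⟨U1, -, kU1⟩ := exists_klein_of_not_rank (Q := (⊤ : Subgroup G))
    (fun h => h2 ((pRankLE_congr topEquiv).1 h))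
  obtain ⟨x0, hx0⟩ := exists_cj_le_sylow S (elem_isPGroup (klein_elem kU1))
  have kU := klein_cj kU1 x0
  set U := cj x0 U1
  have K : ∀ (Q : Subgroup G) (g : G), Q ≤ S → ¬ PRankLE 2 1 Q → cj g Q ≤ S → g ∈ Γ := fun Q g h1 h2 h3 =>
    mem_of_cj_le_sylow S Γ (fun Q => ¬ PRankLE 2 1 Q) (fun A B hA hAB hB => hA (pRankLE_mono hB hAB))
      (fun A g hA h => hA ((pRankLE_cj g).1 h))
      (fun Q h1 h2 => le_iSup (fun Q : {Q : Subgroup G // Q ≤ (S : Subgroup G) ∧ ¬ Cfsg.PRankLE 2 1 Q} =>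
        Subgroup.normalizer ((Q : Subgroup G) : Set G)) ⟨Q, h1, h2⟩) _ Q g rfl h1 h2 h3
  rw [not_iff_not]
  constructor
  · intro hG
    have step : ∀ V, KCon U V → ∃ γ ∈ Γ, cj γ V ≤ S := by
      intro V h
      induction h with
      | refl => exact ⟨1, one_mem _, by simpa using hx0⟩
      | @tail B C _ h2 ih =>
        obtain ⟨γ, hγ, h3⟩ := ih
        obtain ⟨x, hx⟩ := exists_cj_le_sylow S (elem_isPGroup (elem_sup (klein_elem h2.1) (klein_elem h2.2.1)
          (fun a ha b hb => (h2.2.2 a ha b hb).symm)))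
        have : x * γ⁻¹ ∈ Γ := K (cj γ B) _ h3 (not_rank_of_klein (klein_cj h2.1 γ)) (by
          rw [cj_cj, inv_mul_cancel_right]; exact (cj_mono x le_sup_left).trans hx)
        exact ⟨x, by simpa using mul_mem this hγ, (cj_mono x le_sup_right).trans hx⟩
    rw [eq_top_iff]
    intro g _
    obtain ⟨γ, hγ, h3⟩ := step _ (hG U (cj g U) kU (klein_cj kU g))
    rw [cj_cj] at h3
    simpa using mul_mem (inv_mem hγ) (K U _ hx0 (not_rank_of_klein kU) h3)
  · intro hΓt
    let H : Subgroup G :=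
      { carrier := {g | KCon (cj g U) U}
        one_mem' := by show KCon (cj 1 U) U; simpa using Relation.ReflTransGen.refl
        mul_mem' := fun {a b} ha hb => by
          show KCon (cj (a * b) U) U
          rw [← cj_cj]; exact (conj a _ _ hb).trans ha
        inv_mem' := fun {a} ha => by
          show KCon (cj a⁻¹ U) U
          have := conj a⁻¹ _ _ ha
          rw [cj_inv_cj] at this; exact this.symm }
    have hH : Γ ≤ H := iSup_le fun Q g hg => by
      obtain ⟨V, hV, kV⟩ := exists_klein_of_not_rank Q.2.2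
      have h1 : cj g V ≤ S := ((cj_mono g hV).trans (cj_eq_of_mem_normalizer hg).le).trans Q.2.1
      exact (conj g _ _ (inS U V hx0 (hV.trans Q.2.1) kU kV)).trans (inS _ _ h1 hx0 (klein_cj kV g) kU)
    have all : ∀ V : Subgroup G, IsKleinFour V → KCon V U := by
      intro V kV
      obtain ⟨x, hx⟩ := exists_cj_le_sylow S (elem_isPGroup (klein_elem kV))
      have := conj x⁻¹ _ _ (inS _ _ hx hx0 (klein_cj kV x) kU)
      rw [cj_inv_cj] at this
      exact this.trans (hH (hΓt ▸ mem_top x⁻¹))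
    intro V W kV kW
    exact (all V kV).trans (all W kW).symm

end Cfsg.Agent.PU
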