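/-
The Krull-Remak-Schmidt theorem and the principal ideal theorem for finite groups.
-/
import Mathlib

set_option autoImplicit false
set_option linter.unusedSectionVars false
set_option linter.unusedVariables false
set_option linter.style.haveILetI false
set_option linter.unusedSimpArgs false

namespace Cfsg.Agent.PU

open Subgroup

universe u v

/-- directly indecomposable -/
def Indec (A : Type*) [Group A] : Prop :=
  ∀ H K : Subgroup A, H.Normal → K.Normal → H ⊓ K = ⊥ → H ⊔ K = ⊤ → H = ⊥ ∨ K = ⊥

theorem exists_idem_pow {M : Type*} [Monoid M] [Finite M] (f : M) : ∃ n, 0 < n ∧ f ^ n * f ^ n = f ^ n := by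
  obtain ⟨i, j, h1, h2⟩ : ∃ i j : ℕ, i < j ∧ f ^ i = f ^ j := by
    obtain ⟨i, j, h1, h2⟩ := Finite.exists_ne_map_eq_of_infinite fun n : ℕ => f ^ n
    rcases lt_or_gt_of_ne h1 with h | h
    exacts [⟨i, j, h, h2⟩, ⟨j, i, h, h2.symm⟩]
  obtain ⟨d, rfl⟩ := Nat.exists_eq_add_of_lt h1
  have h : ∀ k, f ^ (i + k * (d + 1)) = f ^ i := fun k => by
    induction k with
    | zero => simp
    | succ k ih => rw [show i + (k + 1) * (d + 1) = i + d + 1 + k * (d + 1) by ring, pow_add, ← h2, ← pow_add, ih]
  refine ⟨(i + 1) * (d + 1), by positivity, ?_⟩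
  rw [← pow_add, show (i + 1) * (d + 1) + (i + 1) * (d + 1) = i + (i + 1) * (d + 1) + (i * d + d + 1) by ring, pow_add, h,
    ← pow_add]
  congr 1; ring

theorem fitting_end {A : Type*} [Group A] [Finite A] (hA : Indec A) (f : Monoid.End A)
    (hf : ∀ x a, f (x * a * x⁻¹) = x * f a * x⁻¹) : Function.Injective f ∨ ∀ a, f a = a → a = 1 := by
  have : Finite (Monoid.End A) := Finite.of_injective (fun f : Monoid.End A => (f : A → A)) DFunLike.coe_injective
  obtain ⟨n, h0, h1⟩ := exists_idem_pow f
  have h2 : ∀ a, (f ^ n) ((f ^ n) a) = (f ^ n) a := fun a => DFunLike.congr_fun h1 a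
  have h3 : ∀ k x a, (f ^ k) (x * a * x⁻¹) = x * (f ^ k) a * x⁻¹ := fun k => by
    induction k with
    | zero => exact fun _ _ => rfl
    | succ k ih => intro x a; rw [pow_succ]; exact (congrArg (f ^ k) (hf x a)).trans (ih _ _)
  refine (hA (MonoidHom.ker (f ^ n : Monoid.End A)) (MonoidHom.range (f ^ n : Monoid.End A)) inferInstance
    ⟨fun _ ⟨a, e⟩ x => ⟨x * a * x⁻¹, e ▸ h3 n x a⟩⟩ (eq_bot_iff.2 fun _ ⟨h, a, e⟩ => ?_) (eq_top_iff.2 fun a _ => ?_)).imp
    (fun h => ?_) fun h a ha => ?_
  · subst e; exact (h2 a).symm.trans h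
  · rw [← inv_mul_cancel_right a ((f ^ n) a)]
    exact mul_mem (mem_sup_left (by
      change (f ^ n) _ = 1
      rw [map_mul, map_inv, h2, mul_inv_cancel])) (mem_sup_right ⟨a, rfl⟩)
  · obtain ⟨k, rfl⟩ := Nat.exists_eq_add_of_lt h0
    have := (MonoidHom.ker_eq_bot_iff _).1 h
    rw [pow_succ] at this
    exact Function.Injective.of_comp (f := (f ^ (0 + k) : Monoid.End A)) this
  · have : ∀ k, (f ^ k) a = a := fun k => by
      induction k with
      | zero => rfl
      | succ k ih => rw [pow_succ]; exact (congrArg (f ^ k) ha).trans ih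
    exact mem_bot.1 (h ▸ ⟨a, this n⟩)

/-- projection on a set of coordinates -/
def projS {ι : Type*} [DecidableEq ι] {B : ι → Type v} [∀ j, Group (B j)] (S : Finset ι) : (∀ j, B j) →* ∀ j, B j where
  toFun x j := if j ∈ S then x j else 1
  map_one' := by ext j; simp
  map_mul' x y := by ext j; by_cases h : j ∈ S <;> simp [h]

theorem krs_key {A : Type*} [Group A] [Finite A] [Nontrivial A] (hA : Indec A) {ι : Type*} [DecidableEq ι]
    {B : ι → Type v} [∀ j, Group (B j)] (α : A →* ∀ j, B j) (β : (∀ j, B j) →* A) (S : Finset ι) :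
    Function.Injective (β.comp ((projS S).comp α)) → ∃ j, Function.Injective fun a => β (Pi.mulSingle j (α a j)) := by
  induction S using Finset.induction_on with
  | empty =>
    intro h
    obtain ⟨a, ha⟩ := exists_ne (1 : A)
    exact absurd (h (by rw [map_one]; exact (congrArg β (by ext; simp [projS])).trans β.map_one)) ha
  | insert j S hj ih =>
    intro h
    let U := MulEquiv.ofBijective _ (Finite.injective_iff_bijective.1 h)
    rcases fitting_end hA (U.symm.toMonoidHom.comp (β.comp ((MonoidHom.mulSingle B j).comp ((Pi.evalMonoidHom B j).comp α))))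
      (fun x a => U.injective (by
        rw [map_mul U, map_mul U, map_inv U]
        change U (U.symm _) = β _ * U (U.symm _) * (β _)⁻¹
        rw [U.apply_symm_apply, U.apply_symm_apply]
        change β _ = _ * β _ * _
        rw [← map_inv β, ← map_mul β, ← map_mul β]
        congr 1; ext k
        by_cases e : k = j
        · subst e; simp [projS]
        · simp [Pi.mulSingle_eq_of_ne e])) with h1 | h1
    · exact ⟨j, Function.Injective.of_comp (f := U.symm) h1⟩
    · refine ih ((injective_iff_map_eq_one _).2 fun a ha => h1 a (U.injective ?_))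
      change U (U.symm (β _)) = β _
      rw [U.apply_symm_apply, ← mul_one (β _), ← ha]
      change β _ * β _ = _
      rw [← map_mul β]
      congr 1; ext k
      by_cases e : k = j
      · subst e; simp [projS, hj]
      · simp [Pi.mulSingle_eq_of_ne e, projS, e]

theorem krs_cancel {A A' B B' : Type*} [Group A] [Group A'] [Group B] [Group B'] [Finite A] [Finite A'] [Finite B] [Finite B']
    (E : A × A' ≃* B × B') (h : Function.Bijective fun a => (E (a, 1)).1) : Nonempty (A' ≃* B') := by
  have c := Nat.card_congr E.toEquiv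
  rw [Nat.card_prod, Nat.card_prod, Nat.card_eq_of_bijective _ h] at c
  refine ⟨(MulEquiv.ofBijective ((MonoidHom.snd A A').comp (E.symm.toMonoidHom.comp (MonoidHom.inr B B')))
    ((Nat.bijective_iff_injective_and_card _).2 ⟨(injective_iff_map_eq_one _).2 fun b hb => ?_,
      (Nat.eq_of_mul_eq_mul_left Nat.card_pos c).symm⟩)).symm⟩
  have e : E ((E.symm (1, b)).1, 1) = (1, b) := by
    rw [← show (E.symm (1, b)).2 = 1 from hb]; exact E.apply_symm_apply _
  have : (E.symm (1, b)).1 = 1 := h.1 (by simp only [e]; exact (congrArg Prod.fst E.map_one).symm)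
  rw [this] at e
  exact (congrArg Prod.snd (e.symm.trans E.map_one))

/-- splitting off one factor -/
def spl {n : ℕ} (B : Fin (n + 1) → Type*) [∀ j, Group (B j)] (j : Fin (n + 1)) :
    (∀ k, B k) ≃* B j × ∀ k, B (j.succAbove k) :=
  { (Fin.insertNthEquiv B j).symm with map_mul' := fun _ _ => rfl }

theorem thm_4223 (m : ℕ) : ∀ {n : ℕ} {A : Fin m → Type u} {B : Fin n → Type v} [∀ i, Group (A i)] [∀ j, Group (B j)]
    [∀ i, Finite (A i)] [∀ j, Finite (B j)], (∀ i, Nontrivial (A i) ∧ Indec (A i)) → (∀ j, Nontrivial (B j) ∧ Indec (B j)) →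
    (((i : Fin m) → A i) ≃* ((j : Fin n) → B j)) → ∃ σ : Fin m ≃ Fin n, ∀ i, Nonempty (A i ≃* B (σ i)) := by
  induction m with
  | zero =>
    intro n A B _ _ _ _ hA hB e
    rcases n with _ | n
    · exact ⟨Equiv.refl _, fun i => i.elim0⟩
    · have := (hB 0).1
      obtain ⟨b, hb⟩ := exists_ne (1 : B 0)
      have := congrFun (e.symm.injective (Subsingleton.elim (e.symm (Pi.mulSingle 0 b)) (e.symm 1))) 0
      exact absurd (by simpa using this) hb
  | succ m ih =>
    intro n A B _ _ _ _ hA hB e
    have := (hA 0).1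
    obtain ⟨j, hj⟩ := krs_key (hA 0).2 (e.toMonoidHom.comp (MonoidHom.mulSingle A 0))
      ((Pi.evalMonoidHom A 0).comp e.symm.toMonoidHom) Finset.univ fun a b h => by
        have k : ∀ x, projS (B := B) Finset.univ x = x := fun x => by ext; simp [projS]
        simpa [k] using h
    obtain ⟨n, rfl⟩ : ∃ n', n = n' + 1 := ⟨n - 1, by have := j.2; omega⟩
    let α : A 0 →* B j := (Pi.evalMonoidHom B j).comp (e.toMonoidHom.comp (MonoidHom.mulSingle A 0))
    let β : B j →* A 0 := (Pi.evalMonoidHom A 0).comp (e.symm.toMonoidHom.comp (MonoidHom.mulSingle B j))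
    have h1 : Function.Injective (β.comp α) := hj
    have h2 : α.range ⊔ β.ker = ⊤ := eq_top_iff.2 fun b _ => by
      obtain ⟨a, ha⟩ := Finite.injective_iff_surjective.1 h1 (β b)
      rw [← mul_inv_cancel_left (α a) b]
      exact mul_mem (mem_sup_left ⟨a, rfl⟩) (mem_sup_right (by
        rw [MonoidHom.mem_ker, map_mul, map_inv, ← ha]; exact inv_mul_cancel _))
    have h3 : Function.Bijective α := by
      refine ⟨Function.Injective.of_comp (f := β) h1, MonoidHom.range_eq_top.1 ?_⟩
      refine ((hB j).2 α.range β.ker ⟨fun _ ⟨a, ha⟩ b => ⟨β b * a * (β b)⁻¹, ?_⟩⟩ inferInstance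
        (eq_bot_iff.2 fun _ ⟨⟨a, ha⟩, hb⟩ => ?_) h2).elim (fun h => ?_) fun h => by rwa [h, sup_bot_eq] at h2
      · have : (Pi.mulSingle 0 (β b * a * (β b)⁻¹) : ∀ i, A i) =
            e.symm (Pi.mulSingle j b) * Pi.mulSingle 0 a * (e.symm (Pi.mulSingle j b))⁻¹ := by
          ext k
          by_cases e : k = 0
          · subst e; simp [β]
          · simp [Pi.mulSingle_eq_of_ne e]
        rw [← ha]; simp [α, this]
      · subst ha
        rw [h1 (hb.trans (map_one _).symm), map_one]; exact one_mem _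
      · obtain ⟨a, ha⟩ := exists_ne (1 : A 0)
        exact absurd (h1 ((congrArg β (mem_bot.1 (h ▸ ⟨a, rfl⟩ : α a ∈ ⊥))).trans (by simp))) ha
    obtain ⟨E⟩ := krs_cancel ((spl A 0).symm.trans (e.trans (spl B j))) (by
      convert h3 with a
      exact congrArg (fun x => e x j) (Fin.insertNth_one_right _ _))
    obtain ⟨τ, hτ⟩ := ih (fun i => hA _) (fun i => hB _) E
    refine ⟨(finSuccEquiv' 0).trans (τ.optionCongr.trans (finSuccEquiv' j).symm), fun i => ?_⟩
    induction i using Fin.succAboveCases 0 with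
    | x => rw [Equiv.trans_apply, finSuccEquiv'_at]; exact ⟨MulEquiv.ofBijective α h3⟩
    | p i => rw [Equiv.trans_apply, finSuccEquiv'_succAbove]; exact hτ i

open MonoidAlgebra in
theorem pit_core {G Q M : Type*} [Group G] [Fintype G] [CommGroup Q] [Fintype Q] [AddCommGroup M]
    [Module (MonoidAlgebra ℤ Q) M] (π : G →* Q) (h1 : Function.Surjective π) (h2 : π.ker ≤ commutator G) (c : G → M)
    (hc : ∀ g h, c (g * h) = c g + (single (π g) 1 : MonoidAlgebra ℤ Q) • c h) (g : G) :
    (∑ q, single q 1 : MonoidAlgebra ℤ Q) • c g = 0 := by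
  classical
  let v : G → M × MonoidAlgebra ℤ Q := fun g => (c g, single (π g) 1 - 1)
  let ε : MonoidAlgebra ℤ Q →+* ℤ := (lift ℤ ℤ Q 1 : MonoidAlgebra ℤ Q →ₐ[ℤ] ℤ)
  have hε : ∀ q z, ε (single q z) = z := fun q z => by simp [ε]
  let J := Submodule.map (Fintype.linearCombination (MonoidAlgebra ℤ Q) v) (Submodule.pi Set.univ fun _ => RingHom.ker ε)
  let ψ : G →* Multiplicative ((M × MonoidAlgebra ℤ Q) ⧸ J) := MonoidHom.mk' (fun g => .ofAdd (J.mkQ (v g))) fun g h => by
    rw [← ofAdd_add, ← map_add, Submodule.mkQ_apply, Submodule.mkQ_apply, Equiv.apply_eq_iff_eq, Submodule.Quotient.eq]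
    refine ⟨Pi.single h (single (π g) 1 - 1), fun i _ => ?_, ?_⟩
    · by_cases e : i = h
      · subst e; simp [hε]
      · simp [Pi.single_eq_of_ne e]
    · rw [Fintype.linearCombination_apply_single]
      refine Prod.ext ?_ ?_
      · simp [v, hc, sub_smul]
      · simp only [v, Prod.smul_snd, Prod.snd_sub, Prod.snd_add, map_mul, smul_eq_mul]
        rw [show (single (π g * π h) 1 : MonoidAlgebra ℤ Q) = single (π g) 1 * single (π h) 1 by
          rw [single_mul_single, one_mul]]
        ring
  let χ := π.liftOfSurjective h1 ⟨ψ, h2.trans (Abelianization.commutator_subset_ker ψ)⟩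
  have hχ : ∀ g, χ (π g) = ψ g := fun g => MonoidHom.liftOfRightInverse_comp_apply _ _ _ _ _
  let θ : (G → ℤ) →+ Additive Q := (Fintype.linearCombination ℤ fun g => Additive.ofMul (π g)).toAddMonoidHom
  have hθ : θ.ker.index = Fintype.card Q := by
    rw [AddSubgroup.index_ker, AddMonoidHom.range_eq_top.2 fun q => ?_, AddSubgroup.card_top, Nat.card_eq_fintype_card]
    · exact Fintype.card_congr Additive.toMul
    · obtain ⟨g, e⟩ := h1 q.toMul
      exact ⟨Pi.single g 1, by simp [θ, e]⟩
  have : θ.ker.FiniteIndex := ⟨hθ ▸ Fintype.card_ne_zero⟩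
  have : Module.Free ℤ θ.ker := inferInstanceAs (Module.Free ℤ θ.ker.toIntSubmodule)
  have : Module.Finite ℤ θ.ker := inferInstanceAs (Module.Finite ℤ θ.ker.toIntSubmodule)
  let b : Module.Basis G ℤ θ.ker := (Module.finBasisOfFinrankEq ℤ θ.ker (n := Fintype.card G) (by
    rw [θ.ker.finrank_eq_of_finiteIndex, Module.finrank_fintype_fun_eq_card])).reindex (Fintype.equivFin G).symm
  have h3 := θ.ker.index_eq_natAbs_det (Pi.basisFun ℤ G) b
  have h4 : ∀ k, ∃ a : G → MonoidAlgebra ℤ Q, (∀ i, ε (a i) = 0) ∧ ∑ i, a i • v i = ∑ i, (b k).1 i • v i := fun k => by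
    have e : J.mkQ (∑ i, (b k).1 i • v i) = 0 := by
      have := congrArg (MonoidHom.toAdditive χ) (b k).2
      simp only [θ, LinearMap.toAddMonoidHom_coe, Fintype.linearCombination_apply, map_sum, map_zsmul, map_zero] at this ⊢
      simp only [MonoidHom.toAdditive_apply_apply, toMul_ofMul, hχ] at this
      exact this
    obtain ⟨a, a1, a2⟩ := (Submodule.Quotient.mk_eq_zero J).1 e
    exact ⟨a, fun i => a1 i trivial, a2⟩
  choose a a1 a2 using h4
  let μ : Matrix G G (MonoidAlgebra ℤ Q) := Matrix.of fun k i => ((b k).1 i : MonoidAlgebra ℤ Q) - a k i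
  have h5 : ∀ j, μ.det • v j = 0 := fun j => by
    have e : ∀ k, ∑ i, μ k i • v i = 0 := fun k => by
      simp only [μ, Matrix.of_apply, sub_smul, Finset.sum_sub_distrib, a2, Int.cast_smul_eq_zsmul, sub_self]
    calc μ.det • v j = ∑ i, (μ.adjugate * μ) j i • v i := by simp [Matrix.adjugate_mul, Matrix.one_apply]
      _ = ∑ k, μ.adjugate j k • ∑ i, μ k i • v i := by
        simp only [Matrix.mul_apply, Finset.sum_smul, Finset.smul_sum, mul_smul]; exact Finset.sum_comm
      _ = 0 := by simp [e]
  have h6 : μ.det = μ.det.coeff 1 • ∑ q, single q 1 := by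
    ext q
    obtain ⟨g, rfl⟩ := h1 q
    have := congrArg (fun x => x.2.coeff (π g)) (h5 g)
    simp [v, mul_sub] at this
    rw [coeff_smul, coeff_sum, ← sub_eq_zero.1 this]
    simp [Finsupp.single_apply]
  have h7 : ε μ.det = (Pi.basisFun ℤ G).det (b ·) := by
    rw [RingHom.map_det, Module.Basis.det_apply, ← Matrix.det_transpose]
    congr 1; ext i k
    simp [μ, a1, Module.Basis.toMatrix_apply]
  rw [hθ, ← h7, h6] at h3
  simp only [map_zsmul, map_sum, hε, Finset.sum_const, Finset.card_univ, smul_eq_mul, nsmul_eq_mul, mul_one,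
    Int.natAbs_mul, Int.natAbs_natCast] at h3
  have h8 := congrArg Prod.fst (h5 g)
  rw [h6, Prod.smul_fst, smul_assoc] at h8
  rcases Int.natAbs_eq_iff.1 (Nat.eq_of_mul_eq_mul_right Fintype.card_pos (h3.symm.trans (one_mul _).symm)) with e | e <;>
    simpa [e] using h8

theorem thm_4320 {G : Type*} [Group G] [Finite G] :
    MonoidHom.transfer (Abelianization.of : ↥(commutator G) →* Abelianization ↥(commutator G)) =
      (1 : G →* Abelianization ↥(commutator G)) := by
  classical
  ext g
  have := Fintype.ofFinite G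
  letI := (commutator G).fintypeQuotientOfFiniteIndex
  letI : CommGroup (G ⧸ commutator G) := inferInstanceAs (CommGroup (Abelianization G))
  let T : (commutator G).LeftTransversal := default
  let t := T.2.leftQuotientEquiv
  have ht : ∀ q, ((t q : G) : G ⧸ commutator G) = q := fun q => t.symm_apply_apply q
  let ρ : G ⧸ commutator G →* Module.End ℤ (G ⧸ commutator G → Additive (Abelianization (commutator G))) :=
    { toFun := fun q => LinearMap.funLeft ℤ _ fun x => q⁻¹ * x
      map_one' := by ext; simp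
      map_mul' := fun a b => by ext; simp [mul_assoc] }
  letI := Module.compHom (G ⧸ commutator G → Additive (Abelianization (commutator G)))
    (MonoidAlgebra.lift ℤ _ _ ρ).toRingHom
  have hs : ∀ (q : G ⧸ commutator G) (f : G ⧸ commutator G → Additive (Abelianization (commutator G))) x,
      ((MonoidAlgebra.single q 1 : MonoidAlgebra ℤ (G ⧸ commutator G)) • f) x = f (q⁻¹ * x) := fun q f x => by
    change MonoidAlgebra.lift ℤ _ _ ρ _ f x = _
    rw [MonoidAlgebra.lift_single, one_smul]; rfl
  have := congrFun (pit_core (QuotientGroup.mk' (commutator G)) (QuotientGroup.mk'_surjective _) (QuotientGroup.ker_mk' _).le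
    (fun g q => Additive.ofMul (Abelianization.of (⟨(t q : G)⁻¹ * (g * t ((g : G ⧸ commutator G)⁻¹ * q)),
      (QuotientGroup.eq_one_iff _).1 (by simp [ht])⟩ : commutator G))) (fun g h => funext fun q => by
        rw [Pi.add_apply, hs, ← ofMul_mul, ← map_mul]
        congr 3
        simp [mul_assoc]) g) 1
  rw [Finset.sum_smul, Finset.sum_apply] at this
  simp only [hs, mul_one] at this
  rw [← ofMul_prod, ← Equiv.prod_comp (Equiv.inv _)] at this
  rw [MonoidHom.transfer_def _ T]
  refine Eq.trans (Finset.prod_congr rfl fun q _ => ?_) this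
  congr 2
  rw [smul_apply_eq_smul_apply_inv_smul, Equiv.inv_apply, inv_inv]
  congr 4

end Cfsg.Agent.PU
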