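/-
Frobenius quotients: Mazurov's lemma and 2-Frobenius groups.
-/
import Cfsg.Agent.Lib.PU.Ms6
import Cfsg.Agent.Lib.Solv.Frob3

set_option autoImplicit false
set_option linter.unusedSectionVars false
set_option linter.unusedVariables false
set_option linter.style.haveILetI false
set_option linter.unusedSimpArgs false

namespace Cfsg.Agent.PU

open Subgroup Cfsg.Agent.Transfer Cfsg.Agent.MS
open scoped commutatorElement

universe u
variable {G : Type u} [Group G] [Finite G]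
variable {A B C E H K M N P Q R S U V W X Y Z : Subgroup G} {a b g h t u v w x y z : G} {k p : ℕ}

open Classical in
theorem norm_one [Fintype E] (hE : E ≤ NN P) (g : E) (he : ∀ x ∈ P, (x * g) ^ orderOf g = 1) (v : Abelianization P) :
    ∏ b with b ∈ zpowers g, (Solv.abConj P).comp (inclusion hE) b v = 1 := by
  induction v using QuotientGroup.induction_on with | H y => ?_
  have k : ∀ k, ∃ z : P, ((y : G) * g) ^ k = z * g ^ k ∧ Abelianization.of z =
      ∏ i ∈ Finset.range k, (Solv.abConj P).comp (inclusion hE) (g ^ i) (Abelianization.of y) := fun k => by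
    induction k with
    | zero => exact ⟨1, by simp, by simp⟩
    | succ k ih =>
      obtain ⟨z, h1, h2⟩ := ih
      refine ⟨z * P.normalizerMonoidHom (inclusion hE (g ^ k)) y, ?_, by rw [map_mul, h2, Finset.prod_range_succ]; rfl⟩
      rw [pow_succ, h1, pow_succ]
      change _ = (z : G) * ((g : G) ^ k * y * ((g : G) ^ k)⁻¹) * _
      group
  obtain ⟨z, h1, h2⟩ := k (orderOf g)
  classical
  rw [he y y.2, ← coe_pow, pow_orderOf_eq_one, coe_one, mul_one] at h1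
  rw [show z = 1 from Subtype.ext h1.symm, map_one] at h2
  rw [h2, ← Finset.prod_image (g := fun i => g ^ i) (f := fun b => (Solv.abConj P).comp (inclusion hE) b (Abelianization.of y))
    (Finset.coe_range _ ▸ pow_injOn_Iio_orderOf), image_range_orderOf]
  exact Finset.prod_congr (by ext; simp) fun _ _ => rfl

theorem maz (hn : h ∈ NN K) (hf : Reg K (zpowers h)) (hP : Group.IsNilpotent P) (hK : K ≤ NN P) (hh : h ∈ NN P)
    (hc : (#K).Coprime #P) (he : ∀ x ∈ P, (x * h) ^ orderOf h = 1) : P ≤ CC K := by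
  classical
  have hE : K ⊔ zpowers h ≤ NN P := sup_le hK (zpowers_le.2 hh)
  have := Fintype.ofFinite K
  have := Fintype.ofFinite (K ⊔ zpowers h : Subgroup G)
  refine Solv.le_of_map_of_eq_top hP (eq_top_iff.2 fun v _ => Solv.mem_of_pow_mem_of_coprime (n := #K) ?_
    (hc.coprime_dvd_right (commutator P).card_quotient_dvd_card))
  have L : ∀ B : Subgroup (K ⊔ zpowers h : Subgroup G), K.subgroupOf _ ≤ B →
      ∏ b with b ∈ B, (Solv.abConj P).comp (inclusion hE) b v ∈ ((CC K).subgroupOf P).map Abelianization.of := fun B l => by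
    obtain ⟨k, hk, e⟩ := Solv.exists_of_abConj_fixed hK hc (.inr inferInstance) fun b hb =>
      Solv.trace_fixed ((Solv.abConj P).comp (inclusion hE)) B v (c := ⟨b, mem_sup_left hb⟩) (l hb)
    exact ⟨k, hk, e⟩
  have pp := Solv.prod_partition Finset.univ (fun i : Option K => (i.elim K fun x =>
    cj (x : G) (zpowers h)).subgroupOf (K ⊔ zpowers h)) (fun a ha => by
      simpa only [Finset.mem_univ, true_and, mem_subgroupOf, cj_eq_smul] using
        Solv.frobenius_partition (zpowers_le.2 hn) hf a.2 (fun h => ha (Subtype.ext h)))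
    fun e => (Solv.abConj P).comp (inclusion hE) e v
  rw [Fintype.prod_option, Finset.prod_eq_one (s := Finset.univ (α := K)) fun x _ => ?_, map_one, MulAut.one_apply,
    Finset.card_univ, Fintype.card_option, pow_succ, mul_right_comm _ v, mul_left_inj, mul_one, ← Nat.card_eq_fintype_card] at pp
  · rw [eq_mul_inv_of_mul_eq pp.symm]
    exact mul_mem (L _ le_rfl) (inv_mem (by simpa using L ⊤ le_top))
  have m : x * h * (x : G)⁻¹ ∈ K ⊔ zpowers h :=
    mul_mem (mul_mem (mem_sup_left x.2) (mem_sup_right (mem_zpowers h))) (inv_mem (mem_sup_left x.2))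
  have := norm_one hE ⟨_, m⟩ (fun y hy => by
    rw [← orderOf_coe, orderOf_conj, show y * (x * h * (x : G)⁻¹) = x * ((x : G)⁻¹ * y * (x : G)⁻¹⁻¹ * h) * (x : G)⁻¹ by group,
      conj_pow, he _ (conj_mem_of_mem_normalizer (inv_mem (hK x.2)) hy), mul_one, mul_inv_cancel]) v
  convert this using 3
  simp only [Option.elim, cj_zpowers, mem_subgroupOf]
  rw [← mem_map_iff_mem (subtype_injective _), MonoidHom.map_zpowers]; rfl

theorem frob_data (hC : IsFrobeniusComplement C) (h : frobeniusKernel C = N) : N ⊔ C = ⊤ ∧ Reg N C ∧ N ≠ ⊥ ∧ C ≠ ⊥ := by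
  obtain ⟨_, c⟩ := Solv.isComplement'_of_eq_frobeniusKernel hC h.symm
  exact ⟨c.sup_eq_top, Solv.frob_fpf hC (disjoint_iff.1 c.disjoint), fun e => hC.2.1 (by simpa [e] using c.sup_eq_top), hC.1⟩

theorem core_3703 {Q : Type u} [Group Q] [Finite Q] {f : G →* Q} (sj : Function.Surjective f) {D : Subgroup Q} {c : Q}
    (hn : ⊤ ≤ NN D) (hf : Reg D (zpowers c)) (c1 : c ≠ 1) (hc : (#D).Coprime #f.ker) (h0 : ¬ D ≤ (CC f.ker).map f) :
    ∃ p : ℕ, p.Prime ∧ p ∣ #f.ker ∧ ∃ g : G, orderOf g = p * orderOf c := by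
  by_contra k
  have o : ∀ x, f x = c → x ^ orderOf c = 1 := fun x e => by_contra fun e' => by
    obtain ⟨p, hp, d⟩ := Nat.exists_prime_and_dvd (mt orderOf_eq_one_iff.1 e')
    have m : x ^ orderOf c ∈ f.ker := by rw [MonoidHom.mem_ker, map_pow, e, pow_orderOf_eq_one]
    refine k ⟨p, hp, d.trans (orderOf_dvd m), _, orderOf_pow_orderOf_div (orderOf_pos x).ne' ?_⟩
    rw [orderOf_pow, Nat.gcd_eq_right (e ▸ orderOf_map_dvd f x)] at d
    exact mul_comm (orderOf c) p ▸ Nat.mul_dvd_of_dvd_div (e ▸ orderOf_map_dvd f x) d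
  haveI : D.Normal := normalizer_eq_top_iff.1 (eq_top_iff.2 hn)
  obtain ⟨K, k1, k2, k3, k4⟩ := Solv.sz_exists_internal (ker_le_comap f D) nn_normal (by
    rw [← relIndex_bot_left, ← map_comap_eq_self_of_surjective sj D, ← relIndex_comap] at hc; exact hc.symm)
  have e : K.map f = D := by
    rw [← map_comap_eq_self_of_surjective sj D, ← k3, Subgroup.map_sup, map_ker_self, bot_sup_eq]
  have i : ∀ x ∈ K, f x = 1 → x = 1 := fun x hx e => eq_one_of_inf k2 e hx
  have q : K ≃* D := (MonoidHom.ofInjective (f := f.domRestrict K) ((injective_iff_map_eq_one _).2 fun x e =>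
    Subtype.ext (i x x.2 e))).trans (MulEquiv.subgroupCongr ((f.domRestrict_range K).trans e))
  have cK : (#K).Coprime #f.ker := Nat.card_congr q.toEquiv ▸ hc
  haveI := hf.nil nn_normal (by simpa)
  have sK : Group.IsSolvable K := Solv.isSolvable_of_mulEquiv q.symm inferInstance
  obtain ⟨p, hp, P, p1, p2, p3⟩ : ∃ p, ∃ _ : Fact p.Prime, ∃ P, Solv.IsSylowIn p P f.ker ∧ K ≤ NN P ∧ ¬ P ≤ CC K := by
    by_contra! k
    refine h0 (e ▸ map_mono (cc_symm (le_of_syl fun q hq _ => ?_)))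
    haveI := Fact.mk hq
    obtain ⟨P, a, b⟩ := Solv.coprime_exists_sylowIn nn_normal cK (.inl sK) q
    exact ⟨P, ⟨a.1, a.2, a.3⟩, k q ‹_› P a b⟩
  obtain ⟨g, hg⟩ := sj c
  obtain ⟨n, n1, n2⟩ := Solv.sz_conj_internal (B := cj g K) nn_normal cK (.inl sK)
    (by rw [← cj_eq_of_normal g f.ker, ← cj_inf, k2, cj_bot]) (by
      rw [k3, ← cj_eq_of_normal g (D.comap f), ← k3, cj_sup, cj_eq_of_normal g f.ker])
  have g1 : n⁻¹ * g ∈ NN K := mem_normalizer_iff_cj.2 (by rw [← cj_cj, ← n2, ← cj_eq_smul, cj_inv_cj])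
  obtain ⟨m, m1, m2⟩ := Solv.coprime_sylowIn_conj nn_normal cK (.inl sK) p1
    (p1.conj_smul_of_mem_normalizer (nn_normal (mem_top (n⁻¹ * g)))) p2 (cj_eq_smul _ P ▸ nn_cj_of p2 g1)
  have e1 : f (m⁻¹ * (n⁻¹ * g)) = c := by simp [hg, show f m = 1 from m1.1, show f n = 1 from n1]
  have e2 : orderOf (m⁻¹ * (n⁻¹ * g)) = orderOf c :=
    Nat.dvd_antisymm (orderOf_dvd_of_pow_eq_one (o _ e1)) (e1 ▸ orderOf_map_dvd f _)
  refine p3 (maz (mul_mem (inv_mem (cc_le_nn K m1.2)) g1) (fun x hx x1 => eq_bot_iff.2 fun y hy => ?_)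
    (nil_of_pg p1.2) p2 (mem_normalizer_iff_cj.2 (by rw [← cj_cj, cj_eq_smul _ P, ← m2, ← cj_eq_smul m, cj_inv_cj]))
    (cK.coprime_dvd_right (card_dvd p1.1)) fun x hx => e2 ▸ o _ (by rw [map_mul, e1, show f x = 1 from p1.1 hx, one_mul]))
  obtain ⟨j, rfl⟩ := mem_zpowers_iff.1 hx
  refine i y hy.1 (eq_one_of_inf (hf (c ^ j) (zpow_mem (mem_zpowers c) j) fun k => x1 ?_) (e ▸ mem_map_of_mem f hy.1)
    (mem_C1.2 (by rw [← e1, ← map_zpow, ← map_mul, ← map_mul, mem_C1.1 hy.2])))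
  rwa [← orderOf_dvd_iff_zpow_eq_one, e2, orderOf_dvd_iff_zpow_eq_one]

theorem thm_3703 (N : Subgroup G) [N.Normal] (Fb Hb : Subgroup (G ⧸ N)) [Fb.Normal] (hHb : IsFrobeniusComplement Hb)
    (hker : frobeniusKernel Hb = (Fb : Set (G ⧸ N))) (hcyc : IsCyclic Hb) (hcop : (#Fb).Coprime #N)
    (hnot : ¬ Fb ≤ (CC N).map (QuotientGroup.mk' N)) : ∃ p : ℕ, p.Prime ∧ p ∣ #N ∧ ∃ g : G, orderOf g = p * #Hb := by
  obtain ⟨-, a, -, b⟩ := frob_data hHb hker
  obtain ⟨c, -, rfl⟩ := exists_zpowers hcyc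
  have := core_3703 (QuotientGroup.mk'_surjective N) nn_normal a (by simpa using b) (by rwa [QuotientGroup.ker_mk'])
    (by rwa [QuotientGroup.ker_mk'])
  rwa [QuotientGroup.ker_mk', ← Nat.card_zpowers] at this

theorem reg_cent (h : Reg K R) (hn : R ≤ NN K) (hx : x ∈ K ⊔ R) (hy : y ∈ K) (y1 : y ≠ 1) (hc : x ∈ C1 y) : x ∈ K := by
  obtain ⟨k, hk, r, hr, rfl⟩ := (mem_sup_l hn).1 hx
  by_cases e : r = 1
  · simpa [e]
  obtain ⟨z, hz, e'⟩ := Solv.exists_conj_eq_mul_of_fpf (hn hr) (h r hr e) hk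
  have := mem_C1.1 hc
  rw [← e'] at this
  exact absurd (conj_eq_one_iff.1 (eq_one_of_inf (h r hr e) (conj_mem_of_mem_normalizer (le_nn K (inv_mem hz)) hy) (mem_C1.2 (by
    rw [show z⁻¹ * y * z⁻¹⁻¹ * r = z⁻¹ * (y * (z * r * z⁻¹)) * z by group, ← this]; group)))) y1

theorem ord_mul' {p q : ℕ} (hp : p.Prime) (hq : q.Prime) (h : p ≠ q) (hx : orderOf x = p) (hy : orderOf y = q)
    (hc : x ∈ C1 y) : orderOf (x * y) = p * q := by
  rw [Commute.orderOf_mul_eq_mul_orderOf_of_coprime (mem_C1.1 hc) (by rw [hx, hy]; exact (Nat.coprime_primes hp hq).2 h), hx, hy]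

theorem nil_ord {p q : ℕ} (hH : Group.IsNilpotent H) (hp : p.Prime) (hq : q.Prime) (h : p ≠ q) (h1 : p ∣ #H) (h2 : q ∣ #H) :
    ∃ g : G, orderOf g = p * q := by
  obtain ⟨x, hx, e⟩ := Solv.exists_subgroup_card_prime hp h1
  obtain ⟨y, hy, e'⟩ := Solv.exists_subgroup_card_prime hq h2
  exact ⟨_, ord_mul' hp hq h e e' (cc_zpowers y ▸ nil_cc hH (zpowers_le.2 hx) (zpowers_le.2 hy) (by
    rw [Nat.card_zpowers, Nat.card_zpowers, e, e']; exact (Nat.coprime_primes hp hq).2 h) (mem_zpowers x))⟩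

theorem core_4001 {Q : Type u} [Group Q] [Finite Q] {f : G →* Q} (sj : Function.Surjective f) [K.Normal]
    (hB : f.ker ⊔ B = K) (r1 : Reg f.ker B) (h0 : f.ker ≠ ⊥) (b0 : B ≠ ⊥) {C : Subgroup Q} (hC : K.map f ⊔ C = ⊤)
    (r2 : Reg (K.map f) C) (c0 : C ≠ ⊥) : Group.IsSolvable G ∧ Odd #B ∧ IsCyclic C ∧ f.ker.relIndex K = #B ∧ K.index = #C ∧
      (#B).Coprime (#f.ker * #C) ∧ ∀ p q : ℕ, p.Prime → q.Prime → p ≠ q → p ∣ #G → q ∣ #G →
        ((∃ g : G, orderOf g = p * q) ↔ (p ∣ #B ↔ q ∣ #B)) := by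
  haveI := Normal.map ‹K.Normal› f sj
  have e : B.map f = K.map f := by rw [← hB, Subgroup.map_sup, map_ker_self, bot_sup_eq]
  have d1 := Solv.inf_eq_bot_of_fpf r1
  have i : ∀ x ∈ B, f x = 1 → x = 1 := fun x hx e => eq_one_of_inf d1 e hx
  have q : B ≃* K.map f := (MonoidHom.ofInjective (f := f.domRestrict B) ((injective_iff_map_eq_one _).2 fun x e =>
    Subtype.ext (i x x.2 e))).trans (MulEquiv.subgroupCongr ((f.domRestrict_range B).trans e))
  have cB := Nat.card_congr q.toEquiv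
  have nD := r2.nil nn_normal c0
  have nH := r1.nil nn_normal b0
  have c1 := r1.coprime nn_normal
  have c2 := r2.coprime nn_normal
  have o : ¬ 2 ∣ #B := fun d => by
    obtain ⟨t, ht, t2⟩ := Solv.exists_subgroup_card_prime Nat.prime_two d
    obtain ⟨c, hc, c1⟩ := exists_ne_one c0
    obtain ⟨s, hs, k⟩ := e.ge (conj_mem_of_mem_normalizer (nn_normal (mem_top c)) (e.le (mem_map_of_mem f ht)))
    have t1 : f t ≠ 1 := fun k => ne_one_of_orderOf t2 (i t ht k)
    have := Solv.invol_unique_of_fpf nn_normal r1 h0 ht hs t2 (orderOf_eq_prime (i _ (pow_mem hs 2) (by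
      rw [map_pow, k, conj_pow, ← map_pow, ← t2, pow_orderOf_eq_one]; simp)) fun k' => t1 (by simpa [k'] using k.symm))
    exact t1 (eq_one_of_inf (r2 c hc c1) (e.le (mem_map_of_mem f ht)) (mem_C1_comm.1 (mem_C1_of_conj (k.symm.trans (this ▸ rfl)))))
  haveI := Solv.isZGroup_of_fpf_of_odd nn_normal r1 h0 o
  haveI nB := Group.nilpotent_of_mulEquiv q.symm
  have cyD : IsCyclic (K.map f) := q.isCyclic.1 inferInstance
  have d0 : K.map f ≠ ⊥ := fun k => b0 (card_eq_one.1 (cB.trans (card_eq_one.2 k)))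
  have cy := Solv.isCyclic_of_fpf_of_abelian nn_normal r2 d0 (ab_iff_der.2 (eq_bot_of_le (r2.symm.cc le_rfl d0) (der_le C)
    (der_cc_of_cyc cyD nn_normal)))
  have k1 : f.ker.relIndex K = #B := Nat.eq_of_mul_eq_mul_left (card_pos' _)
    ((card_mul_relIndex (hB ▸ le_sup_left)).trans (hB ▸ card_sup_l nn_normal d1))
  have k2 : K.index = #C := by
    rw [← comap_map_eq_self (f := f) (hB ▸ le_sup_left : f.ker ≤ K), index_comap_of_surjective _ sj]
    exact Nat.eq_of_mul_eq_mul_left (card_pos' _) ((card_mul_index _).trans (by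
      rw [← card_sup_l nn_normal (Solv.inf_eq_bot_of_fpf r2), hC, card_top]))
  have cG : #G = #f.ker * #B * #C := by rw [← k1, card_mul_relIndex (hB ▸ le_sup_left), ← k2, card_mul_index]
  have mix : ∀ {p q}, p.Prime → q.Prime → p ≠ q → p ∣ #f.ker → q ∣ #C → ∃ g : G, orderOf g = p * q := fun {p q} hp hq ne a b => by
    haveI := Fact.mk hp
    haveI := Fact.mk hq
    obtain ⟨c, hc, cq⟩ := Solv.exists_subgroup_card_prime hq b
    obtain ⟨g, rfl⟩ := sj c
    obtain ⟨n, n1, n2⟩ := Solv.sz_conj_internal (B := cj g B) nn_normal c1 (.inl inferInstance)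
      (by rw [← cj_eq_of_normal g f.ker, ← cj_inf, d1, cj_bot]) (by
        rw [hB, ← cj_eq_of_normal g K, ← hB, cj_sup, cj_eq_of_normal g f.ker])
    have g1 : n⁻¹ * g ∈ NN B := mem_normalizer_iff_cj.2 (by rw [← cj_cj, ← n2, ← cj_eq_smul, cj_inv_cj])
    have e1 : f (n⁻¹ * g) = f g := by simp [show f n = 1 from n1]
    have m : (n⁻¹ * g) ^ q ∈ f.ker := by rw [MonoidHom.mem_ker, map_pow, e1, ← cq, pow_orderOf_eq_one]
    have e2 : orderOf (n⁻¹ * g) = q := orderOf_eq_prime (eq_one_of_inf (r1.cc le_rfl b0) m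
      (Solv.mem_centralizer_of_mem_normalizer nn_normal d1 m (pow_mem g1 q))) fun k => hq.one_lt.ne' (by
        rw [← cq, ← e1, k, map_one, orderOf_one])
    have cq' := (Nat.card_zpowers _).trans e2
    obtain ⟨x, hx, xp⟩ := Solv.exists_subgroup_card_prime hp (pg_dvd ((O_pg f.ker).to_le inf_le_left) fun k =>
      syl_ne_bot (nil_syl nH) a (eq_bot_of_le (r1.cc le_rfl b0) (O_le _ _) (Solv.frobenius_nilpotent_le_centralizer
        (zpowers_le.2 g1) (reg_prime (cq' ▸ hq) (eq_bot_iff.2 fun y hy => i y hy.1 (eq_one_of_inf (r2 _ hc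
          (Solv.ne_one_of_orderOf_prime (cq ▸ hq))) (e ▸ mem_map_of_mem f hy.1) (mem_C1.2 (by
            rw [← e1, ← map_mul, ← map_mul, hy.2 _ (mem_zpowers _)]))))) (nil_of_pg (O_pg _)) (nn_O nn_normal)
        (nn_O nn_normal) (c1.coprime_dvd_right (card_dvd (O_le _ _))) (pg_coprime_pg (pg_of_card cq') (O_pg _) ne.symm) k)))
    exact ⟨_, ord_mul' hp hq ne xp e2 (cc_le_C1 (mem_zpowers _) hx.2)⟩
  have nomix : ∀ {p q} {g : G}, p.Prime → q.Prime → p ∣ #B → orderOf g = p * q → q ∣ #B := fun {p q g} hp hq a k => by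
    by_contra b
    have xp := orderOf_pow_orderOf_div (orderOf_pos g).ne' (k ▸ dvd_mul_right p q)
    have yq := orderOf_pow_orderOf_div (orderOf_pos g).ne' (k ▸ dvd_mul_left q p)
    have c : g ^ (orderOf g / q) ∈ C1 (g ^ (orderOf g / p)) := mem_C1.2 (pow_mul_comm _ _ _)
    generalize g ^ (orderOf g / p) = x at *
    generalize g ^ (orderOf g / q) = y at *
    have x1 : f x ≠ 1 := fun k => hp.one_lt.ne' (Nat.eq_one_of_dvd_coprimes c1 a (xp ▸ orderOf_dvd k))
    have hx : f x ∈ K.map f := (piE_map f (piE_iff.2 fun r hr d => (xp ▸ d).trans (cB ▸ a))).mem_hall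
      (Hall.of_sup (isPi_self _) (pi_of_coprime c2) nn_normal) (hC.ge (mem_top _)) (nn_normal (mem_top _))
    have hy := reg_cent r2 nn_normal (hC.ge (mem_top (f y))) hx x1 (mem_C1.2 (by rw [← map_mul, ← map_mul, mem_C1.1 c]))
    exact x1 (reg_cent r1 nn_normal (hB.ge (comap_map_eq_self (f := f) (hB ▸ le_sup_left : f.ker ≤ K) ▸ hx))
      (orderOf_eq_one_iff.1 (Nat.eq_one_of_dvd_coprimes ((Nat.Prime.coprime_iff_not_dvd hq).2 b) (yq ▸ orderOf_map_dvd f y)
        (cB ▸ orderOf_dvd hy))) (Solv.ne_one_of_orderOf_prime (yq ▸ hq)) (mem_C1_comm.1 c))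
  haveI : Group.IsSolvable Q := Solv.isSolvable_top_iff.1 (hC ▸ sol_sup_l inferInstance (sol_of_ab (ab_of_cyc cy)) nn_normal)
  refine ⟨Group.isSolvable_of_ker_le_range f.ker.subtype f (range_subtype _).ge, Nat.odd_iff.2 (by omega), cy, k1, k2,
    Nat.Coprime.mul_right c1 (cB ▸ c2.symm), fun p q hp hq ne a b => ⟨fun ⟨g, k⟩ => ⟨fun h => nomix hp hq h k, fun h =>
      nomix hq hp h (k.trans (mul_comm _ _))⟩, fun h => ?_⟩⟩
  by_cases k : p ∣ #B
  · exact nil_ord nB hp hq ne k (h.1 k)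
  rw [cG, mul_right_comm] at a b
  rcases hp.dvd_mul.1 ((hp.dvd_mul.1 a).resolve_right k) with a | a <;>
    rcases hq.dvd_mul.1 ((hq.dvd_mul.1 b).resolve_right (mt h.2 k)) with b | b
  · exact nil_ord nH hp hq ne a b
  · exact mix hp hq ne a b
  · exact mul_comm p q ▸ mix hq hp ne.symm b a
  obtain ⟨c, hc⟩ := nil_ord (nil_of_ab (ab_of_cyc cy)) hp hq ne a b
  obtain ⟨g, rfl⟩ := sj c
  exact ⟨_, orderOf_pow_orderOf_div (orderOf_pos g).ne' (hc ▸ orderOf_map_dvd f g)⟩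

theorem thm_4001 (H K : Subgroup G) [H.Normal] [K.Normal] (hlt : H < K)
    (hK : ∃ C : Subgroup ↥K, IsFrobeniusComplement C ∧ frobeniusKernel C = (H.subgroupOf K : Set ↥K))
    (hGH : ∃ C : Subgroup (G ⧸ H), IsFrobeniusComplement C ∧ frobeniusKernel C = (K.map (QuotientGroup.mk' H) : Set (G ⧸ H))) :
    Group.IsSolvable G ∧ Odd (#(↥K ⧸ H.subgroupOf K)) ∧
      Nat.Coprime (#(↥K ⧸ H.subgroupOf K)) (#↥H * #(G ⧸ K)) ∧ IsCyclic (G ⧸ K) ∧
      ∀ p q : ℕ, p.Prime → q.Prime → p ≠ q → p ∣ #G → q ∣ #G →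
        ((∃ g : G, orderOf g = p * q) ↔ (p ∣ #(↥K ⧸ H.subgroupOf K) ↔ q ∣ #(↥K ⧸ H.subgroupOf K))) := by
  obtain ⟨B, b1, b2⟩ := hK
  obtain ⟨C, c1, c2⟩ := hGH
  obtain ⟨b1, b2, b3, b4⟩ := frob_data b1 b2
  obtain ⟨c1, c2, -, c4⟩ := frob_data c1 c2
  have k := QuotientGroup.ker_mk' H
  obtain ⟨a1, a2, a3, a4, a5, a6, a7⟩ := core_4001 (B := B.map K.subtype) (QuotientGroup.mk'_surjective H) (by
      rw [k, ← Solv.subgroupOf_map_subtype_of_le hlt.le, ← Subgroup.map_sup, b1, ← MonoidHom.range_eq_map, range_subtype])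
    (by
      rintro _ ⟨x, hx, rfl⟩ x1
      refine eq_bot_iff.2 fun y hy => congrArg Subtype.val (eq_one_of_inf (b2 x hx fun e => x1 (by simp [e]))
        (x := ⟨y, hlt.le (k ▸ hy.1)⟩) (k ▸ hy.1 : y ∈ H) (mem_C1.2 (Subtype.ext (mem_C1.1 hy.2)))))
    (fun e => b3 (by rw [← k, e, bot_subgroupOf])) (mt (map_eq_bot_iff_of_injective _ K.subtype_injective).1 b4) c1 c2 c4
  rw [k] at a4 a6
  rw [show #(↥K ⧸ H.subgroupOf K) = _ from a4, show #(G ⧸ K) = _ from a5]
  refine ⟨a1, a2, a6, isCyclic_of_surjective ((QuotientGroup.map H K (MonoidHom.id G) hlt.le).comp C.subtype) fun y => ?_, a7⟩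
  obtain ⟨g, rfl⟩ := QuotientGroup.mk'_surjective K y
  obtain ⟨_, ⟨x, hx, rfl⟩, c, hc, e⟩ := (mem_sup_l nn_normal).1 (c1.ge (mem_top (QuotientGroup.mk' H g)))
  have := congrArg (QuotientGroup.map H K (MonoidHom.id G) hlt.le) e
  rw [map_mul, show QuotientGroup.map H K (MonoidHom.id G) hlt.le (QuotientGroup.mk' H x) = 1 from
    (QuotientGroup.eq_one_iff x).2 hx, one_mul] at this
  exact ⟨⟨c, hc⟩, this.symm⟩

end Cfsg.Agent.PU
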