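/-
Solvable groups with disconnected prime graph; Dedekind groups.
-/
import Cfsg.Agent.Lib.PU.Ms7
import Cfsg.Agent.Lib.Transfer.PG
import Cfsg.Agent.Lib.BG.Pgp

set_option autoImplicit false
set_option linter.unusedSectionVars false
set_option linter.unusedVariables false
set_option linter.style.haveILetI false
set_option linter.unusedSimpArgs false

namespace Cfsg.Agent.PU

open Subgroup Cfsg.Agent.Transfer Cfsg.Agent.MS
open scoped commutatorElement

universe u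
variable {G : Type u} [Group G] [Finite G]
variable {A B C E H K M N P Q R S U V W X Y Z : Subgroup G} {a b g t u v w x y z : G} {k p : ℕ} {π : Set ℕ}

/-- no edge of the prime graph joins `π` to its complement -/
def Disc (π : Set ℕ) (G : Type u) [Group G] : Prop :=
  ∀ a ∈ π, ∀ b ∉ π, a.Prime → b.Prime → ¬ ∃ g : G, orderOf g = a * b

theorem Disc.compl (h : Disc π G) : Disc πᶜ G := fun a ha b hb a1 b1 => mul_comm b a ▸ h b (not_not.1 hb) a ha b1 a1

theorem Disc.quot {L : Type u} [Group L] [Finite L] {f : G →* L} (sj : Function.Surjective f) (h : Disc π G) : Disc π L :=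
  fun a ha b hb a1 b1 ⟨g, hg⟩ => by
    obtain ⟨g, rfl⟩ := sj g
    exact h a ha b hb a1 b1 ⟨_, orderOf_pow_orderOf_div (orderOf_pos g).ne' (hg ▸ orderOf_map_dvd f g)⟩

theorem Disc.reg (h : Disc π G) (hK : IsPi π K) (hR : IsPi πᶜ R) : Reg K R := fun x hx x1 => by_contra fun e => by
  obtain ⟨q, hq, d⟩ := exists_prime_dvd e
  obtain ⟨y, hy, yq⟩ := Solv.exists_subgroup_card_prime hq d
  obtain ⟨r, hr, d'⟩ := exists_prime_dvd (mt zpowers_eq_bot.1 x1)
  obtain ⟨z, hz, zr⟩ := Solv.exists_subgroup_card_prime hr d'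
  have a := hK q hq (d.trans (card_dvd inf_le_left))
  have b := hR r hr (d'.trans (card_dvd (zpowers_le.2 hx)))
  exact h q a r b hq hr ⟨_, ord_mul' hq hr (fun e => b (e ▸ a)) yq zr (C1_le_of_mem_zpowers hz hy.2)⟩

theorem core_3857 (hs : Group.IsSolvable G) (h : Disc π G) (hb : ¬ IsPi π (⊤ : Subgroup G)) {L : Type u} [Group L] [Finite L]
    {f : G →* L} (sj : Function.Surjective f) (hf : f.ker = O π ⊤) (h0 : f.ker ≠ ⊥) :
    ∃ K B : Subgroup G, K.Normal ∧ f.ker ⊔ B = K ∧ Reg f.ker B ∧ B ≠ ⊥ ∧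
      (K = ⊤ ∨ ∃ C, K.map f ⊔ C = ⊤ ∧ Reg (K.map f) C ∧ C ≠ ⊥) := by
  have pk : IsPi π f.ker := hf ▸ O_pi _ _
  have sL : Group.IsSolvable (⊤ : Subgroup L) := have := Group.isSolvable_of_surjective sj; inferInstance
  have mt' : (⊤ : Subgroup G).map f = ⊤ := map_top_of_surjective f sj
  have o0 : O π (⊤ : Subgroup L) = ⊥ := by rw [← mt', ← map_O f (pk.mono inf_le_right), ← hf, map_ker_self]
  have FD : F (⊤ : Subgroup L) ≤ O πᶜ ⊤ := by
    rw [← nil_O_sup (F_nil (⊤ : Subgroup L)) π]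
    exact sup_le ((O_le_O le_top (nn_F nn_top)).trans (o0 ▸ bot_le)) (O_le_O le_top (nn_F nn_top))
  have d0 : O πᶜ (⊤ : Subgroup L) ≠ ⊥ := fun e => F_ne_bot sL (fun e => hb (by
    rw [← mt', Subgroup.map_eq_bot_iff] at e; exact pk.mono e)) (le_bot_iff.1 (e ▸ FD))
  haveI nD : (O πᶜ (⊤ : Subgroup L)).Normal := normalizer_eq_top_iff.1 (top_le_iff.1 (nn_O nn_top))
  generalize hD : O πᶜ (⊤ : Subgroup L) = D at *
  have pD : IsPi πᶜ D := hD ▸ O_pi _ _
  obtain ⟨B, hB⟩ := exists_hall (sol_mono (K := ⊤) inferInstance (le_top : D.comap f ≤ ⊤)) πᶜ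
  have e0 : (D.comap f).map f = D := map_comap_eq_self_of_surjective sj D
  have e : B.map f = D := (e0 ▸ hB.map f).eq_self pD
  have r1 : Reg f.ker B := h.reg pk hB.pi
  have b0 : B ≠ ⊥ := fun k => d0 (by rw [← e, k, Subgroup.map_bot])
  refine ⟨D.comap f, B, inferInstance, by rw [← e, comap_map_eq, sup_comm], r1, b0, or_iff_not_imp_left.2 fun hK => ?_⟩
  obtain ⟨C, hC⟩ := exists_hall sL π
  have c0 : C ≠ ⊥ := fun k => hK (by rw [← hD, O_eq_self (hC.eq_bot_iff.1 k), comap_top])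
  have r2 : Reg D C := ((h.quot sj).reg hC.pi pD).symm
  rw [e0]
  refine ⟨C, ?_, r2, c0⟩
  have d1 := Solv.inf_eq_bot_of_fpf r1
  have i : ∀ x ∈ B, f x = 1 → x = 1 := fun x hx e => eq_one_of_inf d1 e hx
  have q : B ≃* D := (MonoidHom.ofInjective (f := f.domRestrict B) ((injective_iff_map_eq_one _).2 fun x e =>
    Subtype.ext (i x x.2 e))).trans (MulEquiv.subgroupCongr ((f.domRestrict_range B).trans e))
  have nD := r2.nil nn_normal c0
  have o : ¬ 2 ∣ #B := fun d => by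
    obtain ⟨t, ht, t2⟩ := Solv.exists_subgroup_card_prime Nat.prime_two d
    obtain ⟨c, hc, c1⟩ := exists_ne_one c0
    obtain ⟨s, hs, k⟩ := e.ge (conj_mem_of_mem_normalizer (nn_normal (mem_top c)) (e.le (mem_map_of_mem f ht)))
    have t1 : f t ≠ 1 := fun k => ne_one_of_orderOf t2 (i t ht k)
    have := Solv.invol_unique_of_fpf nn_normal r1 h0 ht hs t2 (orderOf_eq_prime (i _ (pow_mem hs 2) (by
      rw [map_pow, k, conj_pow, ← map_pow, ← t2, pow_orderOf_eq_one]; simp)) fun k' => t1 (by simpa [k'] using k.symm))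
    exact t1 (eq_one_of_inf (r2 c hc c1) (e.le (mem_map_of_mem f ht)) (mem_C1_comm.1 (mem_C1_of_conj (k.symm.trans (this ▸ rfl)))))
  haveI := Solv.isZGroup_of_fpf_of_odd nn_normal r1 h0 o
  haveI nB := Group.nilpotent_of_mulEquiv q.symm
  have cyD : IsCyclic D := q.isCyclic.1 inferInstance
  have dd : ⁅(⊤ : Subgroup L), (⊤ : Subgroup L)⁆ ≤ D := (le_inf le_top ((der_cc_of_cyc cyD nn_normal).trans
    (cc_anti FD))).trans ((cc_F_le sL).trans FD)
  obtain ⟨E, hE, DE⟩ := exists_hall_ge sL le_top pD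
  rw [sup_comm, ← le_antisymm (hD ▸ le_O le_top (nn_of_der_le (dd.trans DE) le_top) hE.pi) DE]
  exact hC.sup hE

theorem thm_3857 (hsol : Group.IsSolvable G)
    (hdisc : (∃ A : Set ℕ, (∃ a ∈ A, a.Prime ∧ a ∣ #G) ∧ (∃ b ∉ A, b.Prime ∧ b ∣ #G) ∧
      ∀ a ∈ A, ∀ b ∉ A, a.Prime → b.Prime → a ∣ #G → b ∣ #G → ¬ ∃ g : G, orderOf g = a * b)) :
    (∃ C : Subgroup G, IsFrobeniusComplement C) ∨
    (∃ (H K : Subgroup G) (_ : H.Normal), K.Normal ∧ H < K ∧
      (∃ C : Subgroup ↥K, IsFrobeniusComplement C ∧ frobeniusKernel C = (H.subgroupOf K : Set ↥K)) ∧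
      (∃ C : Subgroup (G ⧸ H), IsFrobeniusComplement C ∧ frobeniusKernel C = (K.map (QuotientGroup.mk' H) : Set (G ⧸ H)))) := by
  obtain ⟨π, h, hb, h0⟩ : ∃ π, Disc π G ∧ ¬ IsPi π (⊤ : Subgroup G) ∧ O π (⊤ : Subgroup G) ≠ ⊥ := by
    obtain ⟨π, ⟨a, a1, a2, a3⟩, ⟨b, b1, b2, b3⟩, h⟩ := hdisc
    have d : Disc π G := fun a ha b hb a1 b1 ⟨g, hg⟩ => h a ha b hb a1 b1
      ((Dvd.intro _ hg.symm).trans (orderOf_dvd_natCard g)) ((Dvd.intro_left _ hg.symm).trans (orderOf_dvd_natCard g)) ⟨g, hg⟩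
    by_cases e : O π (⊤ : Subgroup G) = ⊥
    · refine ⟨πᶜ, d.compl, fun k => k a a2 (by rwa [card_top]) a1, fun k => F_ne_bot inferInstance
        (ne_bot_of_dvd a2 (by rwa [card_top])) (H := (⊤ : Subgroup G)) (le_bot_iff.1 ?_)⟩
      rw [← nil_O_sup (F_nil (⊤ : Subgroup G)) π]
      exact sup_le (e ▸ O_le_O le_top (nn_F nn_top)) (k ▸ O_le_O le_top (nn_F nn_top))
    · exact ⟨π, d, fun k => b1 (k b b2 (by rwa [card_top])), e⟩
  haveI nH : (O π (⊤ : Subgroup G)).Normal := normalizer_eq_top_iff.1 (top_le_iff.1 (nn_O nn_top))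
  generalize hH : O π (⊤ : Subgroup G) = H at *
  have k := QuotientGroup.ker_mk' H
  obtain ⟨K, B, a1, a2, a3, a4, a5⟩ := core_3857 hsol h hb (QuotientGroup.mk'_surjective H) (k.trans hH.symm) (k.symm ▸ h0)
  rw [k] at a2 a3
  rcases a5 with rfl | ⟨C, c1, c2, c3⟩
  · exact Or.inl ⟨B, Solv.isFrobeniusComplement_of_fpf a2 h0 a4 a3⟩
  have l1 : H ≤ K := a2 ▸ le_sup_left
  have l2 : B ≤ K := a2 ▸ le_sup_right
  have lt : H < K := lt_of_le_of_ne l1 fun e => a4 (eq_bot_of_le (Solv.inf_eq_bot_of_fpf a3) (e ▸ l2) le_rfl)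
  have s : H.subgroupOf K ⊔ B.subgroupOf K = ⊤ := by rw [← subgroupOf_sup l1 l2, a2, subgroupOf_self]
  have r : Reg (H.subgroupOf K) (B.subgroupOf K) := fun x hx x1 => eq_bot_iff.2 fun y hy => Subtype.ext
    (eq_one_of_inf (a3 x hx fun e => x1 (Subtype.ext e)) hy.1 (mem_C1.2 (congrArg Subtype.val (mem_C1.1 hy.2))))
  haveI := Normal.map a1 _ (QuotientGroup.mk'_surjective H)
  exact Or.inr ⟨H, K, nH, a1, lt, ⟨_, Solv.isFrobeniusComplement_of_fpf s
    (fun e => h0 (by simpa [inf_eq_left.2 l1, disjoint_iff] using subgroupOf_eq_bot.1 e))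
    (fun e => a4 (by simpa [inf_eq_left.2 l2, disjoint_iff] using subgroupOf_eq_bot.1 e)) r,
    Solv.frobeniusKernel_eq_of_normal s r⟩, C, Solv.isFrobeniusComplement_of_fpf c1
      (fun e => lt.not_ge (k ▸ (Subgroup.map_eq_bot_iff _).1 e)) c3 c2, Solv.frobeniusKernel_eq_of_normal c1 c2⟩

section ded
variable (hn : ∀ H : Subgroup G, H.Normal)
include hn

theorem ded_l (x y : G) : ⁅x, y⁆ ∈ zpowers x := by
  rw [commutatorElement_def, mul_assoc, mul_assoc, ← mul_assoc y]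
  exact mul_mem (mem_zpowers x) ((hn _).conj_mem _ (inv_mem (mem_zpowers x)) y)

theorem ded_r (x y : G) : ⁅x, y⁆ ∈ zpowers y := by rw [← commutatorElement_inv]; exact inv_mem (ded_l hn y x)

theorem ded_core (h0 : ¬ Commute x y) (hm : ∀ a b : G, orderOf a + orderOf b < orderOf x + orderOf y → Commute a b)
    (hl : orderOf y ≤ orderOf x) : orderOf x = 4 ∧ y * x * y⁻¹ = x⁻¹ ∧ y ^ 2 = x ^ 2 := by
  have c1 : ⁅x, y⁆ ≠ 1 := mt commutatorElement_eq_one_iff_commute.1 h0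
  have lt : ∀ (a : G) q, q.Prime → q ∣ orderOf a → orderOf (a ^ q) < orderOf a := fun a q hq d => by
    rw [orderOf_pow_of_dvd hq.ne_zero d]; exact Nat.div_lt_self (orderOf_pos a) hq.one_lt
  have hx : ∀ q, q.Prime → q ∣ orderOf x → Commute (x ^ q) y ∧ q = orderOf ⁅x, y⁆ := fun q hq d => by
    have k := hm _ y (Nat.add_lt_add_right (lt x q hq d) _)
    haveI := Fact.mk hq
    exact ⟨k, (orderOf_eq_prime (by rw [← comm_pow_left (Solv.commute_of_mem_zpowers (ded_l hn x y)),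
      k.commutator_eq]) c1).symm⟩
  have hy : ∀ q, q.Prime → q ∣ orderOf y → q = orderOf ⁅x, y⁆ := fun q hq d => by
    haveI := Fact.mk hq
    exact (orderOf_eq_prime (by rw [← comm_pow_right (Solv.commute_of_mem_zpowers (ded_r hn x y)),
      (hm x _ (Nat.add_lt_add_left (lt y q hq d) _)).commutator_eq]) c1).symm
  have x1 : orderOf x ≠ 1 := fun e => h0 (orderOf_eq_one_iff.1 e ▸ Commute.one_left y)
  have y1 : orderOf y ≠ 1 := fun e => h0 (orderOf_eq_one_iff.1 e ▸ Commute.one_right x)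
  obtain ⟨p, hp, d⟩ := Nat.exists_prime_and_dvd x1
  obtain ⟨xp, hc⟩ := hx p hp d
  obtain ⟨r, hr⟩ : ∃ r, orderOf x = p ^ (r + 1) := by
    have := Nat.eq_prime_pow_of_unique_prime_dvd (orderOf_pos x).ne' fun a b => (hx _ a b).2.trans hc.symm
    rcases e : (orderOf x).primeFactorsList.length with _ | r <;> rw [e] at this
    exacts [absurd this x1, ⟨r, this⟩]
  obtain ⟨s, hs⟩ : ∃ r, orderOf y = p ^ (r + 1) := by
    have := Nat.eq_prime_pow_of_unique_prime_dvd (orderOf_pos y).ne' fun a b => (hy _ a b).trans hc.symm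
    rcases e : (orderOf y).primeFactorsList.length with _ | r <;> rw [e] at this
    exacts [absurd this y1, ⟨r, this⟩]
  have z : ∀ (a : G) r, orderOf a = p ^ (r + 1) → ⁅x, y⁆ ∈ zpowers a → zpowers ⁅x, y⁆ = zpowers (a ^ p ^ r) := fun a r h1 h2 =>
    cyc_eq (cyc_zpowers a) (zpowers_le.2 h2) (zpowers_le.2 (pow_mem (mem_zpowers a) _)) (by
      rw [Nat.card_zpowers, Nat.card_zpowers, ← hc, orderOf_pow_of_dvd (pow_pos hp.pos r).ne' (h1 ▸ pow_dvd_pow p r.le_succ),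
        h1, pow_succ, Nat.mul_div_cancel_left _ (pow_pos hp.pos r)])
  have z1 := z x r hr (ded_l hn x y)
  have z2 := z y s hs (ded_r hn x y)
  obtain ⟨j, rfl⟩ := Nat.exists_eq_add_of_le (show s ≤ r by
    rw [hr, hs, Nat.pow_le_pow_iff_right hp.one_lt] at hl; omega)
  obtain ⟨k, hk⟩ := mem_powers_iff_mem_zpowers.2 (z1 ▸ z2 ▸ mem_zpowers _ : y ^ p ^ s ∈ zpowers (x ^ p ^ (s + j)))
  have m := Solv.mul_pow_of_comm (x := (x ^ (p ^ j * k))⁻¹) (y := y) (c := ⁅y⁻¹, x ^ (p ^ j * k)⁆)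
    (Solv.commute_of_mem_zpowers (ded_r hn _ _)).symm.inv_left
    (Commute.inv_left_iff.1 (Solv.commute_of_mem_zpowers (ded_l hn _ _)).symm) (by simp [commutatorElement_def, mul_assoc]) (p ^ s)
  simp only at hk
  rw [← hk, inv_pow, ← pow_mul, ← pow_mul, pow_add, mul_comm _ (p ^ s), mul_assoc (p ^ s), inv_mul_cancel, one_mul] at m
  have n1 : ⁅y⁻¹, x ^ (p ^ j * k)⁆ ^ (p ^ s).choose 2 ≠ 1 := fun e => h0 (by
    have := hm x _ (Nat.add_lt_add_left ((Nat.le_of_dvd (pow_pos hp.pos s) (orderOf_dvd_of_pow_eq_one (m.trans e))).trans_lt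
      (hs ▸ Nat.pow_lt_pow_right hp.one_lt s.lt_succ_self)) _)
    simpa using (Commute.self_pow x (p ^ j * k)).mul_right this)
  have dp : ⁅y⁻¹, x ^ (p ^ j * k)⁆ ^ p = 1 := by
    rw [← comm_pow_right (Solv.commute_of_mem_zpowers (ded_r hn _ _)), ← pow_mul, mul_comm, pow_mul]
    exact (xp.pow_left _).symm.inv_left.commutator_eq
  have nd : ¬ p ∣ (p ^ s).choose 2 := fun ⟨i, e⟩ => n1 (by rw [e, pow_mul, dp, one_pow])
  obtain rfl : j = 0 := by_contra fun e => n1 (by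
    obtain ⟨j, rfl⟩ := Nat.exists_eq_succ_of_ne_zero e
    rw [pow_succ', mul_assoc, pow_mul, (xp.pow_left _).symm.inv_left.commutator_eq, one_pow])
  have s0 : s ≠ 0 := by rintro rfl; simp at nd
  obtain ⟨rfl, rfl⟩ : p = 2 ∧ s = 1 := by
    obtain ⟨s, rfl⟩ := Nat.exists_eq_add_one_of_ne_zero s0
    have e : p * (p ^ s * (p ^ (s + 1) - 1)) = (p ^ (s + 1)).choose 2 * 2 := by
      have := Nat.add_one_mul_choose_eq (p ^ (s + 1) - 1) 1
      rw [Nat.sub_add_cancel (Nat.one_le_pow _ _ hp.pos), Nat.choose_one_right] at this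
      rwa [← mul_assoc, ← pow_succ']
    obtain rfl : p = 2 := (Nat.prime_dvd_prime_iff_eq hp Nat.prime_two).1 ((hp.dvd_mul.1 ⟨_, e.symm⟩).resolve_left nd)
    refine ⟨rfl, by_contra fun k => nd ?_⟩
    obtain ⟨s, rfl⟩ := Nat.exists_eq_add_one_of_ne_zero (fun e => k (by simp [e]) : s ≠ 0)
    exact ⟨2 ^ s * (2 ^ (s + 1 + 1) - 1), by rw [pow_succ' 2 s, mul_assoc] at e; omega⟩
  have u : ∀ a : G, zpowers ⁅x, y⁆ = zpowers a → a = ⁅x, y⁆ := fun a e => by
    have h2 : #(zpowers ⁅x, y⁆) = 2 := (Nat.card_zpowers _).trans hc.symm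
    obtain ⟨w, -, hw⟩ := (Nat.card_eq_two_iff' (1 : zpowers ⁅x, y⁆)).1 h2
    exact congrArg Subtype.val ((hw ⟨a, e ▸ mem_zpowers a⟩ fun k => c1 (by
      rwa [show a = 1 from congrArg Subtype.val k, zpowers_one_eq_bot, zpowers_eq_bot] at e)).trans
      (hw ⟨_, mem_zpowers _⟩ fun k => c1 (congrArg Subtype.val k)).symm)
  have u1 := u _ z1
  refine ⟨hr, ?_, (u _ z2).trans u1.symm⟩
  rw [commutatorElement_def, show 2 ^ (1 + 0) = 2 from rfl, pow_two, mul_assoc, mul_assoc, mul_right_inj] at u1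
  calc y * x * y⁻¹ = (y * (x⁻¹ * y⁻¹))⁻¹ := by group
    _ = x⁻¹ := by rw [← u1]

theorem ded_exists (h : ¬ IsMulCommutative G) :
    ∃ x y : G, ¬ Commute x y ∧ orderOf x = 4 ∧ y * x * y⁻¹ = x⁻¹ ∧ y ^ 2 = x ^ 2 := by
  classical
  have ex : ∃ n, ∃ x y : G, ¬ Commute x y ∧ orderOf x + orderOf y = n := by
    by_contra e
    exact h ⟨⟨fun x y => by_contra fun k => e ⟨_, x, y, k, rfl⟩⟩⟩
  obtain ⟨x, y, h1, h2⟩ := Nat.find_spec ex
  have hm : ∀ a b : G, orderOf a + orderOf b < orderOf x + orderOf y → Commute a b := fun a b l =>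
    by_contra fun k => Nat.find_min ex (h2 ▸ l) ⟨a, b, k, rfl⟩
  rcases le_total (orderOf y) (orderOf x) with l | l
  · exact ⟨x, y, h1, ded_core hn h1 hm l⟩
  · exact ⟨y, x, mt Commute.symm h1, ded_core hn (mt Commute.symm h1) (add_comm (orderOf x) _ ▸ hm) l⟩

theorem thm_4211 (hna : ¬ IsMulCommutative G) : ∃ Q E A : Subgroup G, Nonempty (Q ≃* QuaternionGroup 2) ∧
    IsElementaryAbelian 2 E ∧ IsMulCommutative A ∧ Odd (#A) ∧ E ⊓ A = ⊥ ∧ Q ⊓ (E ⊔ A) = ⊥ ∧ Q ⊔ (E ⊔ A) = ⊤ := by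
  obtain ⟨x, y, h0, h1, h2, h3⟩ := ded_exists hn hna
  have x4 : x ^ 4 = 1 := h1 ▸ pow_orderOf_eq_one x
  have x2 : x ^ 2 ≠ 1 := pow_ne_one_of_lt_orderOf two_ne_zero (by omega)
  obtain ⟨q⟩ := nonempty_quaternion_closure (n := 2) h1 h2 h3 fun e => h0 (Solv.commute_of_mem_zpowers e).symm
  have cj4 : ∀ a g : G, a ^ 4 = 1 → g * a * g⁻¹ = a ∨ g * a * g⁻¹ = a⁻¹ := fun a g h => by
    obtain ⟨k, hk⟩ := (hn _).conj_mem _ (mem_zpowers a) g
    obtain ⟨l, hl⟩ := (hn _).conj_mem _ (mem_zpowers a) g⁻¹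
    have e : ∀ i j : ℤ, a ^ (4 * i + j) = a ^ j := fun i j => by
      rw [zpow_add, zpow_mul, zpow_ofNat, h, one_zpow, one_mul]
    simp only at hk hl
    rcases Int.even_or_odd' k with ⟨j, rfl | rfl⟩
    · have : a = a ^ (2 * (j * l)) := by
        calc a = g⁻¹ * a ^ (2 * j) * g⁻¹⁻¹ := by rw [hk]; group
          _ = _ := by rw [← conj_zpow, ← hl, ← zpow_mul]; congr 1; ring
      have : a = 1 := by
        calc a = a ^ (4 * (j * l * (j * l)) + 0) := by
              rw [add_zero, show 4 * (j * l * (j * l)) = 2 * (j * l) * (2 * (j * l)) by ring, zpow_mul, ← this, ← this]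
          _ = 1 := by rw [e, zpow_zero]
      simp [this]
    · rcases Int.even_or_odd' j with ⟨i, rfl | rfl⟩
      · left; rw [← hk, show 2 * (2 * i) + 1 = 4 * i + 1 by ring, e, zpow_one]
      · right; rw [← hk, show 2 * (2 * i + 1) + 1 = 4 * (i + 1) + -1 by ring, e, zpow_neg_one]
  have cen : ∀ d : G, d ^ 2 = 1 → ∀ g, g * d = d * g := fun d h g => by
    rw [← mul_inv_eq_iff_eq_mul]
    exact (cj4 d g (by rw [show 4 = 2 * 2 from rfl, pow_mul, h, one_pow])).elim id fun e =>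
      e.trans (inv_eq_of_mul_eq_one_right (pow_two d ▸ h))
  let D : Subgroup G :=
    { carrier := {d | d ^ 2 = 1}, one_mem' := one_pow 2, inv_mem' := fun h => by simpa using h
      mul_mem' := fun {a b} ha hb => (Commute.mul_pow (cen b hb a) 2).trans (by rw [ha, hb, one_mul]) }
  have eD : IsElementaryAbelian 2 D := ⟨comm_iff.2 fun a _ b hb => cen b hb a, fun _ h => h⟩
  have cD : zpowers (x ^ 2) ≤ D := zpowers_le.2 ((pow_mul x 2 2).symm.trans x4)
  obtain ⟨E, e1, e2⟩ := BG.exists_compl_of_elem eD cD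
  have eE : E ≤ D := e2 ▸ le_sup_right
  have oA : ¬ 2 ∣ #(O {2}ᶜ (⊤ : Subgroup G)) := pi_compl_iff.1 (O_pi _ _)
  have mA : ∀ a, PiE {2}ᶜ a → a ∈ O {2}ᶜ (⊤ : Subgroup G) := fun a h =>
    zpowers_le.1 (le_O le_top (haveI := hn (zpowers a); nn_normal) h)
  have o1 : ∀ a ∈ O {2}ᶜ (⊤ : Subgroup G), a ^ 2 ^ 2 = 1 → a = 1 := fun a ha h => orderOf_eq_one_iff.1
    (Nat.eq_one_of_dvd_coprimes (((Nat.Prime.coprime_iff_not_dvd Nat.prime_two).2 oA).pow_left 2)
      (orderOf_dvd_of_pow_eq_one h) (orderOf_dvd ha))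
  have xQ : x ∈ closure {x, y} := subset_closure (by simp)
  have yQ : y ∈ closure {x, y} := subset_closure (by simp)
  refine ⟨_, E, O {2}ᶜ ⊤, ⟨q⟩, elem_mono eD eE, by_contra fun e => ?_, Nat.odd_iff.2 (Nat.two_dvd_ne_zero.1 oA),
    eq_bot_iff.2 fun a ha => o1 a ha.2 (by rw [pow_two 2, pow_mul, eE ha.1, one_pow]), eq_bot_iff.2 fun a ⟨ha, hb⟩ => ?_,
    eq_top_iff.2 fun g _ => ?_⟩
  · obtain ⟨a, -, -, h, -⟩ := ded_exists (G := O {2}ᶜ (⊤ : Subgroup G))
      (fun H => by rw [← comap_map_eq_self_of_injective (subtype_injective _) H]; exact (hn _).comap _) e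
    exact oA ((show 2 ∣ 4 by norm_num).trans (h ▸ orderOf_dvd_natCard a))
  · haveI := hn E
    obtain ⟨e, he, b, hb', rfl⟩ := (mem_sup_l nn_normal).1 hb
    have k : ∀ z : QuaternionGroup 2, z ^ 2 ^ 2 = 1 ∧ ∀ w : QuaternionGroup 2, z ^ 2 = 1 → w ^ 2 ≠ 1 → z = 1 ∨ z = w ^ 2 := by
      decide
    have k1 := congrArg Subtype.val (q.injective ((map_pow q _ _).trans ((k (q ⟨_, ha⟩)).1.trans q.map_one.symm)))
    obtain rfl : b = 1 := o1 b hb' (by
      rwa [coe_pow, Commute.mul_pow (cen e (eE he) b).symm, pow_two 2, pow_mul e, eE he, one_pow, one_mul, ← pow_two] at k1)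
    rw [mul_one] at ha ⊢
    rcases (k (q ⟨e, ha⟩)).2 (q ⟨x, xQ⟩) (by rw [← map_pow, ← q.map_one]; exact congrArg q (Subtype.ext (eE he)))
      (fun h => x2 (congrArg Subtype.val (q.injective ((map_pow q _ _).trans (h.trans q.map_one.symm))))) with h | h
    · exact congrArg Subtype.val (q.injective (h.trans q.map_one.symm))
    · have : e = x ^ 2 := congrArg Subtype.val (q.injective (h.trans (map_pow q _ _).symm))
      exact eq_one_of_inf e1 he (this ▸ mem_zpowers _)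
  · have y4 : y ^ 4 = 1 := by rw [show 4 = 2 * 2 from rfl, pow_mul, h3, ← pow_mul, x4]
    have h2' : x * y * x⁻¹ = y⁻¹ := (cj4 y x y4).resolve_left fun e => h0 (mul_inv_eq_iff_eq_mul.1 e)
    have cc : ∀ h : G, Commute h x → Commute h y → h ∈ closure {x, y} ⊔ (E ⊔ O {2}ᶜ ⊤) := fun h hx hy => by
      rw [← part_mul_part {2} h]
      refine mul_mem ((sup_le (le_sup_of_le_left (zpowers_le.2 (pow_mem xQ 2))) (le_sup_of_le_right le_sup_left) :
        zpowers (x ^ 2) ⊔ E ≤ _) (e2.ge ?_)) (mem_sup_right (mem_sup_right (mA _ (part_pi _ h))))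
      have b1 : Commute (part {2} h) x := mem_C1.1 (zpowers_le.2 (mem_C1.2 hx) (part_mem _ h))
      have b2 : Commute (part {2} h) y := mem_C1.1 (zpowers_le.2 (mem_C1.2 hy) (part_mem _ h))
      obtain ⟨n, hn'⟩ := pg_of_pi (part_pi {2} h) ⟨_, mem_zpowers _⟩
      replace hn' : part {2} h ^ 2 ^ n = 1 := congrArg Subtype.val hn'
      generalize part {2} h = b at *
      have four : ∀ b : G, Commute b x → Commute b y → b ^ 4 = 1 → b ^ 2 = 1 := fun b b1 b2 b4 => by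
        rcases cj4 (b * y) x (by rw [b2.mul_pow, b4, y4, one_mul]) with e | e
        · rw [← mul_assoc, ← b1.eq, mul_assoc, mul_assoc, mul_right_inj, ← mul_assoc] at e
          exact absurd (mul_inv_eq_iff_eq_mul.1 e) h0
        · rw [← mul_assoc, ← b1.eq, mul_assoc, mul_assoc, ← mul_assoc x, h2', b2.eq, mul_inv_rev,
            mul_left_inj] at e
          rw [pow_two]; exact mul_eq_one_iff_eq_inv.2 e
      induction n with
      | zero => simp [show b = 1 by simpa using hn']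
      | succ n ih =>
        rcases n with _ | n
        · exact hn'
        · exact ih (by rw [pow_succ, pow_mul]; exact four _ (b1.pow_left _) (b2.pow_left _) (by
            rw [← pow_mul, ← hn']; congr 1; ring))
    have cx : ∀ h : G, Commute h x → h ∈ closure {x, y} ⊔ (E ⊔ O {2}ᶜ ⊤) := fun h hx => by
      rcases cj4 y h y4 with e | e
      · exact cc h hx (mul_inv_eq_iff_eq_mul.1 e)
      · have := mul_mem (mem_sup_left (inv_mem xQ)) (cc (x * h) ((Commute.refl x).mul_left hx) (mul_inv_eq_iff_eq_mul.1 (by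
          calc x * h * y * (x * h)⁻¹ = x * (h * y * h⁻¹) * x⁻¹ := by group
            _ = y := by rw [e, ← conj_inv, h2', inv_inv])))
        rwa [inv_mul_cancel_left] at this
    rcases cj4 x g x4 with e | e
    · exact cx g (mul_inv_eq_iff_eq_mul.1 e)
    · have := mul_mem (mem_sup_left (inv_mem yQ)) (cx (y * g) (mul_inv_eq_iff_eq_mul.1 (by
        calc y * g * x * (y * g)⁻¹ = y * (g * x * g⁻¹) * y⁻¹ := by group
          _ = x := by rw [e, ← conj_inv, h2, inv_inv])))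
      rwa [inv_mul_cancel_left] at this

end ded

end Cfsg.Agent.PU
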