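/-
Schur's theorem on primitive groups with a regular cyclic subgroup; Hall subgroups of symmetric groups.
-/
import Cfsg.Agent.Lib.PU.Ms6
import Cfsg.Agent.S0713
import Cfsg.Prelude.Def_HallClasses

set_option autoImplicit false
set_option linter.unusedSectionVars false
set_option linter.unusedVariables false
set_option linter.style.haveILetI false
set_option linter.unusedSimpArgs false

namespace Cfsg.Agent.PU

open Subgroup Cfsg.Agent.Transfer Cfsg.Agent.MS MulAction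
open scoped commutatorElement Pointwise

universe u

section schur
variable {G K : Type*} [Group G] [Group K] [MulAction G K] (hι : ∀ k : K, ∃ g : G, ∀ x : K, g • x = k * x)
include hι

theorem sr_star (g : G) (x : K) : ∃ h : G, h • (1 : K) = 1 ∧ ∀ y, h • (x⁻¹ * y) = (g • x)⁻¹ * g • y := by
  obtain ⟨a, ha⟩ := hι x
  obtain ⟨b, hb⟩ := hι (g • x)⁻¹
  exact ⟨b * g * a, by simp [mul_smul, ha, hb], fun y => by simp [mul_smul, ha, hb]⟩

theorem sr_prim [IsPreprimitive G K] {L : Subgroup K} (hL : L ≠ ⊤) {y : K} (h : ∀ g : G, g • (1 : K) = 1 → g • y ∈ L) :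
    y = 1 := by
  let B : Subgroup K :=
    { carrier := {t | ∀ (g : G) (x : K), (g • x)⁻¹ * g • (x * t) ∈ L}
      one_mem' := fun g x => by simp
      mul_mem' := fun {s t} hs ht g x => by simpa [mul_assoc] using mul_mem (hs g x) (ht g (x * s))
      inv_mem' := fun {t} ht g x => by simpa using inv_mem (ht g (x * t⁻¹)) }
  have k : ∀ (g : G) (x : K), ∀ t ∈ B, (g • x)⁻¹ * g • (x * t) ∈ B := fun g x t ht g' x' => by
    obtain ⟨a, ha⟩ := hι (x' * (g • x)⁻¹)
    simpa [mul_smul, ha, mul_assoc] using ht (g' * a * g) x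
  have k' : ∀ (g : G), ∀ a ∈ B, g • a ∈ B → ∀ b ∈ B, g • b ∈ B := fun g a ha h b hb => by
    simpa using mul_mem h (k g a _ (mul_mem (inv_mem ha) hb))
  rcases IsPreprimitive.isTrivialBlock_of_isBlock (G := G) (B := (B : Set K)) (isBlock_iff_smul_eq_of_mem.2
    fun g a ha h => Set.Subset.antisymm (fun _ ⟨b, hb, e⟩ => e ▸ k' g a ha h b hb) fun b hb =>
      Set.mem_smul_set_iff_inv_smul_mem.2 (k' g⁻¹ _ h (by simpa using ha) b hb)) with e | e
  · refine e (fun g x => ?_) B.one_mem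
    obtain ⟨a, a1, a2⟩ := sr_star hι g x
    simpa [← a2] using h a a1
  · exact absurd (eq_top_iff.2 fun t _ => by simpa using (e.ge (Set.mem_univ t) : t ∈ B) 1 1) hL

end schur

theorem dvd_card_of_inv {K : Type*} [Group K] {p : ℕ} [hp : Fact p.Prime] {u : K} (hu : orderOf u = p) (S : Finset K)
    (h : ∀ x ∈ S, u * x ∈ S) : p ∣ S.card := by
  classical
  let f : Function.End S := fun x => ⟨u * x, h x x.2⟩
  have e : ∀ n x, ((f ^ n) x : K) = u ^ n * x := fun n => by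
    induction n with
    | zero => exact fun x => by rw [pow_zero u, one_mul]; rfl
    | succ n ih => intro x; rw [pow_succ, pow_succ, mul_assoc]; exact ih _
  have := Equiv.Perm.card_fixedPoints_modEq (f := f) (p := p) (n := 1) (funext fun x => Subtype.ext (by
    rw [e, pow_one, ← hu, pow_orderOf_eq_one, one_mul]; rfl))
  rw [Fintype.card_coe, Fintype.card_eq_zero_iff.2 ⟨fun x => hp.out.one_lt.ne' (hu ▸ orderOf_eq_one_iff.2
    (mul_eq_right.1 (congrArg Subtype.val x.2)))⟩] at this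
  exact (Nat.modEq_zero_iff_dvd).1 this

theorem schur_core {G K : Type*} [Group G] [CommGroup K] [Finite K] [MulAction G K]
    (hι : ∀ k : K, ∃ g : G, ∀ x : K, g • x = k * x) [IsPreprimitive G K] {p : ℕ} [hp : Fact p.Prime]
    (h1 : #(powMonoidHom p : K →* K).ker = p) (h2 : (powMonoidHom p : K →* K).ker ≠ ⊤) :
    IsMultiplyPretransitive G K 2 := by
  classical
  have := Fintype.ofFinite K
  generalize hP : (powMonoidHom p : K →* K).ker = P at h1 h2
  have mP : ∀ {x}, x ∈ P ↔ x ^ p = 1 := by simp [← hP]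
  let Γ : K → Finset K := fun y => Finset.univ.filter fun x => ∃ g : G, g • (1 : K) = 1 ∧ g • y = x
  have mΓ : ∀ {x y}, x ∈ Γ y ↔ ∃ g : G, g • (1 : K) = 1 ∧ g • y = x := by simp [Γ]
  have iv : ∀ {g : G}, g • (1 : K) = 1 → g⁻¹ • (1 : K) = 1 := fun h => inv_smul_eq_iff.2 h.symm
  have iΓ : ∀ {g : G} {x y}, g • (1 : K) = 1 → (g • x ∈ Γ y ↔ x ∈ Γ y) := fun {g x y} h => by
    have : ∀ {g : G} {x}, g • (1 : K) = 1 → x ∈ Γ y → g • x ∈ Γ y := fun {g x} h hx => by
      obtain ⟨a, a1, rfl⟩ := mΓ.1 hx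
      exact mΓ.2 ⟨g * a, by rw [mul_smul, a1, h], mul_smul _ _ _⟩
    exact ⟨fun k => by simpa using this (iv h) k, this h⟩
  have iΓ' : ∀ (g : G) {x z y}, (g • x)⁻¹ * g • z ∈ Γ y ↔ x⁻¹ * z ∈ Γ y := fun g {x z y} => by
    obtain ⟨a, a1, a2⟩ := sr_star hι g x
    rw [← a2, iΓ a1]
  have n1 : ∀ {y}, y ≠ 1 → 1 ∉ Γ y := fun hy h => by
    obtain ⟨a, a1, a2⟩ := mΓ.1 h
    exact hy (smul_left_cancel a (a2.trans a1.symm))
  have hR : (powMonoidHom p : K →* K).range ≠ ⊤ := fun e => by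
    rw [← hP, (MonoidHom.ker_eq_bot_iff _).2 (Finite.injective_iff_surjective.2 (MonoidHom.range_eq_top.1 e)), card_bot] at h1
    exact hp.out.one_lt.ne h1
  have cos : ∀ y x, x ∈ Γ y → x ∉ P → ∀ u ∈ P, u * x ∈ Γ y := fun y x hx hx' u hu => by
    let c : MonoidAlgebra (ZMod p) K := ∑ x ∈ Γ y, MonoidAlgebra.single x 1
    have cc : ∀ x, c.coeff x = if x ∈ Γ y then 1 else 0 := fun x => by
      simp [c, MonoidAlgebra.coeff_sum, Finsupp.single_apply]
    have ci : ∀ n, ∀ g : G, g • (1 : K) = 1 → ∀ x, (c ^ n).coeff (g • x) = (c ^ n).coeff x := fun n => by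
      induction n with
      | zero =>
        intro g hg x
        have : 1 = g • x ↔ 1 = x := by rw [← hg, smul_left_cancel_iff, hg]
        simp [MonoidAlgebra.one_def, Finsupp.single_apply, this]
      | succ n ih =>
        intro g hg x
        simp only [pow_succ, MonoidAlgebra.coeff_mul_apply_left]
        rw [Finsupp.sum_fintype _ _ (by simp), Finsupp.sum_fintype _ _ (by simp), ← Equiv.sum_comp (toPerm g)]
        simp only [toPerm_apply, ih g hg, cc, iΓ']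
    haveI : CharP (MonoidAlgebra (ZMod p) K) p := charP_of_injective_algebraMap
      (fun a b e => by simpa using congrArg (fun f => f.coeff 1) e : Function.Injective (algebraMap (ZMod p) _)) p
    have cp : ∀ z, (c ^ p).coeff z = (((Γ y).filter fun x => x ^ p = z).card : ZMod p) := fun z => by
      simp [c, sum_pow_char, MonoidAlgebra.single_pow, MonoidAlgebra.coeff_sum, Finsupp.single_apply]
    have d : p ∣ ((Γ y).filter fun z => z ^ p = x ^ p).card := by_contra fun k => hx' (mP.2 (sr_prim hι hR fun g hg => by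
      rw [← ZMod.natCast_eq_zero_iff, ← cp, ← ci p g hg, cp] at k
      obtain ⟨z, hz⟩ := Finset.card_pos.1 (Nat.pos_of_ne_zero fun e => k (by rw [e, Nat.cast_zero]))
      exact ⟨z, (Finset.mem_filter.1 hz).2⟩))
    have s : ((Γ y).filter fun z => z ^ p = x ^ p) ⊆ (Finset.univ.filter (· ∈ P)).image (· * x) := fun z hz =>
      Finset.mem_image.2 ⟨z / x, by simp [mP, div_pow, (Finset.mem_filter.1 hz).2], by simp⟩
    have := Finset.eq_of_subset_of_card_le s (Finset.card_image_le.trans (by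
      rw [← Fintype.card_subtype, ← Nat.card_eq_fintype_card, h1]
      exact Nat.le_of_dvd (Finset.card_pos.2 ⟨x, by simp [hx]⟩) d))
    exact (Finset.mem_filter.1 (this.ge (Finset.mem_image.2 ⟨u, by simp [hu], rfl⟩))).1
  obtain ⟨u, uP, up⟩ := Solv.exists_subgroup_card_prime hp.out h1.symm.dvd
  have u1 : u ≠ 1 := fun e => hp.out.one_lt.ne' (by rw [← up, e, orderOf_one])
  have mt : ∀ y ≠ 1, ∃ x ∈ Γ y, x ∈ P := fun y hy => by_contra fun k => by
    have k' : ∀ x, u * x ∈ Γ y ↔ x ∈ Γ y := fun x => ⟨fun h => by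
      simpa using cos y _ h (fun e => k ⟨_, h, e⟩) _ (inv_mem uP), fun h => cos y x h (fun e => k ⟨_, h, e⟩) u uP⟩
    let L : Subgroup K :=
      { carrier := {t | ∀ x, t⁻¹ * x ∈ Γ y ↔ x ∈ Γ y}, one_mem' := fun x => by simp
        mul_mem' := fun {s t} hs ht x => by rw [mul_inv_rev, mul_assoc, ht, hs]
        inv_mem' := fun {t} ht x => by rw [← ht]; simp }
    refine u1 (inv_eq_one.1 (sr_prim hι (L := L) (fun e => n1 hy ?_) fun g hg x => ?_))
    · simpa using ((e.ge (mem_top y) : y ∈ L) y).2 (mΓ.2 ⟨1, by simp⟩)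
    · rw [← smul_inv_smul g x, iΓ', inv_inv, k', iΓ hg]
  have key : ∀ y y', y ≠ 1 → y' ≠ 1 → (∀ x ∈ Γ y, x ∉ Γ y') →
      ((Γ y').filter (· ∈ P)).card < ((Γ y).filter (· ∈ P)).card := fun y y' hy hy' dj => by
    obtain ⟨w, w1, w2⟩ := mt y hy
    obtain ⟨z, z1, z2⟩ : ∃ z ∈ Γ y, z ∉ P := by_contra fun k => hy (sr_prim hι h2 fun g hg =>
      by_contra fun e => k ⟨_, mΓ.2 ⟨g, hg, rfl⟩, e⟩)
    have e : ((Γ y).filter fun x => x⁻¹ * z ∈ Γ y').card = ((Γ y).filter fun x => x⁻¹ * w ∈ Γ y').card := by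
      obtain ⟨a, a1, rfl⟩ := mΓ.1 w1
      obtain ⟨b, b1, rfl⟩ := mΓ.1 z1
      have : ∀ a : G, a • (1 : K) = 1 → ((Γ y).filter fun x => x⁻¹ * y ∈ Γ y').card =
          ((Γ y).filter fun x => x⁻¹ * a • y ∈ Γ y').card := fun a a1 =>
        Finset.card_equiv (toPerm a) fun x => by simp [iΓ a1, iΓ']
      rw [← this a a1, ← this b b1]
    have S : ∀ t, p ∣ (((Γ y).filter fun x => x⁻¹ * t ∈ Γ y').filter fun x => ¬ (x ∈ P ∨ x⁻¹ * t ∈ P)).card := fun t =>
      dvd_card_of_inv up _ fun x hx => by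
        simp only [Finset.mem_filter, not_or] at hx ⊢
        have e : (u * x)⁻¹ * t = u⁻¹ * (x⁻¹ * t) := by rw [mul_inv, mul_assoc]
        rw [e, mul_mem_cancel_left uP, mul_mem_cancel_left (inv_mem uP)]
        exact ⟨⟨cos y x hx.1.1 hx.2.1 u uP, cos y' _ hx.1.2 hx.2.2 _ (inv_mem uP)⟩, hx.2⟩
    rw [← Finset.card_filter_add_card_filter_not (fun x => x ∈ P ∨ x⁻¹ * z ∈ P),
      ← Finset.card_filter_add_card_filter_not (s := (Γ y).filter fun x => x⁻¹ * w ∈ Γ y') (fun x => x ∈ P ∨ x⁻¹ * w ∈ P)] at e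
    have e1 : (((Γ y).filter fun x => x⁻¹ * z ∈ Γ y').filter fun x => x ∈ P ∨ x⁻¹ * z ∈ P).card =
        ((Γ y').filter (· ∈ P)).card := Finset.card_equiv ((Equiv.inv K).trans (Equiv.mulRight z)) fun x => by
      simp only [Finset.mem_filter, Equiv.trans_apply, Equiv.inv_apply, Equiv.coe_mulRight]
      refine ⟨fun ⟨⟨a, b⟩, c⟩ => ⟨b, c.resolve_left fun c => dj z z1 ?_⟩, fun ⟨a, b⟩ => ⟨⟨?_, a⟩, Or.inr b⟩⟩
      · simpa using cos y' _ b (fun k => z2 (by simpa using mul_mem c k)) x c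
      · simpa using cos y z z1 z2 _ (inv_mem b)
    have e2 : (((Γ y).filter fun x => x⁻¹ * w ∈ Γ y').filter fun x => x ∈ P ∨ x⁻¹ * w ∈ P).card <
        ((Γ y).filter (· ∈ P)).card := Finset.card_lt_card ⟨fun x hx => by
      simp only [Finset.mem_filter] at hx ⊢
      exact ⟨hx.1.1, hx.2.elim id fun k => by simpa using mul_mem w2 (inv_mem k)⟩, fun k => n1 hy' (by
        simpa using (Finset.mem_filter.1 (Finset.mem_filter.1 (k (Finset.mem_filter.2 ⟨w1, w2⟩))).1).2)⟩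
    have lt : ∀ y, y ≠ 1 → ((Γ y).filter (· ∈ P)).card < p := fun y hy => by
      rw [← h1, Nat.card_eq_fintype_card, Fintype.card_subtype]
      exact Finset.card_lt_card ⟨fun x hx => by simp [(Finset.mem_filter.1 hx).2], fun k =>
        n1 hy (Finset.mem_filter.1 (k (by simp))).1⟩
    obtain ⟨i, hi⟩ := S z
    obtain ⟨j, hj⟩ := S w
    rw [e1, hi, hj] at e
    have := congrArg (· % p) e
    simp only [Nat.add_mul_mod_self_left, Nat.mod_eq_of_lt (lt y' hy'), Nat.mod_eq_of_lt (e2.trans (lt y hy))] at this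
    exact this ▸ e2
  refine is_two_pretransitive_iff.2 fun {a b c d} hab hcd => ?_
  have y1 : a⁻¹ * b ≠ 1 := fun e => hab (inv_mul_eq_one.1 e)
  have y2 : c⁻¹ * d ≠ 1 := fun e => hcd (inv_mul_eq_one.1 e)
  obtain ⟨x, x1, x2⟩ : ∃ x ∈ Γ (a⁻¹ * b), x ∈ Γ (c⁻¹ * d) := by_contra fun k =>
    (key _ _ y1 y2 fun x a b => k ⟨x, a, b⟩).not_gt (key _ _ y2 y1 fun x a b => k ⟨x, b, a⟩)
  obtain ⟨g, g1, g2⟩ := mΓ.1 x1
  obtain ⟨h, h1, h2⟩ := mΓ.1 x2
  obtain ⟨s, hs⟩ := hι a⁻¹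
  obtain ⟨t, ht⟩ := hι c
  exact ⟨t * h⁻¹ * g * s, by simp [mul_smul, hs, ht, g1, iv h1], by simp [mul_smul, hs, ht, g2, ← h2]⟩

theorem schur {G Ω : Type*} [Group G] [Finite G] [MulAction G Ω] [IsPreprimitive G Ω] {C : Subgroup G} (hc : IsCyclic C) {a : Ω}
    (hb : Function.Bijective fun c : C => (c : G) • a) {p : ℕ} (hp : p.Prime) (h1 : p ∣ #C) (h2 : #C ≠ p) :
    IsMultiplyPretransitive G Ω 2 := by
  haveI := Fact.mk hp
  letI : CommGroup C := IsCyclic.commGroup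
  let φ : C ≃ Ω := Equiv.ofBijective _ hb
  letI := φ.mulAction G
  have e : ∀ (g : G) (x : C), φ (g • x) = g • φ x := fun g x => φ.apply_symm_apply _
  haveI : IsPreprimitive G C := (isPreprimitive_congr (φ := id) (f := ⟨φ, e⟩) Function.surjective_id φ.bijective).2 inferInstance
  have k : #(powMonoidHom p : C →* C).ker = p := by rw [IsCyclic.card_powMonoidHom_ker, Nat.gcd_eq_right h1]
  have := schur_core (G := G) (K := C)
    (fun k => ⟨k, fun x => φ.injective ((e _ _).trans (mul_smul (k : G) (x : G) a).symm)⟩) k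
    fun e => h2 (by rw [← k, e, card_top])
  refine is_two_pretransitive_iff.2 fun {a b c d} hab hcd => ?_
  obtain ⟨g, g1, g2⟩ := is_two_pretransitive_iff.1 this (φ.symm.injective.ne hab) (φ.symm.injective.ne hcd)
  exact ⟨g, by simpa [e] using congrArg φ g1, by simpa [e] using congrArg φ g2⟩

theorem thm_3559 {G Ω : Type*} [Group G] [Finite G] [MulAction G Ω] [Finite Ω] (hn : 2 ≤ #Ω) (hnp : ¬ IsPrimePow (#Ω))
    (C : Subgroup G) (hcyc : IsCyclic ↥C) (hC : IsPretransitive ↥C Ω ∧ ∀ a : Ω, stabilizer ↥C a = ⊥) :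
    ¬ IsPreprimitive G Ω ∨ IsMultiplyPretransitive G Ω 2 := or_iff_not_imp_left.2 fun h => by
  haveI := not_not.1 h
  obtain ⟨a⟩ := (Nat.card_pos_iff.1 (by omega : 0 < #Ω)).1
  have hb : Function.Bijective fun c : C => (c : G) • a := ⟨fun x y e => inv_mul_eq_one.1 (mem_bot.1 (hC.2 a ▸
    (by rw [mem_stabilizer_iff, mul_smul, inv_smul_eq_iff]; exact e.symm : x⁻¹ * y ∈ stabilizer C a))), hC.1.1 a⟩
  rw [← Nat.card_eq_of_bijective _ hb] at hn hnp
  obtain ⟨p, hp, d⟩ := Nat.exists_prime_and_dvd (by omega : #C ≠ 1)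
  exact schur hcyc hb hp d fun e => hnp (e ▸ hp.isPrimePow)

theorem thm_3972 {Ω : Type u} [Fintype Ω] [DecidableEq Ω] (p m : ℕ) (hp : p.Prime) (hm : 2 ≤ m) (hΩ : Fintype.card Ω = p ^ m)
    (G : Subgroup (Equiv.Perm Ω)) (htr : IsPretransitive G Ω) (h2 : ¬ IsMultiplyPretransitive G Ω 2) (g : G)
    (hg : orderOf g = p ^ m) :
    ¬ IsPreprimitive G Ω ∧ ¬ IsPretransitive (normalClosure ({g ^ (p ^ (m - 1))} : Set G)) Ω := by
  haveI := Fact.mk hp
  have cC : #(zpowers g) = p ^ m := (Nat.card_zpowers g).trans hg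
  have oz : orderOf (g ^ p ^ (m - 1)) = p := by
    rw [orderOf_pow_of_dvd (pow_pos hp.pos _).ne' (hg ▸ pow_dvd_pow p (m.sub_le 1)), hg, Nat.pow_div (m.sub_le 1) hp.pos,
      Nat.sub_sub_self (by omega), pow_one]
  have zC : g ^ p ^ (m - 1) ∈ zpowers g := pow_mem (mem_zpowers g) _
  generalize g ^ p ^ (m - 1) = z at *
  have hz : ∀ c ∈ zpowers g, c ≠ 1 → z ∈ zpowers c := fun c hc c1 => zpowers_le.1 (cyc_le (cyc_zpowers g)
    (zpowers_le.2 zC) (zpowers_le.2 hc) (by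
      rw [Nat.card_zpowers, oz]; exact pg_dvd ((IsPGroup.of_card cC).to_le (zpowers_le.2 hc)) (mt zpowers_eq_bot.1 c1)))
  obtain ⟨a, ha⟩ : ∃ a : Ω, z • a ≠ a := by_contra fun k => hp.one_lt.ne' (oz ▸ orderOf_eq_one_iff.2
    (Subtype.ext (Equiv.ext fun a => by_contra fun e => k ⟨a, e⟩)))
  have hb : Function.Bijective fun c : zpowers g => (c : G) • a := (Nat.bijective_iff_injective_and_card _).2
    ⟨fun x y e => inv_mul_eq_one.1 (by_contra fun k => ha (zpowers_le.2 (show ((x⁻¹ * y : zpowers g) : G) ∈ stabilizer G a by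
      rw [mem_stabilizer_iff, coe_mul, mul_smul, coe_inv, inv_smul_eq_iff]; exact e.symm)
      (hz _ (x⁻¹ * y).2 fun e => k (Subtype.ext e)))), by rw [cC, Nat.card_eq_fintype_card, hΩ]⟩
  have np : ¬ IsPreprimitive G Ω := fun h => h2 (schur (cyc_zpowers g) hb hp (cC ▸ dvd_pow_self p (by omega)) (by
    rw [cC]; exact fun e => by have := Nat.pow_right_injective hp.two_le (e.trans (pow_one p).symm); omega))
  refine ⟨np, fun tr => np (IsPreprimitive.of_isTrivialBlock_base a @fun B aB hB => by_contra fun k => ?_)⟩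
  obtain ⟨b, bB, ba⟩ := (Set.not_subsingleton_iff.1 fun e => k (Or.inl e)).exists_ne a
  obtain ⟨w, wB⟩ := (Set.ne_univ_iff_exists_notMem _).1 fun e => k (Or.inr e)
  obtain ⟨c, rfl⟩ := hb.2 b
  have zB : z ∈ stabilizer G B := zpowers_le.2 (hB.smul_eq_of_mem aB bB : (c : G) ∈ stabilizer G B)
    (hz c c.2 fun e => ba (by simp [e]))
  obtain ⟨n, rfl⟩ := tr.1 a w
  refine wB ((normalCore_le (stabilizer G B) (normalClosure_le_normal (Set.singleton_subset_iff.2 fun x => ?_) n.2) :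
    (n : G) • B = B) ▸ Set.smul_mem_smul_set aB)
  obtain ⟨d, hd⟩ := hb.2 (x⁻¹ • a)
  have e : x * d ∈ stabilizer G B := hB.smul_eq_of_mem aB (by rw [mul_smul, show (d : G) • a = _ from hd, smul_inv_smul]; exact aB)
  have := mul_mem (mul_mem e zB) (inv_mem e)
  rwa [mul_assoc x, ← (Solv.Commute.of_mem_zpowers (Commute.refl g) zC d.2).eq, mul_inv_rev, ← mul_assoc, ← mul_assoc,
    mul_inv_cancel_right] at this

theorem no_hall {π : Set ℕ} {p q r : ℕ} (hp : p.Prime) (hq : q.Prime) (hr : r.Prime) (p1 : p ∈ π) (q1 : q ∈ π) (r1 : r ∉ π)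
    (pq : p ≠ q) : ∃ n, ¬ IsEPiGroup π (Equiv.Perm (Fin n)) := by
  have l1 : q ^ (r + 3) < p ^ (Nat.log p (q ^ (r + 3)) + 1) := Nat.lt_pow_succ_log_self hp.one_lt _
  have l2 : p ^ Nat.log p (q ^ (r + 3)) ≤ q ^ (r + 3) := Nat.pow_log_le_self _ (pow_pos hq.pos _).ne'
  have l3 : r + 3 < q ^ (r + 3) := Nat.lt_pow_self hq.one_lt
  have l4 : q + 3 ≤ q ^ (r + 3) := by
    have := Nat.pow_le_pow_right hq.pos (show 3 ≤ r + 3 by omega)
    have h2 := hq.two_le
    have := Nat.mul_le_mul_right q (Nat.mul_le_mul h2 h2)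
    rw [show q * q * q = q ^ 3 by ring] at this
    omega
  have l5 : ∀ k, p ^ (k + 1) ∣ q ^ (r + 3) → False := fun k d => pq ((Nat.prime_dvd_prime_iff_eq hp hq).1
    (hp.dvd_of_dvd_pow ((dvd_pow_self p k.succ_ne_zero).trans d)))
  generalize Nat.log p (q ^ (r + 3)) = a at *
  refine ⟨p ^ (a + 1), fun ⟨H, hH⟩ => ?_⟩
  have hH' : Hall π H ⊤ := ⟨le_top, hH.1, by simpa using hH.2⟩
  have cy : ∀ s j, s.Prime → s ∈ π → 2 ≤ s ^ j → s ^ j ≤ p ^ (a + 1) → ∃ σ ∈ H, σ.IsCycle ∧ σ.support.card = s ^ j :=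
    fun s j hs s1 a1 a2 => by
      haveI := Fact.mk hs
      obtain ⟨σ, hσ⟩ := (Equiv.Perm.exists_with_cycleType_iff (Fin (p ^ (a + 1))) (m := {s ^ j})).2 ⟨by simpa, by simpa⟩
      have c := Equiv.Perm.card_cycleType_eq_one.1 (by rw [hσ]; rfl)
      have c' : σ.support.card = s ^ j := by rw [← Equiv.Perm.sum_cycleType, hσ]; simp
      obtain ⟨S, hS⟩ := exists_isSyl s H
      obtain ⟨g, -, hg⟩ := (hH'.syl_trans hS s1).exists_cj_le (IsPGroup.of_card (n := j)
        ((Nat.card_zpowers σ).trans (c.orderOf.trans c'))) le_top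
      exact ⟨_, hS.le (hg ⟨σ, mem_zpowers σ, rfl⟩), c.conj, (Equiv.Perm.card_support_conj ..).trans c'⟩
  obtain ⟨σ, σ1, σ2, σ3⟩ := cy p (a + 1) hp p1 (by omega) le_rfl
  obtain ⟨τ, τ1, τ2, τ3⟩ := cy q (r + 3) hq q1 (by omega) l1.le
  obtain ⟨ρ, ρ1, ρ2, ρ3⟩ := cy q 1 hq q1 (by simpa using hq.two_le) (by rw [pow_one]; omega)
  haveI : IsPretransitive H (Fin (p ^ (a + 1))) := ⟨fun x y => by
    have : ∀ x, σ x ≠ x := fun x => Equiv.Perm.mem_support.1 
      (Finset.eq_univ_of_card σ.support (by simpa using σ3) ▸ Finset.mem_univ x)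
    obtain ⟨i, hi⟩ := σ2.exists_zpow_eq (this x) (this y)
    exact ⟨⟨_, zpow_mem σ1 i⟩, hi⟩⟩
  obtain ⟨x, hx, hx'⟩ := id τ2
  have pr : IsPreprimitive H (Fin (p ^ (a + 1))) := IsPreprimitive.of_isTrivialBlock_base x @fun B xB hB => by_contra fun k => by
    have d := hB.ncard_dvd_card ⟨x, xB⟩
    rw [Nat.card_fin] at d
    obtain ⟨i, i1, i2⟩ := (Nat.dvd_prime_pow hp).1 d
    rcases i with _ | i
    · exact k (Or.inl (Set.ncard_le_one_iff_subsingleton.1 i2.le))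
    have ia : i + 1 ≤ a := by_contra fun e => k (Or.inr (Set.eq_of_subset_of_ncard_le (Set.subset_univ B) (by
      rw [i2, Set.ncard_univ, Nat.card_fin, show i = a by omega])))
    rcases isBlock_iff_smul_eq_or_disjoint.1 hB ⟨τ, τ1⟩ with e | e
    · have : (τ.support : Set _) ⊆ B := fun y hy => by
        obtain ⟨j, rfl⟩ := hx' (Equiv.Perm.mem_support.1 hy)
        have := mem_stabilizer_iff.1 (zpow_mem (mem_stabilizer_iff.2 e) j)
        rw [← this]; exact Set.smul_mem_smul_set xB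
      have := Set.ncard_le_ncard this
      rw [Set.ncard_coe_finset, τ3, i2] at this
      exact l5 i (le_antisymm ((Nat.pow_le_pow_right hp.pos ia).trans l2) this).dvd
    · have : orbit (zpowers (⟨τ, τ1⟩ : H) ⊓ stabilizer H B : Subgroup H) x = B := Set.ext fun y =>
        ⟨fun ⟨t, ht⟩ => ht ▸ (mem_stabilizer_iff.1 t.2.2).subset (Set.smul_mem_smul_set xB), fun hy => by
          obtain ⟨j, rfl⟩ := hx' fun k : τ y = y => Set.disjoint_left.1 e ⟨y, hy, k⟩ hy
          exact ⟨⟨(⟨τ, τ1⟩ : H) ^ j, zpow_mem (mem_zpowers _) j, hB.smul_eq_of_mem xB hy⟩, rfl⟩⟩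
      refine l5 i ?_
      rw [← i2, ← this, ← index_stabilizer, ← τ3, ← τ2.orderOf, ← orderOf_mk τ τ1, ← Nat.card_zpowers]
      exact (index_dvd_card _).trans (card_dvd inf_le_left)
  have al := S0713.result H pr hq (by simp; omega) (by simp; omega) ρ2 (ρ3.trans (pow_one q)) ρ1
  haveI : Nontrivial (Fin (p ^ (a + 1))) := Fin.nontrivial_iff_two_le.2 (by omega)
  refine r1 (hH.1 r hr (dvd_trans ?_ (card_dvd al)))
  rw [nat_card_alternatingGroup, Nat.card_fin]
  refine Nat.dvd_div_of_mul_dvd (dvd_trans ?_ (Nat.factorial_dvd_factorial (by omega : r + 2 ≤ _)))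
  rw [Nat.factorial_succ, Nat.factorial_succ, ← mul_assoc, mul_comm (r + 1 + 1)]
  exact mul_dvd_mul (Nat.even_mul_succ_self _).two_dvd (Nat.dvd_factorial hr.pos le_rfl)

theorem thm_3878 (π : Set ℕ) :
    ((∀ (G : Type) [Group G] [Finite G], IsEPiGroup π G) ↔
      ((∀ p q : ℕ, p.Prime → q.Prime → p ∈ π → q ∈ π → p = q) ∨ ∀ p : ℕ, p.Prime → p ∈ π)) ∧
    ((∀ (G : Type) [Group G] [Finite G], IsDPiGroup π G) ↔
      ((∀ p q : ℕ, p.Prime → q.Prime → p ∈ π → q ∈ π → p = q) ∨ ∀ p : ℕ, p.Prime → p ∈ π)) := by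
  have de : ∀ (G : Type) [Group G] [Finite G], IsDPiGroup π G → IsEPiGroup π G := fun G _ _ h => by
    obtain ⟨H, hH⟩ := exists_maximal_of_wellFoundedGT (IsPiSubgroup (G := G) π) ⟨⊥, IsPi.bot⟩
    refine ⟨H, hH.1, fun p hp p1 => ?_⟩
    haveI := Fact.mk hp
    obtain ⟨P⟩ : Nonempty (Sylow p G) := inferInstance
    obtain ⟨K, a, b⟩ := exists_maximal_ge_of_wellFoundedGT (IsPiSubgroup (G := G) π) _ (pi_of_pg P.2 p1)
    obtain ⟨g, rfl⟩ := h H K hH b
    exact fun d => P.not_dvd_index (((index_map_equiv H (MulAut.conj g)).symm ▸ d).trans (index_dvd_of_le a))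
  have h1 : (∀ (G : Type) [Group G] [Finite G], IsEPiGroup π G) →
      (∀ p q : ℕ, p.Prime → q.Prime → p ∈ π → q ∈ π → p = q) ∨ ∀ p : ℕ, p.Prime → p ∈ π := fun h =>
    or_iff_not_imp_right.2 fun k p q hp hq p1 q1 => by_contra fun pq => k fun r hr => by_contra fun r1 =>
      (no_hall hp hq hr p1 q1 r1 pq).elim fun n hn => hn (h _)
  have h2 : ((∀ p q : ℕ, p.Prime → q.Prime → p ∈ π → q ∈ π → p = q) ∨ ∀ p : ℕ, p.Prime → p ∈ π) →
      ∀ (G : Type) [Group G] [Finite G], IsDPiGroup π G := fun h G _ _ H K hH hK => by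
    rcases h with h | h
    · obtain ⟨p, hp, p1⟩ : ∃ p : ℕ, p.Prime ∧ ∀ q, q.Prime → q ∈ π → q = p := by
        by_cases e : ∃ p : ℕ, p.Prime ∧ p ∈ π
        · obtain ⟨p, hp, p1⟩ := e
          exact ⟨p, hp, fun q hq q1 => h q p hq hp q1 p1⟩
        · exact ⟨2, Nat.prime_two, fun q hq q1 => absurd ⟨q, hq, q1⟩ e⟩
      haveI := Fact.mk hp
      by_cases e : p ∈ π
      · have : ∀ H : Subgroup G, Maximal (IsPiSubgroup π) H → IsSyl p H ⊤ := fun H hH => isSyl_of_maximal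
          (pg_of_pi fun q hq d => p1 q hq (hH.1 q hq d)) le_top fun R a _ b => hH.2 (pi_of_pg a e) b
        obtain ⟨g, -, hg⟩ := (this K hK).exists_cj_eq (this H hH)
        exact ⟨g, hg.symm⟩
      · have : ∀ H : Subgroup G, IsPiSubgroup π H → H = ⊥ := fun H hH => by_contra fun k => by
          obtain ⟨q, hq, d⟩ := exists_prime_dvd k
          exact e (p1 q hq (hH q hq d) ▸ hH q hq d)
        exact ⟨1, by rw [this H hH.1, this K hK.1, Subgroup.map_bot]⟩
    · have : ∀ H : Subgroup G, Maximal (IsPiSubgroup π) H → H = ⊤ := fun H hH =>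
        top_le_iff.1 (hH.2 (fun q hq _ => h q hq) le_top)
      exact ⟨1, by rw [this H hH, this K hK, map_top_of_surjective _ (MulAut.conj 1).surjective]⟩
  exact ⟨⟨h1, fun h G _ _ => de G (h2 h G)⟩, fun h => h1 fun G _ _ => de G (h G), h2⟩

end Cfsg.Agent.PU
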