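/-
Fixed point free representations do not depend on the characteristic; direct products of Frobenius complements.
-/
import Cfsg.Agent.Lib.Transfer.FC5
import Cfsg.Agent.Lib.Solv.FrobSD

set_option autoImplicit false
set_option linter.unusedSectionVars false
set_option linter.unusedVariables false
set_option linter.style.haveILetI false
set_option linter.unusedSimpArgs false

namespace Cfsg.Agent.PU

open Subgroup MonoidAlgebra Cfsg.Agent.Transfer Cfsg.Agent.Transfer.FC

variable {H : Type*} [Group H] [Finite H] {R : Type} [CommRing R]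

/-- the norm element of a cyclic subgroup -/
noncomputable def nrm (R : Type) [CommRing R] (g : H) : MonoidAlgebra R H := ∑ i ∈ Finset.range (orderOf g), single (g ^ i) 1

/-- the ideal generated by the norm elements -/
noncomputable def nJ (R : Type) [CommRing R] (H : Type*) [Group H] : AddSubgroup (MonoidAlgebra R H) :=
  AddSubgroup.closure {t | ∃ g x y, g ≠ 1 ∧ x * nrm R g * y = t}

theorem single_mul_nrm (g : H) : single g 1 * nrm R g = nrm R g := by
  have := Finset.sum_range_succ' (fun i => (single (g ^ i) 1 : MonoidAlgebra R H)) (orderOf g)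
  rw [Finset.sum_range_succ, pow_orderOf_eq_one, pow_zero, add_left_inj] at this
  nth_rw 2 [nrm]
  simp only [this]
  simp only [nrm, Finset.mul_sum, single_mul_single, one_mul, pow_succ']

theorem nrm_mul_nrm (g : H) : nrm R g * nrm R g = orderOf g • nrm R g := by
  have : ∀ i, single (g ^ i) 1 * nrm R g = nrm R g := fun i => by
    induction i with
    | zero => rw [pow_zero]; exact one_mul (nrm R g)
    | succ i ih => rw [pow_succ, ← one_mul (1 : R), ← single_mul_single, mul_assoc, single_mul_nrm, ih]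
  nth_rw 1 [nrm]
  simp [Finset.sum_mul, this]

theorem nJ_mul {t : MonoidAlgebra R H} (h : t ∈ nJ R H) (a b : MonoidAlgebra R H) : a * t * b ∈ nJ R H := by
  induction h using AddSubgroup.closure_induction with
  | mem _ h => obtain ⟨g, x, y, h, rfl⟩ := h; exact AddSubgroup.subset_closure ⟨g, a * x, y * b, h, by noncomm_ring⟩
  | zero => simp
  | add _ _ _ _ h1 h2 => rw [mul_add, add_mul]; exact add_mem h1 h2
  | neg _ _ h => rw [mul_neg, neg_mul]; exact neg_mem h

/-- reduction of coefficients -/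
noncomputable abbrev red (r : ℕ) (H : Type*) [Group H] : MonoidAlgebra ℤ H →+* MonoidAlgebra (ZMod r) H :=
  mapRingHom H (Int.castRingHom (ZMod r))

theorem red_surj (r : ℕ) : Function.Surjective (red r H) := fun x => by
  induction x using MonoidAlgebra.induction_linear with
  | zero => exact ⟨0, map_zero _⟩
  | add _ _ h1 h2 => obtain ⟨a, rfl⟩ := h1; obtain ⟨b, rfl⟩ := h2; exact ⟨a + b, map_add _ _ _⟩
  | single g c => obtain ⟨z, rfl⟩ := ZMod.intCast_surjective c; exact ⟨single g z, mapRingHom_single _ _ _⟩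

theorem red_eq_zero {r : ℕ} {x : MonoidAlgebra ℤ H} (h : red r H x = 0) : ∃ z, x = (r : ℤ) • z := by
  have : ∀ g, (r : ℤ) ∣ x.coeff g := fun g => (ZMod.intCast_zmod_eq_zero_iff_dvd _ _).1 (by
    simpa using congrArg (fun y => y.coeff g) h)
  choose f hf using this
  exact ⟨ofCoeff (Finsupp.equivFunOnFinite.symm f), by ext g; rw [coeff_smul, hf]; rfl⟩

theorem red_nrm (r : ℕ) (g : H) : red r H (nrm ℤ g) = nrm (ZMod r) g := by simp [nrm]

theorem int_notMem_nJ (h : FR H) {m : ℤ} (hm : m ≠ 0) : (m : MonoidAlgebra ℤ H) ∉ nJ ℤ H := fun hJ => by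
  obtain ⟨r, hr, n, ρ, hf⟩ := h
  have nd : ¬ r ∣ Nat.card H := fun d => by
    obtain ⟨g, hg⟩ := exists_prime_orderOf_dvd_card' r d
    exact hr.out.one_lt.ne' (by rw [← hg, hf.pow_char (g := g) r (hg ▸ pow_orderOf_eq_one g), orderOf_one])
  haveI : NeZero (Nat.card H : ZMod r) := ⟨mt (ZMod.natCast_eq_zero_iff _ _).1 nd⟩
  let τ := lift (ZMod r) _ H ρ
  obtain ⟨e, e1, e2⟩ := IsSemisimpleRing.ideal_eq_span_idempotent (R := MonoidAlgebra (ZMod r) H)
    { carrier := {x | τ x 1 = 0}, zero_mem' := by simp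
      add_mem' := fun {a b} ha hb => by simp only [Set.mem_ofPred_eq] at *; simp [ha, hb]
      smul_mem' := fun a b hb => by simp only [Set.mem_ofPred_eq] at *; simp [hb] }
  obtain ⟨ε, hε⟩ := red_surj r (1 - e)
  have k1 : ∀ g ≠ 1, ∀ y, red r H (nrm ℤ g * y * ε) = 0 := fun g hg y => by
    have t : τ (nrm (ZMod r) g * (red r H y * (1 - e))) 1 = 0 := by
      rw [map_mul, Module.End.mul_apply]
      refine hf g hg _ ?_
      rw [← Module.End.mul_apply, show ρ g = τ (single g 1) by simp [τ], ← map_mul, single_mul_nrm]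
    obtain ⟨z, hz⟩ := Submodule.mem_span_singleton.1 (e2.le t)
    rw [map_mul, map_mul, red_nrm, hε, ← e1.one_sub.eq, ← mul_assoc, mul_assoc (nrm _ g), ← hz, smul_eq_mul, mul_assoc,
      e1.mul_one_sub_self, mul_zero]
  have k2 : ∀ k, ∀ g ≠ 1, ∀ y, ∃ z, nrm ℤ g * y * ε ^ k = (r : ℤ) ^ k • z := fun k g hg y => by
    induction k with
    | zero => exact ⟨_, by rw [pow_zero (r : ℤ), one_smul]⟩
    | succ k ih =>
      obtain ⟨z, hz⟩ := ih
      have a : nrm ℤ g * z = orderOf g • z := smul_right_injective _ (pow_ne_zero k (Int.natCast_ne_zero.2 hr.out.ne_zero)) (by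
        simp only
        rw [← mul_smul_comm, smul_comm, ← hz, ← mul_assoc, ← mul_assoc, nrm_mul_nrm, smul_mul_assoc, smul_mul_assoc])
      have b := k1 g hg z
      rw [a, smul_mul_assoc, map_nsmul, ← Nat.cast_smul_eq_nsmul (ZMod r), smul_eq_zero] at b
      obtain ⟨w, hw⟩ := red_eq_zero (b.resolve_left fun d => nd (((ZMod.natCast_eq_zero_iff _ _).1 d).trans
        (orderOf_dvd_natCard g)))
      exact ⟨w, by rw [pow_succ, ← mul_assoc, hz, smul_mul_assoc, hw, smul_smul, pow_succ]⟩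
  have k3 : ∀ k, ∀ t ∈ nJ ℤ H, ∃ z, t * ε ^ k = (r : ℤ) ^ k • z := fun k t ht => by
    induction ht using AddSubgroup.closure_induction with
    | mem _ h =>
      obtain ⟨g, x, y, h, rfl⟩ := h
      obtain ⟨z, hz⟩ := k2 k g h y
      exact ⟨x * z, by rw [mul_assoc x, mul_assoc x, hz, mul_smul_comm]⟩
    | zero => exact ⟨0, by simp⟩
    | add _ _ _ _ h1 h2 => obtain ⟨a, h1⟩ := h1; obtain ⟨b, h2⟩ := h2; exact ⟨a + b, by rw [add_mul, h1, h2, smul_add]⟩
    | neg _ _ h => obtain ⟨a, h⟩ := h; exact ⟨-a, by rw [neg_mul, h, smul_neg]⟩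
  obtain ⟨j, m, m1, rfl⟩ := WfDvdMonoid.max_power_factor hm (Nat.prime_iff_prime_int.1 hr.out).irreducible
  obtain ⟨z, hz⟩ := k3 (j + 1) _ hJ
  rw [← zsmul_eq_mul, mul_smul, pow_succ (r : ℤ), mul_smul] at hz
  have := congrArg (red r H) (smul_right_injective _ (pow_ne_zero j (Int.natCast_ne_zero.2 hr.out.ne_zero)) hz)
  rw [map_zsmul, map_zsmul, map_pow, hε, e1.one_sub.pow_succ_eq, ← Int.cast_smul_eq_zsmul (ZMod r),
    ← Int.cast_smul_eq_zsmul (ZMod r), Int.cast_natCast, ZMod.natCast_self, zero_smul, smul_eq_zero,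
    ZMod.intCast_zmod_eq_zero_iff_dvd] at this
  have t : τ e 1 = 0 := e2.ge (Submodule.mem_span_singleton_self e)
  rw [← sub_eq_zero.1 (this.resolve_left m1), map_one τ] at t
  exact one_ne_zero (congrFun t 0)

theorem one_notMem_nJ (h : FR H) {s : ℕ} (hs : s.Prime) : (1 : MonoidAlgebra (ZMod s) H) ∉ nJ (ZMod s) H := fun hJ => by
  have k : ∀ t ∈ nJ (ZMod s) H, ∃ u ∈ nJ ℤ H, red s H u = t := fun t ht => by
    induction ht using AddSubgroup.closure_induction with
    | mem _ h =>
      obtain ⟨g, x, y, h, rfl⟩ := h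
      obtain ⟨x, rfl⟩ := red_surj s x
      obtain ⟨y, rfl⟩ := red_surj s y
      exact ⟨_, AddSubgroup.subset_closure ⟨g, x, y, h, rfl⟩, by rw [map_mul, map_mul, red_nrm]⟩
    | zero => exact ⟨0, zero_mem _, map_zero _⟩
    | add _ _ _ _ h1 h2 =>
      obtain ⟨a, a1, rfl⟩ := h1; obtain ⟨b, b1, rfl⟩ := h2; exact ⟨a + b, add_mem a1 b1, map_add _ _ _⟩
    | neg _ _ h => obtain ⟨a, a1, rfl⟩ := h; exact ⟨-a, neg_mem a1, map_neg _ _⟩
  obtain ⟨u, u1, u2⟩ := k 1 hJ
  obtain ⟨z, hz⟩ := red_eq_zero (r := s) (x := 1 - u) (by rw [map_sub, u2, map_one, sub_self])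
  obtain ⟨t, t1, t2⟩ := Submodule.exists_sub_one_mem_and_smul_eq_zero_of_fg_of_le_smul (Ideal.span {(s : ℤ)})
    (⊤ : Submodule ℤ (MonoidAlgebra ℤ H ⧸ (nJ ℤ H).toIntSubmodule)) Module.Finite.fg_top fun x _ => by
      obtain ⟨x, rfl⟩ := Submodule.Quotient.mk_surjective _ x
      have : (Submodule.Quotient.mk x : MonoidAlgebra ℤ H ⧸ (nJ ℤ H).toIntSubmodule) =
          (s : ℤ) • Submodule.Quotient.mk (z * x) := by
        rw [← Submodule.Quotient.mk_smul, Submodule.Quotient.eq, ← smul_mul_assoc, ← hz]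
        have := nJ_mul u1 1 x
        rw [one_mul] at this
        rwa [sub_mul, one_mul, sub_sub_cancel]
      rw [this]
      exact Submodule.smul_mem_smul (Ideal.mem_span_singleton_self _) trivial
  refine int_notMem_nJ h (m := t) (fun e => ?_) ?_
  · rw [e, zero_sub, Ideal.mem_span_singleton, dvd_neg] at t1
    exact hs.one_lt.ne' (by exact_mod_cast Int.eq_one_of_dvd_one (by positivity) t1)
  · have := t2 (Submodule.Quotient.mk 1) trivial
    rwa [← Submodule.Quotient.mk_smul, Submodule.Quotient.mk_eq_zero, zsmul_one] at this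

theorem exists_fpf_char {H : Type} [Group H] [Finite H] (h : FR H) {s : ℕ} [hs : Fact s.Prime] :
    ∃ (V : Type) (_ : AddCommGroup V) (_ : Module (ZMod s) V) (_ : Finite V) (_ : Nontrivial V)
      (ρ : H →* Module.End (ZMod s) V), ∀ g ≠ 1, ∑ i ∈ Finset.range (orderOf g), ρ (g ^ i) = 0 := by
  let I : Submodule (MonoidAlgebra (ZMod s) H) (MonoidAlgebra (ZMod s) H) :=
    { nJ (ZMod s) H with smul_mem' := fun a b hb => by simpa using nJ_mul hb a 1 }
  haveI : Finite (MonoidAlgebra (ZMod s) H) := Module.finite_of_finite (ZMod s)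
  refine ⟨MonoidAlgebra (ZMod s) H ⧸ I, inferInstance, inferInstance, Quotient.finite _, Submodule.Quotient.nontrivial_iff.2
    fun e => one_notMem_nJ h hs.out (e.ge trivial : _ ∈ I),
    (Algebra.lsmul (ZMod s) (ZMod s) _).toMonoidHom.comp (of (ZMod s) H), fun g hg => ?_⟩
  refine (map_sum (Algebra.lsmul (ZMod s) (ZMod s) (MonoidAlgebra (ZMod s) H ⧸ I)) _ _).symm.trans (LinearMap.ext fun x => ?_)
  obtain ⟨x, rfl⟩ := Submodule.Quotient.mk_surjective _ x
  exact (Submodule.Quotient.mk_eq_zero I).2 (AddSubgroup.subset_closure ⟨g, 1, x, hg, by rw [one_mul]; rfl⟩)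

theorem frob_sub {L : Type} [Group L] [Finite L] {C : Subgroup L} (h : IsFrobeniusComplement C) {X : Type*} [Group X]
    [Nontrivial X] (f : X →* L) (h0 : ∀ x, f x ∈ C) (hf : Function.Injective f) : ∃ (L : Type) (_ : Group L)
      (_ : Finite L) (H : Subgroup L), IsFrobeniusComplement H ∧ Nonempty (X ≃* H) := by
  obtain ⟨K, -, h1, -, h2, h3⟩ := Solv.exists_frobenius_kernel h
  haveI := (nontrivial_iff_ne_bot K).2 h2
  obtain ⟨L, _, _, H, a, b, -⟩ := Solv.exists_frob_of_fpf_action (MulAut.conjNormal.comp f : X →* MulAut K) fun x x1 v hv =>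
    Subtype.ext (Solv.eq_one_of_fpf (h3 _ (h0 x) fun k => x1 (hf (k.trans f.map_one.symm)))
      v.2 (mul_inv_eq_iff_eq_mul.1 (congrArg Subtype.val hv)))
  exact ⟨L, _, ‹_›, H, a, b⟩

theorem thm_4292 {A B : Type*} [Group A] [Finite A] [Nontrivial A] [Group B] [Finite B] [Nontrivial B] :
    (∃ (L : Type) (_ : Group L) (_ : Finite L) (H : Subgroup L), IsFrobeniusComplement H ∧ Nonempty ((A × B) ≃* H)) ↔
    ((∃ (L : Type) (_ : Group L) (_ : Finite L) (H : Subgroup L), IsFrobeniusComplement H ∧ Nonempty (A ≃* H)) ∧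
     (∃ (L : Type) (_ : Group L) (_ : Finite L) (H : Subgroup L), IsFrobeniusComplement H ∧ Nonempty (B ≃* H)) ∧
     (Nat.card A).Coprime (Nat.card B)) := by
  refine ⟨fun ⟨L, _, _, C, h, ⟨e⟩⟩ => ?_, fun ⟨⟨L, _, _, C, h, ⟨e⟩⟩, ⟨L', _, _, C', h', ⟨e'⟩⟩, hc⟩ => ?_⟩
  · refine ⟨frob_sub h (C.subtype.comp (e.toMonoidHom.comp (MonoidHom.inl A B))) (fun x => (e _).2)
      (C.subtype_injective.comp (e.injective.comp (Prod.mk_left_injective 1))),
      frob_sub h (C.subtype.comp (e.toMonoidHom.comp (MonoidHom.inr A B))) (fun x => (e _).2)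
      (C.subtype_injective.comp (e.injective.comp (Prod.mk_right_injective 1))), Nat.coprime_of_dvd fun p hp d1 d2 => ?_⟩
    haveI := Fact.mk hp
    obtain ⟨a, ha⟩ := exists_prime_orderOf_dvd_card' p d1
    obtain ⟨b, hb⟩ := exists_prime_orderOf_dvd_card' p d2
    obtain ⟨i, hi⟩ := (FR.of_frob h e).mem_zpowers (x := (a, 1)) (y := (1, b)) (by simp [commute_iff_eq])
      (by simp [Prod.orderOf, ha, hb])
    exact hp.one_lt.ne' (by rw [← ha, show a = 1 by simpa using (congrArg Prod.fst hi).symm, orderOf_one])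
  · obtain ⟨s, s1, s2⟩ := Nat.exists_infinite_primes (Nat.card A * Nat.card B + 1)
    haveI := Fact.mk s2
    obtain ⟨V, _, _, _, _, ρ, hρ⟩ := exists_fpf_char (s := s) (FR.of_frob h (MulEquiv.refl C))
    obtain ⟨W, _, _, _, _, σ, hσ⟩ := exists_fpf_char (s := s) (FR.of_frob h' (MulEquiv.refl C'))
    haveI : Finite (V →ₗ[ZMod s] W) := Finite.of_injective _ DFunLike.coe_injective
    haveI : Nontrivial (V →ₗ[ZMod s] W) := by
      obtain ⟨v, hv⟩ := exists_ne (0 : V)
      obtain ⟨w, hw⟩ := exists_ne (0 : W)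
      obtain ⟨f, hf⟩ := not_forall.1 (mt (Module.forall_dual_apply_eq_zero_iff (ZMod s) v).1 hv)
      exact ⟨f.smulRight w, 0, fun k => smul_ne_zero hf hw (LinearMap.congr_fun k v)⟩
    let π : A × B →* Module.End (ZMod s) (V →ₗ[ZMod s] W) := Representation.linHom
      (ρ.comp (e.toMonoidHom.comp (MonoidHom.fst A B))) (σ.comp (e'.toMonoidHom.comp (MonoidHom.snd A B)))
    have fx : ∀ x f, π x f = f → ∀ n, π (x ^ n) f = f := fun x f hf n => by
      induction n with
      | zero => simp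
      | succ n ih => rw [pow_succ, map_mul, Module.End.mul_apply, hf, ih]
    have z : ∀ n, n ∣ Nat.card A * Nat.card B → ∀ f : V →ₗ[ZMod s] W, n • f = 0 → f = 0 := fun n d f hf => by
      rw [← Nat.cast_smul_eq_nsmul (ZMod s), smul_eq_zero, ZMod.natCast_eq_zero_iff] at hf
      exact hf.resolve_left fun d' => by have := Nat.le_of_dvd (mul_pos Nat.card_pos Nat.card_pos) (d'.trans d); omega
    obtain ⟨L, _, _, H, a, b, -⟩ := Solv.exists_frob_of_fpf_add (H := A × B) (fun x f => π x f) (by simp) (by simp) (by simp)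
      fun ⟨a, b⟩ x1 f hf => by
        by_cases ea : a = 1
        · subst ea
          refine z _ ((orderOf_dvd_natCard (e' b)).trans (Nat.card_congr e'.toEquiv ▸ dvd_mul_left _ _)) f (LinearMap.ext fun v => ?_)
          have := LinearMap.congr_fun (hσ (e' b) fun k => x1 (by rw [e'.map_eq_one_iff.1 k]; rfl)) (f v)
          rw [LinearMap.sum_apply, Finset.sum_congr rfl fun i _ => show σ (e' b ^ i) (f v) = f v by
            simpa [π] using LinearMap.congr_fun (fx _ f hf i) v] at this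
          simpa using this
        · refine z _ ((orderOf_dvd_natCard (e (a ^ orderOf b))⁻¹).trans (Nat.card_congr e.toEquiv ▸ dvd_mul_right _ _)) f
            (LinearMap.ext fun v => ?_)
          have := congrArg f (LinearMap.congr_fun (hρ (e (a ^ orderOf b))⁻¹ fun k => ea (orderOf_eq_one_iff.1
            (Nat.eq_one_of_dvd_coprimes hc (orderOf_dvd_natCard a) ((orderOf_dvd_of_pow_eq_one
              (e.map_eq_one_iff.1 (inv_eq_one.1 k))).trans (orderOf_dvd_natCard b))))) v)
          rw [LinearMap.sum_apply, map_sum, Finset.sum_congr rfl fun i _ => show f (ρ ((e (a ^ orderOf b))⁻¹ ^ i) v) = f v by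
            simpa [π, pow_mul] using LinearMap.congr_fun (fx _ f hf (orderOf b * i)) v] at this
          simpa using this
    exact ⟨L, _, ‹_›, H, a, b⟩

end Cfsg.Agent.PU
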