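/-
Groups with prescribed sets of element orders.
-/
import Cfsg.Agent.Lib.PU.Ms14
import Cfsg.Agent.Lib.Perm.Dick3
import Cfsg.Prelude.Def_Classical

set_option autoImplicit false
set_option linter.unusedSectionVars false
set_option linter.unusedVariables false
set_option linter.style.haveILetI false
set_option linter.unusedSimpArgs false

namespace Cfsg.Agent.PU

open Subgroup Cfsg.Agent.Perm Finset

/-- A group isospectral to the alternating group of degree ten. -/
theorem thm_3489 (N : ℕ) : ∃ (H : Type) (_ : Group H) (_ : Fintype H), N < Fintype.card H ∧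
    Set.range (orderOf : H → ℕ) = Set.range (orderOf : alternatingGroup (Fin 10) → ℕ) := by
  classical
  obtain ⟨H, _, _, ρ, h1, h2, h3⟩ := fpf_2S5
  haveI : Fact (Nat.Prime 7) := ⟨by norm_num⟩
  have inv : ∀ t : H, orderOf t = 2 → ∀ v, ρ t v = -v := fun t ht v => by
    refine eq_neg_of_add_eq_zero_left (h1 t (fun e => by simp [e] at ht) _ ?_)
    rw [map_add, ← Module.End.mul_apply, ← map_mul, ← pow_two, ← ht, pow_orderOf_eq_one, map_one, add_comm]; rfl
  have uniq : ∀ s t : H, orderOf s = 2 → orderOf t = 2 → s = t := fun s t hs ht => by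
    by_contra hne
    refine one_ne_zero (h1 (s⁻¹ * t) (fun e => hne (inv_mul_eq_one.1 e)) 1 ?_)
    rw [map_mul, Module.End.mul_apply, inv t ht, ← inv s hs, ← Module.End.mul_apply, ← map_mul, inv_mul_cancel, ρ.map_one]; rfl
  obtain ⟨z, hz⟩ := spec_dvd (h3 8 (by simp)) (show 2 ∣ 8 by norm_num)
  have zc : ∀ g, z * g = g * z := fun g => by
    rw [eq_comm, ← mul_inv_eq_iff_eq_mul]
    exact uniq _ _ ((SemiconjBy.orderOf_eq g (x := z) (by simp [SemiconjBy])).symm.trans hz) hz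
  have zz : z * z = 1 := by rw [← pow_two, ← hz, pow_orderOf_eq_one]
  let W : Submodule ℤ (H → ZMod 3) :=
    { carrier := {f | ∀ x, f (z * x) = -f x}
      add_mem' := fun h h' x => by simp [h x, h' x, add_comm]
      zero_mem' := by simp
      smul_mem' := fun c f h x => by simp [h x] }
  let σ : H →* Module.End ℤ ((Fin 4 → ZMod 7) × W) :=
    { toFun := fun g => LinearMap.prodMap ((ρ g).toAddMonoidHom.toIntLinearMap)
        ((LinearMap.funLeft ℤ (ZMod 3) (· * g)).restrict (p := W) (q := W) fun f hf x => by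
          simpa [mul_assoc] using hf (x * g))
      map_one' := LinearMap.ext fun v => Prod.ext (by simp) (Subtype.ext (funext fun x => by simp))
      map_mul' := fun a b => LinearMap.ext fun v => Prod.ext (by simp) (Subtype.ext (funext fun x => by
        simp [mul_assoc])) }
  have s1 : ∀ g v, (nm σ g v).1 = nm ρ g v.1 := fun g v => by rw [nm, Prod.fst_sum]; rfl
  have s2 : ∀ g v x, (nm σ g v).2.1 x = ∑ i ∈ range (orderOf g), v.2.1 (x * g ^ i) := fun g v x => by
    rw [nm, Prod.snd_sum, Submodule.coe_sum, Finset.sum_apply]; rfl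
  have n7 : ∀ v : Fin 4 → ZMod 7, 7 • v = 0 := fun v => by
    rw [← Nat.cast_smul_eq_nsmul (ZMod 7), ZMod.natCast_self, zero_smul]
  have n3 : ∀ v : W, 3 • v = 0 := fun v => Subtype.ext (by
    rw [Submodule.coe_smul_of_tower, ← Nat.cast_smul_eq_nsmul (ZMod 3), ZMod.natCast_self, zero_smul]; rfl)
  let f : W := ⟨fun x => (if x = 1 then 1 else 0) - if x = z then 1 else 0, fun x => by
    have a1 : z * x = 1 ↔ x = z := by rw [mul_eq_one_iff_inv_eq, inv_eq_of_mul_eq_one_right zz, eq_comm]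
    simp only [a1, mul_eq_left, neg_sub]⟩
  have hf : ∀ g, Odd (orderOf g) → ∑ i ∈ range (orderOf g), f.1 (1 * g ^ i) = 1 := fun g hg => by
    have a1 : ∀ i, g ^ i ≠ z := fun i e => by
      have := orderOf_pow_dvd (x := g) i
      rw [e, hz] at this
      exact Nat.not_even_iff_odd.2 hg (even_iff_two_dvd.2 this)
    simp only [f, one_mul, a1, if_false, sub_zero]
    rw [sum_eq_single 0 (fun i hi h0 => if_neg (pow_ne_one_of_lt_orderOf h0 (mem_range.1 hi)))
      fun h => (h (mem_range.2 (orderOf_pos g))).elim, pow_zero, if_pos rfl]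
  have o3 : ∀ g, g ≠ 1 → ∀ v, 3 • nm σ g v = 0 := fun g hg v => Prod.ext (by
    rw [Prod.smul_fst, s1, h1 g hg _ (nm_fix ρ g _)]; simp) (n3 _)
  haveI : Fact (Nat.Prime 3) := ⟨by norm_num⟩
  have odd : ∀ g : H, g ≠ 1 → Odd (orderOf g) → orderOf g * 3 ∈ Set.range (orderOf : SD σ → ℕ) := fun g h0 hg =>
    (mem_spec_SD σ).2 ⟨g, (0, f), by
      rw [addOrderOf_eq_prime (p := 3) (o3 g h0 _) fun e => ?_]
      have := s2 g (0, f) 1
      rw [e, hf g hg] at this
      exact zero_ne_one this⟩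
  have e : Set.range (orderOf : SD σ → ℕ) = Set.range (orderOf : alternatingGroup (Fin 10) → ℕ) := by
    rw [spec_alt10]
    refine Set.ext fun n => ⟨fun h => ?_, fun h => ?_⟩
    · obtain ⟨g, v, rfl⟩ := (mem_spec_SD σ).1 h
      by_cases e : g = 1
      · have : addOrderOf v ∣ 21 := addOrderOf_dvd_of_nsmul_eq_zero (Prod.ext
          (by rw [Prod.smul_fst, show 21 = 3 * 7 from rfl, mul_smul, n7, smul_zero]; rfl)
          (by rw [Prod.smul_snd, show 21 = 7 * 3 from rfl, mul_smul, n3, smul_zero]; rfl))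
        rw [e, nm_one, orderOf_one, one_mul]
        exact (by decide : ∀ k ∈ Nat.divisors 21, k ∈ [1, 2, 3, 4, 5, 6, 7, 8, 9, 10, 12, 15, 21]) _
          (Nat.mem_divisors.2 ⟨this, by norm_num⟩)
      have a1 := addOrderOf_dvd_of_nsmul_eq_zero (o3 g e v)
      have a2 : Even (orderOf g) → addOrderOf (nm σ g v) = 1 := fun ⟨k, hk⟩ => by
        have k0 : k ≠ 0 := fun e => (orderOf_pos g).ne' (by rw [hk, e])
        have : g ^ k = z := uniq _ _ (by
          rw [orderOf_pow_of_dvd k0 ⟨2, by omega⟩, hk, ← two_mul, Nat.mul_div_cancel _ (Nat.pos_of_ne_zero k0)]) hz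
        refine AddMonoid.addOrderOf_eq_one_iff.2 (Prod.ext (by rw [s1, h1 g e _ (nm_fix ρ g _)]; rfl)
          (Subtype.ext (funext fun x => ?_)))
        rw [s2, hk, sum_range_add, ← sum_add_distrib]
        refine sum_eq_zero fun i _ => ?_
        rw [pow_add, this, ← mul_assoc, ← zc, mul_assoc, v.2.2, add_neg_cancel]
      have a3 : orderOf g ∣ 8 ∨ orderOf g ∣ 10 ∨ orderOf g ∣ 12 := by simpa using h2 g
      have a4 : orderOf g ≠ 1 := mt orderOf_eq_one_iff.1 e
      generalize addOrderOf (nm σ g v) = k at a1 a2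
      generalize orderOf g = m at a2 a3 a4
      have b2 : m ∣ 120 := a3.elim (·.trans (by norm_num)) (·.elim (·.trans (by norm_num)) (·.trans (by norm_num)))
      exact (by decide : ∀ m ∈ Nat.divisors 120, ∀ k ∈ Nat.divisors 3, m ∣ 8 ∨ m ∣ 10 ∨ m ∣ 12 → m ≠ 1 → (Even m → k = 1) →
        m * k ∈ [1, 2, 3, 4, 5, 6, 7, 8, 9, 10, 12, 15, 21]) m (Nat.mem_divisors.2 ⟨b2, by norm_num⟩) k
          (Nat.mem_divisors.2 ⟨a1, by norm_num⟩) a3 a4 a2
    · have b := fun n hn => spec_le_SD σ (h3 n hn)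
      obtain ⟨g3, e3⟩ := spec_dvd (h3 12 (by simp)) (show 3 ∣ 12 by norm_num)
      obtain ⟨g5, e5⟩ := spec_dvd (h3 10 (by simp)) (show 5 ∣ 10 by norm_num)
      have b9 := odd g3 (fun e => by simp [e] at e3) (by rw [e3]; decide)
      have b15 := odd g5 (fun e => by simp [e] at e5) (by rw [e5]; decide)
      rw [e3] at b9; rw [e5] at b15
      have b21 : 21 ∈ Set.range (orderOf : SD σ → ℕ) := (mem_spec_SD σ).2 ⟨1, (1, f), by
        rw [nm_one, orderOf_one, one_mul, Prod.addOrderOf_mk, addOrderOf_eq_prime (n7 1) one_ne_zero,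
          addOrderOf_eq_prime (p := 3) (n3 f) fun e => ?_]
        · rfl
        · have := hf 1 (by simp)
          rw [e] at this; simp at this⟩
      have : n ∣ 8 ∨ n ∣ 12 ∨ n ∣ 10 ∨ n ∣ 3 * 3 ∨ n ∣ 5 * 3 ∨ n ∣ 21 := by
        simp only [Set.mem_setOf_eq, List.mem_cons, List.not_mem_nil, or_false] at h
        rcases h with rfl | rfl | rfl | rfl | rfl | rfl | rfl | rfl | rfl | rfl | rfl | rfl | rfl <;> decide
      rcases this with h | h | h | h | h | h
      exacts [spec_dvd (b 8 (by simp)) h, spec_dvd (b 12 (by simp)) h, spec_dvd (b 10 (by simp)) h, spec_dvd b9 h,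
        spec_dvd b15 h, spec_dvd b21 h]
  exact e ▸ large_SD σ (p := 7) (by norm_num) (LinearMap.ker (LinearMap.snd ℤ _ _))
    (fun g v hv => Subtype.ext (funext fun x => show v.2.1 (x * g) = 0 by rw [show v.2 = 0 from hv]; rfl)) ⟨(1, 0), rfl, by simp⟩ (fun v hv => Prod.ext (n7 _) (by
      rw [Prod.smul_snd, show v.2 = 0 from hv, smul_zero]; rfl)) N

open Cfsg.Agent.Perm.GL2 Matrix

variable {F : Type*} [Field F] [Fintype F]

open scoped Classical

theorem thm_3532 (hF : 4 ≤ Fintype.card F) : ∃ (H : Type) (_ : Group H) (_ : Finite H), Group.IsSolvable H ∧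
    Set.range (orderOf : H → ℕ) = Set.range (orderOf : PSL2 F × PSL2 F → ℕ) := by
  obtain ⟨p, hc, k, hp, hk⟩ := FiniteField.card' F
  haveI := Fact.mk hp
  have e := spec_PSL2 (F := F) p
  have h1 : 2 ∣ Fintype.card F - 1 → Nat.gcd 2 (Fintype.card F - 1) = 2 := Nat.gcd_eq_left
  have h2 : ¬ 2 ∣ Fintype.card F - 1 → Nat.gcd 2 (Fintype.card F - 1) = 1 := Nat.prime_two.coprime_iff_not_dvd.2
  have h3 : p ∣ Fintype.card F := hk ▸ dvd_pow_self p k.ne_zero
  generalize Fintype.card F = q at e h1 h2 h3 hF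
  have c1 : p.Coprime ((q - 1) / Nat.gcd 2 (q - 1)) := (hp.coprime_iff_not_dvd.2 fun h => hp.not_dvd_one (by
    have := Nat.dvd_sub h3 h; rwa [Nat.sub_sub_self (by omega)] at this)).coprime_dvd_right
      (Nat.div_dvd_of_dvd (Nat.gcd_dvd_right _ _))
  have c2 : (q - 1) / Nat.gcd 2 (q - 1) ≠ 0 ∧ (q + 1) / Nat.gcd 2 (q - 1) ≠ 0 ∧
      ((q - 1) / Nat.gcd 2 (q - 1)).Coprime ((q + 1) / Nat.gcd 2 (q - 1)) := by
    by_cases h : 2 ∣ q - 1
    · rw [h1 h, show (q + 1) / 2 = (q - 1) / 2 + 1 by omega]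
      exact ⟨by omega, by omega, by simp⟩
    · rw [h2 h, Nat.div_one, Nat.div_one, show q + 1 = 2 + (q - 1) by omega, Nat.coprime_add_self_right]
      exact ⟨by omega, by omega, (Nat.prime_two.coprime_iff_not_dvd.2 h).symm⟩
  generalize (q - 1) / Nat.gcd 2 (q - 1) = b at e c1 c2
  generalize (q + 1) / Nat.gcd 2 (q - 1) = c at e c2
  obtain ⟨K, _, _, s1, e1⟩ := exists_frob_spec hp.ne_zero c2.1 c1
  obtain ⟨L, _, _, s2, e2⟩ := exists_frob_spec c2.1 c2.2.1 c2.2.2
  refine ⟨K × L, inferInstance, inferInstance, inferInstance, Set.ext fun n => ?_⟩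
  rw [mem_spec_prod, mem_spec_prod, e, e1, e2]
  simp only [Set.mem_setOf_eq]
  refine ⟨fun ⟨x, h1, y, h2, h3⟩ => ⟨x, by tauto, y, by tauto, h3⟩, ?_⟩
  rintro ⟨x, h1 | h1 | h1, y, h2 | h2 | h2, rfl⟩
  · exact ⟨_, Or.inl (Nat.lcm_dvd h1 h2), 1, by simp, Nat.lcm_one_right _⟩
  · exact ⟨x, by tauto, y, by tauto, rfl⟩
  · exact ⟨x, by tauto, y, by tauto, rfl⟩
  · exact ⟨y, by tauto, x, by tauto, Nat.lcm_comm _ _⟩
  · exact ⟨x, by tauto, y, by tauto, rfl⟩
  · exact ⟨x, by tauto, y, by tauto, rfl⟩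
  · exact ⟨y, by tauto, x, by tauto, Nat.lcm_comm _ _⟩
  · exact ⟨y, by tauto, x, by tauto, Nat.lcm_comm _ _⟩
  · exact ⟨1, by simp, _, Or.inr (Nat.lcm_dvd h1 h2), Nat.lcm_one_left _⟩

theorem spec_PGL2' (p : ℕ) [hp : Fact p.Prime] [CharP F p] : Set.range (orderOf : PGL2 F → ℕ) =
    {m | m ∣ p ∨ m ∣ Fintype.card F - 1 ∨ m ∣ Fintype.card F + 1} := by
  refine Set.ext fun n => ⟨fun ⟨g, e⟩ => e ▸ spec_PGL2 p g, ?_⟩
  have k : ∀ g : GL (Fin 2) F, mkP g ^ p ≠ 1 → Nat.card ((cent g).map mkP) ∈ Set.range (orderOf : PGL2 F → ℕ) :=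
    fun g h => by
      haveI := (torus_data h).2.1
      exact spec_subset_of_injective _ ((cent g).map mkP).subtype_injective (by rw [spec_cyclic]; exact dvd_rfl)
  rintro (h | h | h) <;> refine spec_dvd ?_ h
  · refine ⟨mkP (up 1 1 1), orderOf_eq_prime (mkP_pow_eq_one.2 (isScal_pow_of_upper (by simp) (by simp))) fun e => ?_⟩
    simpa using (mkP_eq_one.1 e).1
  · let f : Fˣ →* PGL2 F := mkP.comp (MonoidHom.mk' (fun a => up a 1 0) fun a b => Units.ext (by simp))
    refine spec_subset_of_injective f ((injective_iff_map_eq_one f).2 fun a h => ?_) ?_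
    · simpa using (mkP_eq_one.1 h).2.2
    · rw [spec_cyclic, Nat.card_eq_fintype_card, Fintype.card_units]; exact dvd_rfl
  · obtain ⟨e, he⟩ := exists_ell (F := F)
    have hc := card_map_mkP (center_le_cent e)
    rw [he.card_cent, sq_sub_one_eq] at hc
    exact Nat.eq_of_mul_eq_mul_right card_sub_one_pos hc ▸ k e fun h => he.isReg.not_scal_pow (mkP_pow_eq_one.1 h)

/-- functions with zero sums over the cosets of the subgroups of order `p` -/
def cusp (G : Type*) [Group G] (p : ℕ) : Submodule ℤ (G → ZMod 2) where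
  carrier := {f | ∀ x, orderOf x = p → ∀ y, ∑ i ∈ range p, f (y * x ^ i) = 0}
  add_mem' h h' x hx y := by simp [sum_add_distrib, h x hx y, h' x hx y]
  zero_mem' := by simp
  smul_mem' c f h x hx y := by simp only [Pi.smul_apply, ← smul_sum, h x hx y, smul_zero]

/-- the action by translations -/
def cuspRep (G : Type*) [Group G] (p : ℕ) : G →* Module.End ℤ (cusp G p) where
  toFun g := (LinearMap.funLeft ℤ (ZMod 2) (· * g)).restrict (p := cusp G p) (q := cusp G p) fun f hf x hx y => by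
    have := hf (g⁻¹ * x * g⁻¹⁻¹) (by rw [← hx]; exact SemiconjBy.orderOf_eq g (by simp [SemiconjBy, mul_assoc])) (y * g)
    simp only [conj_pow] at this
    simpa [mul_assoc] using this
  map_one' := LinearMap.ext fun v => Subtype.ext (funext fun x => by simp)
  map_mul' a b := LinearMap.ext fun v => Subtype.ext (funext fun x => congrArg v.1 (mul_assoc x a b).symm)

theorem nm_cusp {G : Type*} [Group G] (p : ℕ) (g : G) (v : cusp G p) (x : G) :
    (nm (cuspRep G p) g v).1 x = ∑ i ∈ range (orderOf g), v.1 (x * g ^ i) := by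
  rw [nm, Submodule.coe_sum, Finset.sum_apply]; rfl

theorem two_cusp {G : Type*} [Group G] (p : ℕ) (v : cusp G p) : 2 • v = 0 := Subtype.ext (by
  rw [Submodule.coe_smul_of_tower, ← Nat.cast_smul_eq_nsmul (ZMod 2), ZMod.natCast_self, zero_smul]; rfl)

theorem sq_of_nil {M n : M2 F} (h0 : n ≠ 0) (h1 : n.trace = 0) (h2 : n.det = 0) (h3 : (M * n).trace = 0) :
    IsSquare (M.trace ^ 2 - 4 * M.det) := by
  simp only [trace_fin_two, det_fin_two, mul_apply2] at *
  by_cases hc : n 1 0 = 0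
  · have a1 : n 0 0 = 0 := pow_eq_zero_iff (two_ne_zero) |>.1 (by linear_combination n 0 0 * h1 - h2 - n 0 1 * hc)
    have a2 : n 0 1 ≠ 0 := fun e => h0 (m2_ext a1 e hc (by simpa [a1] using h1))
    have a3 : M 1 0 = 0 := (mul_eq_zero.1 (by
      linear_combination h3 - (M 0 0 - M 1 1) * a1 - M 0 1 * hc - M 1 1 * h1)).resolve_right a2
    exact ⟨M 0 0 - M 1 1, by rw [a3]; ring⟩
  · refine ⟨M 0 0 - M 1 1 - 2 * M 1 0 * n 0 0 / n 1 0, ?_⟩
    field_simp
    linear_combination 4 * M 1 0 * n 1 0 * h3 - 4 * M 1 0 * (M 1 1 * n 1 0 + M 1 0 * n 0 0) * h1 + 4 * M 1 0 ^ 2 * h2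

theorem exists_cusp {p : ℕ} [hp : Fact p.Prime] [CharP F p] (hF : Fintype.card F = p) (h2 : (2 : F) ≠ 0) {m : M2 F}
    (hm : ¬ IsSquare (1 - m.det)) : ∃ f : cusp (PSL2 F) p, ∀ g : SL2 F,
      f.1 (toP g) = if (m * g).trace ^ 2 = 4 then 1 else 0 := by
  have p2 : Odd p := hF ▸ odd_of_two_ne_zero h2
  let f : PSL2 F → ZMod 2 := fun y => if (m * (toP_surjective y).choose).trace ^ 2 = 4 then 1 else 0
  have hf : ∀ g : SL2 F, f (toP g) = if (m * g).trace ^ 2 = 4 then 1 else 0 := fun g => by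
    rcases toP_eq_iff.1 (toP_surjective (toP g)).choose_spec with h | h <;> simp only [f, h]
    simp
  refine ⟨⟨f, fun x hx y => ?_⟩, hf⟩
  obtain ⟨y, rfl⟩ := toP_surjective y
  obtain ⟨g, rfl, hg⟩ : ∃ g, toP g = x ∧ g ^ p = 1 := by
    obtain ⟨g, rfl⟩ := toP_surjective x
    rcases isScal_SL_iff.1 (orderOf_toP_dvd.1 hx.dvd) with h | h
    · exact ⟨g, rfl, h⟩
    · exact ⟨-g, toP_eq_iff.2 (Or.inr rfl), by rw [p2.neg_pow, h, neg_neg]⟩
  obtain ⟨n, hn⟩ : ∃ n : M2 F, (g : M2 F) = 1 + n := ⟨g - 1, by simp⟩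
  have a1 : IsNilpotent n := ⟨p, by
    rw [show n = g - 1 by simp [hn], sub_pow_char_of_commute p (Commute.one_right _), ← Matrix.SpecialLinearGroup.coe_pow, hg]
    simp⟩
  have a2 : n.trace = 0 := (isNilpotent_trace_of_isNilpotent a1).eq_zero
  have a3 : n.det = 0 := by
    obtain ⟨k, hk⟩ := a1
    exact IsNilpotent.eq_zero ⟨k, by rw [← det_pow, hk, det_zero]⟩
  have a4 : ∀ i : ℕ, (g : M2 F) ^ i = 1 + (i : F) • n := fun i => by
    induction i with
    | zero => simp
    | succ i ih =>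
      rw [pow_succ, ih, hn, add_mul, one_mul, mul_add, mul_one, smul_mul_assoc, cayley, a2, a3, Nat.cast_succ, add_smul]
      simp only [zero_smul, sub_self, smul_zero, add_zero, one_smul]; abel
  have a5 : n ≠ 0 := fun e => hp.out.ne_one (by
    rw [← hx, orderOf_eq_one_iff, show g = 1 from Subtype.ext (by simpa [e] using hn), map_one])
  simp only [← map_pow, ← map_mul, hf, Matrix.SpecialLinearGroup.coe_mul, Matrix.SpecialLinearGroup.coe_pow, a4, ← mul_assoc, mul_add,
    mul_one, mul_smul_comm, trace_add, trace_smul, smul_eq_mul]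
  by_cases hs : (m * y * n).trace = 0
  · refine sum_eq_zero fun i _ => if_neg fun h => hm ?_
    obtain ⟨r, hr⟩ := sq_of_nil a5 a2 a3 hs
    rw [hs, mul_zero, add_zero] at h
    rw [h, det_mul, y.2, mul_one] at hr
    exact ⟨r / 2, by field_simp; linear_combination hr⟩
  have inj : Set.InjOn (fun i : ℕ => (m * y).trace + (i : F) * (m * y * n).trace) (range p : Finset ℕ) := fun i hi j hj e =>
    CharP.natCast_injOn_Iio F p (by simpa using hi) (by simpa using hj) (mul_right_cancel₀ hs (add_left_cancel e))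
  rw [← sum_image (f := fun w : F => if w ^ 2 = 4 then (1 : ZMod 2) else 0) inj,
    eq_univ_of_card (image _ _) (by rw [card_image_of_injOn inj, card_range, hF])]
  refine sum_involution (fun w _ => -w) (fun w _ => ?_) (fun w _ h e => h (if_neg fun e' => ?_)) (by simp) (by simp)
  · rw [neg_sq]; exact CharTwo.add_self_eq_zero _
  · have : w = 0 := (mul_eq_zero.1 (show 2 * w = 0 by linear_combination -e)).resolve_left h2
    exact mul_ne_zero h2 h2 (by rw [this] at e'; linear_combination -e')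

theorem cusp_double {p : ℕ} [hp : Fact p.Prime] [CharP F p] (hF : Fintype.card F = p) (h2 : (2 : F) ≠ 0) {n : M2 F}
    (h0 : n.trace = 0) (hn : ¬ IsSquare (-n.det)) {H : Subgroup (SL2 F)} (hH : IsCyclic H) (hZ : center _ ≤ H)
    (h1 : ∀ t ∈ H, (n * t).trace = 0) (h3 : ∀ t ∈ H, (t : M2 F).trace ^ 2 = 4 → IsScal (t : M2 F)) :
    Nat.card H / 2 * 2 ∈ Set.range (orderOf : SD (cuspRep (PSL2 F) p) → ℕ) := by
  obtain ⟨f, hf⟩ := exists_cusp hF h2 (m := 1 + n) (by
    have := det_comb n 1 1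
    rw [one_smul, one_smul, h0] at this
    rwa [this, show 1 - ((1 : F) ^ 2 + 1 * 1 * 0 + 1 ^ 2 * n.det) = -n.det by ring])
  obtain ⟨g, hg, e⟩ := (orderOf_toP_of_cyclic hH hZ).2
  rw [card_center_SL_odd h2] at e
  refine (mem_spec_SD _).2 ⟨toP g, f, ?_⟩
  rw [e, addOrderOf_eq_prime (two_cusp p _) fun h => ?_]
  have := nm_cusp p (toP g) f 1
  rw [h, sum_eq_single 0 (fun i hi h0 => ?_) fun h => (h (mem_range.2 (orderOf_pos _))).elim, pow_zero, one_mul,
    ← map_one toP, hf, if_pos] at this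
  · exact zero_ne_one this
  · rw [add_mul, trace_add, h1 1 (one_mem _)]; norm_num
  · rw [one_mul, ← map_pow, hf, if_neg fun e => pow_ne_one_of_lt_orderOf h0 (mem_range.1 hi) ?_]
    rw [add_mul, trace_add, h1 _ (pow_mem hg i), add_zero, one_mul] at e
    rw [← map_pow, toP_eq_one.2 (h3 _ (pow_mem hg i) e)]

theorem fpf_3 : ∃ (H : Type) (_ : Group H) (_ : Finite H) (ρ : H →* Module.End (ZMod 2) (Fin 4 → ZMod 2)),
      (∀ h, h ≠ 1 → ∀ v, ρ h v = v → v = 0) ∧ (∀ h : H, ∃ n ∈ [3], orderOf h ∣ n) ∧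
      ∀ x ∈ [3, 3, 3], x ∈ Set.range (orderOf : H → ℕ) :=
  T.fpf (a := T.dec 2 51250) (b := T.dec 2 51250) (L := List.map (T.dec 2) [33825, 51250, 19475])
    (by decide +kernel) (by decide) (by decide) (by decide +kernel) (by decide +kernel) (by decide +kernel)

theorem thm_3452 (hF : (Fintype.card F).Prime ∨ Fintype.card F = 9) (N : ℕ) : ∃ (H : Type) (_ : Group H) (_ : Fintype H),
    N < Fintype.card H ∧ Set.range (orderOf : H → ℕ) = Set.range (orderOf : PGL2 F → ℕ) := by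
  obtain ⟨p, hc, k, hp, hk⟩ := FiniteField.card' F
  haveI := Fact.mk hp
  have h3 : p ∣ Fintype.card F := hk ▸ dvd_pow_self p k.ne_zero
  rw [spec_PGL2' p]
  rcases hF with hF | hF
  swap
  · obtain ⟨-, -, -, -, -, h⟩ := frob_spec Nat.prime_three fpf_58 (by decide)
    rw [hF] at h3 ⊢
    rw [(Nat.prime_dvd_prime_iff_eq hp Nat.prime_three).1 (hp.dvd_of_dvd_pow (n := 2) h3)]
    simpa using h N
  replace hF := ((Nat.prime_dvd_prime_iff_eq hp hF).1 h3).symm
  by_cases h2 : (2 : F) = 0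
  · obtain ⟨-, -, -, -, -, h⟩ := frob_spec Nat.prime_two fpf_3 (by decide)
    obtain rfl := (Nat.prime_dvd_prime_iff_eq hp Nat.prime_two).1 ((CharP.cast_eq_zero_iff F p 2).1 h2)
    rw [hF]
    obtain ⟨L, _, _, h1, h⟩ := h N
    refine ⟨L, _, _, h1, h.trans (Set.ext fun n => ?_)⟩
    simp only [List.exists_mem_cons_iff, List.not_mem_nil, false_and, exists_false, or_false, Set.mem_setOf_eq]
    exact ⟨fun h => h.imp_right Or.inr, fun h => h.elim Or.inl (·.elim (fun e => Or.inl (e.trans (one_dvd _))) Or.inr)⟩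
  have p2 : Odd p := hF ▸ odd_of_two_ne_zero h2
  obtain ⟨ν, hν⟩ := FiniteField.exists_nonsquare (ringChar_ne_two h2)
  have ν0 : ν ≠ 0 := fun e => hν (e ▸ IsSquare.zero)
  have b1 := cusp_double hF h2 (n := !![0, ν; 1, 0]) (by simp [trace_fin_two]) (by simpa [det_fin_two] using hν)
    isCyclic_range_torS (fun z hz => mem_range_torS.2 ⟨(isScal_iff_center_SL.2 hz).1, (isScal_iff_center_SL.2 hz).2.1⟩)
    (fun t ht => by rw [trace_fin_two, mul_apply2, mul_apply2]; simp [mem_range_torS.1 ht]) fun t ht h => by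
      obtain ⟨a1, a2⟩ := mem_range_torS.1 ht
      have := upper_mul_SL a2
      rw [trace_fin_two] at h
      exact ⟨a1, a2, sub_eq_zero.1 (pow_eq_zero_iff two_ne_zero |>.1 (by linear_combination h - 4 * this))⟩
  let e : GL (Fin 2) F := GeneralLinearGroup.mkOfDetNeZero !![0, ν; 1, 0] (by simpa [det_fin_two] using ν0)
  have ee : (e : M2 F) = !![0, ν; 1, 0] := rfl
  have he : IsEll (e : M2 F) := isEll_iff.2 fun c h => hν ⟨c, by
    simp only [ee, trace_fin_two_of, det_fin_two_of] at h; linear_combination -h⟩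
  obtain ⟨c, c1, c2⟩ := he.exists_det (Units.mk0 ν ν0)
  obtain ⟨a, b, c3⟩ := (comm_iff he.not_scal _).1 (mem_cent'.1 c1)
  have c4 : a ^ 2 - ν * b ^ 2 = ν := by
    have : (c : M2 F).det = ν := congrArg Units.val c2
    rw [c3, det_comb, ee, trace_fin_two_of, det_fin_two_of] at this
    linear_combination this
  have b2 := cusp_double hF h2 (n := !![a, -b * ν; b, -a]) (by simp [trace_fin_two]) (by
    rwa [det_fin_two_of, show -(a * -a - -b * ν * b) = ν by linear_combination c4]) he.isCyclic_comap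
    (fun z hz => scal_mem_cent (z := Matrix.SpecialLinearGroup.toGL z) (isScal_iff_center_SL.2 hz) e) (fun t ht => by
      obtain ⟨x, y, h⟩ := (comm_iff he.not_scal _).1 (mem_cent'.1 ht)
      rw [show (t : M2 F) = _ from h, ee, trace_fin_two, mul_apply2, mul_apply2]
      simp; ring) fun t ht h => by
      by_contra hs
      refine isEll_iff.1 (he.of_mem_cent ht hs) ((t : M2 F).trace / 2) ?_
      change _ - (t : M2 F).trace * _ + (t : M2 F).det = 0
      rw [t.2]; field_simp; linear_combination -h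
  rw [card_range_torS] at b1
  rw [he.card_comap] at b2
  have e1 := spec_PSL2 (F := F) p
  obtain ⟨r, hr⟩ := p2
  rw [hF, Nat.gcd_eq_left (show 2 ∣ p - 1 by omega)] at e1
  rw [hF, Nat.div_mul_cancel (by omega)] at b1 b2
  have e2 : Set.range (orderOf : SD (cuspRep (PSL2 F) p) → ℕ) = {m | m ∣ p ∨ m ∣ p - 1 ∨ m ∣ p + 1} := by
    refine Set.ext fun n => ⟨fun h => ?_, fun h => h.elim (fun h => spec_le_SD _ (e1 ▸ Or.inl h))
      (·.elim (spec_dvd b1) (spec_dvd b2))⟩
    obtain ⟨g, v, rfl⟩ := (mem_spec_SD _).1 h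
    have a1 := addOrderOf_dvd_of_nsmul_eq_zero (two_cusp p (nm (cuspRep _ p) g v))
    have a2 : orderOf g ∣ (p - 1) / 2 → orderOf g * addOrderOf (nm (cuspRep _ p) g v) ∣ p - 1 := fun h =>
      (mul_dvd_mul h a1).trans (Nat.div_mul_cancel (by omega)).dvd
    rcases e1.le ⟨g, rfl⟩ with h | h | h
    · refine ((Nat.dvd_prime hp).1 h).elim (fun e => Or.inr (Or.inl (a2 (e.dvd.trans (one_dvd _))))) fun e => Or.inl ?_
      rw [show nm (cuspRep _ p) g v = 0 from Subtype.ext (funext fun x => by rw [nm_cusp, e]; exact v.2 g e x),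
        addOrderOf_zero, mul_one]
      exact h
    · exact Or.inr (Or.inl (a2 h))
    · exact Or.inr (Or.inr ((mul_dvd_mul h a1).trans (Nat.div_mul_cancel (by omega)).dvd))
  rw [hF, ← e2]
  obtain ⟨f, hf⟩ := exists_cusp hF h2 (m := !![1, ν; 1, 1]) (by simpa [det_fin_two] using hν)
  refine large_SD _ Nat.prime_two ⊤ (by simp) ⟨f, trivial, fun h => ?_⟩ (fun v _ => two_cusp p v) N
  have := hf 1
  rw [h, if_pos (by simp [trace_fin_two]; norm_num)] at this
  exact zero_ne_one this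

end Cfsg.Agent.PU
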