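/-
Element orders of the three dimensional linear and unitary groups.
-/
import Cfsg.Agent.Lib.PU.Ms14
import Cfsg.Prelude.Def_Classical

set_option autoImplicit false
set_option linter.unusedSectionVars false
set_option linter.unusedVariables false
set_option linter.style.haveILetI false
set_option linter.unusedSimpArgs false

namespace Cfsg.Agent.PU

open Subgroup Cfsg.Agent.Perm Polynomial Matrix

variable {K : Type*} [Field K] {t s : K} {a b c : Kˣ}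

/-- three by three matrices -/
abbrev M3 (K : Type*) := Matrix (Fin 3) (Fin 3) K
/-- the three roots of a cubic -/
def Tri (t s : K) (a b c : Kˣ) : Prop := (a : K) + b + c = t ∧ (a : K) * b + b * c + c * a = s ∧ a * b * c = 1
/-- a root of a cubic -/
def Rt (t s : K) (x : Kˣ) : Prop := (x : K) ^ 3 - t * x ^ 2 + s * x - 1 = 0
/-- scalar matrices -/
def Sc (A : M3 K) : Prop := ∃ μ : K, A = μ • 1

theorem Tri.val (h : Tri t s a b c) : (a : K) * b * c = 1 := congrArg Units.val h.2.2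

theorem Tri.rt (h : Tri t s a b c) {x : Kˣ} : Rt t s x ↔ x = a ∨ x = b ∨ x = c := by
  rw [Rt, show (x : K) ^ 3 - t * x ^ 2 + s * x - 1 = (x - a) * ((x - b) * (x - c)) by
    linear_combination x ^ 2 * h.1 - x * h.2.1 + h.val]
  simp [sub_eq_zero, Units.ext_iff]

theorem Tri.swap (h : Tri t s a b c) : Tri t s b a c :=
  ⟨by linear_combination h.1, by linear_combination h.2.1, by rw [mul_comm b, h.2.2]⟩

theorem Tri.rot (h : Tri t s a b c) : Tri t s b c a :=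
  ⟨by linear_combination h.1, by linear_combination h.2.1, by rw [mul_comm, ← mul_assoc, h.2.2]⟩

theorem exists_tri [IsAlgClosed K] (t s : K) : ∃ a b c, Tri t s a b c := by
  obtain ⟨a, ha⟩ := IsAlgClosed.exists_root (X ^ 3 - C t * X ^ 2 + C s * X - 1 : K[X]) (by
    rw [show degree _ = 3 by compute_degree!]; decide)
  simp only [IsRoot.def, eval_sub, eval_add, eval_mul, eval_pow, eval_X, eval_C, eval_one] at ha
  have a0 : a ≠ 0 := fun e => by simp [e] at ha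
  obtain ⟨b, hb⟩ := IsAlgClosed.exists_root (X ^ 2 - C (t - a) * X + C a⁻¹ : K[X]) (by
    rw [show degree _ = 2 by compute_degree!]; decide)
  simp only [IsRoot.def, eval_sub, eval_add, eval_mul, eval_pow, eval_X, eval_C] at hb
  have h : a * b * (t - a - b) = 1 := by field_simp at hb; linear_combination -hb
  refine ⟨.mk0 a a0, .mk0 b (right_ne_zero_of_mul (left_ne_zero_of_mul_eq_one h)), .mk0 _ (right_ne_zero_of_mul_eq_one h),
    by simp, mul_left_cancel₀ a0 ?_, Units.ext h⟩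
  simp only [Units.val_mk0]
  linear_combination h - ha

theorem Tri.sc {A : M3 K} (hA : A.det = 1) (h : Tri A.trace A.adjugate.trace a b c) (p : ℕ) [Fact p.Prime] [CharP K p]
    {N k : ℕ} {μ : K} (hd : (X - C (a : K)) * (X - C (b : K)) * (X - C (c : K)) ∣ (X ^ N - C μ) ^ p ^ k) :
    Sc (A ^ (N * p ^ k)) := by
  obtain ⟨f, hf⟩ := hd
  have h1 : aeval A ((X - C (a : K)) * (X - C (b : K)) * (X - C (c : K))) = 0 := by
    rw [show (X - C (a : K)) * (X - C (b : K)) * (X - C (c : K)) = X * X * X - C A.trace * (X * X) +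
      C A.adjugate.trace * X - C A.det by
        rw [← h.1, ← h.2.1, hA, ← h.val]; simp only [map_add, map_mul]; ring]
    simp only [map_sub, map_add, map_mul, aeval_X, aeval_C, Algebra.algebraMap_eq_smul_one, smul_mul_assoc, one_mul]
    ext i j
    fin_cases i <;> fin_cases j <;>
      simp [Matrix.mul_apply, Fin.sum_univ_three, trace_fin_three, adjugate_fin_three, det_fin_three] <;> ring
  have := congrArg (aeval A) hf
  rw [map_mul, h1, zero_mul, sub_pow_char_pow, ← pow_mul, ← C_pow, map_sub, map_pow, aeval_X, aeval_C, sub_eq_zero,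
    Algebra.algebraMap_eq_smul_one] at this
  exact ⟨_, this⟩

theorem lin_dvd {N : ℕ} {μ : Kˣ} (h : a ^ N = μ) : X - C (a : K) ∣ X ^ N - C (μ : K) :=
  dvd_iff_isRoot.2 (by simp [← h])

theorem lin_cop (h : a ≠ b) : IsCoprime (X - C (a : K)) (X - C (b : K)) :=
  isCoprime_X_sub_C_of_isUnit_sub (sub_ne_zero.2 fun e => h (Units.ext e)).isUnit

theorem Rt.eq {A : M3 K} (hA : A.det = 1) (h : Rt A.trace A.adjugate.trace a) {m : ℕ} {μ : K} (e : A ^ m = μ • 1) :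
    (a : K) ^ m = μ := by
  obtain ⟨v, h0, hv⟩ := Matrix.exists_mulVec_eq_zero_iff.2 (show ((a : K) • (1 : M3 K) - A).det = 0 by
    rw [Rt, ← hA] at h
    rw [← h]; simp [trace_fin_three, adjugate_fin_three, det_fin_three]; ring)
  rw [sub_mulVec, sub_eq_zero, smul_mulVec, one_mulVec] at hv
  have : ∀ m : ℕ, (A ^ m).mulVec v = (a : K) ^ m • v := fun m => by
    induction m with
    | zero => simp
    | succ m ih => rw [pow_succ, ← mulVec_mulVec, ← hv, mulVec_smul, ih, smul_smul, pow_succ']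
  have := this m
  rw [e, smul_mulVec, one_mulVec] at this
  exact (smul_left_injective K h0 this).symm

theorem Tri.cases (h : Tri t s a b c) {e : ℤ} (inj : ∀ x y : Kˣ, x ^ e = y ^ e → x = y)
    (hr : ∀ x, Rt t s x → Rt t s (x ^ e)) : ∃ a b c, Tri t s a b c ∧ ((a = b ∧ a ^ e = a) ∨ (a ≠ b ∧ a ≠ c ∧ b ≠ c) ∧
      ((a ^ e = a ∧ b ^ e = b ∧ c ^ e = c) ∨ a ^ e = b ∧ (a ^ (e ^ 2 - 1) = 1 ∨ a ^ (e ^ 2 + e + 1) = 1))) := by
  have k1 : ∀ a b c, Tri t s a b c → a ^ e = b → a ≠ b → (a ≠ b ∧ a ≠ c ∧ b ≠ c) ∧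
      (a ^ (e ^ 2 - 1) = 1 ∨ a ^ (e ^ 2 + e + 1) = 1) := fun a b c h h1 h2 => by
    have h3 : b ^ e ≠ b := fun h3 => h2 (inj _ _ (h1.trans h3.symm))
    have h4 : b ^ e = a → c ^ e = c ∧ a ^ (e ^ 2 - 1) = 1 := fun h4 => ⟨by
      rw [eq_inv_of_mul_eq_one_right h.2.2, _root_.inv_zpow, mul_zpow, h1, h4, mul_comm],
      by rw [_root_.zpow_sub_one, pow_two, _root_.zpow_mul, h1, h4, mul_inv_cancel]⟩
    by_cases h5 : b ^ e = a
    · exact ⟨⟨h2, fun e' => h2 (by rw [← h1, e', (h4 h5).1]), fun e' => h3 (e' ▸ (h4 h5).1)⟩, Or.inl (h4 h5).2⟩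
    have h6 := ((h.rt.1 (hr b (h.rt.2 (by simp)))).resolve_left h5).resolve_left h3
    exact ⟨⟨h2, fun e' => h5 (h6.trans e'.symm), fun e' => h3 (h6.trans e'.symm)⟩, Or.inr (by
      rw [_root_.zpow_add_one, _root_.zpow_add, pow_two, _root_.zpow_mul, h1, h6, ← h.2.2]; ac_rfl)⟩
  have k2 : ∀ a b c, Tri t s a b c → a ^ e ≠ a → ∃ a b c, Tri t s a b c ∧ a ^ e = b ∧ a ≠ b := fun a b c h h1 =>
    ((h.rt.1 (hr a (h.rt.2 (by simp)))).resolve_left h1).elim (fun e' => ⟨a, b, c, h, e', fun e2 => h1 (e'.trans e2.symm)⟩)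
      fun e' => ⟨a, c, b, h.rot.rot.swap, e', fun e2 => h1 (e'.trans e2.symm)⟩
  by_cases h1 : a ^ e = a ∧ b ^ e = b ∧ c ^ e = c
  · by_cases h2 : a = b
    · exact ⟨a, b, c, h, Or.inl ⟨h2, h1.1⟩⟩
    by_cases h3 : a = c
    · exact ⟨a, c, b, h.rot.rot.swap, Or.inl ⟨h3, h1.1⟩⟩
    by_cases h4 : b = c
    · exact ⟨b, c, a, h.rot, Or.inl ⟨h4, h1.2.1⟩⟩
    exact ⟨a, b, c, h, Or.inr ⟨⟨h2, h3, h4⟩, Or.inl h1⟩⟩
  obtain ⟨a, b, c, h, h2, h3⟩ : ∃ a b c, Tri t s a b c ∧ a ^ e = b ∧ a ≠ b := by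
    rw [not_and_or, not_and_or] at h1
    exact h1.elim (k2 _ _ _ h) (·.elim (k2 _ _ _ h.rot) (k2 _ _ _ h.rot.rot))
  exact ⟨a, b, c, h, Or.inr ⟨(k1 a b c h h2 h3).1, Or.inr ⟨h2, (k1 a b c h h2 h3).2⟩⟩⟩

theorem pow_eq_iff {e : ℤ} {n : ℕ} (h1 : ∀ x : Kˣ, x ^ n = 1 ↔ x ^ e = x) (h2 : a ^ e = b) (h3 : a * b * c = 1) (m : ℕ) :
    (b ^ m = a ^ m ∧ c ^ m = a ^ m) ↔ a ^ (Nat.gcd 3 n * m) = 1 := by
  have k : a ^ m * b ^ m * c ^ m = 1 := by rw [← mul_pow, ← mul_pow, h3, one_pow]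
  have k2 : b ^ m = (a ^ m) ^ e := by rw [← h2, ← zpow_natCast, ← zpow_natCast, ← _root_.zpow_mul, ← _root_.zpow_mul, mul_comm]
  rw [pow_mul', ← orderOf_dvd_iff_pow_eq_one, Nat.dvd_gcd_iff, orderOf_dvd_iff_pow_eq_one, orderOf_dvd_iff_pow_eq_one, h1,
    ← k2, and_comm]
  refine and_congr_left fun h => ?_
  rw [h] at k
  rw [pow_three', ← k, mul_right_inj, eq_comm]

theorem sc_conj (P : (M3 K)ˣ) (A : M3 K) : Sc (P.1 * A * P⁻¹.1) ↔ Sc A := by
  refine ⟨fun ⟨μ, h⟩ => ⟨μ, ?_⟩, fun ⟨μ, h⟩ => ⟨μ, by simp [h]⟩⟩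
  rw [Units.mul_inv_eq_iff_eq_mul, ← Units.eq_inv_mul_iff_mul_eq] at h
  simp [h]

theorem sc_jor {c : K} (hc : c ≠ 0) (m : ℕ) : Sc (!![(a : K), 0, a * c; 0, b, 0; 0, 0, a] ^ m) ↔ b ^ m = a ^ m ∧ (m : K) = 0 := by
  have : !![(a : K), 0, a * c; 0, b, 0; 0, 0, a] ^ m = !![(a : K) ^ m, 0, m * a ^ m * c; 0, b ^ m, 0; 0, 0, a ^ m] := by
    induction m with
    | zero => simp [one_fin_three]
    | succ m ih => rw [pow_succ, ih]; simp [pow_succ]; ring
  rw [this]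
  refine ⟨fun ⟨μ, h⟩ => ⟨Units.ext ?_, ?_⟩, fun ⟨h1, h2⟩ => ⟨a ^ m, ?_⟩⟩
  · simpa using (congrFun₂ h 1 1).trans (congrFun₂ h 0 0).symm
  · simpa [hc] using congrFun₂ h 0 2
  · rw [h2, ← Units.val_pow_eq_pow_val b, h1]; simp [one_fin_three]

theorem spec3 {Γ : Type*} [Group Γ] [Finite Γ] [IsAlgClosed K] (p : ℕ) [hp : Fact p.Prime] [CharP K p] (Φ : Γ →* M3 K)
    (hΦ : Function.Injective Φ) {e : ℤ} {n1 n2 n3 : ℕ} (h1 : (n1 : ℤ) = e - 1 ∨ (n1 : ℤ) = 1 - e)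
    (h2 : (n2 : ℤ) = e ^ 2 - 1) (h3 : (n3 : ℤ) = e ^ 2 + e + 1) (he : (p : ℤ) ∣ e)
    (inj : ∀ x y : Kˣ, x ^ e = y ^ e → x = y)
    (hd : ∀ r : ℤ, r = e ^ 2 - 1 ∨ r = e ^ 2 + e + 1 → ¬ r ∣ e - 1 ∧ ¬ r ∣ e + 2 ∧ ¬ r ∣ 2 * e + 1)
    (hz : ∀ z ∈ center Γ, Sc (Φ z)) (hdet : ∀ g, (Φ g).det = 1)
    (hr : ∀ g x, Rt (Φ g).trace (Φ g).adjugate.trace x → Rt (Φ g).trace (Φ g).adjugate.trace (x ^ e))
    (hex : ∀ a b c : Kˣ, a * b * c = 1 → (a : K) ^ e + b ^ e + c ^ e = a + b + c →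
      (a : K) ^ (-e) + b ^ (-e) + c ^ (-e) = a * b + b * c + c * a → ∃ g, Tri (Φ g).trace (Φ g).adjugate.trace a b c)
    (hu : ∀ a b : Kˣ, a ^ e = a → a * a * b = 1 → ∃ g, ∃ P : (M3 K)ˣ, ∃ c : K, c ≠ 0 ∧
      Φ g = P.1 * !![(a : K), 0, a * c; 0, b, 0; 0, 0, a] * P⁻¹.1)
    (h4 : p = 2 → ∃ g, ¬ Sc (Φ g ^ 2) ∧ Sc (Φ g ^ 4)) :
    Set.range (orderOf : Γ ⧸ center Γ → ℕ) = {m | m ∣ n3 / Nat.gcd 3 n1 ∨ m ∣ n2 / Nat.gcd 3 n1 ∨ m ∣ n1 ∨
      m ∣ p * n1 / Nat.gcd 3 n1 ∨ (p = 2 ∧ m ∣ 4)} := by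
  have k1 : ∀ x : Kˣ, x ^ n1 = 1 ↔ x ^ e = x := fun x => by
    rw [← zpow_natCast]
    rcases h1 with h | h <;> rw [h]
    · rw [_root_.zpow_sub_one, mul_inv_eq_one]
    · rw [_root_.zpow_sub, zpow_one, mul_inv_eq_one, eq_comm]
  have k2 : ∀ (g : Γ) (m : ℕ), orderOf (g : Γ ⧸ center Γ) ∣ m ↔ Sc (Φ g ^ m) := fun g m => by
    rw [orderOf_dvd_iff_pow_eq_one, ← QuotientGroup.mk_pow, QuotientGroup.eq_one_iff, ← map_pow]
    exact ⟨hz _, fun ⟨μ, h⟩ => mem_center_iff.2 fun x => hΦ (by simp [-map_pow, h])⟩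
  have d1 := Nat.gcd_dvd_right 3 n1
  have d0 : 0 < Nat.gcd 3 n1 := Nat.gcd_pos_of_pos_left _ (by norm_num)
  have d4 : (Nat.gcd 3 n1 : ℤ) ∣ e - 1 := h1.elim (· ▸ Int.natCast_dvd_natCast.2 d1) fun h => by
    rw [← neg_sub, ← h, dvd_neg]; exact Int.natCast_dvd_natCast.2 d1
  have d2 : Nat.gcd 3 n1 ∣ n2 := Int.natCast_dvd_natCast.1 (by
    rw [h2, show e ^ 2 - 1 = (e - 1) * (e + 1) by ring]; exact d4.mul_right _)
  have d3 : Nat.gcd 3 n1 ∣ n3 := Int.natCast_dvd_natCast.1 (by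
    rw [h3, show e ^ 2 + e + 1 = (e - 1) * (e + 2) + (3 : ℕ) by push_cast; ring]
    exact dvd_add (d4.mul_right _) (Int.natCast_dvd_natCast.2 (Nat.gcd_dvd_left _ _)))
  have k3 : ∀ g a b c, Tri (Φ g).trace (Φ g).adjugate.trace a b c → a ≠ b ∧ a ≠ c ∧ b ≠ c → ∀ m,
      orderOf (g : Γ ⧸ center Γ) ∣ m ↔ b ^ m = a ^ m ∧ c ^ m = a ^ m := fun g a b c h hn m => by
    rw [k2]
    refine ⟨fun ⟨μ, e⟩ => ?_, fun e => ?_⟩
    · have := fun x hx => Rt.eq (hdet g) (h.rt (x := x).2 hx) e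
      exact ⟨Units.ext ((this b (by simp)).trans (this a (by simp)).symm),
        Units.ext ((this c (by simp)).trans (this a (by simp)).symm)⟩
    · have := h.sc (hdet g) p (N := m) (k := 0) (μ := (a ^ m : Kˣ)) (by
        rw [pow_zero, pow_one]
        exact ((lin_cop hn.2.1).mul_left (lin_cop hn.2.2)).mul_dvd
          ((lin_cop hn.1).mul_dvd (lin_dvd rfl) (lin_dvd e.1)) (lin_dvd e.2))
      rwa [pow_zero, mul_one] at this
  have k4 : ∀ r : ℕ, (p : ℤ) ∣ r - 1 ∨ (p : ℤ) ∣ r + 1 → ¬ p ∣ r ∧ ∃ a : Kˣ, ∀ m : ℤ, a ^ m = 1 ↔ (r : ℤ) ∣ m := fun r h => by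
    have h0 : ¬ p ∣ r := fun h' => hp.out.not_dvd_one (Int.natCast_dvd_natCast.1 (h.elim
      (fun h => by simpa using dvd_sub (Int.natCast_dvd_natCast.2 h') h)
      fun h => by simpa using dvd_sub h (Int.natCast_dvd_natCast.2 h')))
    haveI : NeZero (r : K) := ⟨mt (CharP.cast_eq_zero_iff K p r).1 h0⟩
    haveI : NeZero r := .of_neZero_natCast K
    obtain ⟨z, hz⟩ := HasEnoughRootsOfUnity.exists_primitiveRoot K r
    exact ⟨h0, _, (hz.isUnit_unit (NeZero.ne r)).zpow_eq_one_iff_dvd⟩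
  obtain ⟨p1, z, hz1⟩ := k4 n1 (h1.elim (fun h => Or.inr (by simpa [h] using he)) fun h => Or.inl (by simpa [h] using he))
  have k5 : ∀ r : ℕ, (r : ℤ) = e ^ 2 - 1 ∨ (r : ℤ) = e ^ 2 + e + 1 → Nat.gcd 3 n1 ∣ r →
      r / Nat.gcd 3 n1 ∈ Set.range (orderOf : Γ ⧸ center Γ → ℕ) := fun r h hr => by
    obtain ⟨-, a, ha⟩ := k4 r (h.elim (fun h => Or.inr (by simpa [h, pow_two] using he.mul_right e))
      fun h => Or.inl (by simpa [h, pow_two] using dvd_add (he.mul_right e) he))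
    have q : ∀ i j : ℤ, (r : ℤ) ∣ i - j ↔ a ^ i = a ^ j := fun i j => by rw [← ha, _root_.zpow_sub, mul_inv_eq_one]
    have q1 : a * a ^ e * a ^ (-1 - e) = 1 := by group
    have q2 : ∀ f : Kˣ → K, f (a ^ e) + f ((a ^ e) ^ e) + f ((a ^ (-1 - e)) ^ e) = f a + f (a ^ e) + f (a ^ (-1 - e)) := fun f => by
      rw [← _root_.zpow_mul, ← _root_.zpow_mul]
      rcases h with h | h
      · rw [(q (e * e) 1).1 ⟨1, by rw [h]; ring⟩, (q ((-1 - e) * e) (-1 - e)).1 ⟨-1, by rw [h]; ring⟩, zpow_one]; ring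
      · rw [(q (e * e) (-1 - e)).1 ⟨1, by rw [h]; ring⟩, (q ((-1 - e) * e) 1).1 ⟨-1, by rw [h]; ring⟩, zpow_one]; ring
    obtain ⟨g, hg⟩ := hex a (a ^ e) (a ^ (-1 - e)) q1 (by simpa using q2 Units.val) (by
      have := q2 fun x => (x : K)⁻¹
      have q3 : (a : K) * a ^ e * a ^ (-1 - e) = 1 := by simpa using congrArg Units.val q1
      simp only [Units.val_zpow_eq_zpow_val, _root_.zpow_neg] at this ⊢
      rw [this, inv_eq_of_mul_eq_one_left q3, inv_eq_of_mul_eq_one_right (mul_assoc (a : K) _ _ ▸ q3),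
        inv_eq_of_mul_eq_one_right (show (a : K) ^ e * (a ^ (-1 - e) * a) = 1 by rw [← q3]; ring)]
      ring)
    obtain ⟨u1, u2, u3⟩ := hd r h
    have := fun m => (k3 g _ _ _ hg ⟨fun h => u1 ((q e 1).2 (by simpa using h.symm)),
      fun h => u2 (by convert (q 1 (-1 - e)).2 (by simpa using h) using 1; ring),
      fun h => u3 (by convert (q e (-1 - e)).2 h using 1; ring)⟩ m).trans (pow_eq_iff k1 rfl q1 m)
    simp only [← zpow_natCast, ha, Int.natCast_dvd_natCast, ← Nat.div_dvd_iff_dvd_mul hr d0] at this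
    exact ⟨g, Nat.dvd_antisymm ((this _).2 dvd_rfl) ((this _).1 dvd_rfl)⟩
  have k6 : p * n1 / Nat.gcd 3 n1 ∈ Set.range (orderOf : Γ ⧸ center Γ → ℕ) := by
    have z1 := (k1 z).1 (by rw [← zpow_natCast, hz1])
    obtain ⟨g, P, c, hc, hg⟩ := hu z (z * z)⁻¹ z1 (mul_inv_cancel _)
    have := fun m => (k2 g m).trans (by
      rw [hg, Units.conj_pow, sc_conj, sc_jor hc, CharP.cast_eq_zero_iff K p, ← and_iff_right (b := _ = z ^ m) (rfl : z ^ m = _),
        pow_eq_iff k1 z1 (mul_inv_cancel _), ← zpow_natCast, hz1, Int.natCast_dvd_natCast, ← Nat.div_dvd_iff_dvd_mul d1 d0])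
    refine ⟨g, Nat.dvd_antisymm ((this _).2 ?_) ?_⟩ <;> rw [Nat.mul_div_assoc _ d1]
    · exact ⟨dvd_mul_left _ _, dvd_mul_right _ _⟩
    · exact ((hp.out.coprime_iff_not_dvd.2 p1).coprime_dvd_right (Nat.div_dvd_of_dvd d1)).mul_dvd_of_dvd_of_dvd
        ((this _).1 dvd_rfl).2 ((this _).1 dvd_rfl).1
  refine Set.ext fun n => ⟨?_, ?_⟩
  · rintro ⟨g, rfl⟩
    obtain ⟨g, rfl⟩ := QuotientGroup.mk_surjective g
    obtain ⟨a, b, c, h⟩ := exists_tri (Φ g).trace (Φ g).adjugate.trace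
    obtain ⟨a, b, c, h, ⟨rfl, h5⟩ | ⟨hn, h5 | ⟨h5, h6 | h6⟩⟩⟩ := h.cases inj (hr g)
    · by_cases h6 : a = c
      · subst h6
        have := fun k (hk : 3 ≤ p ^ k) => (k2 g _).2 (h.sc (hdet g) p (N := 1) (k := k) (μ := a) (by
          rw [← pow_three', pow_one]; exact pow_dvd_pow _ hk))
        by_cases p2 : p = 2
        · exact Or.inr (Or.inr (Or.inr (Or.inr ⟨p2, by simpa [p2] using this 2 (by simp [p2])⟩)))
        · refine Or.inr (Or.inr (Or.inr (Or.inl ((this 1 (by have := hp.out.two_le; rw [pow_one]; omega)).trans ?_))))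
          rw [Nat.mul_div_assoc _ d1]; simp
      refine Or.inr (Or.inr (Or.inr (Or.inl ?_)))
      rw [Nat.mul_div_assoc _ d1, mul_comm, ← pow_one p]
      have := ((pow_eq_iff k1 h5 h.2.2 (n1 / Nat.gcd 3 n1)).2 (by rw [Nat.mul_div_cancel' d1, k1, h5])).2
      refine (k2 g _).2 (h.sc (hdet g) p (μ := (a ^ (n1 / Nat.gcd 3 n1) : Kˣ)) (Dvd.dvd.trans ?_ (pow_dvd_pow _
        (show 2 ≤ p ^ 1 by simpa using hp.out.two_le))))
      rw [mul_assoc, pow_two]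
      exact mul_dvd_mul (lin_dvd rfl) ((lin_cop h6).mul_dvd (lin_dvd rfl) (lin_dvd this))
    · exact Or.inr (Or.inr (Or.inl ((k3 g a b c h hn _).2 (by simp [(k1 _).2, h5]))))
    · exact Or.inr (Or.inl ((k3 g a b c h hn _).2 ((pow_eq_iff k1 h5 h.2.2 _).2 (by
        rw [Nat.mul_div_cancel' d2, ← zpow_natCast, h2, h6]))))
    · exact Or.inl ((k3 g a b c h hn _).2 ((pow_eq_iff k1 h5 h.2.2 _).2 (by
        rw [Nat.mul_div_cancel' d3, ← zpow_natCast, h3, h6])))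
  rintro (h | h | h | h | ⟨p2, h⟩)
  · exact spec_dvd (k5 _ (Or.inr h3) d3) h
  · exact spec_dvd (k5 _ (Or.inl h2) d2) h
  · by_cases hn : Nat.gcd 3 n1 = 1
    · exact spec_dvd k6 (by rw [hn, Nat.div_one]; exact h.mul_left _)
    have n0 : ∀ i : ℕ, 0 < i → i < 3 → z ^ i ≠ 1 := fun i a1 a2 a3 => by
      rw [← zpow_natCast, hz1, Int.natCast_dvd_natCast] at a3
      have := Nat.le_of_dvd a1 ((((Nat.dvd_prime Nat.prime_three).1 (Nat.gcd_dvd_left 3 n1)).resolve_left hn ▸ d1).trans a3)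
      omega
    have z1 := (k1 z).1 (by rw [← zpow_natCast, hz1])
    have z2 : (z : K) ^ e = z := by exact_mod_cast congrArg Units.val z1
    obtain ⟨g, hg⟩ := hex 1 z z⁻¹ (by simp) (by simp [z2]) (by simp [z2]; ring)
    have := fun m => k3 g _ _ _ hg ⟨fun e => n0 1 (by simp) (by simp) (by simp [← e]),
      fun e => n0 1 (by simp) (by simp) (by simpa using e.symm),
      fun e => n0 2 (by simp) (by simp) (by rw [pow_two, mul_eq_one_iff_eq_inv, ← e])⟩ m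
    have := ((this _).1 dvd_rfl).1
    rw [one_pow, ← zpow_natCast, hz1, Int.natCast_dvd_natCast] at this
    exact spec_dvd ⟨g, rfl⟩ (h.trans this)
  · exact spec_dvd k6 h
  · obtain ⟨g, a1, a2⟩ := h4 p2
    haveI : Fact (Nat.Prime 2) := ⟨Nat.prime_two⟩
    exact spec_dvd ⟨g, orderOf_eq_prime_pow (p := 2) (n := 1) (fun e => a1 ((k2 g _).1 (orderOf_dvd_of_pow_eq_one e)))
      (orderOf_dvd_iff_pow_eq_one.1 ((k2 g _).2 a2))⟩ h

variable {F : Type*} [Field F] [Fintype F]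

theorem descend (ι : F →+* K) {x : K} (h : x ^ Fintype.card F = x) : ∃ y, ι y = x := by
  refine Splits.mem_range_of_isRoot (f := X ^ Fintype.card F - X) ?_
    (FiniteField.X_pow_card_sub_X_ne_zero F Fintype.one_lt_card) (by simp [h])
  rw [splits_iff_card_roots, FiniteField.roots_X_pow_card_sub_X,
    FiniteField.X_pow_card_sub_X_natDegree_eq F Fintype.one_lt_card]; rfl

theorem not_dvd_lt {r x : ℤ} (h0 : x ≠ 0) (h : |x| < r) : ¬ r ∣ x := fun e => h0 (Int.eq_zero_of_abs_lt_dvd e h)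

theorem tr_map (ι : F →+* K) (A : M3 F) : (A.map ι).trace = ι A.trace ∧ (A.map ι).adjugate.trace = ι A.adjugate.trace := by
  simp [trace_fin_three, adjugate_fin_three]

theorem thm_2476 (p : ℕ) [hp : Fact p.Prime] [CharP F p] :
    Set.range (orderOf : Matrix.ProjectiveSpecialLinearGroup (Fin 3) F → ℕ) =
      {m : ℕ | m ∣ (Fintype.card F ^ 2 + Fintype.card F + 1) / Nat.gcd 3 (Fintype.card F - 1) ∨
        m ∣ (Fintype.card F ^ 2 - 1) / Nat.gcd 3 (Fintype.card F - 1) ∨ m ∣ Fintype.card F - 1 ∨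
        m ∣ p * (Fintype.card F - 1) / Nat.gcd 3 (Fintype.card F - 1) ∨ (p = 2 ∧ m ∣ 4)} := by
  obtain ⟨n, -, hn⟩ := FiniteField.card F p
  let ι := algebraMap F (AlgebraicClosure F)
  let σ := iterateFrobenius (AlgebraicClosure F) p n
  have hσ : ∀ x, x ^ Fintype.card F = σ x := fun x => by rw [hn]; rfl
  have hι : ∀ x, σ (ι x) = ι x := fun x => by rw [← hσ, ← map_pow, FiniteField.pow_card]
  have h2 : 2 ≤ Fintype.card F := Fintype.one_lt_card
  refine spec3 p (ι.mapMatrix.toMonoidHom.comp (slToMat 3 F)) (e := Fintype.card F)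
    (fun x y h => Subtype.ext (Matrix.map_injective ι.injective h)) (Or.inl (by omega))
    (by rw [Nat.cast_sub (Nat.one_le_pow _ _ (by omega))]; simp) (by simp) (by rw [hn]; simp [n.ne_zero])
    (fun x y h => Units.ext (σ.injective (by rw [← hσ, ← hσ]; exact_mod_cast congrArg Units.val h))) ?_
    (fun z hz => ?_) (fun g => (ι.map_det g.1).symm.trans (by rw [g.2, map_one])) (fun g x h => ?_)
    (fun a b c h1 h2 h3 => ?_) (fun a b h1 h2 => ?_) fun p2 => ?_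
  · generalize Fintype.card F = q at h2
    obtain rfl | h2 := h2.eq_or_lt
    · rintro _ (rfl | rfl) <;> decide
    have h3 : (3 : ℤ) ≤ q := by exact_mod_cast h2
    rintro _ (rfl | rfl) <;> refine ⟨not_dvd_lt (by omega) ?_, not_dvd_lt (by omega) ?_, not_dvd_lt (by omega) ?_⟩ <;>
      rw [abs_of_pos (by omega)] <;> nlinarith
  · obtain ⟨r, -, h⟩ := Matrix.SpecialLinearGroup.mem_center_iff.1 hz
    refine ⟨ι r, show z.1.map ι = _ from ?_⟩
    rw [← h]; ext i j; by_cases e : i = j <;> simp [e]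
  · change Rt (g.1.map ι).trace (g.1.map ι).adjugate.trace _ at h ⊢
    rw [(tr_map ι _).1, (tr_map ι _).2, Rt] at h ⊢
    simpa [hι, hσ] using congrArg σ h
  · have h4 : (a : AlgebraicClosure F) * b * c = 1 := congrArg Units.val h1
    obtain ⟨t, ht⟩ := descend ι (x := a + b + c) (by simpa [hσ] using h2)
    obtain ⟨s, hs⟩ := descend ι (x := a * b + b * c + c * a) (by
      simp only [_root_.zpow_neg, zpow_natCast, hσ, ← map_inv₀, ← map_add] at h3
      rw [inv_eq_of_mul_eq_one_left h4, inv_eq_of_mul_eq_one_right (mul_assoc (a : AlgebraicClosure F) _ _ ▸ h4),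
        inv_eq_of_mul_eq_one_right (show (b : AlgebraicClosure F) * (c * a) = 1 by rw [← h4]; ring)] at h3
      rw [hσ]
      refine Eq.trans ?_ h3
      congr 1; ring)
    refine ⟨⟨!![0, 0, 1; 1, 0, -s; 0, 1, t], by simp [det_fin_three]⟩, ?_⟩
    change Tri (!![0, 0, 1; 1, 0, -s; 0, 1, t].map ι).trace (!![0, 0, 1; 1, 0, -s; 0, 1, t].map ι).adjugate.trace _ _ _
    rw [(tr_map ι _).1, (tr_map ι _).2]
    exact ⟨by simp [trace_fin_three, ht], by simp [trace_fin_three, adjugate_fin_three, hs], h1⟩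
  · obtain ⟨x, hx⟩ := descend ι (x := a) (by exact_mod_cast congrArg Units.val h1)
    have h3 : (a : AlgebraicClosure F) * a * b = 1 := congrArg Units.val h2
    have x0 : x ≠ 0 := fun e => a.ne_zero (by rw [← hx, e, map_zero])
    refine ⟨⟨!![x, 0, x; 0, (x * x)⁻¹, 0; 0, 0, x], by simp [det_fin_three]; field_simp⟩, 1, 1, one_ne_zero, ?_⟩
    change !![x, 0, x; 0, (x * x)⁻¹, 0; 0, 0, x].map ι = _
    rw [eq_inv_of_mul_eq_one_right h3, ← hx]
    ext i j; fin_cases i <;> fin_cases j <;> simp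
  · subst p2
    refine ⟨⟨!![1, 1, 0; 0, 1, 1; 0, 0, 1], by simp [det_fin_three]⟩, ?_⟩
    change ¬ Sc (!![1, 1, 0; 0, 1, 1; 0, 0, 1].map ι ^ 2) ∧ Sc (!![1, 1, 0; 0, 1, 1; 0, 0, 1].map ι ^ 4)
    rw [show Matrix.map !![1, 1, 0; 0, 1, 1; 0, 0, 1] ι = !![1, 1, 0; 0, 1, 1; 0, 0, 1] by
      ext i j; fin_cases i <;> fin_cases j <;> simp, show 4 = 2 * 2 from rfl, pow_mul]
    simp only [pow_two]
    exact ⟨fun ⟨μ, h⟩ => by simpa using congrFun₂ h 0 2, 1, by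
      ext i j; fin_cases i <;> fin_cases j <;> simp [Matrix.mul_apply, Fin.sum_univ_three, CharTwo.add_self_eq_zero]⟩

theorem thm_2366 (p : ℕ) [hp : Fact p.Prime] [CharP F p] (p2 : p ≠ 2) (q : ℕ) (hF : Fintype.card F = q ^ 2) :
    Set.range (orderOf : Cfsg.PSU 3 F q → ℕ) =
      {s : ℕ | s ∣ q + 1} ∪ {s : ℕ | s ∣ p * (q + 1) / Nat.gcd 3 (q + 1)} ∪
        {s : ℕ | s ∣ (q ^ 2 - 1) / Nat.gcd 3 (q + 1)} ∪ {s : ℕ | s ∣ (q ^ 2 - q + 1) / Nat.gcd 3 (q + 1)} := by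
  obtain ⟨n, hn⟩ : ∃ n, q = p ^ n := by
    obtain ⟨n, -, hn⟩ := FiniteField.card F p
    exact ((Nat.dvd_prime_pow hp.out).1 (hn ▸ hF ▸ dvd_pow_self q two_ne_zero)).imp fun _ h => h.2
  have n0 : n ≠ 0 := fun e => by have := Fintype.one_lt_card (α := F); simp [hF, hn, e] at this
  have q3 : 3 ≤ q := hn ▸ le_trans (by have := hp.out.two_le; omega) (Nat.le_self_pow n0 p)
  have qo : Odd q := hn ▸ (hp.out.odd_of_ne_two p2).pow
  let ι := algebraMap F (AlgebraicClosure F)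
  let σ := iterateFrobenius (AlgebraicClosure F) p n
  let τ := iterateFrobenius F p n
  have hσ : ∀ x, x ^ q = σ x := fun x => by rw [hn]; rfl
  have hτ : ∀ x, x ^ q = τ x := fun x => by rw [hn]; rfl
  have hι : ∀ x, σ (ι x) = ι (τ x) := fun x => by rw [← hσ, ← map_pow, hτ]
  have ττ : ∀ x, τ (τ x) = x := fun x => by rw [← hτ, ← hτ, ← pow_mul, ← pow_two, ← hF, FiniteField.pow_card]
  have ds : ∀ x, σ (σ x) = x → ∃ y, ι y = x := fun x h => descend ι (by rw [hF, pow_two, pow_mul, hσ, hσ, h])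
  have two : (2 : F) ≠ 0 := Ring.two_ne_zero (by rwa [ringChar.eq F p])
  have nm : ∀ c : F, τ c = c → ∃ a, a * τ a = c := fun c hc => by
    obtain ⟨z, hz⟩ := IsAlgClosed.exists_pow_nat_eq (ι c) (n := q + 1) (by omega)
    rw [pow_succ', hσ] at hz
    by_cases c0 : c = 0
    · exact ⟨0, by simp [c0]⟩
    obtain ⟨y, rfl⟩ := ds z (mul_left_cancel₀ (right_ne_zero_of_mul (hz ▸ (map_ne_zero ι).2 c0)) (by
      rw [← map_mul, hz, hι, hc, mul_comm, hz]))
    exact ⟨y, ι.injective (by rw [map_mul, ← hι, hz])⟩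
  obtain ⟨β, hβ⟩ := nm (-1) (by simp)
  have β0 : β ≠ 0 := fun e => by simp [e] at hβ
  let P : (M3 F)ˣ := ⟨!![1, 0, 2⁻¹; β, 0, -β * 2⁻¹; 0, 1, 0], !![2⁻¹, 2⁻¹ * β⁻¹, 0; 0, 0, 1; 1, -β⁻¹, 0],
    by simp [one_fin_three]; field_simp; norm_num, by simp [one_fin_three]; field_simp; norm_num⟩
  have hP : ∀ u v, hermForm 3 F q (P.1 *ᵥ u) (P.1 *ᵥ v) = u 0 * τ (v 2) + u 1 * τ (v 1) + u 2 * τ (v 0) := fun u v => by
    simp [P, hermForm, hτ, mulVec, dotProduct, Fin.sum_univ_three, map_ofNat]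
    field_simp
    linear_combination (2 * u 0 - u 2) * (2 * τ (v 0) - τ (v 2)) * hβ
  have mk : ∀ M : M3 F, M.det = 1 → (∀ u v, (M *ᵥ u) 0 * τ ((M *ᵥ v) 2) + (M *ᵥ u) 1 * τ ((M *ᵥ v) 1) +
      (M *ᵥ u) 2 * τ ((M *ᵥ v) 0) = u 0 * τ (v 2) + u 1 * τ (v 1) + u 2 * τ (v 0)) →
      ∃ g : SU 3 F q, g.1.1 = P.1 * M * P⁻¹.1 := fun M h1 h2 =>
    ⟨⟨⟨_, by rw [det_units_conj, h1]⟩, fun u v => by
      change hermForm 3 F q ((P.1 * M * P⁻¹.1) *ᵥ u) ((P.1 * M * P⁻¹.1) *ᵥ v) = _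
      simp only [← mulVec_mulVec]
      rw [hP, h2, ← hP]
      simp only [mulVec_mulVec, Units.mul_inv, one_mulVec]⟩, rfl⟩
  have h3 : (3 : ℤ) ≤ q := by exact_mod_cast q3
  rw [spec3 p ((ι.mapMatrix.toMonoidHom.comp (slToMat 3 F)).comp (SU 3 F q).subtype) (e := -q) (n1 := q + 1)
    (n2 := q ^ 2 - 1) (n3 := q ^ 2 - q + 1)
    (fun x y h => Subtype.ext (Subtype.ext (Matrix.map_injective ι.injective h))) (Or.inr (by simp [add_comm]))
    (by rw [Nat.cast_sub (Nat.one_le_pow _ _ (by omega))]; simp)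
    (by rw [Nat.cast_add, Nat.cast_sub (Nat.le_self_pow two_ne_zero q)]; simp [sub_eq_add_neg]) (by rw [hn]; simp [n0])
    (fun x y h => Units.ext (σ.injective (by rw [← hσ, ← hσ]; simpa using congrArg Units.val h))) ?_
    (fun z hz => ?_) (fun g => (ι.map_det g.1.1).symm.trans (by rw [g.1.2, map_one])) (fun g x h => ?_)
    (fun a b c h1 h2 h3 => ?_) (fun a b h1 h2 => ?_) fun h => (p2 h).elim]
  · ext m
    simp only [Set.mem_setOf_eq, Set.mem_union, p2]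
    tauto
  · rintro _ (rfl | rfl) <;> refine ⟨not_dvd_lt (by omega) ?_, not_dvd_lt (by omega) ?_, not_dvd_lt (by omega) ?_⟩ <;>
      rw [abs_of_neg (by omega)] <;> nlinarith
  · have k : ∀ M : M3 F, M.det = 1 → (∀ u v, hermForm 3 F q (M *ᵥ u) (M *ᵥ v) = hermForm 3 F q u v) →
        M * z.1.1 = z.1.1 * M := fun M h1 h2 => congrArg (·.1.1) (mem_center_iff.1 hz ⟨⟨M, h1⟩, h2⟩)
    have k1 := k !![-1, 0, 0; 0, -1, 0; 0, 0, 1] (by simp [det_fin_three]) fun u v => by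
      simp [hermForm, hτ, mulVec, dotProduct, Fin.sum_univ_three]
    have k2 := k !![0, 0, 1; 1, 0, 0; 0, 1, 0] (by simp [det_fin_three]) fun u v => by
      simp [hermForm, hτ, mulVec, dotProduct, Fin.sum_univ_three]; ring
    refine ⟨ι (z.1.1 0 0), show z.1.1.map ι = _ from ?_⟩
    generalize z.1.1 = A at k1 k2
    have e := fun i j => congrFun₂ k1 i j
    have f := fun i j => congrFun₂ k2 i j
    simp [Fin.forall_fin_succ, Matrix.mul_apply, Fin.sum_univ_three] at e f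
    have a1 : A 0 2 = 0 := (mul_eq_zero.1 (show 2 * A 0 2 = 0 by linear_combination -e.1)).resolve_left two
    have a2 : A 1 2 = 0 := (mul_eq_zero.1 (show 2 * A 1 2 = 0 by linear_combination -e.2.1)).resolve_left two
    ext i j; fin_cases i <;> fin_cases j <;> simp <;> grind
  · have k : g.1.1ᵀ * g.1.1.map τ = 1 := by
      ext i j
      have := g.2 (Pi.single i 1) (Pi.single j 1)
      simp only [hermForm, hτ] at this
      refine Eq.trans ?_ (this.trans ?_)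
      · simp [Matrix.mul_apply]
      · by_cases e : i = j <;> simp [Pi.single_apply, one_apply, e, eq_comm]
    have k2 : g.1.1.map τ = g.1.1ᵀ.adjugate := by
      rw [← mul_one g.1.1ᵀ.adjugate, ← k, ← mul_assoc, adjugate_mul, det_transpose, g.1.2, one_smul, one_mul]
    have k3 : τ g.1.1.trace = g.1.1.adjugate.trace := by
      rw [← trace_transpose (adjugate _), adjugate_transpose, ← k2]; simp [trace_fin_three]
    change Rt (g.1.1.map ι).trace (g.1.1.map ι).adjugate.trace _ at h ⊢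
    rw [(tr_map ι _).1, (tr_map ι _).2, ← k3, Rt] at h ⊢
    have := congrArg σ h
    have x0 : σ x ≠ 0 := by simp
    simp only [map_sub, map_add, map_mul, map_pow, hι, ττ, map_one, map_zero] at this
    rw [Units.val_zpow_eq_zpow_val, _root_.zpow_neg, zpow_natCast, hσ]
    generalize σ x = y at this x0
    linear_combination (norm := (field_simp; ring)) -y⁻¹ ^ 3 * this
  · have h4 : (a : AlgebraicClosure F) * b * c = 1 := congrArg Units.val h1
    simp only [neg_neg, _root_.zpow_neg, zpow_natCast, hσ, ← map_inv₀, ← map_add] at h2 h3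
    rw [inv_eq_of_mul_eq_one_left h4, inv_eq_of_mul_eq_one_right (mul_assoc (a : AlgebraicClosure F) _ _ ▸ h4),
      inv_eq_of_mul_eq_one_right (show (b : AlgebraicClosure F) * (c * a) = 1 by rw [← h4]; ring)] at h2
    obtain ⟨t, ht⟩ := ds (a + b + c) (by rw [h3, ← h2]; congr 1; ring)
    obtain ⟨γ, hγ⟩ := nm (-(t + 1 + τ (t + 1))) (by simp [ττ]; ring)
    obtain ⟨g, hg⟩ := mk !![0, 0, 1; 0, -1, -γ; 1, -τ γ, t + 1] (by simp [det_fin_three]) fun u v => by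
      simp [mulVec, dotProduct, Fin.sum_univ_three, ττ] at hγ ⊢
      linear_combination u 2 * τ (v 2) * hγ
    refine ⟨g, ?_⟩
    change Tri (g.1.1.map ι).trace (g.1.1.map ι).adjugate.trace _ _ _
    rw [(tr_map ι _).1, (tr_map ι _).2, hg, adjugate_mul_distrib, adjugate_mul_distrib, trace_units_conj, trace_mul_comm,
      mul_assoc, ← adjugate_mul_distrib, Units.inv_mul, adjugate_one, mul_one]
    refine ⟨by simp [trace_fin_three, ht], ?_, h1⟩
    rw [← h3, ← ht, hι]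
    simp only [map_add, map_one] at hγ
    congr 1
    simp [trace_fin_three, adjugate_fin_three]
    linear_combination hγ
  · have h4 : σ a = (a : AlgebraicClosure F)⁻¹ := by
      rw [← hσ, ← inv_eq_iff_eq_inv]; simpa using congrArg Units.val h1
    obtain ⟨x, hx⟩ := ds a (by rw [h4, map_inv₀, h4, inv_inv])
    have h3 : (a : AlgebraicClosure F) * a * b = 1 := congrArg Units.val h2
    have x0 : x ≠ 0 := fun e => a.ne_zero (by rw [← hx, e, map_zero])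
    have h5 : τ x = x⁻¹ := ι.injective (by rw [← hι, map_inv₀, hx, h4])
    obtain ⟨z, hz⟩ := IsAlgClosed.exists_pow_nat_eq (-1 : AlgebraicClosure F) (n := q - 1) (by omega)
    have h6 : σ z = -z := by rw [← hσ, ← Nat.sub_add_cancel (show 1 ≤ q by omega), pow_succ, hz, neg_one_mul]
    obtain ⟨c, rfl⟩ := ds z (by rw [h6, map_neg, h6, neg_neg])
    have h7 : τ c = -c := ι.injective (by rw [← hι, h6, map_neg])
    obtain ⟨g, hg⟩ := mk !![x, 0, x * c; 0, (x * x)⁻¹, 0; 0, 0, x] (by simp [det_fin_three]; field_simp) fun u v => by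
      simp [mulVec, dotProduct, Fin.sum_univ_three, h5, h7]
      field_simp
      ring
    refine ⟨g, Units.map ι.mapMatrix.toMonoidHom P, ι c, fun e => by simp [e, show q - 1 ≠ 0 by omega] at hz, ?_⟩
    change ι.mapMatrix g.1.1 = ι.mapMatrix P.1 * _ * ι.mapMatrix P⁻¹.1
    rw [hg, map_mul, map_mul, eq_inv_of_mul_eq_one_right h3, ← hx]
    congr 2
    ext i j; fin_cases i <;> fin_cases j <;> simp

theorem thm_3437 (hF : Fintype.card F = 3) : ∃ (H : Type) (_ : Group H) (_ : Fintype H), Group.IsSolvable H ∧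
    Set.range (orderOf : H → ℕ) = Set.range (orderOf : Matrix.ProjectiveSpecialLinearGroup (Fin 3) F → ℕ) := by
  haveI : Fact (Nat.Prime 3) := ⟨Nat.prime_three⟩
  haveI := charP_of_card_eq_prime hF
  obtain ⟨H, _, _, h1, h2, -⟩ := frob_spec (by norm_num) fpf_2O (by decide)
  refine ⟨H, _, inferInstance, h1 (by decide), h2.trans (Eq.symm ?_)⟩
  rw [thm_2476 3, hF]
  ext m
  have : m ∣ 2 → m ∣ 6 := (·.trans (by norm_num))
  simp; tauto

theorem thm_3438 (hF : Fintype.card F = 9) : ∃ (H : Type) (_ : Group H) (_ : Fintype H), Group.IsSolvable H ∧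
    Set.range (orderOf : H → ℕ) = Set.range (orderOf : Cfsg.PSU 3 F 3 → ℕ) := by
  haveI : Fact (Nat.Prime 3) := ⟨Nat.prime_three⟩
  haveI := charP_of_card_eq_prime_pow (p := 3) (f := 2) hF
  obtain ⟨H, _, _, h1, h2, -⟩ := frob_spec (by norm_num) fpf_38 (by decide)
  refine ⟨H, _, inferInstance, h1 (by decide), h2.trans (Eq.symm ?_)⟩
  rw [thm_2366 3 (by norm_num) 3 hF]
  ext m
  have : m ∣ 4 → m ∣ 8 := (·.trans (by norm_num))
  simp; tauto

end Cfsg.Agent.PU
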