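/-
Consequences of the theorem on isolated involutions.
-/
import Cfsg.Agent.S1187

set_option autoImplicit false
set_option linter.unusedSectionVars false
set_option linter.unusedVariables false
set_option linter.style.haveILetI false
set_option linter.unusedSimpArgs false

namespace Cfsg.Agent.PU

open Subgroup Cfsg.Agent.Transfer Cfsg.Agent.MS
open scoped commutatorElement

universe u
variable {G : Type u} [Group G] [Finite G]

theorem iso_syl {z : G} (hz : IsIsolatedInvolution z) (p : ℕ) [Fact p.Prime] : ∃ P : Sylow p G, z ∈ NN (P : Subgroup G) := by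
  obtain ⟨Q, h1, h2⟩ := Set.Finite.exists_maximal (Set.toFinite {R : Subgroup G | IsPGroup p R ∧ z ∈ NN R})
    ⟨⊥, IsPGroup.of_bot, nn_normal (mem_top z)⟩
  obtain ⟨P, rfl⟩ := S1187.result z hz Q h1.1 h1.2 fun R a b c => le_antisymm (h2 ⟨a, b⟩ c) c
  exact ⟨P, h1.2⟩

theorem fischer_p {p : ℕ} (hp : p.Prime) (hp2 : p ≠ 2) {d : G} (hd : orderOf d = 2)
    (h : ∀ a ∈ conjugatesOf d, ∀ b ∈ conjugatesOf d, ∃ k : ℕ, orderOf (a * b) = p ^ k) :
    ∃ N : Subgroup G, N.Normal ∧ IsPGroup p N ∧ ∀ a ∈ conjugatesOf d, ∀ b ∈ conjugatesOf d, a * b ∈ N := by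
  haveI := Fact.mk hp
  have dd : d * d = 1 := by rw [← pow_two, ← hd, pow_orderOf_eq_one]
  have di : d⁻¹ = d := inv_eq_of_mul_eq_one_right dd
  have c : ∀ g : G, g * d * g⁻¹ ∈ conjugatesOf d := fun g => isConj_iff.2 ⟨g, rfl⟩
  have hz : IsIsolatedInvolution d := ⟨hd, fun g hg => by
    obtain ⟨k, hk⟩ := h d (IsConj.refl d) _ (c g)
    have : orderOf (d * (g * d * g⁻¹)) ∣ 2 := orderOf_dvd_of_pow_eq_one (by
      rw [hg.mul_pow, conj_pow, pow_two, dd]; simp)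
    have := Nat.eq_one_of_dvd_coprimes (((Nat.coprime_primes hp Nat.prime_two).2 hp2).pow_left k) hk.dvd this
    rw [← di, eq_comm, inv_eq_iff_mul_eq_one, di]
    exact orderOf_eq_one_iff.1 this⟩
  obtain ⟨P, hP⟩ := iso_syl hz p
  have h1 : (P : Subgroup G).index.Coprime (C1 d).index := Nat.Coprime.symm <| Nat.coprime_of_dvd fun q hq h1 h2 => by
    haveI := Fact.mk hq
    obtain ⟨Q, hQ⟩ := iso_syl hz q
    refine Q.not_dvd_index (h1.trans (index_dvd_of_le fun x hx => mem_C1.2 ?_))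
    obtain ⟨k, hk⟩ := h d (IsConj.refl d) _ (c x)
    obtain ⟨l, hl⟩ := IsPGroup.iff_orderOf.1 Q.isPGroup' ⟨_, mul_mem ((mem_normalizer_iff.1 hQ x).1 hx) (inv_mem hx)⟩
    rw [orderOf_mk, di, mul_assoc, mul_assoc, ← mul_assoc x] at hl
    have := orderOf_eq_one_iff.1 (Nat.eq_one_of_dvd_coprimes (Nat.coprime_pow_primes k l hp hq fun e =>
      P.not_dvd_index (e ▸ h2)) hk.dvd hl.dvd)
    rw [mul_eq_one_iff_inv_eq, di, eq_mul_inv_iff_mul_eq] at this
    exact this.symm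
  have h2 : ∀ a ∈ conjugatesOf d, ∃ y ∈ (P : Subgroup G), a = y * d * y⁻¹ := fun a ha => by
    obtain ⟨g, rfl⟩ := isConj_iff.1 ha
    obtain ⟨y, hy, x, hx, rfl⟩ := Solv.isProd_top_of_coprime h1 g trivial
    exact ⟨y, hy, by rw [mul_assoc y, mem_C1.1 hx]; group⟩
  refine ⟨closure {x | ∃ a ∈ conjugatesOf d, ∃ b ∈ conjugatesOf d, a * b = x}, ⟨fun x hx g => ?_⟩,
    P.isPGroup'.to_le ((closure_le _).2 ?_), fun a ha b hb => subset_closure ⟨a, ha, b, hb, rfl⟩⟩
  · refine mem_comap (f := (MulAut.conj g).toMonoidHom).1 ((closure_le _).2 ?_ hx)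
    rintro _ ⟨a, ha, b, hb, rfl⟩
    exact subset_closure ⟨_, ha.trans (isConj_iff.2 ⟨g, rfl⟩), _, hb.trans (isConj_iff.2 ⟨g, rfl⟩), by simp⟩
  · rintro _ ⟨a, ha, b, hb, rfl⟩
    obtain ⟨x, hx, rfl⟩ := h2 a ha
    obtain ⟨y, hy, rfl⟩ := h2 b hb
    have := mul_mem (mul_mem hx ((mem_normalizer_iff.1 hP _).1 (mul_mem (inv_mem hx) hy))) (inv_mem hy)
    rw [di] at this
    simpa only [mul_assoc, SetLike.mem_coe] using this

theorem thm_1618 {p : ℕ} (hp : p.Prime) (hodd : p ≠ 2) {D : Set G} (hinv : ∀ d ∈ D, orderOf d = 2)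
    (hconj : ∃ d ∈ D, D = conjugatesOf d) (hgen : closure D = ⊤)
    (hprod : ∀ x ∈ D, ∀ y ∈ D, x ≠ y → ∃ k : ℕ, orderOf (x * y) = p ^ k) : Group.IsNilpotent (commutator G) := by
  obtain ⟨d, hd, rfl⟩ := hconj
  have sq : ∀ x ∈ conjugatesOf d, x * x = 1 := fun x hx => by rw [← pow_two, ← hinv x hx, pow_orderOf_eq_one]
  obtain ⟨N, _, h1, h2⟩ := fischer_p hp hodd (hinv d hd) fun a ha b hb => by
    by_cases e : a = b
    · exact ⟨0, by rw [← e, sq a ha, orderOf_one, pow_zero]⟩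
    · exact hprod a ha b hb e
  haveI := Fact.mk hp
  refine (h1.to_le (?_ : commutator G ≤ N)).isNilpotent
  have : ∀ x : G, (x : G ⧸ N) ∈ zpowers (d : G ⧸ N) := fun x => by
    refine (show ⊤ ≤ comap (QuotientGroup.mk' N) (zpowers (d : G ⧸ N)) from hgen ▸ (closure_le _).2 fun a ha => ?_) trivial
    have : (a : G ⧸ N) = d := QuotientGroup.eq.2 (by rw [inv_eq_of_mul_eq_one_right (sq a ha)]; exact h2 a ha d hd)
    exact this ▸ mem_zpowers _
  refine commutator_le.2 fun x _ y _ => (QuotientGroup.eq_one_iff _).1 ?_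
  obtain ⟨i, hi⟩ := this x
  obtain ⟨j, hj⟩ := this y
  rw [← QuotientGroup.mk'_apply, map_commutatorElement, commutatorElement_eq_one_iff_commute]
  simp only [QuotientGroup.mk'_apply, ← hi, ← hj]
  exact Commute.zpow_zpow_self _ _ _

end Cfsg.Agent.PU
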