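import Cfsg.Agent.Lib.Perm.Ac3
import Cfsg.Agent.Lib.Char.RankOne5

/-!
Groups in which commuting involutions have the same centralizer, acting semiregularly.
-/

set_option autoImplicit false
set_option linter.unusedSectionVars false
set_option linter.style.haveILetI false

namespace Cfsg.Agent.PU

open Subgroup Cfsg.Agent.Transfer Cfsg.Agent.Transfer.ElemC Cfsg.Agent.Perm.Ac

variable {G : Type*} [Group G] [Finite G]

/-- Commuting involutions have equal centralizers, and these are semiregular. -/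
structure WT (G : Type*) [Group G] : Prop where
  hM : ∀ z t : G, orderOf z = 2 → orderOf t = 2 → t ∈ MM z → MM t = MM z
  hs : ∃ s t : G, orderOf s = 2 ∧ orderOf t = 2 ∧ s ≠ t ∧ Commute s t
  hse : ∀ z : G, orderOf z = 2 → IsStronglyEmbedded (HH z)
  hH : ∀ z t : G, orderOf z = 2 → orderOf t = 2 → t ∈ HH z → t ∈ MM z
  semi : ∀ z g t : G, orderOf z = 2 → g ∉ HH z → t ∈ MM z → t ∈ cj g (HH z) → t = 1

namespace WT

variable (h : WT G) {z : G} (hz : orderOf z = 2)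
include h hz

theorem se : IsStronglyEmbedded (HH z) := h.hse z hz

theorem exists_s : ∃ s ∈ MM z, orderOf s = 2 ∧ s ≠ z := by
  obtain ⟨s, t, hs, ht, hst, hc⟩ := h.hs
  obtain ⟨g, rfl⟩ := isConj_iff.1 (se_isConj (h.se hz) ht hz)
  exact ⟨g * s * g⁻¹, mem_MM.2 (hc.conj g), by rw [orderOf_conj, hs], by simpa using hst⟩

theorem eq_one_of_mem {g t : G} (hg : g ∉ HH z) (ht : t ∈ MM z) (ht' : t ∈ cj g (HH z)) : t = 1 :=
  h.semi z g t hz hg ht ht'

theorem exists_conj {u t : G} (hu2 : orderOf u = 2) (hu : u ∉ HH z) (ht : t ∈ MM z)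
    (ht2 : orderOf t = 2) : ∃ d ∈ HH z ⊓ cj u (HH z), u * d * u⁻¹ = d⁻¹ ∧ d * z * d⁻¹ = t := by
  obtain ⟨d, hd, h1, h2⟩ := se_exists_inverted_conj (h.se hz) hu hu2 (le_normalizer AC.self_mem) hz
    (le_normalizer ht) ht2
  exact ⟨d, mem_inf_cj_of_inverts hd h1, h1, h2⟩

theorem eq_of_conj_eq {g d e : G} (hg : g ∉ HH z) (hd : d ∈ cj g (HH z)) (he : e ∈ cj g (HH z))
    (hde : d * z * d⁻¹ = e * z * e⁻¹) : d = e :=
  (inv_mul_eq_one.1 (h.eq_one_of_mem hz hg (mem_MM.2 (conj_eq_conj_iff.1 hde))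
    (mul_mem (inv_mem he) hd))).symm

theorem inverts {u d : G} (hu2 : orderOf u = 2) (hu : u ∉ HH z) (hd : d ∈ HH z ⊓ cj u (HH z)) :
    u * d * u⁻¹ = d⁻¹ := by
  obtain ⟨e, he, h1, h2⟩ := h.exists_conj hz hu2 hu
    (conj_mem_of_mem_normalizer (mem_inf.1 hd).1 AC.self_mem) (by rw [orderOf_conj, hz])
  rwa [← h.eq_of_conj_eq hz hu (mem_inf.1 he).2 (mem_inf.1 hd).2 h2]

theorem card_inf' {u : G} (hu2 : orderOf u = 2) (hu : u ∉ HH z) :
    Nat.card (HH z ⊓ cj u (HH z) : Subgroup G) = Nat.card {t : G // t ∈ MM z ∧ orderOf t = 2} := by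
  refine cnt_eq_of_bij (fun d => d * z * d⁻¹)
    (fun d hd => ⟨conj_mem_of_mem_normalizer (mem_inf.1 hd).1 AC.self_mem, by rw [orderOf_conj, hz]⟩)
    (fun d e hd he hde => h.eq_of_conj_eq hz hu (mem_inf.1 hd).2 (mem_inf.1 he).2 hde)
    fun t ht => ?_
  obtain ⟨d, hd, -, h1⟩ := h.exists_conj hz hu2 hu ht.1 ht.2
  exact ⟨d, hd, h1⟩

theorem exists_mul {u w : G} (hu2 : orderOf u = 2) (hu : u ∉ HH z) (hw : w ∈ HH z) :
    ∃ d ∈ HH z ⊓ cj u (HH z), ∃ t ∈ MM z, w = d * t := by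
  obtain ⟨d, hd, -, h1⟩ := h.exists_conj hz hu2 hu (conj_mem_of_mem_normalizer hw AC.self_mem)
    (by rw [orderOf_conj, hz])
  exact ⟨d, hd, d⁻¹ * w, mem_MM.2 (conj_eq_conj_iff.1 h1.symm), by group⟩

theorem card_normalizer : Nat.card (HH z) =
    Nat.card {t : G // t ∈ MM z ∧ orderOf t = 2} * Nat.card (MM z) := by
  obtain ⟨u, hu2, hu⟩ := se_exists_invol_notMem (h.se hz)
  rw [← card_class_mul _ z, inf_eq_right.2 le_normalizer]
  congr 1
  refine cnt_congr fun y => ⟨?_, fun hy => ?_⟩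
  · rintro ⟨g, hg, rfl⟩
    exact ⟨conj_mem_of_mem_normalizer hg AC.self_mem, by rw [orderOf_conj, hz]⟩
  · obtain ⟨d, hd, -, h1⟩ := h.exists_conj hz hu2 hu hy.1 hy.2
    exact ⟨d, (mem_inf.1 hd).1, h1⟩

theorem commute_of_mem {u d e : G} (hu2 : orderOf u = 2) (hu : u ∉ HH z)
    (hd : d ∈ HH z ⊓ cj u (HH z)) (he : e ∈ HH z ⊓ cj u (HH z)) : Commute d e := by
  have := h.inverts hz hu2 hu (mul_mem hd he)
  rw [← conj_mul, h.inverts hz hu2 hu hd, h.inverts hz hu2 hu he, ← mul_inv_rev, inv_inj] at this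
  exact this.symm

theorem card_inf {g : G} (hg : g ∉ HH z) :
    Nat.card (HH z ⊓ cj g (HH z) : Subgroup G) = Nat.card {t : G // t ∈ MM z ∧ orderOf t = 2} := by
  obtain ⟨v, hv2, hv⟩ := se_exists_invol_mem_coset (h.se hz) hg
  rw [← cj_eq_of_coset hv]
  exact h.card_inf' hz hv2 fun h' => hg (by simpa using mul_mem h' (inv_mem hv))

theorem eq_one_of_inverts {g w d : G} (hg : g ∉ HH z) (hw : w ∈ HH z)
    (hd : d ∈ HH z ⊓ cj g (HH z)) (hinv : w * d * w⁻¹ = d⁻¹) : d = 1 := by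
  obtain ⟨v, hv2, hv⟩ := se_exists_invol_mem_coset (h.se hz) hg
  have hv' : v ∉ HH z := fun h' => hg (by simpa using mul_mem h' (inv_mem hv))
  rw [← cj_eq_of_coset hv] at hd
  obtain ⟨e, he, t, ht, rfl⟩ := h.exists_mul hz hv2 hv' hw
  have h1 : t * d * t⁻¹ = d⁻¹ := by
    calc t * d * t⁻¹ = e⁻¹ * (e * t * d * (e * t)⁻¹) * e := by group
      _ = d⁻¹ := by
        rw [hinv, mul_assoc, (h.commute_of_mem hz hv2 hv' hd he).inv_left.eq, inv_mul_cancel_left]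
  have h2 : d⁻¹ * d⁻¹ ∈ MM z := by
    have := mul_mem ht (conj_mem_of_mem_normalizer (mem_inf.1 hd).1 (inv_mem ht))
    rwa [show t * (d * t⁻¹ * d⁻¹) = t * d * t⁻¹ * d⁻¹ by group, h1] at this
  have h3 := h.eq_one_of_mem hz hv' h2
    (mul_mem (inv_mem (mem_inf.1 hd).2) (inv_mem (mem_inf.1 hd).2))
  rw [← mul_inv_rev, inv_eq_one] at h3
  exact eq_one_of_odd_of_mul_self (odd_orderOf_of_mem ((h.se hz).2.2 v hv') hd) h3

theorem exists_swap {x y : G ⧸ HH z} (hxy : x ≠ y) :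
    ∃ v : G, v • x = y ∧ ∀ d : G, d • x = x → d • y = y → v * d * v⁻¹ = d⁻¹ := by
  obtain ⟨a, rfl⟩ := QuotientGroup.mk_surjective x
  obtain ⟨b, rfl⟩ := QuotientGroup.mk_surjective y
  have hab : a⁻¹ * b ∉ HH z := fun h' => hxy (QuotientGroup.eq.2 h')
  obtain ⟨v, hv2, hv⟩ := se_exists_invol_mem_coset (h.se hz) hab
  have hv' : v ∉ HH z := fun h' => hab (by simpa using mul_mem h' (inv_mem hv))
  refine ⟨a * v * a⁻¹, (smul_mk_eq_iff _ _ _).2 (by simpa [mul_assoc] using hv), fun d h1 h2 => ?_⟩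
  rw [smul_mk_eq_iff] at h1 h2
  have := h.inverts hz hv2 hv' (d := a⁻¹ * d * a) (mem_inf.2 ⟨h1, by
    rw [cj_eq_of_coset hv, mem_cj]; simpa [mul_assoc] using h2⟩)
  calc _ = a * (v * (a⁻¹ * d * a) * v⁻¹) * a⁻¹ := by group
    _ = _ := by rw [this]; group

theorem eq_one_of_fix {d : G} {x y w : G ⧸ HH z}
    (hxy : x ≠ y) (hxz : x ≠ w) (hyz : y ≠ w) (hx : d • x = x) (hy : d • y = y) (hw : d • w = w) :
    d = 1 := by
  obtain ⟨v₁, h1, h1'⟩ := h.exists_swap hz hxy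
  obtain ⟨v₂, h2, h2'⟩ := h.exists_swap hz hyz
  obtain ⟨v₃, h3, h3'⟩ := h.exists_swap hz hxz.symm
  have h4 : (v₃ * v₂ * v₁) • x = x := by rw [mul_smul, mul_smul, h1, h2, h3]
  have h5 : v₃ * v₂ * v₁ * d * (v₃ * v₂ * v₁)⁻¹ = d⁻¹ := by
    calc _ = v₃ * (v₂ * (v₁ * d * v₁⁻¹) * v₂⁻¹) * v₃⁻¹ := by group
      _ = _ := by rw [h1' d hx hy, ← conj_inv, h2' d hy hw, inv_inv, h3' d hw hx]
  obtain ⟨a, rfl⟩ := QuotientGroup.mk_surjective x
  obtain ⟨b, rfl⟩ := QuotientGroup.mk_surjective y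
  rw [smul_mk_eq_iff] at h4 hx hy
  have := h.eq_one_of_inverts hz (g := a⁻¹ * b) (fun h' => hxy (QuotientGroup.eq.2 h')) h4
    (d := a⁻¹ * d * a) (mem_inf.2 ⟨hx, by rw [mem_cj]; simpa [mul_assoc] using hy⟩) (by
      calc _ = a⁻¹ * (v₃ * v₂ * v₁ * d * (v₃ * v₂ * v₁)⁻¹) * a := by group
        _ = _ := by rw [h5]; group)
  simpa [mul_assoc, inv_mul_eq_one] using this

theorem two_le : 2 ≤ Nat.card {t : G // t ∈ MM z ∧ orderOf t = 2} := by
  obtain ⟨s, hs, hs2, hsz⟩ := h.exists_s hz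
  refine (cnt_eq_two (p := fun t => t = s ∨ t = z) hsz fun _ => Iff.rfl).ge.trans (cnt_mono ?_)
  rintro x (rfl | rfl)
  · exact ⟨hs, hs2⟩
  · exact ⟨AC.self_mem, hz⟩

theorem card_points : Nat.card {y : G ⧸ HH z // y ≠ ((1 : G) : G ⧸ _)} ≤ Nat.card (MM z) := by
  have h1 := cnt_mul_le (p := fun y : G ⧸ HH z => y ≠ ((1 : G) : G ⧸ _))
    (q := fun d : G => d ∈ HH z ∧ d ∉ MM z)
    (fun y d => d • y = y) (m := Nat.card {t : G // t ∈ MM z ∧ orderOf t = 2} - 1) (n := 1) (by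
      intro y hy
      obtain ⟨g, rfl⟩ := QuotientGroup.mk_surjective y
      have hg : g ∉ HH z := fun h' => hy (QuotientGroup.eq.2 (by simpa using h'))
      have h2 := h.card_inf hz hg
      rw [← cnt_erase (p := fun x => x ∈ HH z ⊓ cj g (HH z)) (one_mem _)] at h2
      refine le_trans (by omega) (cnt_mono (p := fun x => x ∈ HH z ⊓ cj g (HH z) ∧ x ≠ 1)
        fun d hd => ?_)
      exact ⟨⟨(mem_inf.1 hd.1).1, fun h' => hd.2 (h.eq_one_of_mem hz hg h' (mem_inf.1 hd.1).2)⟩,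
        (smul_mk_eq_self_iff _ _).2 (mem_inf.1 hd.1).2⟩) (by
      intro d hd
      refine Finite.card_le_one_iff_subsingleton.2 ⟨fun y w => Subtype.ext ?_⟩
      by_contra hne
      refine hd.2 ?_
      rw [h.eq_one_of_fix hz y.2.1.symm w.2.1.symm hne (smul_one_iff.2 hd.1) y.2.2 w.2.2]
      exact one_mem _)
  have h2 := cnt_split (fun d : G => d ∈ HH z) (fun d => d ∈ MM z)
  rw [cnt_congr (p := fun d => d ∈ HH z ∧ d ∈ MM z)
    (q := fun d => d ∈ MM z) fun d => ⟨And.right, fun h => ⟨le_normalizer h, h⟩⟩,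
    h.card_normalizer hz] at h2
  have h3 := h.two_le hz
  obtain ⟨q, hq⟩ : ∃ q, Nat.card {t : G // t ∈ MM z ∧ orderOf t = 2} = q + 1 :=
    ⟨Nat.card {t : G // t ∈ MM z ∧ orderOf t = 2} - 1, by omega⟩
  rw [hq] at h1 h2 h3
  simp only [Nat.add_sub_cancel] at h1 h2
  refine Nat.le_of_mul_le_mul_right (c := q) ?_ (by omega)
  nlinarith

theorem regular {x y : G ⧸ HH z} (hx : x ≠ ((1 : G) : G ⧸ _)) (hy : y ≠ ((1 : G) : G ⧸ _)) :
    ∃! t : G, t ∈ MM z ∧ t • x = y := by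
  have hinj : ∀ s t : G, s ∈ MM z → t ∈ MM z → s • x = t • x → s = t := by
    intro s t hs ht he
    obtain ⟨g, rfl⟩ := QuotientGroup.mk_surjective x
    refine (inv_mul_eq_one.1 (h.eq_one_of_mem hz (g := g) (fun h' => hx (QuotientGroup.eq.2
      (by simpa using h'))) (mul_mem (inv_mem ht) hs) ((smul_mk_eq_self_iff _ _).1 ?_))).symm
    rw [mul_smul, he, inv_smul_smul]
  obtain ⟨t, ht, h1⟩ := surj_of_card (p := fun t => t ∈ MM z)
    (q := fun y => y ≠ ((1 : G) : G ⧸ _)) (fun t => t • x)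
    (fun t ht => smul_ne (smul_one_iff.2 (le_normalizer ht)) hx) hinj (h.card_points hz) y hy
  exact ⟨t, ⟨ht, h1⟩, fun s hs => hinj s t hs.1 ht (hs.2.trans h1.symm)⟩

theorem zass : IsZassenhausGroup G (G ⧸ HH z) := by
  obtain ⟨u, hu2, hu⟩ := se_exists_invol_notMem (h.se hz)
  have hu' := mk_ne_one.2 hu
  have hz1 : z • ((1 : G) : G ⧸ HH z) = (1 : G) := smul_one_iff.2 (le_normalizer AC.self_mem)
  refine ⟨⟨fun {a b} hab => ?_⟩, Perm.two_trans_iff.2 fun a b c d hab hcd => ?_,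
    fun g a b c hab hbc hac => h.eq_one_of_fix hz hab hac hbc, ?_, fun N hN htr => ?_⟩
  · have h1 : ∀ x : G ⧸ HH z, (b⁻¹ * a) • x = x := fun x => by rw [mul_smul, hab, inv_smul_smul]
    refine (inv_mul_eq_one.1 (h.eq_one_of_fix hz hu'.symm (smul_ne hz1 hu').symm (fun e => ?_)
      (h1 _) (h1 _) (h1 _))).symm
    exact ne_one_of_orderOf hz (h.eq_one_of_mem hz hu AC.self_mem
      ((smul_mk_eq_self_iff _ _).1 e.symm))
  · obtain ⟨g, hg⟩ := MulAction.exists_smul_eq G a ((1 : G) : G ⧸ HH z)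
    obtain ⟨k, hk⟩ := MulAction.exists_smul_eq G c ((1 : G) : G ⧸ HH z)
    obtain ⟨t, ⟨ht, h1⟩, -⟩ := h.regular hz (x := g • b) (y := k • d)
      (fun e => hab (smul_left_cancel g (hg.trans e.symm)))
      (fun e => hcd (smul_left_cancel k (hk.trans e.symm)))
    refine ⟨k⁻¹ * t * g, ?_, ?_⟩
    · rw [mul_smul, mul_smul, hg, smul_one_iff.2 (le_normalizer ht), ← hk, inv_smul_smul]
    · rw [mul_smul, mul_smul, h1, inv_smul_smul]
  · obtain ⟨s, hs, hs2, hsz⟩ := h.exists_s hz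
    obtain ⟨d, hd, -, h1⟩ := h.exists_conj hz hu2 hu hs hs2
    exact ⟨d, fun e => hsz (by rw [← h1, e]; simp), _, _, hu'.symm, smul_one_iff.2 (mem_inf.1 hd).1,
      (smul_mk_eq_self_iff _ _).2 (mem_inf.1 hd).2⟩
  · obtain ⟨s, hs, hs2, hsz⟩ := h.exists_s hz
    obtain ⟨n, hn⟩ := htr.1 ((1 : G) : G ⧸ HH z) u
    have hn' : (n : G) ∉ HH z := fun e => hu' (hn.symm.trans (smul_one_iff.2 e))
    have h1 := se_odd (h.se hz) (le_normalizer AC.self_mem) hz (u := n * s * (n : G)⁻¹)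
      (fun e => hn' (se_mem (h.se hz) (le_normalizer hs) hs2 e)) (by rw [orderOf_conj, hs2])
    have h2 := orderOf_mul_eq_two hz hs2 hsz.symm (mem_MM.1 hs).symm
    have h3 : ((z * (n * s * (n : G)⁻¹) : G) : G ⧸ N) = (z * s : G) := by
      simp [(QuotientGroup.eq_one_iff (n : G)).2 n.2]
    have h4 : ((z * s : G) : G ⧸ N) = 1 := by
      refine eq_one_of_odd_of_mul_self ?_ (by
        rw [← QuotientGroup.mk_mul, mul_self_of_orderOf h2, QuotientGroup.mk_one])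
      rw [← h3]
      exact h1.of_dvd_nat (orderOf_map_dvd (QuotientGroup.mk' N) _)
    refine ⟨((1 : G) : G ⧸ HH z), fun e => ne_one_of_orderOf h2 ?_⟩
    have h5 : (⟨z * s, (QuotientGroup.eq_one_iff _).1 h4⟩ : N) ∈ (⊥ : Subgroup N) := by
      rw [← e]
      exact smul_one_iff.2 (le_normalizer (mul_mem AC.self_mem hs))
    exact congrArg Subtype.val (mem_bot.1 h5)

/-- The involutions of `MM z` together with `1`. -/
def W : Subgroup G where
  carrier := {y | y ∈ MM z ∧ y * y = 1}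
  one_mem' := ⟨one_mem _, mul_one _⟩
  mul_mem' := fun {a b} ha hb => ⟨mul_mem ha.1 hb.1, by
    by_cases hb1 : b = 1
    · rw [hb1, mul_one, ha.2]
    · have h1 : a ∈ MM b := by rw [h.hM z b hz (orderOf_eq_two hb.2 hb1) hb.1]; exact ha.1
      rw [(mem_MM.1 h1).symm.mul_mul_mul_comm, ha.2, hb.2, mul_one]⟩
  inv_mem' := fun {a} ha => ⟨inv_mem ha.1, by rw [← mul_inv_rev, ha.2, inv_one]⟩

theorem mem_W {y : G} : y ∈ h.W hz ↔ y ∈ MM z ∧ y * y = 1 := Iff.rfl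

theorem W_comm {w x : G} (hw : w ∈ h.W hz) (hx : x ∈ MM z) : Commute x w := by
  by_cases hb1 : w = 1
  · rw [hb1]; exact Commute.one_right x
  · exact mem_MM.1 (by rw [h.hM z w hz (orderOf_eq_two hw.2 hb1) hw.1]; exact hx)

theorem card_W : Nat.card {t : G // t ∈ MM z ∧ orderOf t = 2} + 1 = Nat.card (h.W hz) := by
  rw [← cnt_erase (p := fun y => y ∈ h.W hz) (one_mem _)]
  congr 1
  exact cnt_congr fun y => ⟨fun hy => ⟨⟨hy.1, mul_self_of_orderOf hy.2⟩, ne_one_of_orderOf hy.2⟩,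
    fun hy => ⟨hy.1.1, orderOf_eq_two hy.1.2 hy.2⟩⟩

theorem zk : Zass.ZK G ((1 : G) : G ⧸ HH z) (MM z) := Zass.zk_of_regular (h.zass hz)
    (fun t ht => smul_one_iff.2 (le_normalizer ht)) fun y w hy hw => by
      obtain ⟨t, ⟨ht, h1⟩, h2⟩ := h.regular hz hy hw
      exact ⟨⟨t, ht⟩, h1, fun s hs => Subtype.ext (h2 s ⟨s.2, hs⟩)⟩

theorem cases : (∀ x ∈ MM z, x * x = 1) ∨
    (IsPGroup 2 (MM z) ∧ Nat.card (MM z) = Nat.card (h.W hz) ^ 2 ∧
      (∃ u ∈ MM z, ∃ v ∈ MM z, u * v ≠ v * u) ∧ ∃ m, 1 ≤ m ∧ Nat.card (h.W hz) = 2 ^ (2 * m + 1)) := by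
  obtain ⟨u, hu2, hu⟩ := se_exists_invol_notMem (h.se hz)
  have hu' := mk_ne_one.2 hu
  have hK := h.zk hz
  have h2 : Zass.E G ((1 : G) : G ⧸ HH z) u = HH z ⊓ cj u (HH z) := by
    ext g; rw [Zass.mem_E, smul_one_iff, smul_mk_eq_self_iff, mem_inf]
  have ho : Odd (Nat.card (Zass.E G ((1 : G) : G ⧸ HH z) u)) := by
    rw [h2]; exact (h.se hz).2.2 u hu
  rcases Zass.feit_zass hu'.symm _ G (MM z) rfl hK ho with h1 | ⟨hU2, ⟨a, b, hab⟩, -⟩
  · left
    intro x hx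
    rw [h2, h.card_inf hz hu, ← hK.card] at h1
    have h3 : h.W hz ≤ MM z := fun y hy => hy.1
    have h4 := h.card_W hz
    obtain ⟨k, hk⟩ := card_dvd_of_le h3
    have h5 : 0 < Nat.card (MM z) := Nat.card_pos
    have h6 : k = 1 := by
      rcases k with _ | _ | k
      · omega
      · rfl
      · exfalso; rw [hk, ← h4] at h1
        have : (Nat.card {t : G // t ∈ MM z ∧ orderOf t = 2} + 1) * (k + 1 + 1) =
          2 * Nat.card {t : G // t ∈ MM z ∧ orderOf t = 2} + 2 +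
            (Nat.card {t : G // t ∈ MM z ∧ orderOf t = 2} + 1) * k := by ring
        omega
    have h7 : h.W hz = MM z := eq_of_le_of_card_ge h3 (by rw [hk, h6, mul_one])
    exact (show x ∈ h.W hz from h7 ▸ hx).2
  · right
    haveI := hK.hZ.1
    obtain ⟨t, -, hS, hR, hD⟩ := RankOne.setup_of_zk hK
      (even_card_of_invol_mem hz AC.self_mem) hu'.symm
    have hn : ∃ x ∈ MM z, ∃ y ∈ MM z, x * y ≠ y * x := ⟨a, a.2, b, b.2, fun e => hab (Subtype.ext e)⟩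
    obtain ⟨m, h3, h4, h5, -, -⟩ := RankOne.zass_five hS hR hU2 hn hD
    have h6 : RankOne.Q0 G ((1 : G) : G ⧸ HH z) = h.W hz := by
      ext x
      rw [RankOne.mem_Q0 hS hR, h.mem_W hz]
      refine ⟨?_, fun hx => ?_⟩
      · rintro (rfl | hx)
        · exact ⟨one_mem _, mul_one _⟩
        · exact ⟨RankOne.I_Q hS hx, hx.2.2⟩
      · by_cases h1 : x = 1
        · exact Or.inl h1
        · exact Or.inr ⟨hS.le hx.1, h1, hx.2⟩
    rw [h6] at h4 h5
    exact ⟨hU2, h5, hn, m, h3, h4⟩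

/-- If all centralizers in `MM z` are `HH z`-invariant, then `MM z` is elementary abelian. -/
theorem mul_self (hinv : ∀ x ∈ MM z, ∀ y ∈ MM z, ∀ g ∈ HH z, Commute y x → Commute (g * y * g⁻¹) x)
    {x : G} (hx : x ∈ MM z) : x * x = 1 := by
  rcases h.cases hz with h1 | ⟨-, h2, ⟨a, ha, b, hb, hab⟩, -⟩
  · exact h1 x hx
  exfalso
  obtain ⟨u, hu2, hu⟩ := se_exists_invol_notMem (h.se hz)
  have haW : a ∉ h.W hz := fun hw => hab (h.W_comm hz hw hb).eq.symm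
  set D := HH z ⊓ cj u (HH z) with hD
  have hWc : ∀ d ∈ HH z, ∀ w ∈ h.W hz, d * w * d⁻¹ ∈ h.W hz := fun d hd w hw =>
    ⟨conj_mem_of_mem_normalizer hd hw.1, conj_mul_self hw.2 d⟩
  -- fixed point freeness
  have fpf : ∀ d ∈ D, ∀ y ∈ MM z, y ≠ 1 → d * y * d⁻¹ = y → d = 1 := by
    intro d hd y hy hy1 he
    refine h.eq_one_of_mem hz hu ((h.zk hz).centralizer_le y hy hy1 ?_) (mem_inf.1 hd).2
    exact mem_centralizer_singleton'.2 (commute_iff_conj.2 he)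
  have key : ∀ d ∈ D, a⁻¹ * (d * a * d⁻¹) ∈ h.W hz → d = 1 := by
    intro d hd hc
    by_contra hd1
    obtain ⟨w, hw, h3⟩ := surj_of_card (p := fun t => t ∈ h.W hz) (q := fun t => t ∈ h.W hz)
      (fun w => w * (d * w * d⁻¹)⁻¹)
      (fun w hw => mul_mem hw (inv_mem (hWc d (mem_inf.1 hd).1 w hw))) (by
        intro m n hm hn hmn
        by_contra hne
        refine hd1 (fpf d hd (n⁻¹ * m) (mul_mem (inv_mem hn.1) hm.1)
          (fun e => hne (inv_mul_eq_one.1 e).symm) ?_)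
        calc d * (n⁻¹ * m) * d⁻¹ = n⁻¹ * (n * (d * n * d⁻¹)⁻¹) * (d * m * d⁻¹) := by group
          _ = _ := by rw [← hmn]; group) le_rfl _ hc
    refine hd1 (fpf d hd (a * w) (mul_mem ha hw.1) (fun e => haW ?_) ?_)
    · rw [eq_inv_of_mul_eq_one_left e]; exact inv_mem hw
    · calc d * (a * w) * d⁻¹ = a * (a⁻¹ * (d * a * d⁻¹)) * (d * w * d⁻¹) := by group
        _ = _ := by rw [← h3]; group
  let C : Subgroup G := MM z ⊓ MM a
  have hC : C < MM z := lt_of_le_of_ne inf_le_left fun e => by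
    have : b ∈ C := e ▸ hb
    exact hab (mem_MM.1 (mem_inf.1 this).2).eq.symm
  let f : Option D × h.W hz → C := fun p => ⟨(p.1.elim 1 fun d => d * a * (d : G)⁻¹) * p.2, by
    obtain ⟨_ | d, w⟩ := p
    · simpa using ⟨w.2.1, mem_MM.2 (h.W_comm hz w.2 ha).symm⟩
    · refine mul_mem (mem_inf.2 ⟨conj_mem_of_mem_normalizer (mem_inf.1 d.2).1 ha, mem_MM.2 ?_⟩)
        (mem_inf.2 ⟨w.2.1, mem_MM.2 (h.W_comm hz w.2 ha).symm⟩)
      exact hinv a ha a ha d (mem_inf.1 d.2).1 (Commute.refl a)⟩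
  have hnot : ∀ (d : D) (w v : h.W hz), (d * a * (d : G)⁻¹) * w ≠ v := by
    intro d w v e
    have h3 : (d * a * (d : G)⁻¹ : G) ∈ h.W hz := by
      rw [eq_mul_inv_of_mul_eq e]; exact mul_mem v.2 (inv_mem w.2)
    have := hWc _ (inv_mem (mem_inf.1 d.2).1) _ h3
    exact haW (by simpa [mul_assoc] using this)
  have hf : Function.Injective f := by
    rintro ⟨_ | d, w⟩ ⟨_ | e, v⟩ he <;> have he := congrArg Subtype.val he <;>
      simp only [f, Option.elim] at he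
    · rw [Subtype.ext (mul_left_cancel he)]
    · exact (hnot e v w (by rw [← he, one_mul])).elim
    · exact (hnot d w v (by rw [he, one_mul])).elim
    · have h3 : (e : G)⁻¹ * d = 1 := key _ (mul_mem (inv_mem e.2) d.2) (by
        have h4 : a⁻¹ * ((e : G)⁻¹ * d * a * ((e : G)⁻¹ * d)⁻¹) = (e : G)⁻¹ * (v * (w : G)⁻¹) * (e : G)⁻¹⁻¹ := by
          calc _ = (e : G)⁻¹ * ((e * a * (e : G)⁻¹)⁻¹ * ((d * a * (d : G)⁻¹) * w) * (w : G)⁻¹) * e := by group
            _ = _ := by rw [he]; group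
        rw [h4]
        exact hWc _ (inv_mem (mem_inf.1 e.2).1) _ (mul_mem v.2 (inv_mem w.2)))
      have h4 : d = e := Subtype.ext (inv_mul_eq_one.1 h3).symm
      subst h4
      rw [Subtype.ext (mul_left_cancel he)]
  have h3 := Nat.card_le_card_of_injective f hf
  rw [Nat.card_prod, Finite.card_option, hD, h.card_inf hz hu, h.card_W hz, ← sq, ← h2] at h3
  exact absurd (Solv.card_lt_of_lt hC) (not_lt.2 h3)

end WT

end Cfsg.Agent.PU
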