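import Cfsg.Agent.Lib.PU.Ms18
import Cfsg.Agent.Lib.Perm.Dick6
import Cfsg.Agent.Lib.FT.Final
import Cfsg.Agent.Lib.Solv.Schmidt
import Cfsg.Agent.S1476
import Cfsg.Agent.S4066
import Cfsg.Agent.S0225

/-!
Groups all of whose element centralizers are TI-subgroups.
-/

set_option autoImplicit false
set_option linter.unusedSectionVars false
set_option linter.style.haveILetI false

namespace Cfsg.Agent.PU

open Subgroup Cfsg.Agent.Transfer Cfsg.Agent.Transfer.ElemC Cfsg.Agent.Perm.Ac

variable {G : Type*} [Group G] [Finite G]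

theorem nil_of_comm_conj (h : ∀ y g : G, Commute (g * y * g⁻¹) y) : Group.IsNilpotent G := by
  have q := (Group.isNilpotent_of_finite_tfae (G := G)).out 3 0
  refine q.1 fun p (_ : Fact p.Prime) (P : Sylow p G) => Subgroup.Normal.mk fun x hx g => ?_
  obtain ⟨k, hk⟩ := P.isPGroup' ⟨x, hx⟩
  have hk' : x ^ p ^ k = 1 := congrArg Subtype.val hk
  have hx' : ∀ a ∈ Group.conjugatesOfSet {x}, IsConj x a := fun a ha => by
    obtain ⟨c, h1, h2⟩ := Group.mem_conjugatesOfSet_iff.1 ha
    rwa [Set.mem_singleton_iff.1 h1] at h2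
  have hc : ∀ a ∈ Group.conjugatesOfSet {x}, ∀ b ∈ Group.conjugatesOfSet {x}, a * b = b * a := by
    intro a ha b hb
    obtain ⟨u, rfl⟩ := isConj_iff.1 ((hx' b hb).symm.trans (hx' a ha))
    exact (h b u).eq
  have hcomm := isMulCommutative_closure hc
  have hp : IsPGroup p (normalClosure ({x} : Set G)) := fun y => ⟨k, Subtype.ext (by
    obtain ⟨y, hy⟩ := y
    change y ^ p ^ k = 1
    induction hy using closure_induction with
    | mem a ha =>
      obtain ⟨u, rfl⟩ := isConj_iff.1 (hx' a ha)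
      rw [conj_pow, hk']; simp
    | one => simp
    | mul a b ha hb h1 h2 =>
      have : Commute a b := congrArg Subtype.val (hcomm.1.1 ⟨a, ha⟩ ⟨b, hb⟩)
      rw [this.mul_pow, h1, h2, one_mul]
    | inv a _ h1 => rw [inv_pow, h1, inv_one])⟩
  exact ((Solv.le_pCore hp).trans (Solv.pCore_le_sylow P))
    (normalClosure_normal.conj_mem x (subset_normalClosure (Set.mem_singleton x)) g)

theorem mem_of_sylow_le {p : ℕ} [Fact p.Prime] (P : Sylow p G) {M : Subgroup G}
    (hP : (P : Subgroup G) ≤ M) {b : G} (hb : b ∈ normalizer (M : Set G)) (hbp : b ^ p = 1) : b ∈ M := by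
  set N := normalizer (M : Set G)
  have h1 : ((⟨b, hb⟩ : N) : N ⧸ M.subgroupOf N) = 1 := by
    rw [← orderOf_eq_one_iff]
    have h2 : orderOf ((⟨b, hb⟩ : N) : N ⧸ M.subgroupOf N) ∣ p := orderOf_dvd_of_pow_eq_one (by
      rw [← QuotientGroup.mk_pow, show (⟨b, hb⟩ : N) ^ p = 1 from Subtype.ext hbp, QuotientGroup.mk_one])
    rcases (Nat.dvd_prime Fact.out).1 h2 with h3 | h3
    · exact h3
    · exfalso
      have h4 := _root_.orderOf_dvd_natCard ((⟨b, hb⟩ : N) : N ⧸ M.subgroupOf N)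
      rw [h3] at h4
      exact P.not_dvd_index (h4.trans
        ((relIndex_dvd_index_of_le le_normalizer).trans (index_dvd_of_le hP)))
  exact (QuotientGroup.eq_one_iff (N := M.subgroupOf N) (⟨b, hb⟩ : N)).1 h1

theorem exists_invol_centralizer_top (hn : ∀ E : Subgroup G, ¬ IsKleinFour E) (he : Even (Nat.card G))
    (hC : ∀ z : G, orderOf z = 2 → Group.IsSolvable (MM z)) : Group.IsSolvable G := by
  obtain ⟨z, hz, N, hN, ho, h⟩ := S0225.result he hn
  refine Solv.isSolvable_of_normal_of_quotient N (PF.odd_solvable ho) ?_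
  haveI := hC z hz
  refine Group.isSolvable_of_surjective (f := (QuotientGroup.mk' N).comp (MM z).subtype) fun q => ?_
  obtain ⟨g, rfl⟩ := QuotientGroup.mk_surjective q
  have hi : z⁻¹ = z := inv_eq_of_mul_eq_one_right (mul_self_of_orderOf hz)
  have h1 : z * (g * z * g⁻¹) ∈ N := by have := h g; rwa [hi, mul_assoc, mul_assoc, ← mul_assoc g] at this
  obtain ⟨c, hc, h2⟩ := exists_conj_of_odd' (mul_self_of_orderOf hz)
    (conj_mul_self (mul_self_of_orderOf hz) g) (odd_orderOf_of_mem ho h1)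
  have hcN : c ∈ N := zpowers_le.2 h1 hc
  refine ⟨⟨c⁻¹ * g, mem_MM.2 (conj_eq_conj_iff.1 h2.symm)⟩, ?_⟩
  simp [(QuotientGroup.eq_one_iff c).2 hcN]

theorem exists_four (E : Subgroup G) (hE : IsKleinFour E) :
    ∃ s t : G, orderOf s = 2 ∧ orderOf t = 2 ∧ s ≠ t ∧ Commute s t := by
  haveI : Nontrivial E := Finite.one_lt_card_iff_nontrivial.1 (by rw [hE.card_four]; norm_num)
  obtain ⟨s, hs⟩ := exists_ne (1 : E)
  obtain ⟨t, ht1, hts⟩ : ∃ t : E, t ≠ 1 ∧ t ≠ s := by
    by_contra hc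
    push Not at hc
    have : Nat.card E ≤ 2 := by
      have := Nat.card_le_card_of_surjective (fun b : Bool => if b then (1 : E) else s) fun y => by
        by_cases hy : y = 1
        · exact ⟨true, hy.symm⟩
        · exact ⟨false, (hc y hy).symm⟩
      simpa only [Nat.card_eq_fintype_card, Fintype.card_bool] using this
    rw [hE.card_four] at this; omega
  have h2 : ∀ y : E, (y : G) * y = 1 := fun y => congrArg Subtype.val (IsKleinFour.mul_self y)
  refine ⟨s, t, orderOf_eq_two (h2 s) fun e => hs (Subtype.ext e),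
    orderOf_eq_two (h2 t) fun e => ht1 (Subtype.ext e), fun e => hts (Subtype.ext e.symm), ?_⟩
  have := h2 (s * t)
  rw [coe_mul] at this
  calc (s : G) * t = ((s : G) * t)⁻¹ := eq_inv_of_mul_eq_one_left this
    _ = _ := by rw [mul_inv_rev, inv_eq_of_mul_eq_one_right (h2 s), inv_eq_of_mul_eq_one_right (h2 t)]

theorem psl_of_elem (h : WT G) (he : ∀ z : G, orderOf z = 2 → ∀ x ∈ MM z, x * x = 1) :
    ∃ n : ℕ, 2 ≤ n ∧ Nonempty (G ≃* Matrix.ProjectiveSpecialLinearGroup (Fin 2) (GaloisField 2 n)) := by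
  have hT : TI G := by
    refine ⟨⟨fun t ht a b ha hb => ?_, h.hs, ?_⟩, fun s t hs ht hst x h1 h2 => ?_⟩
    · exact (h.W_comm ht ⟨mem_MM.2 hb, he t ht b (mem_MM.2 hb)⟩ (mem_MM.2 ha))
    · obtain ⟨s, -, hs, -⟩ := h.hs
      obtain ⟨u, hu2, hu⟩ := se_exists_invol_notMem (h.se hs)
      exact ⟨u, s, hu2, hs, fun e => hu (le_normalizer (mem_MM.2 e))⟩
    · by_contra hx
      have hx2 := orderOf_eq_two (he s hs x (mem_MM.2 h1)) hx
      have := (h.hM s x hs hx2 (mem_MM.2 h1)).symm.trans (h.hM t x ht hx2 (mem_MM.2 h2))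
      exact hst (mem_MM.1 (this ▸ AC.self_mem))
  obtain ⟨F, _, _, h3, h4, ⟨e⟩⟩ := hT.exists_psl
  have : CharP F 2 := Perm.GL2.ringChar_eq_two h4 ▸ ringChar.charP F
  obtain ⟨n, -, hn⟩ := FiniteField.card F 2
  have h5 : 2 ≤ (n : ℕ) := by
    by_contra a
    rw [hn, show (n : ℕ) = 1 by have := n.pos; omega] at h3
    omega
  obtain ⟨e'⟩ := (Perm.GL2.iso_of_card (K := GaloisField 2 n) (F := F)
    (by rw [GaloisField.card 2 n (by omega), hn])).2
  exact ⟨n, h5, ⟨e.trans e'.symm⟩⟩

section ti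

variable (hTI : ∀ x : G, IsTISubset (centralizer ({x} : Set G) : Set G))
include hTI

theorem ti_mem {x y g : G} (hy : y ∈ MM x) (h1 : y ≠ 1) (hg : g * y * g⁻¹ ∈ MM x) : g ∈ HH x := by
  by_contra h
  exact h1 (hTI x g h y hy hg)

theorem ti_comm {x y g : G} (hx : x ≠ 1) (hy : y ∈ MM x) (hg : g ∈ MM x) : Commute (g * y * g⁻¹) y := by
  have h1 : x ∈ MM y := mem_MM.2 (mem_MM.1 hy).symm
  exact mem_MM.1 (conj_mem_of_mem_normalizer
    (ti_mem hTI h1 hx (by rwa [commute_iff_conj.1 (mem_MM.1 hg)])) AC.self_mem)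

theorem ti_cn : IsCNGroup G := fun _ hx =>
  nil_of_comm_conj fun y g => Subtype.ext (ti_comm hTI hx y.2 g.2).eq

theorem ti_sylow {z b : G} (hz : orderOf z = 2) (hb : b ∈ MM z) {r : ℕ} [Fact r.Prime] (hr : r ≠ 2)
    (hb1 : b ≠ 1) (hbr : b ^ r = 1) : ∃ P : Sylow r G, (P : Subgroup G) ≤ MM z := by
  have hp : IsPGroup r (zpowers b) := IsPGroup.of_card (n := 1) (by
    rw [Nat.card_zpowers, pow_one, orderOf_eq_prime hbr hb1])
  obtain ⟨P, hP⟩ := hp.exists_le_sylow
  have hco : ∀ y ∈ (P : Subgroup G), (orderOf y).Coprime (orderOf z) := fun y hy => by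
    obtain ⟨k, hk⟩ := (IsPGroup.iff_orderOf.1 P.isPGroup') ⟨y, hy⟩
    rw [orderOf_mk] at hk
    rw [hk, hz]
    exact ((Nat.coprime_primes Fact.out Nat.prime_two).2 hr).pow_left k
  haveI : Nontrivial P := ⟨⟨⟨b, hP (mem_zpowers b)⟩, 1, fun e => hb1 (congrArg Subtype.val e)⟩⟩
  haveI := P.isPGroup'.center_nontrivial
  obtain ⟨w, hw⟩ := exists_ne (1 : center P)
  have hw1 : ((w : P) : G) ≠ 1 := fun e => hw (Subtype.ext (Subtype.ext e))
  have hwc : ∀ y ∈ (P : Subgroup G), y ∈ MM ((w : P) : G) := fun y hy =>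
    mem_MM.2 (congrArg Subtype.val (mem_center_iff.1 w.2 ⟨y, hy⟩))
  have h1 : Commute ((w : P) : G) z := Solv.commute_of_nilpotent_of_coprime (ti_cn hTI b hb1)
    (mem_MM.2 (mem_MM.1 (hwc b (hP (mem_zpowers b)))).symm) (mem_MM.2 (mem_MM.1 hb).symm) (hco _ w.1.2)
  exact ⟨P, fun y hy => mem_MM.2 (Solv.commute_of_nilpotent_of_coprime (ti_cn hTI _ hw1) (hwc y hy)
    (mem_MM.2 h1.symm) (hco y hy))⟩

theorem ti_wt (hns : ¬ Group.IsSolvable G) : WT G := by
  have he : Even (Nat.card G) := by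
    by_contra ho
    exact hns (PF.odd_solvable (Nat.not_even_iff_odd.1 ho))
  have hC : ∀ z : G, orderOf z = 2 → Group.IsSolvable (MM z) := fun z hz => by
    haveI := ti_cn hTI z (ne_one_of_orderOf hz); infer_instance
  have hH : ∀ z t : G, (∃ P : Sylow 2 G, (P : Subgroup G) ≤ MM z) → orderOf t = 2 → t ∈ HH z → t ∈ MM z :=
    fun z t ⟨P, hP⟩ ht h => mem_of_sylow_le P hP h (by rw [← ht, pow_orderOf_eq_one])
  have hse : ∀ z : G, orderOf z = 2 → (∃ P : Sylow 2 G, (P : Subgroup G) ≤ MM z) →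
      IsStronglyEmbedded (HH z) := fun z hz hP => by
    refine stronglyEmbedded_iff.2 ⟨fun e => hns ?_, even_card_of_invol_mem hz (le_normalizer AC.self_mem),
      fun t ht h2 g hg => ti_mem hTI (hH z t hP h2 ht) (ne_one_of_orderOf h2)
        (hH z _ hP (by rw [orderOf_conj, h2]) hg)⟩
    haveI := normalizer_eq_top_iff.1 e
    obtain ⟨P, hP⟩ := hP
    refine Solv.isSolvable_of_normal_of_quotient (MM z) (hC z hz) (PF.odd_solvable ?_)
    exact Nat.not_even_iff_odd.1 fun e => P.not_dvd_index (e.two_dvd.trans (index_dvd_of_le hP))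
  have hP : ∀ z : G, orderOf z = 2 → ∃ P : Sylow 2 G, (P : Subgroup G) ≤ MM z := fun z hz => by
    obtain ⟨P⟩ : Nonempty (Sylow 2 G) := inferInstance
    obtain ⟨w, -, hw2, h1⟩ := exists_central_invol P.2 (fun e => P.not_dvd_index (by
      rw [show (P : Subgroup G) = ⊥ from e, index_bot]; exact he.two_dvd))
    obtain ⟨g, rfl⟩ := isConj_iff.1 (se_isConj (hse w hw2 ⟨P, h1⟩) hw2 hz)
    refine ⟨g • P, ?_⟩
    change _ ≤ centralizer _
    rw [← cj_centralizer_singleton]
    exact cj_mono g h1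
  refine ⟨fun z t hz ht h => ?_, ?_, fun z hz => hse z hz (hP z hz), fun z t hz => hH z t (hP z hz),
    fun z g t hz hg ht ht' => ?_⟩
  · obtain ⟨g, rfl⟩ := isConj_iff.1 (se_isConj (hse z hz (hP z hz)) hz ht)
    have := ti_mem hTI AC.self_mem (ne_one_of_orderOf hz) h
    rw [mem_normalizer_iff_cj] at this
    change centralizer _ = _
    rw [← cj_centralizer_singleton]; exact this
  · by_contra hc
    exact hns (exists_invol_centralizer_top (fun E hE => hc (exists_four E hE)) he hC)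
  · by_contra h1
    obtain ⟨r, hr, hrd⟩ := Nat.exists_prime_and_dvd (n := orderOf t) (fun e => h1 (orderOf_eq_one_iff.1 e))
    haveI := Fact.mk hr
    set b := t ^ (orderOf t / r) with hb
    have hbo : orderOf b = r := orderOf_pow_orderOf_div (orderOf_pos t).ne' hrd
    have hb1 : b ≠ 1 := fun e => hr.one_lt.ne' (by rw [← hbo, e, orderOf_one])
    have hbr : b ^ r = 1 := by rw [← hbo, pow_orderOf_eq_one]
    have hbM : b ∈ MM z := pow_mem ht _
    obtain ⟨P, hP⟩ : ∃ P : Sylow r G, (P : Subgroup G) ≤ MM z := by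
      by_cases h2 : r = 2
      · subst h2; exact hP z hz
      · exact ti_sylow hTI hz hbM h2 hb1 hbr
    have h3 : g⁻¹ * b * g ∈ MM z := mem_of_sylow_le P hP (mem_cj.1 (pow_mem ht' _)) (by
      have := conj_pow (i := r) (a := g⁻¹) (b := b)
      rw [inv_inv] at this
      rw [this, hbr]; simp)
    exact hg (inv_mem_iff.1 (ti_mem hTI hbM hb1 (by rwa [inv_inv])))

theorem thm_4064 : Group.IsNilpotent G ∨
    (∃ H : Subgroup G, IsFrobeniusComplement H ∧
      (IsCyclic H ∨ ∃ m : ℕ, Odd m ∧ Nonempty (H ≃* Multiplicative (ZMod m) × QuaternionGroup 2))) ∨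
    (∃ n : ℕ, 2 ≤ n ∧ Nonempty (G ≃* Matrix.ProjectiveSpecialLinearGroup (Fin 2) (GaloisField 2 n))) := by
  by_cases hs : Group.IsSolvable G
  · rcases S1476.result (ti_cn hTI) with h | ⟨K, E, -, -, hE, h | ⟨C, Q, hCQ, hc, hC, ho, n, ⟨e⟩⟩⟩ | ⟨p, hp, h⟩
    · exact Or.inl h
    · exact Or.inr (Or.inl ⟨E, hE, Or.inl h⟩)
    · refine Or.inr (Or.inl ⟨E, hE, ?_⟩)
      have hQ : Nat.card Q = 2 ^ (n + 2) := by
        rw [Nat.card_congr e.toEquiv, Nat.card_eq_fintype_card, QuaternionGroup.card]; ring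
      have hco : (Nat.card C).Coprime (Nat.card Q) := by
        rw [hQ]; exact ((Nat.coprime_two_right).2 ho).pow_right _
      let f : C × Q →* E := (C.subtype.noncommCoprod Q.subtype fun a b => hc a a.2 b b.2).codRestrict E
        fun x => hCQ ▸ mul_mem_sup x.1.2 x.2.2
      have hf : Function.Bijective f := by
        refine ⟨(injective_iff_map_eq_one f).2 fun x hx => ?_, fun y => ?_⟩
        · have h1 : (x.1 : G) * x.2 = 1 := congrArg Subtype.val hx
          have h2 : (x.1 : G) ∈ C ⊓ Q := mem_inf.2 ⟨x.1.2, by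
            rw [eq_inv_of_mul_eq_one_left h1]; exact inv_mem x.2.2⟩
          rw [(disjoint_of_coprime_natCard hco).eq_bot, mem_bot] at h2
          rw [h2, one_mul] at h1
          exact Prod.ext (Subtype.ext h2) (Subtype.ext h1)
        · have h1 : E ≤ (C.subtype.noncommCoprod Q.subtype fun a b => hc a a.2 b b.2).range := by
            rw [← hCQ]
            exact sup_le (fun a ha => ⟨(⟨a, ha⟩, 1), mul_one a⟩) fun a ha => ⟨(1, ⟨a, ha⟩), one_mul a⟩
          obtain ⟨x, hx⟩ := h1 y.2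
          exact ⟨x, Subtype.ext hx⟩
      let e1 := (MulEquiv.ofBijective f hf).symm
      rcases n with _ | _ | n
      · left
        haveI : IsCyclic Q := by
          haveI := QuaternionGroup.quaternionGroup_one_isCyclic
          exact isCyclic_of_surjective e.symm e.symm.surjective
        haveI := Group.isCyclic_prod_iff.2 ⟨hC, this, hco⟩
        exact isCyclic_of_surjective e1.symm e1.symm.surjective
      · exact Or.inr ⟨_, ho, ⟨e1.trans ((zmodCyclicMulEquiv hC).symm.prodCongr e)⟩⟩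
      · exfalso
        have hz : ∀ y : QuaternionGroup (2 ^ (n + 1 + 1)),
            y * .a ((2 ^ (n + 1 + 1) : ℕ)) = .a ((2 ^ (n + 1 + 1) : ℕ)) * y := by
          rintro (i | i)
          · simp [add_comm]
          · simp only [QuaternionGroup.xa_mul_a, QuaternionGroup.a_mul_xa]
            congr 1
            have := ZMod.natCast_self (2 * 2 ^ (n + 1 + 1))
            rw [Nat.cast_mul, Nat.cast_ofNat] at this
            linear_combination this
        have hm : ∀ y, ((e.symm y : Q) : G) ∈ MM ((e.symm (.a ((2 ^ (n + 1 + 1) : ℕ))) : Q) : G) :=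
          fun y => mem_MM.2 (by
            change _ * _ = _ * _
            rw [← coe_mul, ← coe_mul, ← map_mul, ← map_mul, hz])
        have h1 := (ti_comm hTI (fun e' => ?_) (hm (.xa 0)) (hm (.a 1))).eq
        · rw [← coe_inv, ← map_inv] at h1
          simp only [← coe_mul, ← map_mul] at h1
          have h2 := e.symm.injective (Subtype.ext h1)
          have h3 : (QuaternionGroup.a (1 : ZMod (2 * 2 ^ (n + 1 + 1))))⁻¹ = .a (-1) := rfl
          rw [h3] at h2
          simp only [QuaternionGroup.xa_mul_a, QuaternionGroup.a_mul_xa, QuaternionGroup.xa_mul_xa,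
            QuaternionGroup.a.injEq] at h2
          have h4 : ((4 : ℕ) : ZMod (2 * 2 ^ (n + 1 + 1))) = 0 := by
            push_cast; linear_combination h2
          have h5 := Nat.le_of_dvd (by norm_num) ((ZMod.natCast_eq_zero_iff _ _).1 h4)
          have : 0 < 2 ^ n := by positivity
          rw [pow_succ, pow_succ] at h5
          omega
        · have h2 : e.symm (.a ((2 ^ (n + 1 + 1) : ℕ))) = 1 := Subtype.ext e'
          rw [MulEquiv.map_eq_one_iff, QuaternionGroup.one_def, QuaternionGroup.a.injEq] at h2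
          have h5 := Nat.le_of_dvd (by positivity) ((ZMod.natCast_eq_zero_iff _ _).1 h2)
          have : 0 < 2 ^ (n + 1 + 1) := by positivity
          omega
    · exfalso
      haveI := Fact.mk hp
      obtain ⟨h1, A, -, -, -, -, -, h2, ⟨n, h3⟩, -⟩ := h
      obtain ⟨P⟩ : Nonempty (Sylow p G) := inferInstance
      have hu : ∀ Q : Sylow p G, Q = P := fun Q => by
        by_contra hne
        exact h1 (eq_bot_iff.2 (S4066.result hTI Q P hne ▸
          le_inf (Solv.pCore_le_sylow Q) (Solv.pCore_le_sylow P)))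
      haveI : (P : Subgroup G).Normal := by
        haveI : Subsingleton (Sylow p G) := ⟨fun a b => (hu a).trans (hu b).symm⟩
        exact P.normal_of_subsingleton
      have h4 := index_dvd_of_le ((Solv.le_pCore P.isPGroup').trans (le_sup_left (b := A)))
      rw [h3] at h4
      rcases n with _ | n
      · exact h2 (index_eq_one.1 h3)
      · exact P.not_dvd_index ((dvd_pow_self p n.succ_ne_zero).trans h4)
  · have h := ti_wt hTI hs
    refine Or.inr (Or.inr (psl_of_elem h fun z hz x hx => h.mul_self hz (fun x hx y hy g hg hc => ?_) hx))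
    obtain ⟨s, hs, hs2, -⟩ := h.exists_s hz
    have h1 : g ∈ HH x := ti_mem hTI (mem_MM.2 (mem_MM.1 hx).symm) (ne_one_of_orderOf hz) (mem_MM.2
      (h.W_comm hz ⟨conj_mem_of_mem_normalizer hg AC.self_mem,
        conj_mul_self (mul_self_of_orderOf hz) g⟩ hx).symm)
    exact mem_MM.1 (conj_mem_of_mem_normalizer h1 (mem_MM.2 hc))

end ti

end Cfsg.Agent.PU
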