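import Cfsg.Agent.Lib.Fusion.KFoc2
import Cfsg.Agent.Lib.Solv.Fact

/-!
Groups all of whose Sylow subgroups are self-normalizing.
-/

set_option autoImplicit false
set_option linter.unusedSectionVars false
set_option linter.style.haveILetI false

namespace Cfsg.Agent.PU

open Subgroup

variable {G : Type*} [Group G] [Finite G]

theorem exists_prime_index_of_solvable [Nontrivial G] (h : Group.IsSolvable G) :
    ∃ N : Subgroup G, N.Normal ∧ N.index.Prime := by
  have h1 : commutator G ≠ ⊤ := (Group.IsSolvable.commutator_lt_top_of_nontrivial G).ne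
  obtain ⟨M, hM, hle⟩ := (eq_top_or_exists_le_coatom (commutator G)).resolve_left h1
  haveI : M.Normal := ⟨fun n hn g => by
    have : g * n * g⁻¹ = (g * n * g⁻¹ * n⁻¹) * n := by group
    rw [this]
    exact mul_mem (hle (commutator_mem_commutator (mem_top g) (mem_top n))) hn⟩
  refine ⟨M, this, ?_⟩
  have h2 : M.index ≠ 1 := fun e => hM.1 (index_eq_one.1 e)
  obtain ⟨r, hr, hd⟩ := Nat.exists_prime_and_dvd h2
  haveI := Fact.mk hr
  obtain ⟨x, hx⟩ := exists_prime_orderOf_dvd_card' (G := G ⧸ M) r hd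
  have h3 : (zpowers x).comap (QuotientGroup.mk' M) = ⊤ := hM.2 _ (lt_of_le_of_ne
    (fun y hy => by simp [mem_comap, (QuotientGroup.eq_one_iff y).2 hy]) fun e => by
      obtain ⟨y, rfl⟩ := QuotientGroup.mk_surjective x
      have : y ∈ M := by rw [e]; exact mem_zpowers _
      rw [(QuotientGroup.eq_one_iff y).2 this, orderOf_one] at hx
      exact hr.one_lt.ne hx)
  have h4 : zpowers x = ⊤ := eq_top_iff.2 fun y _ => by
    obtain ⟨y, rfl⟩ := QuotientGroup.mk_surjective y
    exact (h3.ge (mem_top y) : y ∈ (zpowers x).comap _)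
  have h5 : M.index = r := by
    rw [← hx, ← Nat.card_zpowers, h4, card_top]; rfl
  rwa [h5]

theorem thm_1992 (h : ∀ q : ℕ, q.Prime → q ∣ Nat.card G → ∀ Q : Sylow q G,
    normalizer ((Q : Subgroup G) : Set G) = Q) : ∃ q : ℕ, q.Prime ∧ IsPGroup q G := by
  rcases subsingleton_or_nontrivial G with h0 | h0
  · exact ⟨2, Nat.prime_two, fun g => ⟨0, Subsingleton.elim _ _⟩⟩
  obtain ⟨N, hN, hr⟩ : ∃ N : Subgroup G, N.Normal ∧ N.index.Prime := by
    by_cases h5 : ∃ p : ℕ, p.Prime ∧ p ∣ Nat.card G ∧ 5 ≤ p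
    · obtain ⟨p, hp, hd, h5⟩ := h5
      haveI := Fact.mk hp
      obtain ⟨S⟩ : Nonempty (Sylow p G) := inferInstance
      obtain ⟨N, hN, e⟩ := Fusion.exists_index_five h5 S
        (fun e => S.not_dvd_index (by rw [e, index_bot]; exact hd)) fun g hg hc => by
          rw [h p hp hd S] at hg
          obtain ⟨k, hk⟩ := (IsPGroup.iff_orderOf.1 S.isPGroup') ⟨g, hg⟩
          rw [orderOf_mk] at hk
          rcases k with _ | k
          · rw [orderOf_eq_one_iff.1 hk]; exact one_mem _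
          · rw [hk] at hc
            exact absurd (Nat.Coprime.eq_one_of_dvd hc.symm (dvd_pow_self p k.succ_ne_zero)) hp.one_lt.ne'
      exact ⟨N, hN, e ▸ hp⟩
    · refine exists_prime_index_of_solvable (Solv.isSolvable_of_primes_subset Nat.prime_two Nat.prime_three
        fun r hr hd => ?_)
      have h1 : r < 5 := lt_of_not_ge fun e => h5 ⟨r, hr, hd, e⟩
      have h2 := hr.two_le
      interval_cases r
      · simp
      · simp
      · exact absurd hr (by norm_num)
  refine ⟨N.index, hr, ?_⟩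
  haveI := Fact.mk hr
  refine IsPGroup.iff_card.2 ⟨_, Nat.eq_prime_pow_of_unique_prime_dvd Nat.card_pos.ne' fun {q} hq hd => ?_⟩
  by_contra hne
  haveI := Fact.mk hq
  obtain ⟨Q⟩ : Nonempty (Sylow q G) := inferInstance
  have hQN : (Q : Subgroup G) ≤ N := fun x hx => by
    rw [← QuotientGroup.eq_one_iff, ← orderOf_eq_one_iff]
    obtain ⟨k, hk⟩ := (IsPGroup.iff_orderOf.1 Q.isPGroup') ⟨x, hx⟩
    rw [orderOf_mk] at hk
    exact Nat.eq_one_of_dvd_coprimes (((Nat.coprime_primes hq hr).2 hne).pow_left k)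
      (hk ▸ orderOf_map_dvd (QuotientGroup.mk' N) x) (_root_.orderOf_dvd_natCard _)
  have h1 := Sylow.normalizer_sup_eq_top' Q hQN
  rw [show normalizer (Q : Set G) = Q from h q hq hd Q, sup_eq_right.2 hQN] at h1
  rw [h1, index_top] at hr
  exact Nat.not_prime_one hr

theorem thm_3125 (h : ∀ q : ℕ, q.Prime → q ∣ Nat.card G → ∀ Q : Sylow q G,
    normalizer ((Q : Subgroup G) : Set G) = Q) : ¬ (IsSimpleGroup G ∧ ¬ IsMulCommutative G) := by
  rintro ⟨hs, hc⟩
  obtain ⟨q, hq, h1⟩ := thm_1992 h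
  haveI := Fact.mk hq
  haveI := h1.isNilpotent
  exact hc ⟨⟨IsSimpleGroup.comm_iff_isSolvable.2 inferInstance⟩⟩

end Cfsg.Agent.PU
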