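import Cfsg.Agent.Lib.Fusion.Agemo
import Cfsg.Agent.Lib.Fusion.Reduce

/-! Fusion systems on 2-groups in which every element is conjugate to a central element. -/

set_option autoImplicit false
set_option linter.unusedSectionVars false
set_option linter.unusedVariables false
open Cfsg Cfsg.FusionSystem
open scoped commutatorElement

namespace Cfsg.Agent.PU

open Cfsg.Agent.Fusion

universe u

section
variable {Ω : Type*} [Group Ω] {S P U Z : Subgroup Ω} {F E : FusionSystem S} {p n : ℕ}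
variable [hp : Fact p.Prime] [Finite S]

theorem agemo_normal' (hS : IsPGroup p S) (hF : F.IsSaturated p)
    (hcl : ∀ P, P ≤ S → ∀ x ∈ normalizerIn S P, x ^ p ∈ P → ∀ v ∈ centralizerIn P P,
      x * v ^ p ^ n * x⁻¹ = v ^ p ^ n) :
    F.IsNormal (powerClosure p n (centralizerIn S S)) := by
  have hU : ∀ P : Subgroup Ω, powerClosure p n (centralizerIn P P) ≤ centralizerIn P P := fun P =>
    (Subgroup.closure_le _).2 (by rintro _ ⟨x, hx, rfl⟩; exact pow_mem hx _)
  have ha : ∀ (P : Subgroup Ω) (α : MulAut P), ∀ x ∈ powerClosure p n (centralizerIn P P),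
      afun α x ∈ powerClosure p n (centralizerIn P P) := fun P α x hx => by
    have hm := (mem_autGroup (F := groupFusionSystem P) le_rfl (α := α))
    induction hx using Subgroup.closure_induction with
    | mem y hy =>
      obtain ⟨x, hx, rfl⟩ := hy
      refine Subgroup.subset_closure ⟨afun α x, ⟨afun_mem _ hx.1, fun y hy => ?_⟩, ?_⟩
      · rw [← afun_afun_inv α hy, ← afun_map_mul _ (afun_mem _ hy) hx.1,
          ← afun_map_mul _ hx.1 (afun_mem _ hy), hx.2 _ (afun_mem _ hy)]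
      · rw [afun_of_mem _ hx.1, afun_of_mem _ (pow_mem hx.1 _), ← Subgroup.coe_pow, ← map_pow]; rfl
    | one => rw [afun_of_mem _ P.one_mem]; exact (congrArg Subtype.val (map_one α)).symm ▸ one_mem _
    | mul x y hx hy h1 h2 => rw [afun_map_mul _ (hU P hx).1 (hU P hy).1]; exact mul_mem h1 h2
    | inv x hx h1 =>
      rw [afun_of_mem _ (hU P hx).1] at h1
      rw [afun_of_mem _ (inv_mem (hU P hx).1)]
      exact (congrArg Subtype.val (map_inv α ⟨x, (hU P hx).1⟩)).symm ▸ inv_mem h1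
  have hn : S ≤ Subgroup.normalizer (powerClosure p n (centralizerIn S S) : Set Ω) := fun s hs =>
    Subgroup.centralizer_le_normalizer _ fun x hx => ((hU S hx).2 s hs).symm
  have D := presData (F := F) hn
  have h1 := alperin_normalSub hS hF (E := D.sys) (fun α hα => (mem_autGroup le_rfl).2 (D.mor_iff.2
    ⟨(mem_autGroup le_rfl).1 hα, fun x hx => ⟨ha S α x, fun h => afun_inv_afun α hx ▸ ha S α⁻¹ _ h⟩⟩))
    fun P hP hC => by
      have := finite_of_le hP.le
      obtain ⟨x, x1, x2, x3⟩ := exists_pstep hS hP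
      obtain ⟨σ, hσ⟩ := exists_cAut x1.2
      have m := mem_autInducedBy.2 ⟨x, x1.1, hσ⟩
      have hle : powerClosure p n (centralizerIn S S) ≤ powerClosure p n (centralizerIn P P) :=
        Subgroup.closure_mono fun _ ⟨y, hy, e⟩ => ⟨y, ⟨hC ⟨hy.1, fun z hz => hy.2 z (hP.le hz)⟩,
          fun z hz => hy.2 z (hP.le hz)⟩, e⟩
      have hV := (hU P).trans centralizerIn_le
      have fx : ∀ {β}, β ∈ resPre hV ⊥ ↔ ∀ y ∈ powerClosure p n (centralizerIn P P), afun β y = y :=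
        fun {β} => (mem_resPre hV).trans ⟨fun ⟨γ, h1, h2⟩ y hy => by
          rw [h2 y hy, Subgroup.mem_bot.1 h1, afun_one], fun h => ⟨1, one_mem _, fun y hy => by
            rw [h y hy, afun_one]⟩⟩
      refine ⟨F.autGroup P ⊓ resPre hV ⊥, fun β hβ => (mem_autGroup hP.le).2 (D.mor_iff.2
        ⟨(mem_autGroup hP.le).1 hβ.1, fun y hy => ⟨fun h => by rwa [fx.1 hβ.2 y (hle h)], fun h => ?_⟩⟩),
        inf_le_left, fun a a1 b hb => ⟨Subgroup.mul_mem _ (Subgroup.mul_mem _ a1 hb.1) (Subgroup.inv_mem _ a1), fx.2 fun y hy => ?_⟩,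
        σ, m, ⟨autInducedBy_le_autGroup F hP.le m, fx.2 fun y hy => ?_⟩,
        fun h => x2 (mem_of_cAut_mem_Inn hC hP.le x1.1 hσ h)⟩
      · have := fx.1 (inv_mem hβ.2) _ (hle h)
        rw [afun_inv_afun _ hy] at this
        rwa [this]
      · rw [afun_mul _ _ (hV hy), afun_mul _ _ (afun_mem _ (hV hy)), fx.1 hb.2 _ (ha P a⁻¹ y hy),
          afun_afun_inv _ (hV hy)]
      · rw [hσ y (hV hy), mul_inv_eq_iff_eq_mul]
        have : powerClosure p n (centralizerIn P P) ≤ Subgroup.centralizer {x} :=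
          (Subgroup.closure_le _).2 (by
            rintro _ ⟨v, hv, rfl⟩ _ rfl
            exact mul_inv_eq_iff_eq_mul.1 (hcl P hP.le _ x1 x3 v hv))
        exact this hy x rfl
  exact normal_of_abelian hS hF (stronglyClosed_iff.2 ⟨(hU S).trans centralizerIn_le,
    fun P f hf x hx m => ((D.mor_iff.1 (le_iff_mor.1 h1 P f hf)).2 x hx).1 m⟩)
    fun x hx y hy => (hU S hy).2 x (hU S hx).1


theorem cent_of_norm (hS : IsPGroup p S) (hF : F.IsSaturated p) {x t : Ω} (hx : x ∈ S) (ht : t ∈ S)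
    (h : ∃ z ∈ S ⊓ Subgroup.centralizer (S : Set Ω), F.IsConjElt x z)
    (hn : t * x * t⁻¹ ∈ Subgroup.zpowers x) : t * x * t⁻¹ = x := by
  obtain ⟨z, hz, h⟩ := h
  obtain ⟨P, f, hf, hP, rfl⟩ := isConjElt_iff.1 h
  have hf' := hf.mono ((Subgroup.zpowers_le).2 hP)
  have hc : img f (Subgroup.zpowers x) ≤ S ⊓ Subgroup.centralizer (S : Set Ω) :=
    img_le_iff.2 fun y ⟨k, hk⟩ => by
      rw [← hk]; dsimp only; rw [hf.map_zpow hP]; exact zpow_mem hz k
  obtain ⟨g, hg, e⟩ := IsSaturated.exists_normalizer_mor hS hF (fullyNormalized_of_normal hf'.img_le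
    fun s hs => Subgroup.centralizer_le_normalizer _ fun y hy => ((hc hy).2 s hs).symm) hf'.isConj
  have h0 : Subgroup.zpowers x ≤ S := (Subgroup.zpowers_le).2 hx
  have := finite_of_le h0
  have h1 : t ∈ normalizerIn S (Subgroup.zpowers x) := ⟨ht, mem_normalizer_of_finite fun y ⟨k, hk⟩ => by
    rw [← hk]; dsimp only; rw [← conj_zpow]; exact zpow_mem hn k⟩
  have h2 := le_normalizerIn h0 (Subgroup.mem_zpowers x)
  refine hg.inj (mul_mem (mul_mem h1 h2) (inv_mem h1)) h2 ?_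
  rw [hg.map_conj h1 h2, (hc (e ▸ subset_img (Subgroup.mem_zpowers x))).2 _ (hg.mem h1)]
  group

end

theorem henke (m : ℕ) : ∀ {Ω : Type u} [Group Ω] {S : Subgroup Ω} [Finite S], Nat.card S = m →
    IsPGroup 2 S → ∀ F : FusionSystem S, F.IsSaturated 2 →
    (∀ x ∈ S, ∃ z ∈ S ⊓ Subgroup.centralizer (S : Set Ω), F.IsConjElt x z) →
    ∀ a ∈ S, ∀ b ∈ S, a * b = b * a := by
  induction m using Nat.strong_induction_on with | _ m ih
  intro Ω _ S _ hm hS F hF h
  have hN := agemo_normal' (n := 1) hS hF fun P hP x hx h2 v hv => by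
    have := finite_of_le hP
    have h1 : x * v * x⁻¹ ∈ centralizerIn P P := conj_mem_of_mem_normalizer (mem_normalizer_zc hx.2) hv
    have hc : Commute v (x * v * x⁻¹) := h1.2 v hv.1
    have h3 : x * (v⁻¹ * (x * v * x⁻¹)) * x⁻¹ = (v⁻¹ * (x * v * x⁻¹))⁻¹ := by
      calc _ = (x * v * x⁻¹)⁻¹ * (x ^ 2 * v * (x ^ 2)⁻¹) := by rw [pow_two]; group
        _ = _ := by rw [hv.2 _ h2]; group
    have h4 := hP (mul_mem (inv_mem hv.1) h1.1)
    have h5 := cent_of_norm hS hF h4 hx.1 (h _ h4) (h3 ▸ inv_mem (Subgroup.mem_zpowers _))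
    rw [h3] at h5
    have h6 := mul_eq_one_iff_inv_eq.2 h5
    rw [← pow_two, hc.inv_left.mul_pow, inv_pow, inv_mul_eq_one, conj_pow] at h6
    rw [pow_one, ← h6]
  set U := powerClosure 2 1 (centralizerIn S S) with hU
  have hUZ : U ≤ centralizerIn S S :=
    (Subgroup.closure_le _).2 (by rintro _ ⟨x, hx, rfl⟩; exact pow_mem hx _)
  by_cases h0 : U = ⊥
  · have h2 : ∀ x ∈ S, x⁻¹ = x := fun x hx => by
      obtain ⟨z, hz, h1⟩ := h x hx
      obtain ⟨P, f, hf, hP, rfl⟩ := isConjElt_iff.1 h1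
      have h3 : f x ^ 2 ^ 1 ∈ U := Subgroup.subset_closure ⟨_, hz, rfl⟩
      rw [h0, Subgroup.mem_bot, ← hf.map_pow hP, hf.eq_one_iff (pow_mem hP _), pow_one, pow_two] at h3
      exact inv_eq_of_mul_eq_one_right h3
    intro a ha b hb
    rw [← h2 _ (mul_mem ha hb), mul_inv_rev, h2 a ha, h2 b hb]
  obtain ⟨Ω', _, S', θ, F', hs, hk⟩ := exists_quot hN
  have := hs.finite
  have h1 := ih _ (hm ▸ hs.card_lt (hk ▸ h0)) rfl (hs.pgroup hS) F' (hs.saturated hS hF) fun y hy => by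
    obtain ⟨x, hx, rfl⟩ := hs.pre le_rfl hy
    obtain ⟨z, hz, h1⟩ := h x (preimageAlong_le hx)
    obtain ⟨P, f, hf, hP, rfl⟩ := isConjElt_iff.1 h1
    obtain ⟨f', h2, h3⟩ := hs.mor hf
    refine ⟨ap θ (f x), ⟨hs.mem _ hz.1, fun w hw => ?_⟩,
      isConjElt_iff.2 ⟨_, f', h2, ap_mem_imageAlong hf.le hP, h3 x hP⟩⟩
    obtain ⟨s, hs', rfl⟩ := hs.pre le_rfl hw
    rw [← ap_mul θ (preimageAlong_le hs') hz.1, ← ap_mul θ hz.1 (preimageAlong_le hs'),
      hz.2 s (preimageAlong_le hs')]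
  have h2 : ∀ x ∈ S, ∀ y ∈ S, ⁅x, y⁆ ∈ U := fun x hx y hy => by
    rw [← hk, commutatorElement_def]
    have hc := mul_mem (mul_mem hx hy) (inv_mem hx)
    refine mem_preimageAlong.2 ⟨mul_mem hc (inv_mem hy), ?_⟩
    rw [ap_mul θ hc (inv_mem hy), ap_conj θ hx hy, ap_inv θ hy, h1 _ (hs.mem x hx) _ (hs.mem y hy)]
    simp
  have h3 : F.IsNormal S := by
    refine normal_of_chain hS hF (stronglyClosed_top F) (n := 2)
      (C := fun i => if i = 0 then ⊥ else if i = 1 then U else S) (by simp) (by simp)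
      (fun i _ => ?_) (fun i _ => ?_) fun i hi x hx y hy => ?_
    · split_ifs
      · exact bot_le
      · exact hUZ.trans centralizerIn_le
      · exact le_rfl
    · split_ifs
      · exact StronglyClosed.weaklyClosed (stronglyClosed_bot F)
      · exact StronglyClosed.weaklyClosed (IsNormal.stronglyClosed hN)
      · exact StronglyClosed.weaklyClosed (stronglyClosed_top F)
    · interval_cases i
      · simp only [zero_add, one_ne_zero, if_false, if_true] at hx
        simp [commutatorElement_def, ← (hUZ hx).2 y hy]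
      · exact h2 x hx y hy
  intro a ha b hb
  obtain ⟨z, hz, h4⟩ := h a ha
  obtain ⟨P, f, hf, hP, rfl⟩ := isConjElt_iff.1 h4
  obtain ⟨g, hg, e, -⟩ := (isNormal_iff.1 h3).2 P f hf
  have ha' : a ∈ P ⊔ S := Subgroup.mem_sup_right ha
  have hb' : b ∈ P ⊔ S := Subgroup.mem_sup_right hb
  refine hg.inj (mul_mem ha' hb') (mul_mem hb' ha') ?_
  rw [hg.map_mul ha' hb', hg.map_mul hb' ha', e a hP, hz.2 _ (hg.mem hb')]

theorem camina_herzog {G : Type u} [Group G] [Finite G] (P : Sylow 2 G)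
    (h : ∀ x : G, (∃ k : ℕ, orderOf x = 2 ^ k) →
      ∃ Q : Sylow 2 G, (Q : Subgroup G) ≤ Subgroup.centralizer ({x} : Set G)) :
    IsMulCommutative (P : Subgroup G) := by
  have := henke _ rfl P.isPGroup' _ (group_saturated P) fun x hx => by
    obtain ⟨k, hk⟩ := (IsPGroup.iff_orderOf.1 P.isPGroup') ⟨x, hx⟩
    rw [Subgroup.orderOf_mk] at hk
    obtain ⟨Q, hQ⟩ := h x ⟨k, hk⟩
    obtain ⟨g, rfl⟩ := MulAction.exists_smul_eq G Q P
    have h1 : g * x * g⁻¹ ∈ Subgroup.centralizer (((g • Q : Sylow 2 G) : Subgroup G) : Set G) := by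
      rintro _ ⟨y, hy, rfl⟩
      have := Subgroup.mem_centralizer_singleton_iff.1 (hQ hy)
      change g * y * g⁻¹ * _ = _ * (g * y * g⁻¹)
      calc _ = g * (y * x) * g⁻¹ := by group
        _ = _ := by rw [this]; group
    have h2 : IsPGroup 2 (Subgroup.zpowers (g * x * g⁻¹)) := pgroup_zpowers (k := k) (by
      rw [conj_pow, ← hk, pow_orderOf_eq_one]; group)
    have h3 : Subgroup.zpowers (g * x * g⁻¹) ≤ ((g • Q : Sylow 2 G) : Subgroup G) := by
      have h4 := (g • Q).is_maximal' ((g • Q).isPGroup'.to_sup_of_normal_left' h2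
        ((Subgroup.zpowers_le).2 (Subgroup.centralizer_le_normalizer _ h1))) le_sup_left
      exact le_sup_right.trans h4.le
    refine ⟨g * x * g⁻¹, ⟨h3 (Subgroup.mem_zpowers _), h1⟩, isConjElt_iff.2
      ⟨Subgroup.zpowers x, fun y => g * y * g⁻¹, mor_group_iff.2 ⟨(Subgroup.zpowers_le).2 hx,
        fun y ⟨j, hj⟩ => h3 ⟨j, ?_⟩, g, fun _ _ => rfl⟩, Subgroup.mem_zpowers x, rfl⟩⟩
    rw [← hj]; exact conj_zpow
  exact ⟨⟨fun a b => Subtype.ext (this a a.2 b b.2)⟩⟩

end Cfsg.Agent.PU
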