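import Cfsg.Agent.Lib.Fusion.PStab

/-! A characteristic subgroup controlling fusion in `p`-stable groups. -/

set_option autoImplicit false
set_option linter.unusedSectionVars false
set_option linter.unusedVariables false
open Cfsg
open scoped commutatorElement

namespace Cfsg.Agent.PU

open Subgroup Cfsg.Agent.Transfer

universe u

variable {G : Type u} [Group G] [Finite G] {p : ℕ} [hp : Fact p.Prime] {A B Y E S : Subgroup G}

/-- `x` acts quadratically on `A` -/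
def QD (A : Subgroup G) (x : G) : Prop := ∀ a ∈ A, Commute x (a⁻¹ * (x * a * x⁻¹))

/-- normal abelian subgroups of `Y` without nontrivial quadratic action -/
structure DF (Y A : Subgroup G) : Prop where
  le : A ≤ Y
  nm : Y ≤ normalizer (A : Set G)
  ab : ∀ a ∈ A, ∀ b ∈ A, Commute a b
  q : ∀ x ∈ Y, QD A x → ∀ a ∈ A, Commute x a

/-- the largest such subgroup -/
def DD (Y : Subgroup G) : Subgroup G := sSup {A | DF Y A}

theorem qd_of_norm (hB : ∀ a ∈ B, ∀ b ∈ B, Commute a b) (hn : A ≤ normalizer (B : Set G)) {b : G}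
    (hb : b ∈ B) : QD A b := fun a ha => hB b hb _ (by
  have := mul_mem (inv_conj_mem_of_mem_normalizer (hn ha) hb) (inv_mem hb)
  rwa [show a⁻¹ * b * a * b⁻¹ = a⁻¹ * (b * a * b⁻¹) by group] at this)

theorem le_DD (h : DF Y A) : A ≤ DD Y := le_sSup h

theorem comm_DD {x : G} (h : ∀ A, DF Y A → ∀ a ∈ A, Commute x a) : ∀ a ∈ DD Y, Commute x a :=
  fun _ ha => (mem_centralizer_singleton'.1 ((sSup_le fun A hA a ha =>
    mem_centralizer_singleton'.2 (h A hA a ha).symm : DD Y ≤ centralizer {x}) ha)).symm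

theorem df_DD (Y : Subgroup G) : DF Y (DD Y) := by
  refine ⟨sSup_le fun _ h => h.le, fun y hy => mem_normalizer_of_cj_le ?_, fun a ha => comm_DD
    fun B hB b hb => (comm_DD (fun A hA => hA.q b (hB.le hb)
      (qd_of_norm hB.ab (hA.le.trans hB.nm) hb)) a ha).symm,
    fun x hx h => comm_DD fun A hA => hA.q x hx fun a ha => h a (le_DD hA ha)⟩
  rw [cj_le_iff_le_cj_inv]
  exact sSup_le fun A hA a ha => mem_cj.2 (by
    rw [inv_inv]; exact le_DD hA (conj_mem_of_mem_normalizer (hA.nm hy) ha))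

theorem DF.cj (h : DF Y A) (g : G) : DF (cj g Y) (cj g A) := by
  have key : ∀ a b : G, Commute (g⁻¹ * a * g) (g⁻¹ * b * g) → Commute a b := fun a b e => by
    have := e.conj g
    simpa [mul_assoc] using this
  refine ⟨cj_mono g h.le, by rw [← cj_normalizer]; exact cj_mono g h.nm,
    fun a ha b hb => key a b (h.ab _ (mem_cj.1 ha) _ (mem_cj.1 hb)),
    fun x hx hq a ha => key x a (h.q _ (mem_cj.1 hx) (fun b hb => ?_) _ (mem_cj.1 ha))⟩
  have := (hq _ (conj_mem_cj (g := g) hb)).conj g⁻¹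
  convert this using 1 <;> group

theorem cj_DD (g : G) (Y : Subgroup G) : cj g (DD Y) = DD (cj g Y) := by
  refine le_antisymm (le_DD ((df_DD Y).cj g)) ?_
  rw [le_cj_iff_cj_inv_le]
  have := (df_DD (cj g Y)).cj g⁻¹
  rw [cj_inv_cj] at this
  exact le_DD this

theorem normalizer_le_DD : normalizer (Y : Set G) ≤ normalizer (DD Y : Set G) := fun g hg => by
  rw [mem_normalizer_iff_cj] at hg ⊢
  rw [cj_DD, hg]

theorem DD_mono (h1 : DD S ≤ Y) (h2 : Y ≤ S) : DD S ≤ DD Y :=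
  le_DD ⟨h1, h2.trans (df_DD S).nm, (df_DD S).ab, fun x hx => (df_DD S).q x (h2 hx)⟩

theorem DD_ne_bot (hS : IsPGroup p S) (h : S ≠ ⊥) : DD S ≠ ⊥ := by
  haveI : Nontrivial S := (nontrivial_iff_ne_bot S).2 h
  haveI := hS.center_nontrivial
  obtain ⟨z, hz⟩ := exists_ne (1 : center S)
  have h1 : DF S (S ⊓ centralizer (S : Set G)) :=
    ⟨inf_le_left, fun s hs => centralizer_le_normalizer _ fun y hy => (hy.2 s hs).symm,
      fun a ha b hb => hb.2 a ha.1, fun x hx _ a ha => ha.2 x hx⟩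
  intro e
  have h2 : ((z : S) : G) ∈ DD S := le_DD h1 ⟨z.1.2, fun y hy =>
    congrArg Subtype.val (mem_center_iff.1 z.2 ⟨y, hy⟩)⟩
  rw [e, mem_bot] at h2
  exact hz (Subtype.ext (Subtype.ext h2))

theorem qa_of_qd {x : G} (hx : x ∈ normalizer (B : Set G)) (h : QD B x) :
    Fusion.QA (Fusion.cAut B ⟨x, hx⟩) := Fusion.qa_iff.2 fun a => Subtype.ext (by
  change x * ((a : G)⁻¹ * (x * a * x⁻¹)) * x⁻¹ = (a : G)⁻¹ * (x * a * x⁻¹)
  rw [(h a a.2).eq, mul_inv_cancel_right])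

variable (hst : IsNormalizerPStable p G)
include hst

theorem split (hB : IsPGroup p B) {x : G} (hx : x ∈ normalizer (B : Set G)) (h : QD B x) :
    ∃ K : Subgroup G, x ∈ K ∧ K ≤ normalizer (B : Set G) ∧
      normalizer (B : Set G) ≤ normalizer (K : Set G) ∧ res p K ≤ centralizer (B : Set G) := by
  obtain ⟨K, h1, h2, h3, h4⟩ := Fusion.nst_iff.1 hst B hB x hx
    ((Fusion.quad_iff_qa hx).2 (qa_of_qd hx h))
  exact ⟨K, h1 (mem_zpowers x), h2, h3, h4⟩

theorem loc (hE : IsPGroup p E) (hY : IsSyl p Y (normalizer (E : Set G)))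
    (hrad : ∀ K : Subgroup G, K ≤ normalizer (E : Set G) → normalizer (E : Set G) ≤ normalizer (K : Set G) →
      res p K ≤ centralizer (E : Set G) → Y ⊓ K ≤ E) :
    DD Y ≤ E ∧ normalizer (E : Set G) ≤ normalizer (DD Y : Set G) := by
  have hD := df_DD Y
  have hEY : E ≤ Y := hY.le_of_normal hE le_normalizer le_rfl
  have h1 : DD Y ≤ E := fun d hd => by
    obtain ⟨K, k1, k2, k3, k4⟩ := split hst hE (hY.le (hD.le hd))
      (qd_of_norm hD.ab (hEY.trans hD.nm) hd)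
    exact hrad K k2 k3 k4 ⟨hD.le hd, k1⟩
  refine ⟨h1, ?_⟩
  set N := normalizer (E : Set G) with hN
  let W : Subgroup G := ⨆ n : N, cj (n : G) (DD Y)
  have hW1 : ∀ n ∈ N, cj n (DD Y) ≤ W := fun n hn => le_iSup (fun n : N => cj (n : G) (DD Y)) ⟨n, hn⟩
  have hE' : ∀ n ∈ N, cj n (DD Y) ≤ E := fun n hn =>
    (cj_mono n h1).trans (mem_normalizer_iff_cj.1 hn).le
  have hWE : W ≤ E := iSup_le fun n => hE' n n.2
  have hDW : DD Y ≤ W := by simpa using hW1 1 (one_mem _)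
  have key : ∀ x : G, (∀ n ∈ N, ∀ a ∈ DD Y, Commute (n⁻¹ * x * n) a) → ∀ w ∈ W, Commute x w :=
    fun x h w hw => (mem_centralizer_singleton'.1 ((iSup_le fun n a ha =>
      mem_centralizer_singleton'.2 (by
        have := (h n n.2 _ (mem_cj.1 ha)).conj n
        simpa [mul_assoc] using this.symm) : W ≤ centralizer {x}) hw)).symm
  have hNW : N ≤ normalizer (W : Set G) := fun n hn => mem_normalizer_of_cj_le (by
    rw [cj_le_iff_le_cj_inv]
    refine iSup_le fun m a ha => mem_cj.2 ?_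
    rw [inv_inv]
    refine hW1 (n * m) (mul_mem hn m.2) (mem_cj.2 ?_)
    have := mem_cj.1 ha
    rwa [show (n * m)⁻¹ * (n * a * n⁻¹) * (n * m) = (m : G)⁻¹ * a * m by group])
  have hc : ∀ n ∈ N, ∀ b ∈ cj n (DD Y), ∀ a ∈ DD Y, Commute b a := fun n hn b hb =>
    hD.q b (hEY (hE' n hn hb)) (qd_of_norm (hD.cj n).ab (h1.trans
      ((mem_normalizer_iff_cj.1 hn).ge.trans ((cj_mono n hEY).trans (hD.cj n).nm))) hb)
  have hc' : ∀ w ∈ W, ∀ a ∈ DD Y, Commute w a := fun w hw a ha =>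
    mem_centralizer_singleton'.1 ((iSup_le fun n b hb => mem_centralizer_singleton'.2
      (hc n n.2 b hb a ha) : W ≤ centralizer {a}) hw)
  have hab : ∀ a ∈ W, ∀ b ∈ W, Commute a b := fun a ha => key a fun n hn =>
    hc' _ (inv_conj_mem_of_mem_normalizer (hNW hn) ha)
  have hW : DF Y W := by
    refine ⟨hWE.trans hEY, hY.le.trans hNW, hab, fun x hx hq => key x fun n hn => ?_⟩
    obtain ⟨K, k1, k2, k3, k4⟩ := split hst (hE.to_le hWE) (hNW (hY.le hx)) hq
    have h2 : N ≤ normalizer ((K ⊓ N : Subgroup G) : Set G) :=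
      Solv.le_normalizer_inf (hNW.trans k3) le_normalizer
    obtain ⟨c, c1, r, r1, e⟩ := (hY.inf_of_le_normalizer inf_le_right h2).exists_res_mul
      (inv_conj_mem_of_mem_normalizer (h2 hn) (x := x) ⟨k1, hY.le hx⟩)
    have c2 : ∀ w ∈ W, c * w = w * c := fun w hw => (k4 (res_mono inf_le_left c1) w hw).symm
    have r2 : r ∈ normalizer (W : Set G) := hNW (hY.le r1.1)
    have e2 : ∀ w ∈ W, (n⁻¹ * x * n) * w * (n⁻¹ * x * n)⁻¹ = r * w * r⁻¹ := fun w hw => by
      rw [e, show c * r * w * (c * r)⁻¹ = c * (r * w * r⁻¹) * c⁻¹ by group,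
        c2 _ (conj_mem_of_mem_normalizer r2 hw), mul_inv_cancel_right]
    have h3 : QD (DD Y) r := fun a ha => by
      have h4 := (hq _ (conj_mem_of_mem_normalizer (hNW hn) (hDW ha))).conj n⁻¹
      have h5 : Commute (n⁻¹ * x * n) (a⁻¹ * ((n⁻¹ * x * n) * a * (n⁻¹ * x * n)⁻¹)) := by
        convert h4 using 1 <;> group
      rw [e2 a (hDW ha)] at h5
      rw [commute_iff_conj] at h5 ⊢
      rw [← e2 _ (mul_mem (inv_mem (hDW ha)) (conj_mem_of_mem_normalizer r2 (hDW ha))), h5]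
    intro a ha
    rw [commute_iff_conj, e2 a (hDW ha), ← commute_iff_conj]
    exact hD.q r r1.1 h3 a ha
  rw [le_antisymm hDW (le_DD hW)]
  exact hNW

theorem inner (k : ℕ) (ih : ∀ X S₁ S₂ : Subgroup G, k < Nat.card X → IsSyl p S₁ ⊤ → IsSyl p S₂ ⊤ →
    X ≤ S₁ → X ≤ S₂ → DD S₁ ≤ X → DD S₁ = DD S₂) (m : ℕ) : ∀ E S : Subgroup G,
    (Nat.card G + 1) ^ 2 - (Nat.card (S ⊓ normalizer (E : Set G) : Subgroup G) * (Nat.card G + 1) +
      Nat.card E) = m → IsSyl p S ⊤ → E ≤ S → DD S ≤ E →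
      k < Nat.card (S ⊓ normalizer (E : Set G) : Subgroup G) →
      normalizer (E : Set G) ≤ normalizer (DD S : Set G) := by
  induction m using Nat.strong_induction_on with | _ m ih2
  intro E S hm hS hES hD hk
  have hb : ∀ X : Subgroup G, Nat.card X ≤ Nat.card G := fun X => X.card_le_card_group
  have step : ∀ E' S' : Subgroup G, IsSyl p S' ⊤ → E' ≤ S' → DD S' ≤ E' →
      (Nat.card (S ⊓ normalizer (E : Set G) : Subgroup G) <
        Nat.card (S' ⊓ normalizer (E' : Set G) : Subgroup G) ∨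
      (Nat.card (S ⊓ normalizer (E : Set G) : Subgroup G) ≤
        Nat.card (S' ⊓ normalizer (E' : Set G) : Subgroup G) ∧ Nat.card E < Nat.card E')) →
      normalizer (E' : Set G) ≤ normalizer (DD S' : Set G) := fun E' S' h1 h2 h3 h4 => by
    refine ih2 _ ?_ E' S' rfl h1 h2 h3 (by omega)
    rw [← hm]
    have a1 := hb (S' ⊓ normalizer (E' : Set G))
    have a2 := hb E'
    have a3 := hb E
    have a4 : Nat.card (S' ⊓ normalizer (E' : Set G) : Subgroup G) * (Nat.card G + 1) + Nat.card E' <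
      (Nat.card G + 1) ^ 2 := by nlinarith
    have a5 : Nat.card (S ⊓ normalizer (E : Set G) : Subgroup G) * (Nat.card G + 1) + Nat.card E <
      Nat.card (S' ⊓ normalizer (E' : Set G) : Subgroup G) * (Nat.card G + 1) + Nat.card E' := by
      rcases h4 with h4 | ⟨h4, h5⟩ <;> nlinarith
    omega
  set N := normalizer (E : Set G) with hN
  have hEY : E ≤ S ⊓ N := le_inf hES le_normalizer
  obtain ⟨Y, hY, h1⟩ := exists_isSyl_ge (hS.pgroup.to_le (inf_le_left : S ⊓ N ≤ S)) inf_le_right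
  rcases h1.eq_or_lt with h1 | h1
  swap
  · obtain ⟨T, hT, h2⟩ := exists_isSyl_ge hY.pgroup le_top
    have h3 := ih _ S T hk hS hT inf_le_left (h1.le.trans h2) (hD.trans hEY)
    rw [h3] at hD ⊢
    exact step E T hT (hEY.trans (h1.le.trans h2)) hD (Or.inl ((Solv.card_lt_of_lt h1).trans_le
      (card_le_of_le (le_inf h2 hY.le))))
  subst h1
  by_cases hrad : ∀ K : Subgroup G, K ≤ N → N ≤ normalizer (K : Set G) →
      res p K ≤ centralizer (E : Set G) → S ⊓ N ⊓ K ≤ E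
  · obtain ⟨h2, h3⟩ := loc hst (hS.pgroup.to_le hES) hY hrad
    rcases (inf_le_left : S ⊓ N ≤ S).eq_or_lt with h4 | h4
    · rwa [h4] at h3
    · exact h3.trans (step _ S hS (h2.trans hES) (DD_mono (hD.trans hEY) inf_le_left)
        (Or.inl (Solv.card_lt_of_lt ((lt_inf_normalizer hS.pgroup h4).trans_le
          (inf_le_inf_left _ normalizer_le_DD)))))
  · push Not at hrad
    obtain ⟨K, k1, k2, k3, k4⟩ := hrad
    have h2 := hY.inf_of_le_normalizer k1 k2
    have h3 := step ((S ⊓ N ⊓ K) ⊔ E) S hS (sup_le (inf_le_left.trans inf_le_left) hES)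
      (hD.trans le_sup_right) (Or.inr ⟨card_le_of_le (le_inf inf_le_left (Solv.le_normalizer_sup
        (Solv.le_normalizer_inf le_normalizer (inf_le_right.trans k2)) inf_le_right)),
        Solv.card_lt_of_lt (lt_of_le_of_ne le_sup_right fun e => k4 (le_sup_left.trans e.ge))⟩)
    intro n hn
    obtain ⟨a, ha, b, hb, rfl⟩ := h2.frattini (k2 hn)
    obtain ⟨c, hc, r, hr, rfl⟩ := h2.exists_res_mul ha
    have h4 : b ∈ N := (mul_mem_cancel_left (k1 ha)).1 hn
    rw [mul_assoc]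
    exact mul_mem (centralizer_le_normalizer _ (centralizer_le hD (k3 hc))) (h3 (mem_normalizer_sup
      (mul_mem (le_normalizer hr) hb) (mul_mem hr.1.2 h4)))

theorem outer (m : ℕ) : ∀ X S₁ S₂ : Subgroup G, Nat.card G - Nat.card X = m → IsSyl p S₁ ⊤ →
    IsSyl p S₂ ⊤ → X ≤ S₁ → X ≤ S₂ → DD S₁ ≤ X → DD S₁ = DD S₂ := by
  induction m using Nat.strong_induction_on with | _ m ih
  intro E S₁ S₂ hm h1 h2 h3 h4 hD
  have ih' : ∀ X S₁ S₂ : Subgroup G, Nat.card E < Nat.card X → IsSyl p S₁ ⊤ → IsSyl p S₂ ⊤ →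
      X ≤ S₁ → X ≤ S₂ → DD S₁ ≤ X → DD S₁ = DD S₂ := fun X S₁ S₂ h => ih _ (by
    have := X.card_le_card_group; omega) X S₁ S₂ rfl
  rcases h3.eq_or_lt with rfl | h3'
  · rw [h1.eq_of_le h2.pgroup le_top h4]
  rcases h4.eq_or_lt with rfl | h4'
  · rw [h2.eq_of_le h1.pgroup le_top h3]
  have a1 := lt_inf_normalizer h1.pgroup h3'
  have a2 := lt_inf_normalizer h2.pgroup h4'
  have h5 := inner hst _ ih' _ E S₁ rfl h1 h3 hD (Solv.card_lt_of_lt a1)
  obtain ⟨Y, hY, h6⟩ := exists_isSyl_ge (h1.pgroup.to_le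
    (inf_le_left : S₁ ⊓ normalizer (E : Set G) ≤ S₁)) inf_le_right
  obtain ⟨T, hT, h7⟩ := exists_isSyl_ge hY.pgroup le_top
  have h8 := ih' _ S₁ T (Solv.card_lt_of_lt a1) h1 hT inf_le_left (h6.trans h7) (hD.trans a1.le)
  obtain ⟨n, hn, h9⟩ := hY.exists_cj_le (h2.pgroup.to_le
    (inf_le_left : S₂ ⊓ normalizer (E : Set G) ≤ S₂)) inf_le_right
  have h10 : DD (cj n⁻¹ T) = DD S₁ := by
    rw [← cj_DD, ← h8]; exact mem_normalizer_iff_cj.1 (h5 (inv_mem hn))
  rw [← h10]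
  exact ih' _ _ S₂ (Solv.card_lt_of_lt a2) (hT.cj_of_mem_normalizer (by rw [normalizer_eq_top]; trivial)) h2
    (cj_le_iff_le_cj_inv.1 (h9.trans h7)) inf_le_left (h10.le.trans (hD.trans a2.le))

open Fusion FusionSystem in
theorem DD_normal (P : Sylow p G) : (groupFusionSystem (P : Subgroup G)).IsNormal (DD P) := by
  have hD := df_DD (P : Subgroup G)
  refine normal_of_le_family P.isPGroup' (group_saturated P) (weaklyClosed_iff.2 ⟨hD.le, fun f hf => ?_⟩)
    fun Q h1 h2 h3 => ?_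
  · obtain ⟨-, h1, g, h2⟩ := mor_group_iff.1 hf
    have h3 : img f (DD (P : Subgroup G)) = DD (cj g P) := by rw [img_congr h2, img_conj, ← cj_DD]
    rw [h3]
    exact outer hst _ _ _ _ rfl ((isSyl_top P).cj_of_mem_normalizer (by rw [normalizer_eq_top]; trivial)) (isSyl_top P)
      (df_DD _).le (h3 ▸ hf.img_le) le_rfl
  · by_contra hc
    have h4 : Q < DD (P : Subgroup G) ⊔ Q := lt_of_le_of_ne le_sup_right fun e => hc (le_sup_left.trans e.ge)
    obtain ⟨x, ⟨x1, x2⟩, x3⟩ := SetLike.exists_of_lt (lt_inf_normalizer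
      (P.isPGroup'.to_le (sup_le hD.le h1.1)) h4)
    obtain ⟨d, hd, q, hq, rfl⟩ := (Solv.mem_sup_of_le_normalizer' (h1.1.trans hD.nm)).1 x1
    have h5 : d ∈ normalizer (Q : Set G) := (mul_mem_cancel_right (le_normalizer hq)).1 x2
    have m : cAut Q ⟨d, h5⟩ ∈ autInducedBy (P : Subgroup G) Q :=
      mem_autInducedBy.2 ⟨d, hD.le hd, fun x hx => afun_cAut _ hx⟩
    have h6 := ((nst_iff_fst P).1 hst Q h1) _ (autInducedBy_le_autGroup _ h1.1 m)
      (qa_of_qd h5 (qd_of_norm hD.ab (h1.1.trans hD.nm) hd))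
    have h7 := ((isRadical_iff P.isPGroup').1 h3).2 _ autCore_le autCore_pgroup autCore_conj h6
    exact x3 (mul_mem (mem_of_cAut_mem_Inn (IsCentric.cent_le h2) h1.1 (hD.le hd)
      (fun x hx => afun_cAut _ hx) h7) hq)

open Fusion FusionSystem in
theorem core_ne_bot (P : Sylow p G) (h : (P : Subgroup G) ≠ ⊥) :
    (groupFusionSystem (P : Subgroup G)).core ≠ ⊥ := fun e =>
  DD_ne_bot P.isPGroup' h (eq_bot_iff.2 (e ▸ le_sSup (DD_normal hst P)))

end Cfsg.Agent.PU
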