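import Cfsg.Agent.Lib.Fusion.SylowIn

/-! Groups of automorphisms of an abelian group with a Sylow subgroup of transvections. -/

set_option autoImplicit false
set_option linter.unusedSectionVars false
set_option linter.unusedVariables false

namespace Cfsg.Agent.PU

open Cfsg.Agent.Fusion

section
variable {M : Type*} [CommGroup M] {p : ℕ} {G : Subgroup (MulAut M)} {Y Z W : Subgroup M}

/-- Automorphisms trivial on `Y` and on `M / Y`. -/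
def Ax (Y : Subgroup M) : Subgroup (MulAut M) where
  carrier := {s | (∀ y ∈ Y, s y = y) ∧ ∀ m, s m / m ∈ Y}
  one_mem' := ⟨fun _ _ => rfl, fun m => by simp⟩
  mul_mem' := fun {a b} ha hb => ⟨fun y hy => by rw [MulAut.mul_apply, hb.1 y hy, ha.1 y hy],
    fun m => by
      have := mul_mem (ha.2 (b m)) (hb.2 m)
      rwa [div_mul_div_cancel] at this⟩
  inv_mem' := fun {a} ha => ⟨fun y hy => by
      rw [MulAut.inv_def, MulEquiv.symm_apply_eq, ha.1 y hy], fun m => by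
      have := inv_mem (ha.2 (a⁻¹ m))
      rwa [MulAut.apply_inv_self, inv_div] at this⟩

theorem Ax.mul_div {a b : MulAut M} (ha : a ∈ Ax Y) (hb : b ∈ Ax Y) (m : M) :
    (a * b) m / m = (a m / m) * (b m / m) := by
  have h : a (b m / m) = b m / m := ha.1 _ (hb.2 m)
  rw [map_div] at h
  rw [MulAut.mul_apply, ← h]
  simp [div_eq_mul_inv, mul_comm, mul_left_comm]

theorem Ax.pow_div {a : MulAut M} (ha : a ∈ Ax Y) (m : M) (n : ℕ) :
    (a ^ n) m / m = (a m / m) ^ n := by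
  induction n with
  | zero => simp
  | succ n ih => rw [pow_succ, Ax.mul_div (pow_mem ha n) ha, ih, pow_succ]

theorem Ax.div_pow {a : MulAut M} (hY : Y.index = p) (ha : a ∈ Ax Y) (m : M) :
    (a m / m) ^ p = 1 := by
  rw [_root_.div_pow, ← map_pow, ha.1 _ (hY ▸ Y.pow_index_mem m), div_self']

theorem Ax.pow_eq {a : MulAut M} (hY : Y.index = p) (ha : a ∈ Ax Y) : a ^ p = 1 :=
  MulEquiv.ext fun m => div_eq_one.1 ((Ax.pow_div ha m p).trans (Ax.div_pow hY ha m))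

theorem Ax.pgroup (hY : Y.index = p) : IsPGroup p (G ⊓ Ax Y : Subgroup _) := fun a =>
  ⟨1, Subtype.ext (by rw [pow_one]; exact Ax.pow_eq hY a.2.2)⟩

theorem Ax.congr {a : MulAut M} (ha : a ∈ Ax Y) {m m' : M} (h : m / m' ∈ Y) :
    a m / m = a m' / m' := by
  have := ha.1 _ h
  rw [map_div, div_eq_div_iff_div_eq_div] at this
  exact this

theorem mem_Ax_comap {g s : MulAut M} : s ∈ Ax (Y.comap g.toMonoidHom) ↔ g * s * g⁻¹ ∈ Ax Y := by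
  refine ⟨fun h => ⟨fun y hy => ?_, fun m => ?_⟩, fun h => ⟨fun y hy => ?_, fun m => ?_⟩⟩
  · rw [MulAut.mul_apply, MulAut.mul_apply, h.1 _ (by simpa using hy), MulAut.apply_inv_self]
  · simpa using h.2 (g⁻¹ m)
  · simpa using h.1 (g y) hy
  · simpa using h.2 (g m)

/-- `Y` has index `p` and its transvections in `G` form a Sylow subgroup. -/
def IsAxis (p : ℕ) (G : Subgroup (MulAut M)) (Y : Subgroup M) : Prop :=
  Y.index = p ∧ SylowIn p (G ⊓ Ax Y) G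

theorem IsAxis.comap (h : IsAxis p G Y) {g : MulAut M} (hg : g ∈ G) :
    IsAxis p G (Y.comap g.toMonoidHom) := by
  refine ⟨(Y.index_comap_of_surjective g.surjective).trans h.1, ?_⟩
  have e : G ⊓ Ax (Y.comap g.toMonoidHom) = (G ⊓ Ax Y).map (MulAut.conj g⁻¹).toMonoidHom := by
    ext s
    constructor
    · rintro ⟨h1, h2⟩
      exact ⟨g * s * g⁻¹, ⟨G.mul_mem (G.mul_mem hg h1) (G.inv_mem hg), mem_Ax_comap.1 h2⟩, by
        simp [mul_assoc]⟩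
    · rintro ⟨t, ⟨h1, h2⟩, rfl⟩
      exact ⟨G.mul_mem (G.mul_mem (G.inv_mem hg) h1) (G.inv_mem (G.inv_mem hg)), mem_Ax_comap.2 (by
        simpa [mul_assoc] using h2)⟩
  rw [e]; exact h.2.conj_self (inv_mem hg)

variable [hp : Fact p.Prime] [Finite M]

theorem exists_pow_div (hY : Y.index = p) {x : M} (hx : x ∉ Y) (m : M) :
    ∃ i : ℕ, m / x ^ i ∈ Y := by
  have h1 : Subgroup.zpowers (x : M ⧸ Y) = ⊤ :=
    zpowers_eq_top_of_prime_card (Y.index_eq_card ▸ hY) (by rwa [Ne, QuotientGroup.eq_one_iff])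
  have h2 : (m : M ⧸ Y) ∈ Subgroup.zpowers (x : M ⧸ Y) := h1 ▸ Subgroup.mem_top _
  rw [← mem_powers_iff_mem_zpowers] at h2
  obtain ⟨i, hi⟩ := h2
  refine ⟨i, ?_⟩
  rw [← QuotientGroup.eq_one_iff, QuotientGroup.mk_div, ← hi]
  simp

theorem Ax.eq_one (hY : Y.index = p) {a : MulAut M} (ha : a ∈ Ax Y) {x : M} (hx : x ∉ Y)
    (e : a x = x) : a = 1 := MulEquiv.ext fun m => by
  obtain ⟨i, hi⟩ := exists_pow_div hY hx m
  have := Ax.congr ha hi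
  rw [map_pow, e, div_self', div_eq_one] at this
  exact this

theorem Ax.exists_pow (hY : Y.index = p) {a : MulAut M} (ha : a ∈ Ax Y) {x : M} (hx : x ∉ Y)
    (m : M) : ∃ i : ℕ, a m / m = (a x / x) ^ i := by
  obtain ⟨i, hi⟩ := exists_pow_div hY hx m
  exact ⟨i, by rw [Ax.congr ha hi, map_pow, _root_.div_pow]⟩

theorem exists_not_mem_of_ne (hY : Y.index = p) (hZ : Z.index = p) (h : Y ≠ Z) :
    ∃ y ∈ Y, y ∉ Z := by
  by_contra! h1
  refine h (Subgroup.eq_of_le_of_card_ge h1 ?_)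
  have h2 := Y.card_mul_index
  have h3 := Z.card_mul_index
  rw [hY] at h2; rw [hZ, ← h2] at h3
  exact (Nat.eq_of_mul_eq_mul_right hp.out.pos h3).le

theorem IsAxis.eq (hY : IsAxis p G Y) (hZ : IsAxis p G Z) {s : MulAut M} (hs : s ∈ G ⊓ Ax Z)
    (h1 : s ≠ 1) {x : M} (hx : x ∉ Z) (h : s x / x ∈ Y) : Y = Z := by
  have h2 : ∀ m, s m / m ∈ Y := fun m => by
    obtain ⟨i, hi⟩ := Ax.exists_pow hZ.1 hs.2 hx m
    exact hi ▸ pow_mem h i
  have h3 : Y.comap s.toMonoidHom = Y := by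
    ext m
    have := Y.mul_mem_cancel_left (y := m) (h2 m)
    rw [div_mul_cancel] at this
    exact this
  have h4 : s ∈ Subgroup.normalizer ((G ⊓ Ax Y : Subgroup _) : Set (MulAut M)) := by
    refine Subgroup.mem_normalizer_iff.2 fun t => ⟨fun ht => ⟨G.mul_mem (G.mul_mem hs.1 ht.1)
      (G.inv_mem hs.1), mem_Ax_comap.1 (h3.symm ▸ ht.2)⟩, fun ht => ⟨?_, h3 ▸ mem_Ax_comap.2 ht.2⟩⟩
    have := G.mul_mem (G.mul_mem (G.inv_mem hs.1) ht.1) hs.1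
    simpa [mul_assoc] using this
  have h5 := hY.2.max (_ ⊔ Subgroup.zpowers s) (sup_le inf_le_left ((Subgroup.zpowers_le).2 hs.1))
    (hY.2.pgroup.to_sup_of_normal_left' (pgroup_zpowers (k := 1)
      (by rw [pow_one]; exact Ax.pow_eq hZ.1 hs.2)) ((Subgroup.zpowers_le).2 h4)) le_sup_left
    (Subgroup.mem_sup_right (Subgroup.mem_zpowers s))
  by_contra hne
  obtain ⟨y, y1, y2⟩ := exists_not_mem_of_ne hY.1 hZ.1 hne
  exact h1 (Ax.eq_one hZ.1 hs.2 y2 (h5.2.1 y y1))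

theorem IsAxis.exists_ne_one (hY : IsAxis p G Y) (hZ : IsAxis p G Z) (h : G ⊓ Ax Z ≠ ⊥) :
    ∃ s ∈ G ⊓ Ax Y, s ≠ 1 := by
  by_contra! h1
  have := hY.2.max _ inf_le_left hZ.2.pgroup fun s hs => h1 s hs ▸ one_mem _
  exact h (eq_bot_iff.2 fun s hs => h1 s (this hs))

theorem IsAxis.exists_div (hY : IsAxis p G Y) (hZ : IsAxis p G Z) (h : G ⊓ Ax Z ≠ ⊥) (hne : Y ≠ Z)
    {x : M} (hx : x ∉ Z) (m : M) : ∃ s ∈ G ⊓ Ax Z, m / (s x / x) ∈ Y := by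
  obtain ⟨s, hs, h1⟩ := hZ.exists_ne_one hZ h
  obtain ⟨i, hi⟩ := exists_pow_div hY.1 (fun e => hne (hY.eq hZ hs h1 hx e)) m
  exact ⟨s ^ i, pow_mem hs i, by rwa [Ax.pow_div hs.2]⟩

theorem IsAxis.eq_zpowers (hY : IsAxis p G Y) (hZ : IsAxis p G Z) (hne : Y ≠ Z)
    {s : MulAut M} (hs : s ∈ G ⊓ Ax Z) (h1 : s ≠ 1) : G ⊓ Ax Z = Subgroup.zpowers s := by
  refine le_antisymm (fun t ht => ?_) ((Subgroup.zpowers_le).2 hs)
  obtain ⟨x, -, hx⟩ := exists_not_mem_of_ne hY.1 hZ.1 hne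
  obtain ⟨i, hi⟩ := exists_pow_div hY.1 (fun e => hne (hY.eq hZ hs h1 hx e)) (t x / x)
  have h2 := mul_mem ht (inv_mem (pow_mem hs i))
  by_contra h3
  refine hne (hY.eq hZ h2 (fun e => h3 ?_) hx ?_)
  · rw [mul_inv_eq_one.1 e]; exact pow_mem (Subgroup.mem_zpowers s) i
  · have h4 := Ax.mul_div h2.2 (pow_mem hs.2 i) x
    rw [inv_mul_cancel_right, Ax.pow_div hs.2] at h4
    rwa [h4, mul_div_cancel_right] at hi

theorem IsAxis.card (hY : IsAxis p G Y) (hZ : IsAxis p G Z) (h : G ⊓ Ax Z ≠ ⊥) (hne : Y ≠ Z) :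
    Nat.card (G ⊓ Ax Z : Subgroup _) = p := by
  obtain ⟨s, hs, h1⟩ := hZ.exists_ne_one hZ h
  rw [hY.eq_zpowers hZ hne hs h1, Nat.card_zpowers]
  exact orderOf_eq_prime (Ax.pow_eq hZ.1 hs.2) h1

theorem IsAxis.conj (hY : IsAxis p G Y) (hZ : IsAxis p G Z) (hW : IsAxis p G W) (h : G ⊓ Ax Z ≠ ⊥)
    (hne : Y ≠ Z) (hWZ : W ≠ Z) : ∃ s ∈ G ⊓ Ax Z, Y.comap s.toMonoidHom = W := by
  obtain ⟨r, hr, r1⟩ := hW.exists_ne_one hZ h
  obtain ⟨x, -, hx⟩ := exists_not_mem_of_ne hZ.1 hW.1 hWZ.symm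
  have hw : r x / x ∉ Z := fun e => hWZ (hZ.eq hW hr r1 hx e).symm
  obtain ⟨s, hs, h1⟩ := hY.exists_div hZ h hne hw (r x / x)⁻¹
  refine ⟨s, hs, (hY.comap hs.1).eq hW hr r1 hx ?_⟩
  have := inv_mem h1
  rw [inv_div, div_inv_eq_mul, div_mul_cancel] at this
  exact this

theorem IsAxis.inf_le (hY : IsAxis p G Y) (hZ : IsAxis p G Z) (hW : IsAxis p G W)
    (h : G ⊓ Ax Z ≠ ⊥) (hne : Y ≠ Z) : Z ⊓ Y ≤ W := by
  by_cases hWZ : W = Z
  · exact hWZ ▸ inf_le_left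
  obtain ⟨s, hs, rfl⟩ := hY.conj hZ hW h hne hWZ
  intro c hc
  show s c ∈ Y
  rw [hs.2.1 c hc.1]; exact hc.2

/-- The transvection lemma. -/
theorem transv (hZ : IsAxis p G Z) (h : G ⊓ Ax Z ≠ ⊥) {g : MulAut M} (hg : g ∈ G) {z : M}
    (hz : z ∈ Z) (hgz : g z ∉ Z) : Nat.card (G ⊓ Ax Z : Subgroup _) = p ∧
    ∃ (u v : M) (C : Subgroup M), u ∈ Z ∧ u ∉ C ∧ u ^ p = 1 ∧ v ∉ Z ∧ v ^ p = 1 ∧ C ≤ Z ∧
      (∃ s ∈ G ⊓ Ax Z, s v = v * u) ∧ (∀ a ∈ G, ∀ c ∈ C, a c ∈ C) ∧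
      (∀ y ∈ Z, ∃ i : ℕ, y / u ^ i ∈ C) ∧ (∃ t ∈ G, t u = u * v⁻¹ ∧ t v = v ∧ ∀ c ∈ C, t c = c) ∧
      (∃ w ∈ G, w u = u⁻¹ ∧ ∀ c ∈ C, w c = c) ∧
      ∀ a ∈ G, a u ∈ Subgroup.closure {u, v} ∧ a v ∈ Subgroup.closure {u, v} := by
  have hY := hZ.comap hg
  set Y := Z.comap g.toMonoidHom
  have hne : Y ≠ Z := fun e => hgz (show z ∈ Y from e ▸ hz)
  obtain ⟨s, hs, s1⟩ := hZ.exists_ne_one hZ h
  obtain ⟨x, -, hx⟩ := exists_not_mem_of_ne hY.1 hZ.1 hne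
  have h' : G ⊓ Ax Y ≠ ⊥ := fun e => by
    obtain ⟨t, ht, t1⟩ := hY.exists_ne_one hZ h
    exact t1 (Subgroup.mem_bot.1 (e ▸ ht))
  have hu : s x / x ∉ Y := fun e => hne (hY.eq hZ hs s1 hx e)
  obtain ⟨t, ht, h1⟩ := hZ.exists_div hY h' hne.symm hu x⁻¹
  set u := s x / x with hu'
  set v := (t u / u)⁻¹ with hv
  have hvx : v / x ∈ Z := by
    rw [hv]; convert h1 using 1; simp [div_eq_mul_inv, mul_comm]
  have hvZ : v ∉ Z := fun e => hx (by simpa using div_mem e hvx)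
  have hvY : v ∈ Y := inv_mem (ht.2.2 u)
  have huZ : u ∈ Z := hs.2.2 x
  have e1 : s v = v * u := by rw [hu', ← Ax.congr hs.2 hvx]; simp
  have e2 : s u = u := hs.2.1 u huZ
  have e3 : t u = u * v⁻¹ := by rw [hv]; simp
  have e4 : t v = v := ht.2.1 v hvY
  have t1 : t ≠ 1 := fun e => hvZ (by rw [hv, e]; simp)
  have hp1 : u ^ p = 1 := Ax.div_pow hZ.1 hs.2 x
  have hp2 : v ^ p = 1 := by rw [hv, inv_pow, Ax.div_pow hY.1 ht.2 u, inv_one]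
  have hV : ∀ a ∈ G ⊓ Ax Z, ∀ m, a m / m ∈ Subgroup.closure {u, v} := fun a ha m => by
    rw [hY.eq_zpowers hZ hne hs s1, ← mem_powers_iff_mem_zpowers] at ha
    obtain ⟨k, rfl⟩ := ha
    obtain ⟨i, hi⟩ := Ax.exists_pow hZ.1 hs.2 hx m
    rw [Ax.pow_div hs.2, hi]
    exact pow_mem (pow_mem (Subgroup.subset_closure (Set.mem_insert u _)) _) _
  have hV' : ∀ a ∈ G ⊓ Ax Y, ∀ m, a m / m ∈ Subgroup.closure {u, v} := fun a ha m => by
    rw [hZ.eq_zpowers hY hne.symm ht t1, ← mem_powers_iff_mem_zpowers] at ha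
    obtain ⟨k, rfl⟩ := ha
    obtain ⟨i, hi⟩ := Ax.exists_pow hY.1 ht.2 hu m
    rw [Ax.pow_div ht.2, hi, ← inv_inv (t u / u)]
    exact pow_mem (pow_mem (inv_mem (Subgroup.subset_closure (Set.mem_insert_of_mem u (Set.mem_singleton v)))) _) _
  have hV2 : ∀ W, IsAxis p G W → ∀ a ∈ G ⊓ Ax W, ∀ m, a m / m ∈ Subgroup.closure {u, v} := by
    intro W hW a ha m
    by_cases hWZ : W = Z
    · exact hV a (hWZ ▸ ha) m
    obtain ⟨r, hr, rfl⟩ := hY.conj hZ hW h hne hWZ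
    have h2 := hV' _ ⟨G.mul_mem (G.mul_mem hr.1 ha.1) (G.inv_mem hr.1), mem_Ax_comap.1 ha.2⟩ (r m)
    have h3 := hV r hr (a m / m)
    rw [MulAut.mul_apply, MulAut.inv_apply_self, MulAut.mul_apply, ← map_div] at h2
    simpa using div_mem h2 h3
  refine ⟨hY.card hZ h hne, u, v, Z ⊓ Y, huZ, fun e => hu e.2, hp1, hvZ, hp2, inf_le_left,
    ⟨s, hs, e1⟩, fun a ha c hc => ⟨hY.inf_le hZ (hZ.comap ha) h hne hc,
      hY.inf_le hZ (hY.comap ha) h hne hc⟩, fun y hy => ?_, ⟨t, ht.1, e3, e4, fun c hc => ht.2.1 c hc.2⟩,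
    ⟨(s * t * s) ^ 2, G.pow_mem (G.mul_mem (G.mul_mem hs.1 ht.1) hs.1) 2, ?_, fun c hc => ?_⟩,
    fun a ha => ⟨?_, ?_⟩⟩
  · obtain ⟨i, hi⟩ := exists_pow_div hY.1 hu y
    exact ⟨i, Z.div_mem hy (pow_mem huZ i), hi⟩
  · have a1 : (s * t * s) u = v⁻¹ := by
      rw [MulAut.mul_apply, MulAut.mul_apply, e2, e3, map_mul, map_inv, e1, e2]
      simp
    have a2 : (s * t * s) v = u := by
      rw [MulAut.mul_apply, MulAut.mul_apply, e1, map_mul, e4, e3, mul_comm u, mul_inv_cancel_left, e2]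
    rw [pow_two, MulAut.mul_apply, a1, map_inv, a2]
  · simp [pow_two, hs.2.1 c hc.1, ht.2.1 c hc.2]
  · have := hV2 _ (hZ.comap (inv_mem ha)) (a * s * a⁻¹) ⟨G.mul_mem (G.mul_mem ha hs.1) (G.inv_mem ha),
      mem_Ax_comap.2 (by simpa [mul_assoc] using hs.2)⟩ (a x)
    rwa [MulAut.mul_apply, MulAut.inv_apply_self, MulAut.mul_apply, ← map_div] at this
  · have := hV2 _ (hY.comap (inv_mem ha)) (a * t * a⁻¹) ⟨G.mul_mem (G.mul_mem ha ht.1) (G.inv_mem ha),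
      mem_Ax_comap.2 (by simpa [mul_assoc] using ht.2)⟩ (a u)
    rw [MulAut.mul_apply, MulAut.inv_apply_self, MulAut.mul_apply, ← map_div] at this
    rw [hv, map_inv]; exact inv_mem this

end

end Cfsg.Agent.PU
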