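import Cfsg.Agent.Lib.Fusion.Normal
import Cfsg.Agent.Lib.PU.Ms23

/-! Abelian essential subgroups on which `S` acts by transvections. -/

set_option autoImplicit false
set_option linter.unusedSectionVars false
set_option linter.unusedVariables false
open Cfsg Cfsg.FusionSystem
open scoped commutatorElement

namespace Cfsg.Agent.PU

open Cfsg.Agent.Fusion

section
variable {Ω : Type*} [Group Ω] {S P Q R Z Z₀ C : Subgroup Ω} {F : FusionSystem S} {p : ℕ} {u v : Ω}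

/-- The output of the transvection lemma for a subgroup `P` of a fusion system. -/
structure HD (F : FusionSystem S) (p : ℕ) (P Z : Subgroup Ω) (u v : Ω) (C : Subgroup Ω) : Prop where
  uZ : u ∈ Z
  uC : u ∉ C
  up : u ^ p = 1
  vP : v ∈ P
  vZ : v ∉ Z
  vp : v ^ p = 1
  CZ : C ≤ Z
  comm : ∃ s ∈ normalizerIn S P, s * v * s⁻¹ = v * u
  inv : ∀ a ∈ F.autGroup P, ∀ c ∈ C, afun a c ∈ C
  dec : ∀ y ∈ Z, ∃ i : ℕ, ∃ c ∈ C, y = c * u ^ i
  w : ∃ w ∈ F.autGroup P, afun w u = u⁻¹ ∧ ∀ c ∈ C, afun w c = c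
  V : ∀ a ∈ F.autGroup P, afun a u ∈ Subgroup.closure {u, v} ∧ afun a v ∈ Subgroup.closure {u, v}
  card : Nat.card (autInducedBy S P) = p

variable [hp : Fact p.Prime] [Finite S]

theorem exists_HD (hA : F.IsFullyAutomized p P) (hab : ∀ x ∈ P, ∀ y ∈ P, x * y = y * x)
    (hZP : Z ≤ P) (hidx : Z.relIndex P = p)
    (hZ : ∀ s ∈ normalizerIn S P, ∀ z ∈ Z, s * z * s⁻¹ = z)
    (hst : ∀ s ∈ normalizerIn S P, ∀ x ∈ P, s * x * s⁻¹ * x⁻¹ ∈ Z) (hT : autInducedBy S P ≠ ⊥)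
    {g : MulAut P} (hg : g ∈ F.autGroup P) {z : Ω} (hz : z ∈ Z) (hgz : afun g z ∉ Z) :
    ∃ u v C, HD F p P Z u v C := by
  letI : CommGroup P := { (inferInstance : Group P) with
    mul_comm := fun a b => Subtype.ext (hab a a.2 b b.2) }
  have := finite_of_le hA.1
  have hs := IsFullyAutomized.sylowIn hA
  have h1 : autInducedBy S P ≤ F.autGroup P ⊓ Ax (Z.subgroupOf P) := fun σ hσ => by
    obtain ⟨s, s1, s2⟩ := mem_autInducedBy.1 hσ
    have s3 : s ∈ normalizerIn S P := ⟨s1, mem_normalizer_of_afun s2⟩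
    refine ⟨hs.le hσ, fun y hy => Subtype.ext ?_, fun m => ?_⟩
    · rw [← afun_of_mem σ y.2, s2 y y.2, hZ s s3 y hy]
    · have := hst s s3 m m.2
      rw [← s2 m m.2, afun_of_mem σ m.2, ← div_eq_mul_inv] at this
      exact this
  have h2 : F.autGroup P ⊓ Ax (Z.subgroupOf P) = autInducedBy S P :=
    le_antisymm (hs.max _ inf_le_left (Ax.pgroup hidx) h1) h1
  obtain ⟨c, u, v, C, a1, a2, a3, a4, a5, a6, ⟨s, a7, a8⟩, a9, b1, -, ⟨w, b2, b3, b4⟩, b5⟩ :=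
    transv (G := F.autGroup P) (Z := Z.subgroupOf P) ⟨hidx, h2.symm ▸ hs⟩ (h2.symm ▸ hT) hg
      (z := ⟨z, hZP hz⟩) hz (by rwa [afun_of_mem g (hZP hz)] at hgz)
  have hV : ∀ y : P, y ∈ Subgroup.closure {u, v} → (y : Ω) ∈ Subgroup.closure {(u : Ω), (v : Ω)} :=
    fun y hy => by
      have := Subgroup.mem_map_of_mem P.subtype hy
      rwa [MonoidHom.map_closure, Set.image_pair] at this
  rw [h2] at c a7
  obtain ⟨s', s1, s2⟩ := mem_autInducedBy.1 a7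
  refine ⟨u, v, C.map P.subtype, a1, fun h => a2 ((Subgroup.mem_map_iff_mem P.subtype_injective).1 h),
    congrArg Subtype.val a3, v.2, a4, congrArg Subtype.val a5, ?_,
    ⟨s', ⟨s1, mem_normalizer_of_afun s2⟩, ?_⟩, ?_, fun y hy => ?_, ⟨w, b2, ?_, ?_⟩,
    fun a ha => ⟨?_, ?_⟩, c⟩
  · rintro _ ⟨c, hc, rfl⟩; exact a6 hc
  · rw [← s2 v v.2, afun_of_mem s v.2]; exact congrArg Subtype.val a8
  · rintro a ha _ ⟨c, hc, rfl⟩
    rw [Subgroup.coe_subtype, afun_of_mem a c.2]; exact ⟨_, a9 a ha c hc, rfl⟩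
  · obtain ⟨i, hi⟩ := b1 ⟨y, hZP hy⟩ hy
    exact ⟨i, _, ⟨_, hi, rfl⟩, by simp⟩
  · rw [afun_of_mem w u.2]; exact congrArg Subtype.val b3
  · rintro _ ⟨c, hc, rfl⟩
    rw [Subgroup.coe_subtype, afun_of_mem w c.2]; exact congrArg Subtype.val (b4 c hc)
  · rw [afun_of_mem a u.2]; exact hV _ (b5 a ha).1
  · rw [afun_of_mem a v.2]; exact hV _ (b5 a ha).2

theorem ess_lt (hS : IsPGroup p S) (hF : F.IsSaturated p) (hP : F.IsEssential p P) : P < S := by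
  refine lt_of_le_of_ne hP.1.1 fun e => ?_
  subst e
  obtain ⟨-, -, hn, E, hE⟩ := hP
  have := finite_autGroup F (le_refl P)
  obtain ⟨R, r1, r2, -⟩ := IsStronglyPEmbedded.exists_sylow hE
  have h1 := sylowIn_quot (N := Inn P) (IsFullyAutomized.sylowIn (IsSaturated.fullyAutomized hS hF
    (fullyNormalized_top F)))
  have h2 := h1.card_le le_top r1.pgroup
  rw [← Inn_eq_autInducedBy, (Subgroup.map_eq_bot_iff _).2 (QuotientGroup.ker_mk' _).ge,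
    Subgroup.card_bot] at h2
  exact r2 (Subgroup.card_le_one_iff_eq_bot _ |>.1 h2)

theorem cen_comm {z s : Ω} (hz : z ∈ centralizerIn S S) (hs : s ∈ S) : s * z = z * s := hz.2 s hs

theorem cen_conj {z s : Ω} (hz : z ∈ centralizerIn S S) (hs : s ∈ S) : s * z * s⁻¹ = z := by
  rw [cen_comm hz hs]; group

theorem cen_le (hP : F.IsCentric P) : centralizerIn S S ≤ P := fun z hz =>
  IsCentric.cent_le hP ⟨hz.1, fun y hy => hz.2 y (hP.1 hy)⟩

theorem fn_of_le_cen (F : FusionSystem S) (h : R ≤ centralizerIn S S) : F.IsFullyNormalized R :=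
  fullyNormalized_of_normal (h.trans centralizerIn_le) fun s hs =>
    Subgroup.centralizer_le_normalizer _ fun y hy => (cen_comm (h hy) hs).symm

theorem exists_ext_cen (hS : IsPGroup p S) (hF : F.IsSaturated p) {f : Ω → Ω} (hf : Mor F R f)
    (h1 : R ≤ centralizerIn S S) (h2 : ∀ x ∈ R, f x ∈ centralizerIn S S) :
    ∃ β ∈ F.autGroup S, ∀ x ∈ R, afun β x = f x := by
  obtain ⟨g, hg, e⟩ := IsReceptive.ext (IsSaturated.receptive' hS hF
    (fn_of_le_cen F (img_le_iff.2 h2))) hf rfl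
  have h3 := hg.mono (R := S) fun s hs => centralizerIn_le_Next
    (mem_centralizerIn.2 ⟨hs, fun x hx => cen_conj (h1 hx) hs⟩)
  obtain ⟨β, b1, b2⟩ := h3.exists_aut (h3.img_eq_self fun x hx => h3.mem hx)
  exact ⟨β, b1, fun x hx => by rw [b2 x (h1 hx).1, e x hx]⟩

theorem afun_mem_cen (α : MulAut P) {x : Ω} (hx : x ∈ centralizerIn P P) :
    afun α x ∈ centralizerIn P P := ⟨afun_mem _ hx.1, fun y hy => by
  rw [← afun_afun_inv α hy, ← afun_map_mul _ (afun_mem _ hy) hx.1,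
    ← afun_map_mul _ hx.1 (afun_mem _ hy), hx.2 _ (afun_mem _ hy)]⟩

theorem aut_cen_eq_one (hS : IsPGroup p S) (hF : F.IsSaturated p) (h : R ≤ centralizerIn S S)
    {γ : MulAut R} (h1 : γ ∈ F.autGroup R) (h2 : γ ^ p = 1) : γ = 1 := by
  have hR := h.trans centralizerIn_le
  have := finite_autGroup F hR
  obtain ⟨c, -, hc⟩ := (IsFullyAutomized.sylowIn (IsSaturated.fullyAutomized hS hF
    (fn_of_le_cen F h))).conj ((Subgroup.zpowers_le).2 h1) (pgroup_zpowers (k := 1) (by rwa [pow_one]))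
  obtain ⟨s, s1, s2⟩ := mem_autInducedBy.1 (hc γ (Subgroup.mem_zpowers γ))
  have : c * γ * c⁻¹ = 1 := aut_ext fun x hx => by rw [s2 x hx, cen_conj (h hx) s1, afun_one]
  simpa using this

theorem exists_res (hQ : Q ≤ P) (hP : P ≤ S) {α : MulAut P} (hα : α ∈ F.autGroup P)
    (h : ∀ x ∈ Q, afun α x ∈ Q) : ∃ γ ∈ F.autGroup Q, ∀ x ∈ Q, afun γ x = afun α x := by
  have := finite_of_le (hQ.trans hP)
  have h1 := ((mem_autGroup hP).1 hα).mono hQ
  exact h1.exists_aut (h1.img_eq_self h)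

/-- Automorphisms of the centre inverting `Z₀` and trivial modulo `Z₀`. -/
def JJ (F : FusionSystem S) (Z₀ : Subgroup Ω) (α : MulAut (centralizerIn S S)) : Prop :=
  α ∈ F.autGroup _ ∧ (∀ z ∈ Z₀, afun α z = z⁻¹) ∧ ∀ z ∈ centralizerIn S S, z⁻¹ * afun α z ∈ Z₀

theorem JJ.uniq (hS : IsPGroup p S) (hF : F.IsSaturated p) (h0 : Z₀ ≤ centralizerIn S S)
    (hc : Nat.card Z₀ = p) {α β : MulAut (centralizerIn S S)} (ha : JJ F Z₀ α) (hb : JJ F Z₀ β) :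
    α = β := by
  have e1 : ∀ z ∈ Z₀, afun (α⁻¹ * β) z = z := fun z hz => by
    rw [afun_mul _ _ (h0 hz), hb.2.1 z hz, ← ha.2.1 z hz, afun_inv_afun _ (h0 hz)]
  refine inv_mul_eq_one.1 (aut_cen_eq_one hS hF le_rfl
    (Subgroup.mul_mem _ (Subgroup.inv_mem _ ha.1) hb.1) (aut_ext fun z hz => ?_))
  have h1 := mul_mem (inv_mem (ha.2.2 z hz)) (hb.2.2 z hz)
  have h2 : afun (α⁻¹ * β) z = z * ((z⁻¹ * afun α z)⁻¹ * (z⁻¹ * afun β z))⁻¹ := by
    rw [← ha.2.1 _ h1, afun_mul _ _ hz]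
    refine ((mem_autGroup centralizerIn_le).1 ha.1).inj (afun_mem _ (afun_mem _ hz))
      (mul_mem hz (afun_mem _ (h0 h1))) ?_
    rw [afun_afun_inv _ (afun_mem _ hz), afun_map_mul _ hz (afun_mem _ (h0 h1)), ha.2.1 _ h1,
      ha.2.1 _ (inv_mem h1)]
    group
  rw [afun_pow_of_step hz (h0 (inv_mem h1)) h2 (e1 _ (inv_mem h1)), afun_one]
  have : (⟨_, inv_mem h1⟩ : Z₀) ^ Nat.card Z₀ = 1 := pow_card_eq_one'
  rw [hc] at this
  rw [show _ ^ p = (1 : Ω) from congrArg Subtype.val this, mul_one]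

theorem JJ.conj (h0 : Z₀ ≤ centralizerIn S S) {α γ : MulAut (centralizerIn S S)} (ha : JJ F Z₀ α)
    (hγ : γ ∈ F.autGroup _) (hi : ∀ δ ∈ F.autGroup (centralizerIn S S), ∀ z ∈ Z₀, afun δ z ∈ Z₀) :
    JJ F Z₀ (γ * α * γ⁻¹) := by
  refine ⟨Subgroup.mul_mem _ (Subgroup.mul_mem _ hγ ha.1) (Subgroup.inv_mem _ hγ), fun z hz => ?_,
    fun z hz => ?_⟩
  · rw [afun_mul _ _ (h0 hz), afun_mul _ _ (afun_mem _ (h0 hz)),
      ha.2.1 _ (hi _ (Subgroup.inv_mem _ hγ) z hz), afun_map_inv _ (afun_mem _ (h0 hz)),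
      afun_afun_inv _ (h0 hz)]
  · have := hi γ hγ _ (ha.2.2 _ (afun_mem γ⁻¹ hz))
    rwa [afun_map_mul _ (inv_mem (afun_mem _ hz)) (afun_mem _ (afun_mem _ hz)),
      afun_map_inv _ (afun_mem _ hz), afun_afun_inv _ hz, ← afun_mul _ _ (afun_mem _ hz),
      ← afun_mul _ _ hz] at this

theorem HD.ne_one (h : HD F p P Z u v C) : u ≠ 1 := fun e => h.uC (e ▸ one_mem _)

theorem HD.zpowers (h : HD F p P Z u v C) (hc : Nat.card Z₀ = p) (hu : u ∈ Z₀) :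
    Subgroup.zpowers u = Z₀ := by
  have : Finite Z₀ := Nat.finite_of_card_ne_zero (hc ▸ hp.out.ne_zero)
  refine Subgroup.eq_of_le_of_card_ge ((Subgroup.zpowers_le).2 hu) ?_
  rw [Nat.card_zpowers, orderOf_eq_prime h.up h.ne_one, hc]

theorem HD.exists_JJ (hp2 : p ≠ 2) (h : HD F p P (centralizerIn S S) u v C) (hP : P ≤ S)
    (hZP : centralizerIn S S ≤ P) (hc : Nat.card Z₀ = p) (hu : u ∈ Z₀) :
    ∃ α, JJ F Z₀ α ∧ ∀ z ∈ centralizerIn S S, (z ∈ C ↔ afun α z = z) := by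
  obtain ⟨w, w1, w2, w3⟩ := h.w
  have hm := (mem_autGroup hP).1 w1
  have e : ∀ c ∈ C, ∀ i : ℕ, afun w (c * u ^ i) = c * (u ^ i)⁻¹ := fun c hc i => by
    rw [hm.map_mul (hZP (h.CZ hc)) (hZP (pow_mem h.uZ i)), hm.map_pow (hZP h.uZ), w2, w3 c hc, inv_pow]
  obtain ⟨α, a1, a2⟩ := exists_res hZP hP w1 fun y hy => by
    obtain ⟨i, c, hc, rfl⟩ := h.dec y hy
    rw [e c hc]; exact mul_mem (h.CZ hc) (inv_mem (pow_mem h.uZ i))
  refine ⟨α, ⟨a1, fun z hz => ?_, fun z hz => ?_⟩, fun z hz => ⟨fun hz' => by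
    rw [a2 z hz, w3 z hz'], fun hz' => ?_⟩⟩
  · rw [← h.zpowers hc hu] at hz
    obtain ⟨k, rfl⟩ := hz
    dsimp only
    rw [a2 _ (zpow_mem h.uZ k), hm.map_zpow (hZP h.uZ), w2, inv_zpow]
  · obtain ⟨i, c, hc, rfl⟩ := h.dec z hz
    rw [a2 _ hz, e c hc, mul_inv_rev, mul_assoc, inv_mul_cancel_left]
    exact mul_mem (inv_mem (pow_mem hu i)) (inv_mem (pow_mem hu i))
  · obtain ⟨i, c, hc, rfl⟩ := h.dec z hz
    rw [a2 _ hz, e c hc, mul_right_inj, inv_eq_iff_mul_eq_one, ← pow_two] at hz'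
    have h2 : (u ^ i) ^ p = 1 := by rw [← pow_mul, mul_comm, pow_mul, h.up, one_pow]
    have h3 := pow_gcd_eq_one.2 ⟨hz', h2⟩
    rw [(Nat.coprime_primes Nat.prime_two hp.out).2 hp2.symm, pow_one] at h3
    rwa [h3, mul_one]

theorem exists_not_inv (hS : IsPGroup p S) (hF : F.IsSaturated p) (hcore : F.core = ⊥) (h1 : S ≠ ⊥) :
    ∃ P, F.IsEssential p P ∧ ¬ ∀ α ∈ F.autGroup P, ∀ z ∈ centralizerIn S S,
      afun α z ∈ centralizerIn S S := by
  by_contra! h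
  have := IsNormal.le_core (normal_of_family hS hF (Q := centralizerIn S S) fun P hP =>
    ⟨cen_le (alperin_family hS hF hP).2.1, by
      rcases hP with rfl | hP
      · exact fun α _ _ hx => afun_mem_cen α hx
      · exact h P hP⟩)
  exact centralizerIn_self_ne_bot hS h1 (le_bot_iff.1 (hcore ▸ this))

theorem cen_le_of_HD (hp2 : p ≠ 2) (hS : IsPGroup p S) (hF : F.IsSaturated p) (hcore : F.core = ⊥)
    (h1 : S ≠ ⊥) (h0 : Z₀ ≤ centralizerIn S S) (hc : Nat.card Z₀ = p)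
    (hi : ∀ β ∈ F.autGroup S, ∀ z ∈ Z₀, afun β z ∈ Z₀)
    (h : ∀ P, F.IsEssential p P → (∀ α ∈ F.autGroup P, ∀ z ∈ centralizerIn S S,
      afun α z ∈ centralizerIn S S) ∨ ∃ u v C, HD F p P (centralizerIn S S) u v C ∧ u ∈ Z₀) :
    centralizerIn S S ≤ Z₀ := by
  have hi' : ∀ δ ∈ F.autGroup (centralizerIn S S), ∀ z ∈ Z₀, afun δ z ∈ Z₀ := fun δ hδ z hz => by
    obtain ⟨β, b1, b2⟩ := exists_ext_cen hS hF ((mem_autGroup centralizerIn_le).1 hδ) le_rfl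
      fun x hx => afun_mem _ hx
    rw [← b2 z (h0 hz)]; exact hi β b1 z hz
  obtain ⟨P, hP, hn⟩ := exists_not_inv hS hF hcore h1
  obtain ⟨u, v, C, hd, hu⟩ := (h P hP).resolve_left hn
  obtain ⟨α, a1, a2⟩ := hd.exists_JJ hp2 hP.1.1 (cen_le hP.1) hc hu
  have k : ∀ Q, Q ≤ S → centralizerIn S S ≤ Q → ∀ β ∈ F.autGroup Q, (∀ z ∈ centralizerIn S S,
      afun β z ∈ centralizerIn S S) → ∀ c ∈ C, afun β c ∈ C := fun Q q1 q2 β b1 b2 c hc' => by
    obtain ⟨γ, g1, g2⟩ := exists_res q2 q1 b1 b2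
    have hcZ := hd.CZ hc'
    have := congrArg (fun δ => afun δ (afun γ c)) ((a1.conj h0 g1 hi').uniq hS hF h0 hc a1)
    rw [afun_mul _ _ (afun_mem _ hcZ), afun_inv_afun _ hcZ, afun_mul _ _ hcZ, (a2 c hcZ).1 hc'] at this
    rw [← g2 c hcZ]
    exact (a2 _ (afun_mem _ hcZ)).2 this.symm
  have h2 := IsNormal.le_core (normal_of_family hS hF (Q := C) fun Q hQ => by
    have q1 := (alperin_family hS hF hQ).2.1
    refine ⟨hd.CZ.trans (cen_le q1), fun β hβ => ?_⟩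
    rcases hQ with rfl | hQ
    · exact k _ le_rfl centralizerIn_le β hβ fun _ hx => afun_mem_cen β hx
    rcases h Q hQ with h3 | ⟨u', v', C', hd', hu'⟩
    · exact k Q q1.1 (cen_le q1) β hβ (h3 β hβ)
    · obtain ⟨α', b1, b2⟩ := hd'.exists_JJ hp2 q1.1 (cen_le q1) hc hu'
      obtain rfl := a1.uniq hS hF h0 hc b1
      have : C' = C := by
        ext z
        exact ⟨fun hz => (a2 z (hd'.CZ hz)).2 ((b2 z (hd'.CZ hz)).1 hz),
          fun hz => (b2 z (hd.CZ hz)).2 ((a2 z (hd.CZ hz)).1 hz)⟩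
      exact this ▸ hd'.inv β hβ)
  intro z hz
  obtain ⟨i, c, hc', rfl⟩ := hd.dec z hz
  rw [show c = 1 from Subgroup.mem_bot.1 (hcore ▸ h2 hc'), one_mul]
  exact pow_mem hu i

end

end Cfsg.Agent.PU
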