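import Cfsg.Agent.Lib.PU.Ms24
import Cfsg.Agent.Lib.Comp.Basic

/-! `p`-groups with an abelian subgroup of index `p`, and their essential subgroups. -/

set_option autoImplicit false
set_option linter.unusedSectionVars false
set_option linter.unusedVariables false
open Cfsg Cfsg.FusionSystem
open scoped commutatorElement

namespace Cfsg.Agent.PU

open Cfsg.Agent.Fusion

section
variable {Ω : Type*} [Group Ω] {S A B P Q : Subgroup Ω} {F : FusionSystem S} {p : ℕ} {a b s x y : Ω}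

/-- `A` is an abelian subgroup of index `p` in the nonabelian `p`-group `S`. -/
structure AP (p : ℕ) (S A : Subgroup Ω) : Prop where
  pg : IsPGroup p S
  le : A ≤ S
  ab : ∀ a ∈ A, ∀ b ∈ A, a * b = b * a
  idx : A.relIndex S = p
  na : ¬ IsMulCommutative S

variable [hp : Fact p.Prime] [Finite S]

theorem normal_of_relIndex (hS : IsPGroup p S) (h : A.relIndex S = p) : (A.subgroupOf S).Normal := by
  obtain ⟨k, hk⟩ := IsPGroup.iff_card.1 hS
  have h1 : p ∣ Nat.card S := h ▸ Subgroup.relIndex_dvd_card A S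
  have h2 : k ≠ 0 := by
    rintro rfl
    rw [hk, pow_zero, Nat.dvd_one] at h1; exact hp.out.one_lt.ne' h1
  exact Subgroup.normal_of_index_eq_minFac_card (by rw [hk, hp.out.pow_minFac h2]; exact h)

theorem conj_of_relIndex (hS : IsPGroup p S) (hA : A ≤ S) (h : A.relIndex S = p) (hs : s ∈ S)
    (ha : a ∈ A) : s * a * s⁻¹ ∈ A :=
  (normal_of_relIndex hS h).conj_mem ⟨a, hA ha⟩ ha ⟨s, hs⟩

theorem dec_of_relIndex (hS : IsPGroup p S) (h : A.relIndex S = p) (hx : x ∈ S) (hxA : x ∉ A)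
    (hs : s ∈ S) : ∃ i : ℕ, s * (x ^ i)⁻¹ ∈ A := by
  have := normal_of_relIndex hS h
  have h1 : Subgroup.zpowers ((⟨x, hx⟩ : S) : S ⧸ A.subgroupOf S) = ⊤ :=
    zpowers_eq_top_of_prime_card ((A.subgroupOf S).index_eq_card.symm.trans h)
      (by rwa [Ne, QuotientGroup.eq_one_iff])
  have h2 : ((⟨s, hs⟩ : S) : S ⧸ A.subgroupOf S) ∈ Subgroup.zpowers _ := h1 ▸ Subgroup.mem_top _
  rw [← mem_powers_iff_mem_zpowers] at h2
  obtain ⟨i, hi⟩ := h2
  refine ⟨i, ?_⟩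
  have : (⟨s, hs⟩ * (⟨x, hx⟩ ^ i)⁻¹ : S) ∈ A.subgroupOf S := by
    rw [← QuotientGroup.eq_one_iff, QuotientGroup.mk_mul, ← hi, QuotientGroup.mk_inv,
      QuotientGroup.mk_pow, mul_inv_cancel]
  exact this

theorem relIndex_eq_of_le (hS : IsPGroup p S) (hQ : Q ≤ S) (h : A.relIndex Q ≤ p) (hx : x ∈ Q)
    (hxA : x ∉ A) : A.relIndex Q = p := by
  have := finite_of_le hQ
  obtain ⟨k, hk⟩ := IsPGroup.iff_card.1 (pgroup_of_le hS hQ)
  obtain ⟨j, -, hj⟩ := (Nat.dvd_prime_pow hp.out).1 (hk ▸ Subgroup.relIndex_dvd_card A Q)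
  have h1 : j ≠ 0 := by
    rintro rfl
    exact hxA (Subgroup.relIndex_eq_one.1 hj hx)
  rw [hj] at h ⊢
  have : j ≤ 1 := (Nat.pow_le_pow_iff_right hp.out.one_lt).1 (by rwa [pow_one])
  rw [show j = 1 by omega, pow_one]

theorem relIndex_sub (hS : IsPGroup p S) (h : A.relIndex S = p) (hQ : Q ≤ S) (hx : x ∈ Q)
    (hxA : x ∉ A) : A.relIndex Q = p :=
  relIndex_eq_of_le hS hQ (h ▸ Subgroup.relIndex_le_of_le_right hQ (h ▸ hp.out.ne_zero)) hx hxA

theorem mem_zc_two : a ∈ zc S 2 ↔ a ∈ S ∧ ∀ y ∈ S, ⁅a, y⁆ ∈ centralizerIn S S := by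
  rw [mem_zc_succ, zc_one]

theorem cen_le_zc : centralizerIn S S ≤ zc S 2 := zc_one (Q := S) ▸ zc_mono S (by norm_num : 1 ≤ 2)

namespace AP
variable (h : AP p S A)
include h

theorem conj (hs : s ∈ S) (ha : a ∈ A) : s * a * s⁻¹ ∈ A := conj_of_relIndex h.pg h.le h.idx hs ha

theorem dec (hx : x ∈ S) (hxA : x ∉ A) (hs : s ∈ S) : ∃ i : ℕ, ∃ a ∈ A, s = a * x ^ i := by
  obtain ⟨i, hi⟩ := dec_of_relIndex h.pg h.idx hx hxA hs
  exact ⟨i, _, hi, by group⟩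

theorem mem_cen (hx : x ∈ S) (hxA : x ∉ A) (ha : a ∈ A) (e : Commute x a) :
    a ∈ centralizerIn S S := ⟨h.le ha, fun s hs => by
  obtain ⟨i, b, hb, rfl⟩ := h.dec hx hxA hs
  exact (Commute.mul_left (h.ab b hb a ha) (e.pow_left i))⟩

theorem cen_le : centralizerIn S S ≤ A := fun z hz => by
  by_contra hzA
  refine h.na ⟨⟨fun s t => Subtype.ext ?_⟩⟩
  obtain ⟨i, b, hb, e⟩ := h.dec hz.1 hzA s.2
  rw [Subgroup.coe_mul, Subgroup.coe_mul, e]
  exact (cen_comm (mul_mem (h.mem_cen hz.1 hzA hb (cen_comm hz (h.le hb)).symm) (pow_mem hz i)) t.2).symm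

theorem exists_x : ∃ x ∈ S, x ∉ A := by
  by_contra! h1
  exact hp.out.one_lt.ne' (h.idx ▸ Subgroup.relIndex_eq_one.2 h1)

theorem comm_mem (ha : a ∈ A) (hs : s ∈ S) : ⁅a, s⁆ ∈ A := by
  have := mul_mem ha (h.conj hs (inv_mem ha))
  rwa [← mul_assoc, ← mul_assoc] at this

theorem comm_mul (ha : a ∈ A) (hb : b ∈ A) (hs : s ∈ S) : ⁅a * b, s⁆ = ⁅a, s⁆ * ⁅b, s⁆ := by
  rw [h.ab _ (h.comm_mem ha hs) _ (h.comm_mem hb hs)]
  calc _ = a * ⁅b, s⁆ * a⁻¹ * ⁅a, s⁆ := by simp only [commutatorElement_def]; group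
    _ = _ := by rw [h.ab a ha _ (h.comm_mem hb hs)]; group

theorem comm_red (ha : a ∈ A) (hb : b ∈ A) (hs : s ∈ S) : ⁅b, a * s⁆ = ⁅b, s⁆ := by
  calc _ = b * a * (s * b⁻¹ * s⁻¹) * a⁻¹ := by simp only [commutatorElement_def]; group
    _ = _ := by
      rw [mul_assoc b, h.ab a ha _ (h.conj hs (inv_mem hb))]; simp only [commutatorElement_def]; group

/-- The commutator map on a subgroup of `A`. -/
def dl (hB : B ≤ A) (hx : x ∈ S) : B →* Ω :=
  mkHom B (fun b => ⁅b, x⁆) fun a ha b hb => h.comm_mul (hB ha) (hB hb) hx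

theorem dl_ker (hB : B ≤ A) (hx : x ∈ S) (hxA : x ∉ A) :
    (h.dl hB hx).ker = (centralizerIn S S).subgroupOf B := by
  ext b
  exact ⟨fun e => h.mem_cen hx hxA (hB b.2) (commutatorElement_eq_one_iff_commute.1 e).symm,
    fun e => commutatorElement_eq_one_iff_commute.2 (cen_comm e hx).symm⟩

theorem comm_ind {D : Subgroup Ω} (hx : x ∈ S) (hxA : x ∉ A) (ha : a ∈ A)
    (h1 : ∀ i : ℕ, x ^ i * ⁅a, x⁆ * (x ^ i)⁻¹ ∈ D) (hs : s ∈ S) : ⁅a, s⁆ ∈ D := by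
  obtain ⟨i, b, hb, rfl⟩ := h.dec hx hxA hs
  rw [h.comm_red hb ha (pow_mem hx i)]
  clear hs
  induction i with
  | zero => simp
  | succ i ih =>
    have := mul_mem ih (h1 i)
    convert this using 1
    simp only [commutatorElement_def, pow_succ]; group

theorem mem_zc (hx : x ∈ S) (hxA : x ∉ A) (ha : a ∈ A) (e : ⁅a, x⁆ ∈ centralizerIn S S) :
    a ∈ zc S 2 := mem_zc_two.2 ⟨h.le ha, fun y hy => h.comm_ind hx hxA ha
      (fun i => by rwa [cen_conj e (pow_mem hx i)]) hy⟩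

theorem dl_range (hB : B ≤ A) (hn : S ≤ Subgroup.normalizer (B : Set Ω)) (hx : x ∈ S) (hxA : x ∉ A) :
    (h.dl hB hx).range = ⁅B, S⁆ := by
  refine le_antisymm ?_ (Subgroup.commutator_le.2 fun b hb s hs => h.comm_ind hx hxA (hB hb)
    (fun i => ⟨⟨_, conj_mem_of_mem_normalizer (hn (pow_mem hx i)) hb⟩, ?_⟩) hs)
  · rintro _ ⟨b, rfl⟩
    exact Subgroup.commutator_mem_commutator b.2 hx
  · show ⁅x ^ i * b * (x ^ i)⁻¹, x⁆ = _
    simp only [commutatorElement_def]; group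

theorem relIndex_cen (hB : B ≤ A) (hn : S ≤ Subgroup.normalizer (B : Set Ω)) :
    (centralizerIn S S).relIndex B = Nat.card (⁅B, S⁆ : Subgroup Ω) := by
  obtain ⟨x, hx, hxA⟩ := h.exists_x
  rw [← h.dl_range hB hn hx hxA, ← Subgroup.index_ker, h.dl_ker hB hx hxA]; rfl

theorem le_norm : S ≤ Subgroup.normalizer (A : Set Ω) :=
  le_normalizer_of_conj_mem fun s hs x hx => h.conj hs hx

theorem comm_le : ⁅A, S⁆ ≤ A := Subgroup.commutator_le.2 fun a ha s hs => h.comm_mem ha hs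

theorem comm_eq : ⁅S, S⁆ = ⁅A, S⁆ := by
  obtain ⟨x, hx, hxA⟩ := h.exists_x
  refine le_antisymm (Subgroup.commutator_le.2 fun s hs t ht => ?_) (Subgroup.commutator_mono h.le le_rfl)
  obtain ⟨i, a, ha, rfl⟩ := h.dec hx hxA hs
  obtain ⟨j, b, hb, e⟩ := h.dec hx hxA ht
  have h1 := inv_mem (Subgroup.commutator_mem_commutator hb (pow_mem hx i))
  have h2 := mul_mem h1 (Subgroup.commutator_mem_commutator ha ht)
  convert h2 using 1
  calc _ = a * ⁅b, x ^ i⁆⁻¹ * a⁻¹ * ⁅a, t⁆ := by rw [e]; simp only [commutatorElement_def]; group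
    _ = _ := by rw [h.ab a ha _ (h.comm_le h1)]; group

theorem comm_zc (hZ : zc S 2 ≤ A) : ⁅zc S 2, S⁆ = centralizerIn S S ⊓ ⁅S, S⁆ := by
  obtain ⟨x, hx, hxA⟩ := h.exists_x
  refine le_antisymm (le_inf (Subgroup.commutator_le.2 fun a ha s hs => (mem_zc_two.1 ha).2 s hs)
    (Subgroup.commutator_mono (zc_le S 2) le_rfl)) fun z ⟨h1, h2⟩ => ?_
  rw [h.comm_eq, ← h.dl_range le_rfl h.le_norm hx hxA] at h2
  obtain ⟨a, rfl⟩ := h2
  exact Subgroup.commutator_mem_commutator (h.mem_zc hx hxA a.2 h1) hx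

theorem zc_norm : S ≤ Subgroup.normalizer (zc S 2 : Set Ω) :=
  le_normalizer_of_conj_mem fun s hs x hx => by
    have := mul_mem (cen_le_zc (inv_mem ((mem_zc_two.1 hx).2 s hs))) hx
    convert this using 1
    simp only [commutatorElement_def]; group

theorem card_Z0 (hZ : zc S 2 ≤ A) :
    Nat.card (centralizerIn S S ⊓ ⁅S, S⁆ : Subgroup Ω) = (centralizerIn S S).relIndex (zc S 2) := by
  rw [h.relIndex_cen hZ h.zc_norm, h.comm_zc hZ]

theorem relIndex_sup (h0 : Nat.card (centralizerIn S S ⊓ ⁅S, S⁆ : Subgroup Ω) = p) :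
    (centralizerIn S S ⊔ ⁅S, S⁆).relIndex A = p := by
  have h1 : ⁅S, S⁆ ≤ A := h.comm_eq ▸ h.comm_le
  have h2 := Comp.card_sup_mul_card_inf (H := centralizerIn S S) (N := ⁅S, S⁆) fun z hz =>
    Subgroup.centralizer_le_normalizer _ fun y hy => cen_comm hz (h.le (h1 hy))
  have h3 := Comp.relIndex_mul_card h.cen_le
  have h4 := Comp.relIndex_mul_card (sup_le h.cen_le h1)
  rw [h.relIndex_cen le_rfl h.le_norm, ← h.comm_eq, mul_comm, ← h2, ← h4, h0, mul_comm] at h3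
  have := finite_of_le ((sup_le h.cen_le h1).trans h.le)
  exact (Nat.eq_of_mul_eq_mul_right Nat.card_pos h3).symm

theorem lcs_le (i : ℕ) : S.lowerCentralSeries (i + 1) ≤ ⁅S, S⁆ :=
  Subgroup.commutator_mono (S.lowerCentralSeries_antitone (Nat.zero_le i)) le_rfl

theorem lcs_card (h0 : Nat.card (centralizerIn S S ⊓ ⁅S, S⁆ : Subgroup Ω) = p) (i : ℕ) :
    (centralizerIn S S).relIndex S ≤ p ^ (i + 1) * Nat.card (S.lowerCentralSeries (i + 1)) := by
  have h1 : ⁅S, S⁆ ≤ A := h.comm_eq ▸ h.comm_le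
  induction i with
  | zero =>
    rw [← Subgroup.relIndex_mul_relIndex _ _ _ h.cen_le h.le, h.idx, h.relIndex_cen le_rfl h.le_norm,
      ← h.comm_eq, mul_comm, zero_add, pow_one]
    rfl
  | succ i ih =>
    refine ih.trans ?_
    rw [← Comp.relIndex_mul_card_inf (centralizerIn S S), h.relIndex_cen ((h.lcs_le i).trans h1)
      (S.self_le_normalizer_lowerCentralSeries _), pow_succ p (i + 1), mul_assoc, mul_comm p]
    have := finite_of_le (inf_le_left.trans centralizerIn_le : centralizerIn S S ⊓ ⁅S, S⁆ ≤ S)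
    exact Nat.mul_le_mul_left _ (Nat.mul_le_mul_left _
      (h0 ▸ Subgroup.card_le_of_le (inf_le_inf_left _ (h.lcs_le i))))

theorem lcs_not_le (h0 : Nat.card (centralizerIn S S ⊓ ⁅S, S⁆ : Subgroup Ω) = p) {m : ℕ}
    (hm : (centralizerIn S S).relIndex S = p ^ m) (h3 : 3 ≤ m) :
    ¬ S.lowerCentralSeries (m - 2) ≤ centralizerIn S S := fun h1 => by
  obtain ⟨i, rfl⟩ : ∃ i, m = i + 3 := ⟨m - 3, by omega⟩
  have h2 := h.lcs_card h0 i
  have := finite_of_le (inf_le_left.trans centralizerIn_le : centralizerIn S S ⊓ ⁅S, S⁆ ≤ S)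
  have h4 := Subgroup.card_le_of_le (le_inf h1 (h.lcs_le i))
  have h5 := h2.trans (Nat.mul_le_mul_left _ h4)
  rw [hm, h0, ← pow_succ, Nat.pow_le_pow_iff_right hp.out.one_lt] at h5
  omega

theorem lcs_ne_bot (h0 : Nat.card (centralizerIn S S ⊓ ⁅S, S⁆ : Subgroup Ω) = p)
    (hZ : centralizerIn S S ≤ ⁅S, S⁆) {n : ℕ} (hn : Nat.card S = p ^ n) (h3 : 3 ≤ n) :
    S.lowerCentralSeries (n - 2) ≠ ⊥ := fun h1 => by
  obtain ⟨i, rfl⟩ : ∃ i, n = i + 3 := ⟨n - 3, by omega⟩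
  have h2 := Nat.mul_le_mul_right p (h.lcs_card h0 i)
  have h4 := Comp.relIndex_mul_card (centralizerIn_le (S := S) (P := S))
  rw [inf_eq_left.2 hZ] at h0
  rw [h0, hn] at h4
  rw [h4, show S.lowerCentralSeries (i + 1) = ⊥ from h1, Subgroup.card_bot, mul_one, ← pow_succ,
    Nat.pow_le_pow_iff_right hp.out.one_lt] at h2
  omega

end AP

theorem mem_of_two (hS : IsPGroup p S) (hP : F.IsEssential p P) {Y : Subgroup Ω}
    (hY : ∀ α ∈ F.autGroup P, ∀ y ∈ P, y ∈ Y → afun α y ∈ Y) (hs : s ∈ normalizerIn S P)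
    (h1 : ∀ y ∈ P, y ∈ Y → s * y * s⁻¹ = y) (h2 : ∀ x ∈ P, x⁻¹ * (s * x * s⁻¹) ∈ Y) : s ∈ P := by
  refine mem_of_chain hS hP.1 (radical_of_essential hS hP) (n := 2)
    (C := fun i => if i = 0 then ⊥ else if i = 1 then Y else ⊤) (fun α hα i y hy hC => ?_) (by simp)
    (fun α _ => ⟨0, fun y hy hC => ?_⟩) hs fun i hi y hy hC => ?_
  · split_ifs at hC ⊢
    · rw [Subgroup.mem_bot.1 hC, afun_map_one]; exact one_mem _
    · exact hY α hα y hy hC
    · trivial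
  · rw [show y = 1 from Subgroup.mem_bot.1 hC, afun_map_one]
  · interval_cases i
    · rw [h1 y hy hC]; simp
    · exact h2 y hy

theorem AP.ess (h : AP p S A) (hF : F.IsSaturated p)
    (hu : ∀ B : Subgroup Ω, B ≤ S → IsMulCommutative B → B.relIndex S = p → B = A)
    (hP : F.IsEssential p P) (hPA : P ≠ A) :
    zc S 2 ≤ A ∧ (centralizerIn S S).relIndex (zc S 2) = p ∧ P.relIndex (normalizerIn S P) = p ∧
      ∃ x ∈ S, x ∉ A ∧ ((P = centralizerIn S S ⊔ Subgroup.zpowers x ∧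
        ∃ u v C, HD F p P (centralizerIn S S) u v C) ∨ (P = zc S 2 ⊔ Subgroup.zpowers x ∧
          ∀ α ∈ F.autGroup P, ∀ z ∈ centralizerIn S S, afun α z ∈ centralizerIn S S)) := by
  have hS := h.pg
  have hPS := hP.1.1
  have hlt := ess_lt hS hF hP
  have hC := IsCentric.cent_le hP.1
  have hZP := PU.cen_le hP.1
  have := finite_of_le hPS
  obtain ⟨x, hx, hxA⟩ : ∃ x ∈ P, x ∉ A := by
    by_contra! h1
    exact hPA (le_antisymm h1 fun a ha => hC ⟨h.le ha, fun y hy => h.ab y (h1 y hy) a ha⟩)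
  have hPN := le_normalizerIn hPS
  have r1 := relIndex_sub hS h.idx hPS hx hxA
  have r2 := relIndex_sub hS h.idx normalizerIn_le (hPN hx) hxA
  have r3 : P.relIndex (A ⊓ normalizerIn S P) = P.relIndex (normalizerIn S P) := by
    have e1 := Subgroup.relIndex_inf_mul_relIndex P A (normalizerIn S P)
    have e2 := Subgroup.relIndex_inf_mul_relIndex A P (normalizerIn S P)
    rw [inf_eq_left.2 hPN, r1, inf_comm, ← e1, r2, mul_comm] at e2
    exact (Nat.eq_of_mul_eq_mul_right hp.out.pos e2).symm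
  have hdec : ∀ y ∈ P, ∃ i : ℕ, ∃ b ∈ A ⊓ P, y = b * x ^ i := fun y hy => by
    obtain ⟨i, b, hb, e⟩ := h.dec (hPS hx) hxA (hPS hy)
    exact ⟨i, b, ⟨hb, (P.mul_mem_cancel_right (pow_mem hx i)).1 (e ▸ hy)⟩, e⟩
  have hsup : P = (A ⊓ P) ⊔ Subgroup.zpowers x := le_antisymm (fun y hy => by
    obtain ⟨i, b, hb, rfl⟩ := hdec y hy
    exact mul_mem (Subgroup.mem_sup_left hb) (Subgroup.mem_sup_right (pow_mem (Subgroup.mem_zpowers x) i)))
    (sup_le inf_le_right ((Subgroup.zpowers_le).2 hx))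
  obtain ⟨a, ⟨a1, a2⟩, a3⟩ : ∃ a ∈ A ⊓ normalizerIn S P, a ∉ P := by
    obtain ⟨n, n1, n2⟩ := SetLike.exists_of_lt (lt_normalizerIn hS hlt)
    obtain ⟨i, b, hb, rfl⟩ := h.dec (hPS hx) hxA n1.1
    exact ⟨b, ⟨hb, (Subgroup.mul_mem_cancel_right _ (hPN (pow_mem hx i))).1 n1⟩,
      fun e => n2 (mul_mem e (pow_mem hx i))⟩
  have hZN : zc S 2 ≤ normalizerIn S P := fun z hz => ⟨zc_le S 2 hz, mem_normalizer_of_finite
    fun y hy => by
      have := mul_mem (hZP ((mem_zc_two.1 hz).2 y (hPS hy))) hy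
      rwa [commutatorElement_def, inv_mul_cancel_right] at this⟩
  have hAZ : ¬ zc S 2 ≤ A → A ≤ zc S 2 := fun h1 b hb => by
    obtain ⟨y, y1, y2⟩ := SetLike.not_le_iff_exists.1 h1
    refine h.mem_zc (zc_le S 2 y1) y2 hb ?_
    rw [← commutatorElement_inv]; exact inv_mem ((mem_zc_two.1 y1).2 b (h.le hb))
  have hcA : ∀ s ∈ S, ∀ y ∈ S, ⁅s, y⁆ ∈ A := fun s hs y hy =>
    h.comm_le (h.comm_eq ▸ Subgroup.commutator_mem_commutator hs hy)
  have hcP : ∀ s ∈ normalizerIn S P, ∀ y ∈ P, ⁅s, y⁆ ∈ P := fun s hs y hy =>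
    mul_mem (conj_mem_of_mem_normalizerIn hs hy) (inv_mem hy)
  have hst : ∀ y ∈ P, y⁻¹ * (a * y * a⁻¹) ∈ A ⊓ P := fun y hy => ⟨by
    have := hcA _ (inv_mem (hPS hy)) _ (h.le a1)
    rwa [commutatorElement_def, inv_inv, mul_assoc, mul_assoc, ← mul_assoc a] at this,
    P.mul_mem (P.inv_mem hy) (conj_mem_of_mem_normalizerIn a2 hy)⟩
  by_cases hB : A ⊓ P ≤ centralizerIn S S
  · have eB : A ⊓ P = centralizerIn S S := le_antisymm hB (le_inf h.cen_le hZP)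
    have hab : ∀ y ∈ P, ∀ w ∈ P, y * w = w * y := fun y hy w hw => by
      obtain ⟨i, b, hb, rfl⟩ := hdec y hy
      obtain ⟨j, c, hc, rfl⟩ := hdec w hw
      exact Commute.mul_left (cen_comm (hB hb) (hPS hw)).symm (Commute.mul_right
        (cen_comm (hB hc) (hPS (pow_mem hx i))) (Commute.pow_pow_self x i j))
    obtain ⟨g, hg, z, hz, hgz⟩ : ∃ g ∈ F.autGroup P, ∃ z ∈ centralizerIn S S,
        afun g z ∉ centralizerIn S S := by
      by_contra! h1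
      exact a3 (mem_of_two hS hP (fun α hα y _ hy => h1 α hα y hy) a2
        (fun y _ hy => cen_conj hy (h.le a1)) fun y hy => hB (hst y hy))
    obtain ⟨u, v, C, hd⟩ := exists_HD (IsSaturated.fullyAutomized hS hF hP.2.1) hab hZP
      (by rw [← eB, Subgroup.inf_relIndex_right, r1]) (fun s hs z hz => cen_conj hz hs.1)
      (fun s hs y hy => hB ⟨hcA s hs.1 y (hPS hy), hcP s hs y hy⟩)
      (ne_bot_of_gt (Inn_lt_autInducedBy hS hlt hC)) hg hz hgz
    have r4 : P.relIndex (normalizerIn S P) = p := by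
      have e1 := card_autInducedBy S P
      rw [hd.card, le_antisymm hC fun y hy => ⟨hPS hy, fun w hw => hab w hw y hy⟩,
        ← Comp.relIndex_mul_card hPN] at e1
      exact (Nat.eq_of_mul_eq_mul_right Nat.card_pos e1).symm
    have hZA : zc S 2 ≤ A := by
      by_contra h1
      have e : normalizerIn S P = S := le_antisymm normalizerIn_le fun s hs => by
        obtain ⟨i, b, hb, rfl⟩ := h.dec (hPS hx) hxA hs
        exact mul_mem (hZN (hAZ h1 hb)) (hPN (pow_mem hx i))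
      exact hPA (hu P hPS ⟨⟨fun y w => Subtype.ext (hab y y.2 w w.2)⟩⟩ (e ▸ r4))
    have e2 : A ⊓ normalizerIn S P = zc S 2 := le_antisymm (fun b hb => h.mem_zc (hPS hx) hxA hb.1
      (hB ⟨hcA b hb.2.1 x (hPS hx), hcP b hb.2 x hx⟩)) (le_inf hZA hZN)
    refine ⟨hZA, ?_, r4, x, hPS hx, hxA, Or.inl ⟨eB ▸ hsup, u, v, C, hd⟩⟩
    rw [← eB, ← Subgroup.inf_relIndex_right, inf_comm A, inf_assoc, inf_eq_right.2 hZA,
      Subgroup.inf_relIndex_right, ← e2, r3, r4]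
  obtain ⟨b, b1, b2⟩ := SetLike.not_le_iff_exists.1 hB
  have eZ : centralizerIn P P = centralizerIn S S := le_antisymm (fun z hz => by
    by_cases hzA : z ∈ A
    · exact h.mem_cen (hPS hx) hxA hzA (hz.2 x hx)
    · exact absurd (h.mem_cen (hPS hz.1) hzA b1.1 (hz.2 b b1.2).symm) b2)
    fun z hz => ⟨hZP hz, fun y hy => hz.2 y (hPS hy)⟩
  have hinv : ∀ α ∈ F.autGroup P, ∀ z ∈ centralizerIn S S, afun α z ∈ centralizerIn S S :=
    fun α _ z hz => eZ ▸ afun_mem_cen α (eZ ▸ hz)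
  obtain ⟨α, hα, c, c1, c2, c3⟩ : ∃ α ∈ F.autGroup P, ∃ c ∈ P, c ∈ A ∧ afun α c ∉ A := by
    by_contra! h1
    exact a3 (mem_of_two hS hP h1 a2 (fun y _ hy => by rw [h.ab a a1 y hy]; group)
      fun y hy => (hst y hy).1)
  have hm := (mem_autGroup hPS).1 hα
  have hI : img (afun α) (A ⊓ P) ⊓ (A ⊓ P) ≤ centralizerIn S S := fun w ⟨w1, w2⟩ => by
    obtain ⟨d, hd, rfl⟩ := (hm.mem_img' inf_le_right).1 w1
    refine h.mem_cen (hm.mem c1) c3 w2.1 ?_
    show _ = _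
    rw [← hm.map_mul c1 hd.2, h.ab c c2 d hd.1, hm.map_mul hd.2 c1]
  have hBZ : A ⊓ P ≤ zc S 2 := fun d hd => h.mem_zc (hm.mem c1) c3 hd.1 (hI ⟨by
      rw [← afun_afun_inv α hd.2, ← hm.map_commutator (afun_mem _ hd.2) c1]
      exact subset_img ⟨hcA _ (hPS (afun_mem _ hd.2)) c (hPS c1), hcP _ (hPN (afun_mem _ hd.2)) c c1⟩,
    hcA d (hPS hd.2) _ (hm.mem c1), hcP d (hPN hd.2) _ (afun_mem _ c1)⟩)
  have r5 : (img (afun α) (A ⊓ P)).relIndex P = p := by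
    have e1 := Comp.relIndex_mul_card (K := img (afun α) (A ⊓ P)) (M := P)
      (img_le_iff.2 fun y hy => afun_mem _ hy.2)
    rw [(hm.mono inf_le_right).card_img, ← Comp.relIndex_mul_card_inf A P, r1] at e1
    have := finite_of_le (inf_le_right : A ⊓ P ≤ P)
    exact Nat.eq_of_mul_eq_mul_right Nat.card_pos e1
  have r6 : (centralizerIn S S).relIndex (A ⊓ P) = p := by
    have e1 := Subgroup.relIndex_le_of_le_right (inf_le_right : A ⊓ P ≤ P) (r5 ▸ hp.out.ne_zero)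
    have := finite_of_le (inf_le_right : A ⊓ P ≤ P)
    refine relIndex_eq_of_le hS (inf_le_right.trans hPS) ?_ b1 b2
    refine (Subgroup.relIndex_le_of_le_left hI Subgroup.FiniteIndex.index_ne_zero).trans ?_
    rwa [Subgroup.inf_relIndex_right, ← r5]
  have hZP2 : zc S 2 ≤ P := fun z hz => mem_of_two hS hP (fun α hα y _ hy => hinv α hα y hy) (hZN hz)
    (fun y _ hy => cen_conj hy (zc_le S 2 hz)) fun y hy => by
      have := inv_mem ((mem_zc_two.1 hz).2 _ (inv_mem (hPS hy)))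
      rwa [commutatorElement_inv, commutatorElement_def, inv_inv, mul_assoc, mul_assoc,
        ← mul_assoc z] at this
  have hZA : zc S 2 ≤ A := by
    by_contra h1
    refine hlt.not_ge fun s hs => ?_
    obtain ⟨i, b, hb, rfl⟩ := h.dec (hPS hx) hxA hs
    exact mul_mem (hZP2 (hAZ h1 hb)) (pow_mem hx i)
  have eB : A ⊓ P = zc S 2 := le_antisymm hBZ (le_inf hZA hZP2)
  refine ⟨hZA, eB ▸ r6, r3 ▸ relIndex_eq_of_le hS (inf_le_left.trans h.le) ?_ ⟨a1, a2⟩ a3,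
    x, hPS hx, hxA, Or.inr ⟨eB ▸ hsup, hinv⟩⟩
  have e3 : P.subgroupOf (A ⊓ normalizerIn S P) =
      (centralizerIn S S).comap (h.dl inf_le_left (hPS hx)) := by
    ext d
    exact ⟨fun hd => (mem_zc_two.1 (hBZ ⟨d.2.1, hd⟩)).2 x (hPS hx),
      fun hd => hZP2 (h.mem_zc (hPS hx) hxA d.2.1 hd)⟩
  rw [Subgroup.relIndex, e3, Subgroup.index_comap]
  refine (Subgroup.relIndex_le_of_le_right ?_ (r6 ▸ hp.out.ne_zero)).trans r6.le
  rintro _ ⟨d, rfl⟩
  exact ⟨hcA d d.2.2.1 x (hPS hx), hcP d d.2.2 x hx⟩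

theorem map_comm (S : Subgroup Ω) : (_root_.commutator S).map S.subtype = ⁅S, S⁆ := by
  rw [commutator_def, Subgroup.map_commutator, ← MonoidHom.range_eq_map, Subgroup.range_subtype]

theorem thm_5254 (h : AP p S A) (hF : F.IsSaturated p)
    (hu : ∀ B : Subgroup Ω, B ≤ S → IsMulCommutative B → B.relIndex S = p → B = A)
    (hP : F.IsEssential p P) : (P = A ∨ (∃ x ∈ S, x ∉ A ∧ P = centralizerIn S S ⊔ Subgroup.zpowers x) ∨
      (zc S 2 ≤ A ∧ ∃ x ∈ S, x ∉ A ∧ P = zc S 2 ⊔ Subgroup.zpowers x)) ∧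
      P.relIndex (normalizerIn S P) = p := by
  by_cases hPA : P = A
  · subst hPA
    refine ⟨Or.inl rfl, ?_⟩
    rw [show normalizerIn S P = S from inf_eq_left.2 h.le_norm, h.idx]
  obtain ⟨h1, -, h2, x, x1, x2, h3 | h3⟩ := h.ess hF hu hP hPA
  · exact ⟨Or.inr (Or.inl ⟨x, x1, x2, h3.1⟩), h2⟩
  · exact ⟨Or.inr (Or.inr ⟨h1, x, x1, x2, h3.1⟩), h2⟩

theorem thm_5257 (h : AP p S A) (hF : F.IsSaturated p)
    (hu : ∀ B : Subgroup Ω, B ≤ S → IsMulCommutative B → B.relIndex S = p → B = A)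
    (hP : F.IsEssential p P) (hPA : P ≠ A) : zc S 2 ≤ A ∧
      Nat.card (centralizerIn S S ⊓ ⁅S, S⁆ : Subgroup Ω) = p ∧
      (centralizerIn S S ⊔ ⁅S, S⁆).relIndex A = p ∧ (centralizerIn S S).relIndex (zc S 2) = p ∧
      ∀ m : ℕ, (centralizerIn S S).relIndex S = p ^ m → 3 ≤ m →
        ¬ S.lowerCentralSeries (m - 2) ≤ centralizerIn S S := by
  obtain ⟨h1, h2, -⟩ := h.ess hF hu hP hPA
  have h3 := (h.card_Z0 h1).trans h2
  exact ⟨h1, h3, h.relIndex_sup h3, h2, fun m => h.lcs_not_le h3⟩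

theorem afun_mem_comm (β : MulAut P) {z : Ω} (hz : z ∈ ⁅P, P⁆) : afun β z ∈ ⁅P, P⁆ := by
  rw [← map_comm] at hz ⊢
  obtain ⟨y, hy, rfl⟩ := hz
  rw [Subgroup.coe_subtype, afun_of_mem β y.2]
  exact ⟨_, (Subgroup.characteristic_iff_le_comap.1 inferInstance β) hy, rfl⟩

theorem HD.mem_comm {Z C : Subgroup Ω} {u v : Ω} (h : HD F p P Z u v C) (hP : P ≤ S) : u ∈ ⁅S, S⁆ := by
  obtain ⟨s, s1, s2⟩ := h.comm
  have := Subgroup.commutator_mem_commutator (inv_mem (hP h.vP)) s1.1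
  rwa [commutatorElement_def, inv_inv, mul_assoc, mul_assoc, ← mul_assoc s, s2,
    inv_mul_cancel_left] at this

theorem thm_5244 (hp2 : p ≠ 2) (h : AP p S A) (hF : F.IsSaturated p)
    (hu : ∀ B : Subgroup Ω, B ≤ S → IsMulCommutative B → B.relIndex S = p → B = A)
    (hcore : F.core = ⊥) (hA : ¬ F.IsEssential p A) :
    (∃ x ∈ S, x ∉ A ∧ F.IsEssential p (centralizerIn S S ⊔ Subgroup.zpowers x)) ∧
      centralizerIn S S ≤ ⁅S, S⁆ ∧ ∀ n : ℕ, Nat.card S = p ^ n → 3 ≤ n →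
        S.lowerCentralSeries (n - 2) ≠ ⊥ := by
  have h1 : S ≠ ⊥ := by
    obtain ⟨x, x1, x2⟩ := h.exists_x
    rintro rfl
    exact x2 (Subgroup.mem_bot.1 x1 ▸ one_mem _)
  obtain ⟨P, hP, hn⟩ := exists_not_inv h.pg hF hcore h1
  have hne : ∀ P, F.IsEssential p P → P ≠ A := fun P hP e => hA (e ▸ hP)
  have h0 := (thm_5257 h hF hu hP (hne P hP)).2.1
  have h2 := (cen_le_of_HD hp2 h.pg hF hcore h1 inf_le_left h0
    (fun β _ z hz => ⟨afun_mem_cen β hz.1, afun_mem_comm β hz.2⟩) fun Q hQ => by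
      obtain ⟨-, -, -, x, -, -, ⟨-, u, v, C, hd⟩ | h3⟩ := h.ess hF hu hQ (hne Q hQ)
      · exact Or.inr ⟨u, v, C, hd, hd.uZ, hd.mem_comm hQ.1.1⟩
      · exact Or.inl h3.2).trans inf_le_right
  refine ⟨?_, h2, fun n => h.lcs_ne_bot h0 h2⟩
  obtain ⟨-, -, -, x, x1, x2, h3 | h3⟩ := h.ess hF hu hP (hne P hP)
  · exact ⟨x, x1, x2, h3.1 ▸ hP⟩
  · exact absurd h3.2 hn

end

end Cfsg.Agent.PU
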