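import Cfsg.Agent.Lib.PU.Ms25
import Cfsg.Agent.Lib.Fusion.Focal2
import Cfsg.Agent.Lib.Solv.PCyc
import Cfsg.Agent.Lib.Solv.Frattini
import Cfsg.Agent.Lib.Classical.GroupRec

/-! Fusion systems on `p`-groups whose centre has index at most `p ^ 2`. -/

set_option autoImplicit false
set_option linter.unusedSectionVars false
set_option linter.unusedVariables false
open Cfsg Cfsg.FusionSystem
open scoped commutatorElement

namespace Cfsg.Agent.PU

open Cfsg.Agent.Fusion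

section
variable {Ω : Type*} [Group Ω] {S A P Q R C : Subgroup Ω} {F : FusionSystem S} {p : ℕ} {x u v : Ω}

/-- Overgroups of the centre with an automorphism moving the centre. -/
def Act (F : FusionSystem S) (P : Subgroup Ω) : Prop :=
  centralizerIn S S ≤ P ∧ P ≤ S ∧ ∃ α ∈ F.autGroup P, ∃ z ∈ centralizerIn S S,
    afun α z ∉ centralizerIn S S

variable [hp : Fact p.Prime] [Finite S]

theorem le_relIndex (hS : IsPGroup p S) (hQ : Q ≤ S) (hx : x ∈ Q) (hxA : x ∉ A) :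
    p ≤ A.relIndex Q := by
  by_contra! h
  exact h.ne (relIndex_eq_of_le hS hQ h.le hx hxA)

theorem Act.idx (hS : IsPGroup p S) (hZ : (centralizerIn S S).relIndex S ≤ p ^ 2) (h : Act F P) :
    (centralizerIn S S).relIndex P = p ∧ P.relIndex S = p := by
  obtain ⟨h1, h2, α, a1, z, z1, z2⟩ := h
  obtain ⟨y, y1, y2⟩ : ∃ y ∈ S, y ∉ P := by
    by_contra! h3
    obtain rfl := le_antisymm h2 h3
    exact z2 (afun_mem_cen α z1)
  have e1 := le_relIndex hS h2 (afun_mem α (h1 z1)) z2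
  have e2 := le_relIndex hS le_rfl y1 y2
  rw [← Subgroup.relIndex_mul_relIndex _ _ _ h1 h2, pow_two] at hZ
  exact ⟨le_antisymm (Nat.le_of_mul_le_mul_right ((Nat.mul_le_mul_left _ e2).trans hZ) hp.out.pos) e1,
    le_antisymm (Nat.le_of_mul_le_mul_left ((Nat.mul_le_mul_right _ e1).trans hZ) hp.out.pos) e2⟩

theorem Act.dec (hS : IsPGroup p S) (hZ : (centralizerIn S S).relIndex S ≤ p ^ 2) (h : Act F P)
    (h1 : v ∈ P) (h2 : v ∉ centralizerIn S S) (hx : x ∈ P) :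
    ∃ i : ℕ, ∃ z ∈ centralizerIn S S, x = z * v ^ i := by
  have := finite_of_le h.2.1
  obtain ⟨i, hi⟩ := dec_of_relIndex (pgroup_of_le hS h.2.1) (h.idx hS hZ).1 h1 h2 hx
  exact ⟨i, _, hi, by group⟩

theorem Act.ap (hS : IsPGroup p S) (hZ : (centralizerIn S S).relIndex S ≤ p ^ 2) (h : Act F P) :
    AP p S P := by
  obtain ⟨h1, h2, α, a1, z, z1, z2⟩ := id h
  have hx := afun_mem α (h1 z1)
  refine ⟨hS, h2, fun y hy w hw => ?_, (h.idx hS hZ).2, fun hc => z2 ⟨h2 hx, fun y hy =>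
    congrArg Subtype.val (hc.1.1 ⟨y, hy⟩ ⟨_, h2 hx⟩)⟩⟩
  obtain ⟨i, b, hb, rfl⟩ := h.dec hS hZ hx z2 hy
  obtain ⟨j, c, hc, rfl⟩ := h.dec hS hZ hx z2 hw
  exact Commute.mul_left (cen_comm hb (h2 hw)).symm (Commute.mul_right
    (cen_comm hc (h2 (pow_mem hx i))) (Commute.pow_pow_self _ i j))

theorem cen_subgroupOf (S : Subgroup Ω) : (centralizerIn S S).subgroupOf S = Subgroup.center S := by
  ext s
  exact ⟨fun h => Subgroup.mem_center_iff.2 fun t => Subtype.ext (h.2 t t.2),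
    fun h => ⟨s.2, fun t ht => congrArg Subtype.val (Subgroup.mem_center_iff.1 h ⟨t, ht⟩)⟩⟩

theorem Act.sq (hS : IsPGroup p S) (hZ : (centralizerIn S S).relIndex S ≤ p ^ 2) (h : Act F P) :
    (centralizerIn S S).relIndex S = p ^ 2 := by
  rw [← Subgroup.relIndex_mul_relIndex _ _ _ h.1 h.2.1, (h.idx hS hZ).1, (h.idx hS hZ).2, pow_two]

theorem Act.comm_le (hS : IsPGroup p S) (hZ : (centralizerIn S S).relIndex S ≤ p ^ 2) (h : Act F P) :
    ⁅S, S⁆ ≤ centralizerIn S S := by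
  have h1 := h.sq hS hZ
  rw [Subgroup.relIndex, cen_subgroupOf, Subgroup.index_eq_card] at h1
  have h2 := IsPGroup.isMulCommutative_of_card_eq_prime_sq h1
  refine Subgroup.commutator_le.2 fun a ha b hb => ?_
  have : ⁅(⟨a, ha⟩ : S), ⟨b, hb⟩⁆ ∈ Subgroup.center S := by
    rw [← QuotientGroup.eq_one_iff, ← QuotientGroup.mk'_apply, map_commutatorElement]
    exact commutatorElement_eq_one_iff_mul_comm.2 (h2.1.1 _ _)
  rw [← cen_subgroupOf] at this
  exact this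

theorem Act.card (hS : IsPGroup p S) (hZ : (centralizerIn S S).relIndex S ≤ p ^ 2) (h : Act F P) :
    Nat.card (⁅S, S⁆ : Subgroup Ω) = p := by
  have ha := h.ap hS hZ
  rw [ha.comm_eq, ← ha.relIndex_cen le_rfl ha.le_norm, (h.idx hS hZ).1]

theorem AP.mem_of_comm (h : AP p S A) (hv : v ∈ A) (hvZ : v ∉ centralizerIn S S) (hx : x ∈ S)
    (e : Commute x v) : x ∈ A := by_contra fun hxA => hvZ (h.mem_cen hx hxA hv e)

theorem Act.hd (hS : IsPGroup p S) (hF : F.IsSaturated p)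
    (hZ : (centralizerIn S S).relIndex S ≤ p ^ 2) (h : Act F P) :
    ∃ u v C, HD F p P (centralizerIn S S) u v C := by
  have ha := h.ap hS hZ
  obtain ⟨h1, h2, α, a1, z, z1, z2⟩ := id h
  obtain ⟨y, y1, y2⟩ := ha.exists_x
  exact exists_HD (IsSaturated.fullyAutomized hS hF (fullyNormalized_of_normal h2 ha.le_norm)) ha.ab
    h1 (h.idx hS hZ).1 (fun s hs z hz => cen_conj hz hs.1)
    (fun s hs y hy => h.comm_le hS hZ (Subgroup.commutator_mem_commutator hs.1 (h2 hy)))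
    (ne_bot_of_gt (Inn_lt_autInducedBy hS (lt_of_le_of_ne h2 fun e => y2 (e ▸ y1)) fun w hw =>
      ha.mem_of_comm (afun_mem α (h1 z1)) z2 hw.1 (hw.2 _ (afun_mem α (h1 z1))).symm)) a1 z1 z2

theorem mor_conj_aut {β : MulAut S} (hβ : β ∈ F.autGroup S) {α : MulAut P} (hP : P ≤ S)
    (hα : α ∈ F.autGroup P) : ∃ γ ∈ F.autGroup (img (afun β) P), ∀ x ∈ P,
      afun γ (afun β x) = afun β (afun α x) := by
  obtain ⟨τ, t1, t2, -⟩ := (((mem_autGroup le_rfl).1 hβ).mono hP).exists_transport rfl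
  exact ⟨τ α, (t2 α).2 hα, t1 α⟩

theorem cen_le_img (β : MulAut S) (hβ : β ∈ F.autGroup S) (h : centralizerIn S S ≤ P) :
    centralizerIn S S ≤ img (afun β) P := fun z hz =>
  afun_afun_inv β hz.1 ▸ subset_img (h (afun_mem_cen β⁻¹ hz))

theorem Act.img (h : Act F P) {β : MulAut S} (hβ : β ∈ F.autGroup S) : Act F (img (afun β) P) := by
  obtain ⟨h1, h2, α, a1, z, z1, z2⟩ := h
  obtain ⟨γ, g1, g2⟩ := mor_conj_aut hβ h2 a1
  refine ⟨cen_le_img β hβ h1, img_le_iff.2 fun x hx => afun_mem _ (h2 hx), γ, g1, _,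
    afun_mem_cen β z1, fun e => z2 ?_⟩
  rw [g2 z (h1 z1)] at e
  exact afun_inv_afun β (h2 (afun_mem α (h1 z1))) ▸ afun_mem_cen β⁻¹ e

theorem Act.eq (hS : IsPGroup p S) (hZ : (centralizerIn S S).relIndex S ≤ p ^ 2) (h : Act F P)
    (h' : Act F Q) (h1 : v ∈ P) (h2 : v ∈ Q) (h3 : v ∉ centralizerIn S S) : P = Q := by
  refine le_antisymm (fun x hx => ?_) fun x hx => ?_
  · obtain ⟨i, z, hz, rfl⟩ := h.dec hS hZ h1 h3 hx
    exact mul_mem (h'.1 hz) (pow_mem h2 i)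
  · obtain ⟨i, z, hz, rfl⟩ := h'.dec hS hZ h2 h3 hx
    exact mul_mem (h.1 hz) (pow_mem h1 i)

theorem act_of_ess (hS : IsPGroup p S) (hF : F.IsSaturated p) (hc : ⁅S, S⁆ ≤ centralizerIn S S)
    (hR : F.IsEssential p R) : Act F R := by
  refine ⟨cen_le hR.1, hR.1.1, ?_⟩
  by_contra! h
  obtain ⟨n, n1, n2⟩ := SetLike.exists_of_lt (lt_normalizerIn hS (ess_lt hS hF hR))
  refine n2 (mem_of_two hS hR (fun α hα y _ hy => h α hα y hy) n1 (fun y _ hy => cen_conj hy n1.1)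
    fun y hy => hc ?_)
  have := Subgroup.commutator_mem_commutator (inv_mem (hR.1.1 hy)) n1.1
  rwa [commutatorElement_def, inv_inv, mul_assoc, mul_assoc, ← mul_assoc n] at this

theorem exists_two_act (hS : IsPGroup p S) (hF : F.IsSaturated p)
    (hZ : (centralizerIn S S).relIndex S ≤ p ^ 2) (hcore : F.core = ⊥) (h1 : S ≠ ⊥) :
    ∃ P Q, Act F P ∧ Act F Q ∧ P ≠ Q := by
  obtain ⟨P, hP, hn⟩ := exists_not_inv hS hF hcore h1
  have ha : Act F P := ⟨cen_le hP.1, hP.1.1, by simpa using hn⟩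
  by_contra! h
  have := IsNormal.le_core (normal_of_family hS hF (Q := P) fun R hR => by
    rcases hR with rfl | hR
    · exact ⟨ha.2.1, fun α hα x hx => h _ _ (ha.img hα) ha ▸ subset_img hx⟩
    · obtain rfl := h _ _ ha (act_of_ess hS hF (ha.comm_le hS hZ) hR)
      exact ⟨le_rfl, fun α _ x hx => afun_mem α hx⟩)
  exact centralizerIn_self_ne_bot hS h1 (le_bot_iff.1 (hcore ▸ ha.1.trans this))

theorem eq_one_of_act (hS : IsPGroup p S) (hF : F.IsSaturated p) (hcore : F.core = ⊥) {z : Ω}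
    (hz : z ∈ centralizerIn S S) (h : ∀ P, Act F P → ∀ α ∈ F.autGroup P, afun α z ∈ centralizerIn S S) :
    z = 1 := by
  let W : Subgroup Ω :=
    { carrier := {z | z ∈ centralizerIn S S ∧ ∀ P, centralizerIn S S ≤ P → P ≤ S →
        ∀ α ∈ F.autGroup P, afun α z ∈ centralizerIn S S}
      one_mem' := ⟨one_mem _, fun P _ _ α _ => by rw [afun_map_one]; exact one_mem _⟩
      mul_mem' := fun {a b} ha hb => ⟨mul_mem ha.1 hb.1, fun P h1 h2 α hα => by
        rw [afun_map_mul _ (h1 ha.1) (h1 hb.1)]; exact mul_mem (ha.2 P h1 h2 α hα) (hb.2 P h1 h2 α hα)⟩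
      inv_mem' := fun {a} ha => ⟨inv_mem ha.1, fun P h1 h2 α hα => by
        rw [afun_map_inv _ (h1 ha.1)]; exact inv_mem (ha.2 P h1 h2 α hα)⟩ }
  have hW : W ≤ centralizerIn S S := fun _ h => h.1
  have h1 := IsNormal.le_core (normal_of_family hS hF (Q := W) fun R hR => by
    have q := (alperin_family hS hF hR).2.1
    refine ⟨hW.trans (cen_le q), fun α hα w hw => ⟨hw.2 R (cen_le q) q.1 α hα, fun P p1 p2 γ hγ => ?_⟩⟩
    obtain ⟨β, b1, b2⟩ := exists_ext_cen hS hF (((mem_autGroup q.1).1 hα).mono (hW.trans (cen_le q))) hW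
      fun y hy => hy.2 R (cen_le q) q.1 α hα
    obtain ⟨δ, d1, d2⟩ := mor_conj_aut (inv_mem b1) p2 hγ
    have e := hw.2 _ (cen_le_img β⁻¹ (inv_mem b1) p1) (img_le_iff.2 fun x hx => afun_mem _ (p2 hx)) δ d1
    have m := p1 (afun_mem_cen β hw.1)
    rw [← afun_inv_afun β hw.1.1, d2 _ m] at e
    rw [← b2 w hw, ← afun_afun_inv β (p2 (afun_mem γ m))]
    exact afun_mem_cen β e)
  refine Subgroup.mem_bot.1 (hcore ▸ h1 ⟨hz, fun P p1 p2 α hα => ?_⟩)
  by_contra hn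
  exact hn (h P ⟨p1, p2, α, hα, z, hz, hn⟩ α hα)

theorem cen_pow (hS : IsPGroup p S) (hF : F.IsSaturated p)
    (hZ : (centralizerIn S S).relIndex S ≤ p ^ 2) (hcore : F.core = ⊥) {z : Ω}
    (hz : z ∈ centralizerIn S S) : z ^ p = 1 :=
  eq_one_of_act hS hF hcore (pow_mem hz p) fun P hP α hα => by
    obtain ⟨u, v, C, hd⟩ := hP.hd hS hF hZ
    obtain ⟨i, c, hc, rfl⟩ := hd.dec z hz
    rw [(Commute.symm (cen_comm (hd.CZ hc) (pow_mem hd.uZ.1 i))).mul_pow, ← pow_mul, mul_comm, pow_mul,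
      hd.up, one_pow, mul_one]
    exact hd.CZ (hd.inv α hα _ (pow_mem hc p))

theorem Act.pow (hS : IsPGroup p S) (hF : F.IsSaturated p)
    (hZ : (centralizerIn S S).relIndex S ≤ p ^ 2) (hcore : F.core = ⊥) (h : Act F P) (hx : x ∈ P) :
    x ^ p = 1 := by
  obtain ⟨u, v, C, hd⟩ := h.hd hS hF hZ
  obtain ⟨i, z, hz, rfl⟩ := h.dec hS hZ hd.vP hd.vZ hx
  rw [(Commute.symm (cen_comm hz (pow_mem (h.2.1 hd.vP) i))).mul_pow, cen_pow hS hF hZ hcore hz,
    ← pow_mul, mul_comm i, pow_mul, hd.vp, one_pow, mul_one]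

end

section two
variable {Ω : Type*} [Group Ω] {S P Q R C D : Subgroup Ω} {F : FusionSystem S} {x u v : Ω} [Finite S]

theorem act_cases (hS : IsPGroup 2 S) (hF : F.IsSaturated 2)
    (hZ : (centralizerIn S S).relIndex S ≤ 2 ^ 2) (hcore : F.core = ⊥) (hP : Act F P) (hQ : Act F Q)
    (hne : P ≠ Q) (hR : Act F R) : R = P ∨ R = Q := by
  obtain ⟨_, v, _, hd⟩ := hQ.hd hS hF hZ
  obtain ⟨_, w, _, he⟩ := hR.hd hS hF hZ
  by_cases h1 : w ∈ P
  · exact Or.inl (hR.eq hS hZ hP he.vP h1 he.vZ)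
  have h2 : v ∉ P := fun e => hne (hP.eq hS hZ hQ e hd.vP hd.vZ)
  have h3 : w * v ∈ P := by
    have := (Subgroup.mul_mem_iff_of_index_two (H := P.subgroupOf S) (hP.idx hS hZ).2
      (a := ⟨w, hR.2.1 he.vP⟩) (b := ⟨v, hQ.2.1 hd.vP⟩)).2 (iff_of_false h1 h2)
    exact this
  have h4 := hP.pow hS hF hZ hcore h3
  refine Or.inr (hR.eq hS hZ hQ he.vP ((hQ.ap hS hZ).mem_of_comm hd.vP hd.vZ (hR.2.1 he.vP) ?_) he.vZ)
  have a := he.vp
  have b := hd.vp
  rw [pow_two] at h4 a b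
  show _ = _
  rw [eq_inv_of_mul_eq_one_left h4, mul_inv_rev, inv_eq_of_mul_eq_one_left a,
    inv_eq_of_mul_eq_one_left b]

theorem HD.foc (hS : IsPGroup 2 S) (hZ : (centralizerIn S S).relIndex S ≤ 2 ^ 2) (hP : Act F P)
    (hd : HD F 2 P (centralizerIn S S) u v C) {u' v' : Ω} {C' : Subgroup Ω}
    (hd' : HD F 2 Q (centralizerIn S S) u' v' C') (hC : C ⊓ C' = ⊥) (hu : u ∈ D) (hv : v ∈ D)
    {α : MulAut P} (hα : α ∈ F.autGroup P) (hx : x ∈ P) : x⁻¹ * afun α x ∈ D := by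
  have hm := (mem_autGroup hP.2.1).1 hα
  have hV : Subgroup.closure {u, v} ≤ D := (Subgroup.closure_le _).2 (by
    rintro _ (rfl | rfl) <;> assumption)
  have k : ∀ c ∈ C, c ≠ 1 → c * u' ∈ C' := fun c hc h1 => by
    obtain ⟨i, d, hd1, e⟩ := hd'.dec c (hd.CZ hc)
    rw [pow_eq_pow_mod i hd'.up] at e
    rcases Nat.mod_two_eq_zero_or_one i with h | h
    · rw [h, pow_zero, mul_one] at e
      exact absurd (Subgroup.mem_bot.1 (hC ▸ (⟨hc, e ▸ hd1⟩ : c ∈ C ⊓ C'))) h1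
    · rw [h, pow_one] at e
      rwa [e, mul_assoc, ← pow_two, hd'.up, mul_one]
  have fx : ∀ c ∈ C, afun α c = c := fun c hc => by
    by_cases h1 : c = 1
    · rw [h1, afun_map_one]
    have h2 := hd.inv α hα c hc
    have h3 := mul_mem (k _ h2 fun e => h1 ((hm.eq_one_iff (hP.1 (hd.CZ hc))).1 e)) (inv_mem (k c hc h1))
    rw [mul_inv_rev, mul_assoc, mul_inv_cancel_left] at h3
    exact mul_inv_eq_one.1 (Subgroup.mem_bot.1
      (hC ▸ (⟨C.mul_mem h2 (C.inv_mem hc), h3⟩ : afun α c * c⁻¹ ∈ C ⊓ C')))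
  obtain ⟨j, z, hz, rfl⟩ := hP.dec hS hZ hd.vP hd.vZ hx
  obtain ⟨i, c, hc, rfl⟩ := hd.dec z hz
  rw [hm.map_mul (hP.1 hz) (pow_mem hd.vP j), hm.map_mul (hP.1 (hd.CZ hc)) (hP.1 (pow_mem hd.uZ i)),
    fx c hc, hm.map_pow hd.vP, hm.map_pow (hP.1 hd.uZ)]
  have := mul_mem (inv_mem (mul_mem (pow_mem hu i) (pow_mem hv j)))
    (mul_mem (pow_mem (hV (hd.V α hα).1) i) (pow_mem (hV (hd.V α hα).2) j))
  convert this using 1
  group

theorem act_fix (hS : IsPGroup 2 S) (hF : F.IsSaturated 2)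
    (hZ : (centralizerIn S S).relIndex S ≤ 2 ^ 2) (hcore : F.core = ⊥) (hP : Act F P) (hQ : Act F Q)
    (hne : P ≠ Q) {β : MulAut S} (hβ : β ∈ F.autGroup S) : ∀ x ∈ P, afun β x ∈ P := by
  rcases act_cases hS hF hZ hcore hP hQ hne (hP.img hβ) with h1 | h1
  · exact fun x hx => h1 ▸ subset_img hx
  exfalso
  have hm := (mem_autGroup le_rfl).1 hβ
  obtain ⟨_, v, _, hd⟩ := hP.hd hS hF hZ
  have h2 : img (afun β) Q = P := by
    refine (act_cases hS hF hZ hcore hP hQ hne (hQ.img hβ)).resolve_right fun h2 => hne ?_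
    refine hP.eq hS hZ hQ hd.vP ?_ hd.vZ
    exact (hm.apply_mem_img_iff hQ.2.1 (hP.2.1 hd.vP)).1 (h2.symm ▸ h1 ▸ subset_img hd.vP)
  have k : ∀ n : ℕ, ∀ x ∈ P, afun (β ^ (2 * n + 1)) x ∈ Q := fun n => by
    induction n with
    | zero => exact fun x hx => h1 ▸ subset_img hx
    | succ n ih =>
      intro x hx
      rw [show 2 * (n + 1) + 1 = 2 * n + 1 + 1 + 1 by ring, pow_succ, pow_succ, afun_mul _ _ (hP.2.1 hx),
        afun_mul _ _ (afun_mem _ (hP.2.1 hx))]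
      exact ih _ (h2 ▸ subset_img (h1 ▸ subset_img hx))
  have := finite_autGroup F (le_refl S)
  have h3 := (IsFullyAutomized.sylowIn (IsSaturated.fullyAutomized hS hF
    (fullyNormalized_top F))).not_dvd_relIndex
  rw [← Inn_eq_autInducedBy] at h3
  obtain ⟨n, hn⟩ := Nat.odd_iff.2 (Nat.two_dvd_ne_zero.1 h3)
  have := Inn_subgroupOf_normal (F.autGroup S)
  have h4 : β ^ (Inn S).relIndex (F.autGroup S) ∈ Inn S :=
    ((Inn S).subgroupOf (F.autGroup S)).pow_index_mem ⟨β, hβ⟩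
  obtain ⟨s, s1, s2⟩ := mem_Inn.1 (hn ▸ h4)
  have h5 := k n v hd.vP
  rw [s2 v (hP.2.1 hd.vP)] at h5
  have h6 := (hQ.ap hS hZ).conj (inv_mem s1) h5
  exact hne (hP.eq hS hZ hQ hd.vP (by simpa [mul_assoc] using h6) hd.vZ)

theorem cen_le_two (hS : IsPGroup 2 S) (hF : F.IsSaturated 2)
    (hZ : (centralizerIn S S).relIndex S ≤ 2 ^ 2) (hcore : F.core = ⊥) (hP : Act F P) (hQ : Act F Q)
    (hne : P ≠ Q) (hf : S ≤ F.focalSubgroup) : centralizerIn S S ≤ ⁅S, S⁆ := by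
  obtain ⟨u, v, C, hd⟩ := hP.hd hS hF hZ
  obtain ⟨u', v', C', hd'⟩ := hQ.hd hS hF hZ
  have hC : C ⊓ C' = ⊥ := eq_bot_iff.2 fun c hc => eq_one_of_act hS hF hcore (hd.CZ hc.1)
    fun R hR α hα => by
      rcases act_cases hS hF hZ hcore hP hQ hne hR with rfl | rfl
      · exact hd.CZ (hd.inv α hα c hc.1)
      · exact hd'.CZ (hd'.inv α hα c hc.2)
  have hv := hP.2.1 hd.vP
  have hv' := hQ.2.1 hd'.vP
  let D := ((Subgroup.closure {Abelianization.of (⟨v, hv⟩ : S), Abelianization.of ⟨v', hv'⟩}).comap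
    Abelianization.of).map S.subtype
  have d1 : ⁅S, S⁆ ≤ D := by
    rw [← map_comm]
    exact Subgroup.map_mono fun y hy => by
      rw [Subgroup.mem_comap, show Abelianization.of y = 1 from (QuotientGroup.eq_one_iff y).2 hy]
      exact one_mem _
  have d2 : v ∈ D := ⟨⟨v, hv⟩, Subgroup.subset_closure (Set.mem_insert _ _), rfl⟩
  have d3 : v' ∈ D := ⟨⟨v', hv'⟩, Subgroup.subset_closure (Set.mem_insert_of_mem _ rfl), rfl⟩
  have d4 : D ≤ S := Subgroup.map_subtype_le _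
  have k1 : ∀ α ∈ F.autGroup P, ∀ x ∈ P, x⁻¹ * afun α x ∈ D := fun α hα x hx =>
    hd.foc hS hZ hP hd' hC (d1 (hd.mem_comm hP.2.1)) d2 hα hx
  have k2 : ∀ α ∈ F.autGroup Q, ∀ x ∈ Q, x⁻¹ * afun α x ∈ D := fun α hα x hx =>
    hd'.foc hS hZ hQ hd (inf_comm C C' ▸ hC) (d1 (hd'.mem_comm hQ.2.1)) d3 hα hx
  have h2 : v' ∉ P := fun e => hne (hP.eq hS hZ hQ e hd'.vP hd'.vZ)
  have h1 := hf.trans (foc_le_iff.2 fun R f hf => (alperin_ind hS hF (focData F d1) (fun R hR α hα =>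
    ⟨(mem_autGroup (alperin_family hS hF hR).1.1).1 hα, by
      rcases hR with rfl | hR
      · obtain ⟨γ, g1, g2⟩ := exists_res hP.2.1 le_rfl hα (act_fix hS hF hZ hcore hP hQ hne hα)
        obtain ⟨δ, e1, e2⟩ := exists_res hQ.2.1 le_rfl hα (act_fix hS hF hZ hcore hQ hP hne.symm hα)
        intro s hs
        obtain ⟨i, a, ha, rfl⟩ := (hP.ap hS hZ).dec hv' h2 hs
        have a1 := k1 γ g1 a ha
        have a2 := k2 δ e1 _ (pow_mem hd'.vP i)
        rw [g2 a ha] at a1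
        rw [e2 _ (pow_mem hd'.vP i)] at a2
        rw [afun_map_mul _ (hP.2.1 ha) (pow_mem hv' i)]
        have := mul_mem (mul_mem (mul_mem (inv_mem (pow_mem d3 i)) a1) (pow_mem d3 i)) a2
        convert this using 1
        group
      · rcases act_cases hS hF hZ hcore hP hQ hne (act_of_ess hS hF (hP.comm_le hS hZ) hR) with rfl | rfl
        · exact k1 α hα
        · exact k2 α hα⟩) hf).2)
  intro z hz
  obtain ⟨y, hy, e⟩ := h1 hz.1
  obtain ⟨m, n, hmn⟩ := Subgroup.mem_closure_pair.1 hy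
  have h3 : (v ^ m * v' ^ n)⁻¹ * z ∈ ⁅S, S⁆ := by
    rw [← map_comm]
    refine ⟨((⟨v, hv⟩ : S) ^ m * ⟨v', hv'⟩ ^ n)⁻¹ * y, ?_, by simp [← e]⟩
    rw [← map_zpow, ← map_zpow, ← map_mul] at hmn
    exact QuotientGroup.eq.1 hmn
  have h4 : v ^ m * v' ^ n ∈ centralizerIn S S := by
    simpa using mul_mem hz (inv_mem (hP.comm_le hS hZ h3))
  have t : ∀ w : Ω, w ^ 2 = 1 → ∀ k : ℤ, w ^ k = 1 ∨ w ^ k = w := fun w hw k => by
    rw [zpow_eq_zpow_emod' k hw]
    rcases Int.emod_two_eq_zero_or_one k with h | h <;> simp [h]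
  have h5 : v' ^ n = 1 := (t v' hd'.vp n).resolve_right fun e' => h2 (by
    rw [e'] at h4; exact (P.mul_mem_cancel_left (zpow_mem hd.vP m)).1 (hP.1 h4))
  rw [h5, mul_one] at h3 h4
  have h6 : v ^ m = 1 := (t v hd.vp m).resolve_right fun e' => hd.vZ (e' ▸ h4)
  simpa [h6] using h3

end two

theorem thm_5265 {Ω : Type*} [Group Ω] {S : Subgroup Ω} [Finite S] (p : ℕ) [hp : Fact p.Prime]
    (hS : IsPGroup p ↥S) (F : FusionSystem S) (hF : F.IsSaturated p) (hS1 : S ≠ ⊥)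
    (hcore : F.core = ⊥) (hhyp : F.hyperfocalSubgroup p = S) (hZ : (Subgroup.center ↥S).index ≤ p ^ 2) :
    IsExtraspecial p ↥S ∧ Nat.card S = p ^ 3 ∧ (p ≠ 2 → Monoid.exponent ↥S = p) ∧
      (p = 2 → Nonempty (↥S ≃* DihedralGroup 4)) := by
  rw [← cen_subgroupOf] at hZ
  change (centralizerIn S S).relIndex S ≤ p ^ 2 at hZ
  obtain ⟨P, Q, hP, hQ, hne⟩ := exists_two_act hS hF hZ hcore hS1
  have c1 := hP.comm_le hS hZ
  have c2 := hP.card hS hZ
  have h1 : centralizerIn S S = ⁅S, S⁆ := le_antisymm (by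
    by_cases hp2 : p = 2
    · subst hp2
      exact cen_le_two hS hF hZ hcore hP hQ hne (hhyp.ge.trans hyp_le_foc)
    · exact cen_le_of_HD hp2 hS hF hcore hS1 c1 c2 (fun β _ z hz => afun_mem_comm β hz) fun R hR => by
        obtain ⟨u, v, C, hd⟩ := (act_of_ess hS hF c1 hR).hd hS hF hZ
        exact Or.inr ⟨u, v, C, hd, hd.mem_comm hR.1.1⟩) c1
  have h2 : Nat.card S = p ^ 3 := by
    rw [← Comp.relIndex_mul_card (centralizerIn_le (S := S) (P := S)), hP.sq hS hZ, h1, c2]; ring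
  have h3 : commutator S = Subgroup.center S := by
    rw [← cen_subgroupOf, h1, ← map_comm]
    exact (Subgroup.comap_map_eq_self_of_injective S.subtype_injective _).symm
  obtain ⟨u, v, C, hd⟩ := hP.hd hS hF hZ
  obtain ⟨u', v', C', hd'⟩ := hQ.hd hS hF hZ
  have hv := hP.2.1 hd.vP
  have hv' := hQ.2.1 hd'.vP
  have h4 : v' ∉ P := fun e => hne (hP.eq hS hZ hQ e hd'.vP hd'.vZ)
  refine ⟨⟨⟨hS, le_antisymm (fun y hy => ?_) (h3 ▸ Solv.commutator_le_frattini_of_isPGroup hS), h3⟩,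
    ?_⟩, h2, fun hp2 => ?_, fun hp2 => ?_⟩
  · rw [← cen_subgroupOf]
    by_contra hn
    exact hne (hP.eq hS hZ hQ (frattini_le_coatom (Solv.isCoatom_of_index_prime
      (M := P.subgroupOf S) ((show (P.subgroupOf S).index = p from (hP.idx hS hZ).2).symm ▸ hp.out)) hy) (frattini_le_coatom
      (Solv.isCoatom_of_index_prime (M := Q.subgroupOf S) ((show (Q.subgroupOf S).index = p from (hQ.idx hS hZ).2).symm ▸ hp.out)) hy) hn)
  · rw [← h3, ← c2, ← map_comm, Subgroup.card_map_of_injective S.subtype_injective]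
  · have : Nontrivial S := (Subgroup.nontrivial_iff_ne_bot S).2 hS1
    refine (Monoid.exponent_eq_prime_iff hp.out).2 fun g hg => orderOf_eq_prime (Subtype.ext ?_) hg
    obtain ⟨i, a, ha, e⟩ := (hP.ap hS hZ).dec hv' h4 g.2
    have m := c1 (Subgroup.commutator_mem_commutator (inv_mem (pow_mem hv' i)) (inv_mem (hP.2.1 ha)))
    rw [Subgroup.coe_pow, e, Solv.mul_pow_prime_of_comm hp.out hp2 (cen_comm m (hP.2.1 ha))
      (cen_comm m (pow_mem hv' i)) (by simp only [commutatorElement_def]; group)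
      (hP.pow hS hF hZ hcore (hP.1 m)), hP.pow hS hF hZ hcore ha,
      hQ.pow hS hF hZ hcore (pow_mem hd'.vP i), mul_one]
    rfl
  · subst hp2
    have a := hd.vp
    have b := hd'.vp
    rw [pow_two] at a b
    have nc : ¬ Commute v' v := fun e => h4 ((hP.ap hS hZ).mem_of_comm hd.vP hd.vZ hv' e)
    have e : (v * v') ^ 2 = ⁅v, v'⁆ := by
      rw [commutatorElement_def, inv_eq_of_mul_eq_one_left a, inv_eq_of_mul_eq_one_left b, pow_two]
      group
    refine Classical.nonempty_dihedral_of_card (⟨v, hv⟩ * ⟨v', hv'⟩ : S) ⟨v, hv⟩ ?_ (Subtype.ext a)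
      (Subtype.ext ?_) (fun h => nc ?_) (by rw [h2]; norm_num)
    · refine orderOf_eq_prime_pow (p := 2) (n := 1) (fun h => nc ?_) (Subtype.ext ?_)
      · have : (v * v') ^ 2 = 1 := congrArg Subtype.val h
        exact (commutatorElement_eq_one_iff_commute.1 (e ▸ this)).symm
      · show (v * v') ^ (2 * 2) = 1
        rw [pow_mul, e]
        exact hP.pow hS hF hZ hcore (hP.1 (c1 (Subgroup.commutator_mem_commutator hv hv')))
    · show v * v' * v = v * (v * v')⁻¹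
      rw [mul_inv_rev, inv_eq_of_mul_eq_one_left a, inv_eq_of_mul_eq_one_left b, mul_assoc]
    · obtain ⟨k, hk⟩ := h
      have h5 : Commute (v * v') v := by
        have : (v * v') ^ k = v := congrArg Subtype.val hk
        have c := Commute.self_zpow (v * v') k
        rwa [this] at c
      simpa using (Commute.refl v).inv_left.mul_left h5

end Cfsg.Agent.PU
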