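import Cfsg.Agent.Lib.PU.Ms26
import Cfsg.Agent.Lib.Fusion.EssGen
import Cfsg.Agent.Lib.Solv.MaxCl
import Cfsg.Agent.Lib.BG.Extra

/-! Essential subgroups acted on by transvections with a common centre. -/

set_option autoImplicit false
set_option linter.unusedSectionVars false
set_option linter.unusedVariables false
open Cfsg Cfsg.FusionSystem
open scoped commutatorElement

namespace Cfsg.Agent.PU

open Cfsg.Agent.Fusion

section
variable {Ω : Type*} [Group Ω] {S A P Q R Z : Subgroup Ω} {F : FusionSystem S} {p : ℕ} {x y : Ω}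
variable [hp : Fact p.Prime] [Finite S]

theorem exists_se (hS : IsPGroup p S) (hP : F.IsEssential p P) : ∃ H : Subgroup (MulAut P),
    autInducedBy S P ≤ H ∧ (∀ γ ∈ F.autGroup P, ∀ σ ∈ H, σ ∉ Inn P → (∃ k, σ ^ p ^ k = 1) →
      γ * σ * γ⁻¹ ∈ H → γ ∈ H) ∧ ∃ k ∈ F.autGroup P, k ∉ H := by
  obtain ⟨H, h1, h2, k, k1, k2⟩ := exists_seData hP
  obtain ⟨c, c1, c2⟩ := h2 _ (autInducedBy_le_autGroup F hP.1.1) (autInducedBy_pgroup hS P)
  refine ⟨H.comap (MulAut.conj c).toMonoidHom, c2, fun γ hγ σ hσ hN ⟨j, hj⟩ h => ?_,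
    c⁻¹ * k * c, mul_mem (mul_mem (inv_mem c1) k1) c1, fun h => k2 (by simpa [mul_assoc] using h)⟩
  refine h1 _ (mul_mem (mul_mem c1 hγ) (inv_mem c1)) _ hσ (fun e => hN ?_) ⟨j, ?_⟩ ?_
  · have := (inferInstance : (Inn P).Normal).conj_mem _ e c⁻¹
    simpa [mul_assoc] using this
  · show (c * σ * c⁻¹) ^ _ = 1
    rw [conj_pow, hj]; group
  · have : c * (γ * σ * γ⁻¹) * c⁻¹ ∈ H := h
    show c * γ * c⁻¹ * (c * σ * c⁻¹) * (c * γ * c⁻¹)⁻¹ ∈ H
    convert this using 1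
    group

theorem relIndex_cent_le [Finite Z] (hy : y ∈ Q) (hc : ∀ q ∈ Q, ⁅q, y⁆ ∈ Z)
    (hZ : ∀ q ∈ Q, ∀ z ∈ Z, q * z = z * q) : (Subgroup.centralizer {y}).relIndex Q ≤ Nat.card Z := by
  let φ : Q →* Ω := mkHom Q (fun q => ⁅q, y⁆) fun a ha b hb => by
    calc _ = a * (⁅b, y⁆ * (y * a⁻¹ * y⁻¹)) := by simp only [commutatorElement_def]; group
      _ = _ := by
        rw [← hZ _ (mul_mem (mul_mem hy (inv_mem ha)) (inv_mem hy)) _ (hc b hb)]
        simp only [commutatorElement_def]; group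
  have : φ.ker = (Subgroup.centralizer {y}).subgroupOf Q := by
    ext q
    exact (commutatorElement_eq_one_iff_mul_comm.trans Subgroup.mem_centralizer_singleton_iff.symm)
  rw [Subgroup.relIndex, ← this, Subgroup.index_ker]
  refine Subgroup.card_le_of_le ?_
  rintro _ ⟨q, rfl⟩
  exact hc q q.2

theorem tc_ess (hS : IsPGroup p S) (hP : F.IsEssential p P) (hQ : Q ≤ S) (hPQ : P < Q) (hZP : Z ≤ P)
    (hc : Nat.card Z = p) (h1 : ∀ q ∈ Q, ∀ y ∈ P, ⁅q, y⁆ ∈ Z) (h2 : ∀ q ∈ Q, ∀ z ∈ Z, q * z = z * q) :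
    (∀ x ∈ P, ∀ y ∈ P, x * y = y * x) ∧ P.relIndex Q = p := by
  have hPS := hP.1.1
  have := finite_of_le hPS
  have := finite_of_le (hZP.trans hPS)
  have hN : Q ≤ normalizerIn S P := fun q hq => ⟨hQ hq, mem_normalizer_of_finite fun y hy => by
    have := mul_mem (hZP (h1 q hq y hy)) hy
    rwa [commutatorElement_def, inv_mul_cancel_right] at this⟩
  obtain ⟨a, a1, a2⟩ := SetLike.exists_of_lt hPQ
  have hst : ∀ q ∈ Q, ∀ y ∈ P, y⁻¹ * (q * y * q⁻¹) ∈ Z := fun q hq y hy => by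
    have := inv_mem (h1 q hq _ (inv_mem hy))
    rwa [commutatorElement_inv, commutatorElement_def, inv_inv, mul_assoc, mul_assoc,
      ← mul_assoc q] at this
  obtain ⟨g, hg, z, hz, hgz⟩ : ∃ g ∈ F.autGroup P, ∃ z ∈ Z, afun g z ∉ Z := by
    by_contra! h
    exact a2 (mem_of_two hS hP (fun α hα y _ hy => h α hα y hy) (hN a1)
      (fun y _ hy => by rw [h2 a a1 y hy]; group) (hst a a1))
  have hZz : ∀ w ∈ Z, w ≠ 1 → ∀ y ∈ Z, ∃ k : ℤ, y = w ^ k := fun w hw w1 y hy => by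
    obtain ⟨k, hk⟩ := mem_zpowers_of_prime_card hc (g := ⟨w, hw⟩) (g' := ⟨y, hy⟩)
      fun e => w1 (congrArg Subtype.val e)
    exact ⟨k, (congrArg Subtype.val hk).symm⟩
  have hab : ∀ x ∈ P, ∀ y ∈ P, x * y = y * x := by
    by_contra! h
    obtain ⟨x, hx, y, hy, h⟩ := h
    obtain ⟨k, rfl⟩ := hZz _ (h1 x (hPQ.le hx) y hy)
      (fun e => h (commutatorElement_eq_one_iff_mul_comm.1 e)) z hz
    have hm := (mem_autGroup hPS).1 hg
    rw [hm.map_zpow (hZP (h1 x (hPQ.le hx) y hy)), hm.map_commutator hx hy] at hgz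
    exact hgz (zpow_mem (h1 _ (hPQ.le (afun_mem g hx)) _ (afun_mem g hy)) k)
  refine ⟨hab, relIndex_eq_of_le hS hQ (le_of_not_gt fun hlt => ?_) a1 a2⟩
  have hex : ∀ y ∈ P, ∃ q ∈ Q, q ∉ P ∧ q * y * q⁻¹ = y := fun y hy => by
    by_contra! h
    have e1 := relIndex_cent_le (hPQ.le hy) (fun q hq => h1 q hq y hy) h2
    have := finite_of_le hQ
    have e2 : P.relIndex Q ≤ (Subgroup.centralizer {y} ⊓ Q).relIndex Q :=
      Subgroup.relIndex_le_of_le_left (fun q hq => by_contra fun hn => h q hq.2 hn (by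
        rw [Subgroup.mem_centralizer_singleton_iff.1 hq.1]; group)) Subgroup.FiniteIndex.index_ne_zero
    rw [Subgroup.inf_relIndex_right] at e2
    omega
  obtain ⟨H, s1, s2, k, k1, k2⟩ := exists_se hS hP
  have hC := IsCentric.cent_le hP.1
  have key : ∀ g ∈ F.autGroup P, (∃ z ∈ Z, afun g z ∉ Z) → g ∈ H := fun g hg ⟨z, hz, hgz⟩ => by
    have z1 : z ≠ 1 := fun e => hgz (by rw [e, afun_map_one]; exact one_mem _)
    have hm := (mem_autGroup hPS).1 hg
    obtain ⟨q, q1, q2, q3⟩ := hex _ (afun_mem g (hZP hz))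
    obtain ⟨r, r1, r2, r3⟩ := hex _ (afun_mem g⁻¹ (hZP hz))
    obtain ⟨σ, hσ⟩ := exists_cAut (hN q1).2
    obtain ⟨τ, hτ⟩ := exists_cAut (hN r1).2
    have m1 := mem_autInducedBy.2 ⟨q, hQ q1, hσ⟩
    have m2 := mem_autInducedBy.2 ⟨r, hQ r1, hτ⟩
    have pe : ∀ ρ ∈ autInducedBy S P, ∃ k, ρ ^ p ^ k = 1 := fun ρ h => by
      obtain ⟨k, hk⟩ := autInducedBy_pgroup hS P ⟨ρ, h⟩
      exact ⟨k, congrArg Subtype.val hk⟩
    have t1 := mul_mem (mul_mem hg (autInducedBy_le_autGroup F hPS m2)) (inv_mem hg)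
    refine s2 g hg τ (s1 m2) (fun e => r2 (mem_of_cAut_mem_Inn hC hPS (hQ r1) hτ e)) (pe τ m2)
      (s2 _ t1 σ (s1 m1) (fun e => q2 (mem_of_cAut_mem_Inn hC hPS (hQ q1) hσ e)) (pe σ m1) ?_)
    have tm := (mem_autGroup hPS).1 t1
    have sm := (mem_autGroup hPS).1 (autInducedBy_le_autGroup F hPS m1)
    have e1 : ∀ w ∈ Z, afun (g * τ * g⁻¹) w = w := fun w hw => by
      obtain ⟨k, rfl⟩ := hZz z hz z1 w hw
      rw [tm.map_zpow (hZP hz), afun_mul _ _ (hZP hz), afun_mul _ _ (afun_mem _ (hZP hz)),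
        hτ _ (afun_mem _ (hZP hz)), r3, afun_afun_inv _ (hZP hz)]
    have e2 : ∀ w ∈ Z, afun σ (afun g w) = afun g w := fun w hw => by
      obtain ⟨k, rfl⟩ := hZz z hz z1 w hw
      rw [hm.map_zpow (hZP hz), sm.map_zpow (afun_mem _ (hZP hz)), hσ _ (afun_mem _ (hZP hz)), q3]
    have e3 : g * τ * g⁻¹ * σ = σ * (g * τ * g⁻¹) := aut_ext fun v hv => by
      have b1 := hst q q1 v hv
      have b2 := hst r r1 _ (afun_mem g⁻¹ hv)
      have c1 : afun σ v = v * (v⁻¹ * (q * v * q⁻¹)) := by rw [hσ v hv]; group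
      have c2 : afun (g * τ * g⁻¹) v = v * afun g ((afun g⁻¹ v)⁻¹ * (r * afun g⁻¹ v * r⁻¹)) := by
        conv_rhs => rw [← afun_afun_inv g hv, afun_inv_afun g (afun_mem _ hv)]
        rw [← afun_map_mul _ (afun_mem _ hv) (hZP b2), afun_mul _ _ hv, afun_mul _ _ (afun_mem _ hv),
          hτ _ (afun_mem _ hv), mul_inv_cancel_left]
      rw [afun_mul _ σ hv, afun_mul σ _ hv, c1, c2, afun_map_mul _ hv (hZP b1),
        afun_map_mul _ hv (afun_mem _ (hZP b2)), e1 _ b1, e2 _ b2, c2, c1, mul_assoc, mul_assoc v,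
        hab _ (afun_mem _ (hZP b2)) _ (hZP b1)]
    rw [e3, mul_inv_cancel_right]
    exact s1 m1
  refine k2 (by_contra fun hk => hk ((H.mul_mem_cancel_right (key g hg ⟨z, hz, hgz⟩)).1
    (key _ (mul_mem k1 hg) ⟨z, hz, fun e => hk (key k k1 ?_)⟩)))
  by_contra! h
  rw [afun_mul _ _ (hZP hz)] at e
  obtain ⟨γ, g1, g2⟩ := exists_res hZP hPS k1 h
  have := afun_mem γ⁻¹ e
  have e4 := afun_inv_afun k (hZP this)
  rw [← g2 _ this, afun_afun_inv _ e, afun_inv_afun _ (afun_mem _ (hZP hz))] at e4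
  exact hgz (e4 ▸ this)

theorem thm_5179 (hS : IsPGroup p S) (hQS : Q ≤ S) (hQ : IsExtraspecial p Q) (hQi : Q.relIndex S = p)
    (h6 : p ^ 6 ≤ Nat.card S) (hPQ : P ≤ Q) (hP : F.IsEssential p P) : P = Q := by
  by_contra hne
  have := finite_of_le hQS
  obtain ⟨a, b, c⟩ : IsPGroup p Q ∧ ⁅Q, Q⁆ = centralizerIn Q Q ∧ Nat.card (centralizerIn Q Q) = p :=
    ⟨hQ.1.1, by rw [← map_comm, hQ.1.2.2, ← cen_subgroupOf, Subgroup.map_subgroupOf_eq_of_le centralizerIn_le],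
      by rw [← hQ.2, ← cen_subgroupOf, Nat.card_congr (Subgroup.subgroupOfEquivOfLe centralizerIn_le).toEquiv]⟩
  have hZP : centralizerIn Q Q ≤ P := fun z hz => IsCentric.cent_le hP.1 ⟨hQS hz.1, fun y hy => hz.2 y (hPQ hy)⟩
  obtain ⟨h1, h2⟩ := tc_ess hS hP hQS (lt_of_le_of_ne hPQ hne) hZP c
    (fun q hq y hy => b ▸ Subgroup.commutator_mem_commutator hq (hPQ hy)) fun q hq z hz => hz.2 q hq
  have ha : AP p Q P := ⟨a, hPQ, h1, h2, fun hc => by
    have : ⁅Q, Q⁆ = ⊥ := eq_bot_iff.2 (Subgroup.commutator_le.2 fun x hx y hy =>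
      commutatorElement_eq_one_iff_mul_comm.2 (congrArg Subtype.val (hc.1.1 ⟨x, hx⟩ ⟨y, hy⟩)))
    rw [← b, this, Subgroup.card_bot] at c
    exact hp.out.one_lt.ne c⟩
  rw [← Comp.relIndex_mul_card hQS, ← Comp.relIndex_mul_card hPQ, ← Comp.relIndex_mul_card hZP,
    ha.relIndex_cen le_rfl ha.le_norm, ← ha.comm_eq, b, c, h2, hQi, ← pow_two, ← pow_succ', ← pow_succ',
    Nat.pow_le_pow_iff_right hp.out.one_lt] at h6
  omega

theorem cen_le_odd (hp2 : p ≠ 2) (hS : IsPGroup p S) (hF : F.IsSaturated p) (hS1 : S ≠ ⊥)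
    (hcore : F.core = ⊥) (hZ : (centralizerIn S S).relIndex S ≤ p ^ 2) : centralizerIn S S ≤ ⁅S, S⁆ := by
  obtain ⟨P, Q, hP, hQ, hne⟩ := exists_two_act hS hF hZ hcore hS1
  have c1 := hP.comm_le hS hZ
  exact cen_le_of_HD hp2 hS hF hcore hS1 c1 (hP.card hS hZ) (fun β _ z hz => afun_mem_comm β hz)
    fun R hR => by
      obtain ⟨u, v, C, hd⟩ := (act_of_ess hS hF c1 hR).hd hS hF hZ
      exact Or.inr ⟨u, v, C, hd, hd.mem_comm hR.1.1⟩

theorem thm_5178 (hp2 : p ≠ 2) (hS : IsPGroup p S) (hQS : Q ≤ S) (hQ : IsExtraspecial p Q)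
    (hQi : Q.relIndex S = p) (hF : F.IsSaturated p) (hO : F.core = ⊥) :
    centralizerIn S S = centralizerIn Q Q := by
  have := finite_of_le hQS
  obtain ⟨a, b, c⟩ : IsPGroup p Q ∧ ⁅Q, Q⁆ = centralizerIn Q Q ∧ Nat.card (centralizerIn Q Q) = p :=
    ⟨hQ.1.1, by rw [← map_comm, hQ.1.2.2, ← cen_subgroupOf, Subgroup.map_subgroupOf_eq_of_le centralizerIn_le],
      by rw [← hQ.2, ← cen_subgroupOf, Nat.card_congr (Subgroup.subgroupOfEquivOfLe centralizerIn_le).toEquiv]⟩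
  have hS1 : S ≠ ⊥ := by
    rintro rfl
    rw [Subgroup.relIndex_bot_right] at hQi
    exact hp.out.one_lt.ne hQi
  have := finite_of_le (centralizerIn_le (S := Q) (P := Q))
  have h1 : centralizerIn S S ≤ Q := fun z hz => by_contra fun hzQ => by
    have d : ∀ s ∈ S, ∃ q ∈ Q, ∃ w ∈ centralizerIn S S, s = q * w := fun s hs => by
      obtain ⟨i, hi⟩ := dec_of_relIndex hS hQi hz.1 hzQ hs
      exact ⟨_, hi, _, pow_mem hz i, by group⟩
    have e1 : centralizerIn Q Q ≤ centralizerIn S S := fun y hy => ⟨hQS hy.1, fun s hs => by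
      obtain ⟨q, hq, w, hw, rfl⟩ := d s hs
      exact Commute.mul_left (hy.2 q hq) (cen_comm hw (hQS hy.1)).symm⟩
    have e2 : ⁅S, S⁆ ≤ centralizerIn Q Q := Subgroup.commutator_le.2 fun s hs t ht => by
      obtain ⟨q, hq, w, hw, rfl⟩ := d s hs
      obtain ⟨r, hr, v, hv, rfl⟩ := d t ht
      have := b ▸ Subgroup.commutator_mem_commutator hq hr
      convert this using 1
      calc _ = q * (w * (r * v) * w⁻¹) * q⁻¹ * (r * v)⁻¹ := by simp only [commutatorElement_def]; group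
        _ = q * r * (v * q⁻¹ * v⁻¹) * r⁻¹ := by rw [← cen_comm hw ht]; group
        _ = _ := by rw [← cen_comm hv (inv_mem (hQS hq))]; simp only [commutatorElement_def]; group
    obtain ⟨P, hP, hn⟩ := exists_not_inv hS hF hO hS1
    obtain ⟨h1, h2⟩ := tc_ess hS hP le_rfl (ess_lt hS hF hP) (e1.trans (cen_le hP.1)) c
      (fun q hq y hy => e2 (Subgroup.commutator_mem_commutator hq (hP.1.1 hy)))
      fun q hq z hz => cen_comm (e1 hz) hq
    have ha : AP p S P := ⟨hS, hP.1.1, h1, h2, fun hc => (ess_lt hS hF hP).not_ge fun s hs =>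
      cen_le hP.1 ⟨hs, fun y hy => congrArg Subtype.val (hc.1.1 ⟨y, hy⟩ ⟨s, hs⟩)⟩⟩
    refine hzQ (e2 (cen_le_odd hp2 hS hF hS1 hO ?_ hz)).1
    rw [← Subgroup.relIndex_mul_relIndex _ _ _ ha.cen_le ha.le, h2, ha.relIndex_cen le_rfl ha.le_norm,
      ← ha.comm_eq, pow_two]
    exact Nat.mul_le_mul_right _ (c ▸ Subgroup.card_le_of_le e2)
  have h2 : centralizerIn S S ≤ centralizerIn Q Q := fun z hz => ⟨h1 hz, fun y hy => hz.2 y (hQS hy)⟩
  refine Subgroup.eq_of_le_of_card_ge h2 ?_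
  obtain ⟨z, z1, z2⟩ := SetLike.exists_of_lt (bot_lt_iff_ne_bot.2 (centralizerIn_self_ne_bot hS hS1))
  rw [c, ← Subgroup.relIndex_bot_left]
  exact le_relIndex hS centralizerIn_le z1 z2

theorem thm_5214 {F : FusionSystem S} (hS : IsPGroup 2 S) (hF : F.IsSaturated 2)
    (h1 : ∀ x : S, (x ≠ 1 ∧ x * x = 1) → x ∈ Subgroup.center S) (h2 : ∀ z ∈ Subgroup.center S, z * z = 1)
    (h3 : ∀ x y : S, x⁻¹ * y⁻¹ * x * y ∈ Subgroup.center S) : F.IsNormal S := by
  rw [← cen_subgroupOf] at h1 h2 h3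
  have hw : F.StronglyClosed (centralizerIn S S) := stronglyClosed_iff.2 ⟨centralizerIn_le,
    fun P f hf x hx hz => by
      by_cases e : f x = 1
      · rw [e]; exact one_mem _
      refine h1 ⟨_, hf.mem hx⟩ ⟨fun e' => e (congrArg Subtype.val e'), Subtype.ext ?_⟩
      show f x * f x = 1
      rw [← hf.map_mul hx hx, show x * x = 1 from congrArg Subtype.val (h2 ⟨x, hz.1⟩ hz), hf.map_one]⟩
  refine normal_of_chain hS hF (stronglyClosed_top F) (n := 2)
    (C := fun i => if i = 0 then ⊥ else if i = 1 then centralizerIn S S else S) (by simp) (by simp)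
    (fun i _ => ?_) (fun i _ => ?_) fun i hi x hx y hy => ?_
  · split_ifs
    · exact bot_le
    · exact centralizerIn_le
    · exact le_rfl
  · split_ifs
    · exact StronglyClosed.weaklyClosed (stronglyClosed_bot F)
    · exact StronglyClosed.weaklyClosed hw
    · exact StronglyClosed.weaklyClosed (stronglyClosed_top F)
  · interval_cases i
    · exact commutatorElement_eq_one_iff_mul_comm.2 (cen_comm hx hy).symm
    · have := h3 ⟨x, hx⟩⁻¹ ⟨y, hy⟩⁻¹
      rw [inv_inv, inv_inv] at this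
      exact this

theorem maxClass_of_lcs {n : ℕ} (hn : Nat.card S = p ^ n) (h2 : 2 ≤ n)
    (h : S.lowerCentralSeries (n - 2) ≠ ⊥) : Group.nilpotencyClass S = n - 1 := by
  have := (IsPGroup.of_card hn).isNilpotent
  have h1 := S0063.result p n hn h2
  have h3 : (⊤ : Subgroup S).lowerCentralSeries (n - 2) ≠ ⊥ := fun e => h (by
    have := Subgroup.map_lowerCentralSeries (⊤ : Subgroup S) S.subtype (n - 2)
    rw [e, Subgroup.map_bot, ← MonoidHom.range_eq_map, Subgroup.range_subtype] at this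
    exact this.symm)
  rw [Ne, Subgroup.lowerCentralSeries_eq_bot_iff_nilpotencyClass_le] at h3
  omega

theorem mc_cen {n : ℕ} (hn : Nat.card S = p ^ n) (h3 : 3 ≤ n)
    (h : S.lowerCentralSeries (n - 2) ≠ ⊥) : Nat.card (centralizerIn S S) = p := by
  rw [← Solv.card_center_of_maxClass hn (maxClass_of_lcs hn (by omega) h) h3, ← cen_subgroupOf,
    Nat.card_congr (Subgroup.subgroupOfEquivOfLe centralizerIn_le).toEquiv]

theorem mc_zc {n : ℕ} (hn : Nat.card S = p ^ n) (h4 : 4 ≤ n)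
    (h : S.lowerCentralSeries (n - 2) ≠ ⊥) (hy : y ∈ zc S 2) (hyZ : y ∉ centralizerIn S S)
    (hx : x ∈ zc S 2) : ∃ k : ℤ, x * (y ^ k)⁻¹ ∈ centralizerIn S S := by
  have := (IsPGroup.of_card hn).isNilpotent
  have h1 := maxClass_of_lcs hn (by omega) h
  obtain ⟨m, rfl⟩ : ∃ m, n = m + 1 := ⟨n - 1, by omega⟩
  have h2 := Solv.card_center_of_maxClass (Solv.card_quotient_center hn
    (Solv.card_center_of_maxClass hn h1 (by omega)))
    (by rw [Group.nilpotencyClass_quotient_center, h1]; rfl) (by omega)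
  have m : ∀ w : S, (w : Ω) ∈ zc S 2 → (w : S ⧸ Subgroup.center S) ∈ Subgroup.center _ := fun w hw =>
    Subgroup.mem_center_iff.2 fun t => by
      obtain ⟨t, rfl⟩ := QuotientGroup.mk_surjective t
      rw [← QuotientGroup.mk_mul, ← QuotientGroup.mk_mul, QuotientGroup.eq, ← cen_subgroupOf]
      have := (mem_zc_two.1 (inv_mem hw)).2 _ (inv_mem t.2)
      rw [commutatorElement_def, inv_inv, inv_inv, ← mul_inv_rev, mul_assoc] at this
      exact this
  obtain ⟨k, hk⟩ := mem_zpowers_of_prime_card h2 (g := ⟨_, m ⟨y, zc_le S 2 hy⟩ hy⟩)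
    (g' := ⟨_, m ⟨x, zc_le S 2 hx⟩ hx⟩) fun e => hyZ (by
      have := (QuotientGroup.eq_one_iff _).1 (congrArg Subtype.val e)
      rw [← cen_subgroupOf] at this
      exact this)
  refine ⟨k, ?_⟩
  have e : (((⟨x, zc_le S 2 hx⟩ * (⟨y, zc_le S 2 hy⟩ ^ k)⁻¹ : S)) : S ⧸ Subgroup.center S) = 1 := by
    rw [QuotientGroup.mk_mul, QuotientGroup.mk_inv, QuotientGroup.mk_zpow, mul_inv_eq_one]
    exact (congrArg Subtype.val hk).symm
  rw [QuotientGroup.eq_one_iff, ← cen_subgroupOf] at e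
  exact e

theorem thm_5270 (hS : IsPGroup p S) {n : ℕ} (hn : Nat.card S = p ^ n) (h4 : 4 ≤ n)
    (h : S.lowerCentralSeries (n - 2) ≠ ⊥) (hF : F.IsSaturated p) {f : Ω → Ω} (hf : Mor F (zc S 2) f)
    (e : img f (zc S 2) = zc S 2) {z : Ω} (hz : z ∈ centralizerIn S S) (hfz : f z ∉ centralizerIn S S) :
    F.IsEssential p (centralizerIn S (zc S 2)) := by
  have hy : f z ∈ zc S 2 := e ▸ subset_img (cen_le_zc hz)
  have hYS := zc_le S 2
  have nY : S ≤ Subgroup.normalizer (zc S 2 : Set Ω) := le_normalizer_of_conj_mem fun s hs x hx => by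
    have := mul_mem (cen_le_zc (inv_mem ((mem_zc_two.1 hx).2 s hs))) hx
    convert this using 1
    simp only [commutatorElement_def]; group
  have eC : centralizerIn S (zc S 2) = Subgroup.centralizer {f z} ⊓ S := le_antisymm
    (fun c hc => ⟨Subgroup.mem_centralizer_singleton_iff.2 (hc.2 _ hy).symm, hc.1⟩)
    fun c hc => ⟨hc.2, fun w hw => by
      obtain ⟨k, hk⟩ := mc_zc hn h4 h hy hfz hw
      have := (Commute.mul_right (cen_comm hk hc.2)
        (Commute.zpow_right (Subgroup.mem_centralizer_singleton_iff.1 hc.1) k))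
      rw [inv_mul_cancel_right] at this
      exact this.symm⟩
  have hlt : centralizerIn S (zc S 2) < S := lt_of_le_of_ne centralizerIn_le fun e' =>
    hfz ⟨hYS hy, fun s hs => ((e'.symm ▸ hs : s ∈ centralizerIn S (zc S 2)).2 _ hy).symm⟩
  obtain ⟨s, s1, s2⟩ := SetLike.exists_of_lt hlt
  have := finite_of_le (centralizerIn_le (S := S) (P := S))
  have hi : (centralizerIn S (zc S 2)).relIndex S = p := relIndex_eq_of_le hS le_rfl (by
    rw [eC, Subgroup.inf_relIndex_right, ← mc_cen hn (by omega) h]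
    exact relIndex_cent_le (hYS hy) (fun q hq => by
      rw [← commutatorElement_inv]; exact inv_mem ((mem_zc_two.1 hy).2 q hq))
      fun q hq w hw => cen_comm hw hq) s1 s2
  have hYC : zc S 2 ≤ centralizerIn S (zc S 2) := fun w hw => eC ▸ ⟨by
    obtain ⟨k, hk⟩ := mc_zc hn h4 h hy hfz hw
    have := (Commute.mul_right (cen_comm hk (hYS hy)) (Commute.self_zpow _ k))
    rw [inv_mul_cancel_right] at this
    exact Subgroup.mem_centralizer_singleton_iff.2 this.symm, hYS hw⟩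
  have hfn := fullyNormalized_of_normal (F := F) hYS nY
  obtain ⟨g, hg, eg⟩ := IsReceptive.ext (IsSaturated.receptive' hS hF hfn) hf e
  have hg' := hg.mono centralizerIn_le_Next
  have := finite_of_le hlt.le
  obtain ⟨α, a1, a2⟩ := hg'.exists_aut (hg'.img_eq_self fun c hc => by
    have := hg'.mem_centralizer_img hYC hc (mem_centralizerIn.1 hc).2
    rwa [img_congr eg, e] at this)
  refine ((essential_dichotomy hS hF hlt (fullyNormalized_of_normal hlt.le (le_normalizer_of_conj_mem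
    fun s hs c hc => conj_of_relIndex hS hlt.le hi hs hc))).resolve_left fun ⟨_, h2⟩ => hfz ?_).1
  have hZC := cen_le_zc.trans hYC
  have k : ∀ β ∈ extGen F (centralizerIn S (zc S 2)), ∀ w ∈ centralizerIn S S,
      afun β w ∈ centralizerIn S S := fun β hβ => by
    induction hβ using Subgroup.closure_induction'' with
    | one => exact fun w hw => by rwa [afun_one]
    | mem β hβ | inv_mem β hβ =>
      obtain ⟨Q, g, q1, q2, q3⟩ := hβ
      obtain ⟨t, t1, t2⟩ := SetLike.exists_of_lt q1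
      obtain rfl : S = Q := le_antisymm (fun s hs => by
        obtain ⟨i, hi'⟩ := dec_of_relIndex hS hi (q2.le t1) t2 hs
        exact (Q.mul_mem_cancel_right (inv_mem (pow_mem t1 i))).1 (q1.le hi')) q2.le
      obtain ⟨γ, -, g2⟩ := q2.exists_aut (q2.img_eq_self fun x hx => q2.mem hx)
      intro w hw
      first
        | rw [← q3 w (hZC hw), ← g2 w hw.1]; exact afun_mem_cen γ hw
        | (have := afun_mem_cen γ⁻¹ hw
           have e4 := afun_inv_afun β (hZC this)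
           rw [← q3 _ (hZC this), ← g2 _ this.1, afun_afun_inv _ hw.1] at e4
           exact e4 ▸ this)
    | mul β γ _ _ h1 h2 => exact fun w hw => by rw [afun_mul _ _ (hZC hw)]; exact h1 _ (h2 w hw)
  rw [← eg z (cen_le_zc hz), ← a2 z (hZC hz)]
  exact k α (h2 ▸ a1) z hz

end

end Cfsg.Agent.PU
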