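import Cfsg.Agent.Lib.BG.Petr

/-! Polynomial sequences with respect to a filtration; a power formula. -/

set_option autoImplicit false
set_option linter.unusedSectionVars false
set_option linter.unusedVariables false
open scoped commutatorElement

namespace Cfsg.Agent.PU

variable {G : Type*} [Group G] {γ : ℕ → Subgroup G} {f g h : ℕ → G} {d k l : ℕ}

/-- the discrete derivative -/
def dd (f : ℕ → G) : ℕ → G := fun n => (f n)⁻¹ * f (n + 1)

/-- polynomial sequences, up to depth `d` -/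
def QD (γ : ℕ → Subgroup G) : ℕ → ℕ → (ℕ → G) → Prop
  | 0, k, f => ∀ n, f n ∈ γ k
  | d + 1, k, f => (∀ n, f n ∈ γ k) ∧ QD γ d (k + 1) (dd f)

/-- filtrations -/
structure Filt (γ : ℕ → Subgroup G) : Prop where
  anti : Antitone γ
  comm : ∀ i j, ∀ x ∈ γ i, ∀ y ∈ γ j, x⁻¹ * y⁻¹ * x * y ∈ γ (i + j)

theorem QD.val (h : QD γ d k f) (n : ℕ) : f n ∈ γ k := by
  cases d
  · exact h n
  · exact h.1 n

theorem QD.down : ∀ {d k : ℕ} {f : ℕ → G}, QD γ (d + 1) k f → QD γ d k f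
  | 0, _, _, h => h.1
  | _ + 1, _, _, h => ⟨h.1, QD.down h.2⟩

theorem QD.le (hγ : Filt γ) : ∀ {d k l : ℕ} {f : ℕ → G}, k ≤ l → QD γ d l f → QD γ d k f
  | 0, _, _, _, e, h => fun n => hγ.anti e (h n)
  | _ + 1, _, _, _, e, h => ⟨fun n => hγ.anti e (h.1 n), QD.le hγ (Nat.succ_le_succ e) h.2⟩

theorem QD.shift : ∀ {d k : ℕ} {f : ℕ → G}, QD γ d k f → QD γ d k fun n => f (n + 1)
  | 0, _, _, h => fun n => h (n + 1)
  | _ + 1, _, _, h => ⟨fun n => h.1 (n + 1), QD.shift h.2⟩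

theorem dd_one : dd (1 : ℕ → G) = 1 := funext fun n => by simp [dd]

theorem QD.one : ∀ {d k : ℕ}, QD γ d k 1
  | 0, _ => fun _ => one_mem _
  | _ + 1, _ => ⟨fun _ => one_mem _, (dd_one (G := G)).symm ▸ QD.one⟩

theorem QD.iter : ∀ {d i k : ℕ} {f : ℕ → G}, i ≤ d → QD γ d k f → ∀ n, dd^[i] f n ∈ γ (k + i)
  | _, 0, _, _, _, h => h.val
  | d + 1, i + 1, k, f, e, h => fun n => by
    have := QD.iter (Nat.le_of_succ_le_succ e) h.2 n
    rwa [add_assoc, add_comm 1] at this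

theorem dd_mul (f g : ℕ → G) : dd (f * g) = dd f * ((dd f)⁻¹ * g⁻¹ * dd f * g) * dd g :=
  funext fun n => by simp only [dd, Pi.mul_apply, Pi.inv_apply]; group

theorem QD.main (hγ : Filt γ) (d : ℕ) : (∀ k f g, QD γ d k f → QD γ d k g → QD γ d k (f * g)) ∧
    (∀ k f, QD γ d k f → QD γ d k f⁻¹) ∧
    ∀ k l f g, QD γ d k f → QD γ d l g → QD γ d (k + l) (f⁻¹ * g⁻¹ * f * g) := by
  induction d with
  | zero => exact ⟨fun k f g h1 h2 n => mul_mem (h1 n) (h2 n), fun k f h n => inv_mem (h n),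
      fun k l f g h1 h2 n => hγ.comm k l _ (h1 n) _ (h2 n)⟩
  | succ d ih =>
    obtain ⟨m, i, c⟩ := ih
    have cj : ∀ k l f g, QD γ d k f → QD γ d l g → QD γ d k (g⁻¹ * f * g) := fun k l f g h1 h2 => by
      have := m _ _ _ h1 ((c _ _ _ _ h1 h2).le hγ (Nat.le_add_right k l))
      convert this using 1
      group
    refine ⟨fun k f g h1 h2 => ⟨fun n => mul_mem (h1.1 n) (h2.1 n), ?_⟩,
      fun k f h => ⟨fun n => inv_mem (h.1 n), ?_⟩,
      fun k l f g h1 h2 => ⟨fun n => hγ.comm k l _ (h1.1 n) _ (h2.1 n), ?_⟩⟩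
    · rw [dd_mul]
      exact m _ _ _ (m _ _ _ h1.2 ((c _ _ _ _ h1.2 h2.down).le hγ (Nat.le_add_right _ _))) h2.2
    · convert cj _ _ _ _ (i _ _ h.2) (i _ _ h.down) using 1
      funext n
      simp only [dd, Pi.mul_apply, Pi.inv_apply]; group
    · have κ := c _ _ _ _ h1.down h2.down
      have u := (c _ _ _ _ h1.down h2.2).le hγ (le_of_eq (add_assoc k l 1))
      have v := (c _ _ _ _ h1.2 h2.down.shift).le hγ (le_of_eq (add_right_comm k l 1))
      have w1 := (c _ _ _ _ κ h1.2).le hγ (show k + l + 1 ≤ _ by omega)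
      have w2 := (c _ _ _ _ κ h2.2).le hγ (show k + l + 1 ≤ _ by omega)
      convert m _ _ _ (m _ _ _ (m _ _ _ (cj _ _ _ _ (cj _ _ _ _ u h1.2) κ) w1) (cj _ _ _ _ w2 h1.2)) v
        using 1
      funext n
      simp only [dd, Pi.mul_apply, Pi.inv_apply]; group

theorem QD.mul (hγ : Filt γ) (h1 : QD γ d k f) (h2 : QD γ d k g) : QD γ d k (f * g) :=
  (QD.main hγ d).1 _ _ _ h1 h2

theorem QD.inv (hγ : Filt γ) (h1 : QD γ d k f) : QD γ d k f⁻¹ := (QD.main hγ d).2.1 _ _ h1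

theorem QD.hom (hγ : Filt γ) {H : Type*} [Group H] (φ : G →* H) : ∀ {i k : ℕ} {f g : ℕ → G},
    1 ≤ k → γ (k + i + 1) ≤ φ.ker → QD γ i k f → QD γ i k g →
    φ (dd^[i] (f * g) 0) = φ (dd^[i] f 0) * φ (dd^[i] g 0)
  | 0, _, _, _, _, _, _, _ => map_mul _ _ _
  | i + 1, k, f, g, e, hk, h1, h2 => by
    have κ := (QD.main hγ i).2.2 _ _ _ _ h1.2 h2.down
    have κ' := κ.le hγ (Nat.le_add_right (k + 1) k)
    have hk' : γ (k + 1 + i + 1) ≤ φ.ker := by rwa [add_right_comm k 1, add_assoc k i]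
    rw [Function.iterate_succ_apply, dd_mul, QD.hom hγ φ (by omega) hk' (h1.2.mul hγ κ') h2.2,
      QD.hom hγ φ (by omega) hk' h1.2 κ', show φ _ = 1 from hk' (hγ.anti (by omega) (κ.iter le_rfl 0)),
      mul_one]
    rfl

theorem dd_vanish : ∀ {j : ℕ} {h : ℕ → G}, (∀ n < j, h n = 1) → dd^[j] h 0 = h j
  | 0, _, _ => rfl
  | j + 1, h, e => by
    rw [Function.iterate_succ_apply, dd_vanish fun n hn => by
      rw [dd, e n (by omega), e (n + 1) (by omega), inv_one, mul_one], dd, e j (by omega), inv_one,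
      one_mul]

/-- binomial sequences -/
def BB (j : ℕ) (c : G) : ℕ → G := fun n => c ^ n.choose j

theorem dd_BB_zero (c : G) : dd (BB 0 c) = 1 := funext fun n => by simp [dd, BB]

theorem dd_BB (j : ℕ) (c : G) : dd (BB (j + 1) c) = BB j c := funext fun n => by
  simp only [dd, BB, Nat.choose_succ_succ', pow_add]; group

theorem QD.BB (hγ : Filt γ) {c : G} : ∀ {d j k : ℕ}, c ∈ γ (k + j) → QD γ d k (BB j c)
  | 0, _, _, h => fun _ => hγ.anti (Nat.le_add_right _ _) (pow_mem h _)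
  | _ + 1, 0, _, h => ⟨fun _ => pow_mem h _, (dd_BB_zero c).symm ▸ QD.one⟩
  | _ + 1, j + 1, k, h => ⟨fun _ => hγ.anti (Nat.le_add_right _ _) (pow_mem h _),
      (dd_BB j c).symm ▸ QD.BB hγ (by rwa [add_right_comm, add_assoc])⟩

theorem iter_BB (c : G) : ∀ {j i : ℕ}, j < i → dd^[i] (BB j c) = 1
  | 0, i + 1, _ => by rw [Function.iterate_succ_apply, dd_BB_zero, Function.iterate_fixed dd_one]
  | j + 1, i + 1, h => by rw [Function.iterate_succ_apply, dd_BB, iter_BB c (by omega)]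

theorem peel_step (hγ : Filt γ) {H : Type*} [Group H] (φ : G →* H) {p j : ℕ} (e : 1 ≤ k)
    (hk : γ (k + p + 1) ≤ φ.ker) (hj : j < p) (h1 : QD γ p k h) (h2 : ∀ n < j, h n = 1) :
    ∃ h', QD γ p k h' ∧ (∀ n < j + 1, h' n = 1) ∧ h p = h j ^ p.choose j * h' p ∧
      φ (dd^[p] h 0) = φ (dd^[p] h' 0) := by
  have hc : h j ∈ γ (k + j) := dd_vanish h2 ▸ h1.iter hj.le 0
  have hB : QD γ p k (BB j (h j)) := QD.BB hγ hc
  refine ⟨(BB j (h j))⁻¹ * h, (hB.inv hγ).mul hγ h1, fun n hn => ?_, by simp [BB], ?_⟩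
  · rcases (Nat.lt_succ_iff.1 hn).lt_or_eq with hn | rfl
    · simp [BB, h2 n hn, Nat.choose_eq_zero_of_lt hn]
    · simp [BB]
  · have := QD.hom hγ φ e hk hB ((hB.inv hγ).mul hγ h1)
    rwa [mul_inv_cancel_left, iter_BB _ hj, Pi.one_apply, map_one, one_mul] at this

theorem peel (hγ : Filt γ) {H : Type*} [Group H] (φ : G →* H) {p : ℕ} (hp : p.Prime) (e : 1 ≤ k)
    (hk : γ (k + p + 1) ≤ φ.ker) (hpw : ∀ c ∈ γ (k + 2), φ c ^ p = 1) (m : ℕ) :
    ∀ j h, j + m = p → 2 ≤ j → QD γ p k h → (∀ n < j, h n = 1) → φ (h p) = φ (dd^[p] h 0) := by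
  induction m with
  | zero => rintro j h rfl _ _ h2; exact congrArg φ (dd_vanish h2).symm
  | succ m ih =>
    intro j h e1 e2 h1 h2
    obtain ⟨h', a1, a2, a3, a4⟩ := peel_step hγ φ e hk (by omega) h1 h2
    obtain ⟨t, ht⟩ := hp.dvd_choose_self (k := j) (by omega) (by omega)
    have hc : h j ∈ γ (k + j) := dd_vanish h2 ▸ h1.iter (by omega) 0
    rw [a3, a4, map_mul, map_pow, ht, pow_mul, hpw _ (hγ.anti (by omega) hc), one_pow, one_mul]
    exact ih (j + 1) h' (by omega) (by omega) a1 a2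

/-- the commutator map `r ↦ r⁻¹ * r ^ s` -/
def dl (s r : G) : G := r⁻¹ * (s * r * s⁻¹)

theorem dl_mem (hγ : Filt γ) {s r : G} (hs : s ∈ γ 1) (hr : r ∈ γ k) : dl s r ∈ γ (k + 1) := by
  have := hγ.comm _ _ _ hr _ (inv_mem hs)
  rwa [inv_inv, mul_assoc, mul_assoc, ← mul_assoc s] at this

theorem dd_orb (s r : G) : dd (fun n => s ^ n * r * (s ^ n)⁻¹) = fun n => s ^ n * dl s r * (s ^ n)⁻¹ :=
  funext fun n => by simp only [dd, dl, pow_succ]; group

theorem QD.orb (hγ : Filt γ) {s : G} (hs : s ∈ γ 1) : ∀ {d k : ℕ} {r : G}, r ∈ γ k →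
    QD γ d k fun n => s ^ n * r * (s ^ n)⁻¹ := by
  have k0 : ∀ {k : ℕ} {r : G}, r ∈ γ k → ∀ n, s ^ n * r * (s ^ n)⁻¹ ∈ γ k := fun {k r} hr n => by
    have := mul_mem hr (hγ.anti (Nat.le_add_right _ _) (hγ.comm _ _ _ hr _ (inv_mem (pow_mem hs n))))
    convert this using 1
    group
  intro d
  induction d with
  | zero => exact fun hr => k0 hr
  | succ d ih => exact fun hr => ⟨k0 hr, (dd_orb s _).symm ▸ ih (dl_mem hγ hs hr)⟩

theorem iter_orb (s : G) : ∀ (i : ℕ) (r : G),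
    dd^[i] (fun n => s ^ n * r * (s ^ n)⁻¹) 0 = (dl s)^[i] r
  | 0, r => by simp
  | i + 1, r => by rw [Function.iterate_succ_apply, dd_orb, iter_orb s i]; rfl

/-- The power formula. -/
theorem pow_formula (hγ : Filt γ) {H : Type*} [Group H] (φ : G →* H) {p : ℕ} (hp : p.Prime)
    (e : 1 ≤ k) (hk : γ (k + p + 1) ≤ φ.ker) (hpw : ∀ c ∈ γ (k + 2), φ c ^ p = 1) {s r : G}
    (hs : s ∈ γ 1) (hr : r ∈ γ (k + 1)) :
    φ ((r * s) ^ p * (s ^ p)⁻¹) = φ (r ^ p * (dl s)^[p - 1] r) := by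
  have e1 : dd (fun n => (r * s) ^ n * (s ^ n)⁻¹) = fun n => s ^ n * r * (s ^ n)⁻¹ :=
    funext fun n => by simp only [dd, pow_succ]; group
  have e2 : ∀ n, (r * s) ^ n * (s ^ n)⁻¹ ∈ γ (k + 1) := fun n => by
    induction n with
    | zero => simp
    | succ n ih =>
      have := mul_mem ih ((QD.orb (d := 0) hγ hs hr) n)
      convert this using 1
      simp only [pow_succ]; group
  obtain ⟨q, rfl⟩ : ∃ q, p = q + 1 := ⟨p - 1, by have := hp.pos; omega⟩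
  have h1 : QD γ (q + 1) k fun n => (r * s) ^ n * (s ^ n)⁻¹ :=
    ⟨fun n => hγ.anti (Nat.le_succ k) (e2 n), e1.symm ▸ QD.orb hγ hs hr⟩
  obtain ⟨h', a1, a2, a3, a4⟩ := peel_step hγ φ e hk hp.one_lt h1 fun n hn => by
    simp [Nat.lt_one_iff.1 hn]
  have := peel hγ φ hp e hk hpw (q - 1) 2 h' (by have := hp.two_le; omega) le_rfl a1 a2
  rw [Function.iterate_succ_apply, e1, iter_orb] at a4
  rw [a3, map_mul, map_mul, this, ← a4]
  simp

end Cfsg.Agent.PU
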