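import Cfsg.Agent.Lib.PU.Ms28
import Cfsg.Agent.Lib.PU.Ms27
import Cfsg.Agent.S0014

/-! `p`-groups with an element whose centralizer has order `p ^ 2`. -/

set_option autoImplicit false
set_option linter.unusedSectionVars false
set_option linter.unusedVariables false
open Cfsg Subgroup
open scoped commutatorElement

namespace Cfsg.Agent.PU

open Petr

section
variable {X : Type*} [Group X] [Finite X] {p : ℕ} [hp : Fact p.Prime] {s a : X} {N M : Subgroup X}
  {k : ℕ}

local notation "γ" => gam (⊤ : Subgroup X)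

instance gam_normal (k : ℕ) : (γ k).Normal := by unfold gam; infer_instance

theorem filt_gam : Filt γ := ⟨fun _ _ h => gam_anti _ h, fun i j x hx y hy => by
  rcases Nat.eq_zero_or_pos i with rfl | hi
  · rw [zero_add]
    exact mul_mem (by simpa using (gam_normal j).conj_mem _ (inv_mem hy) x⁻¹) hy
  rcases Nat.eq_zero_or_pos j with rfl | hj
  · have := mul_mem (inv_mem hx) ((gam_normal i).conj_mem _ hx y⁻¹)
    simpa [mul_assoc] using this
  · simpa [commutatorElement_def] using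
      gam_comm ⊤ hi hj (commutator_mem_commutator (inv_mem hx) (inv_mem hy))⟩

theorem gam_succ (h : 1 ≤ k) : γ (k + 1) = ⁅γ k, ⊤⁆ := by
  obtain ⟨k, rfl⟩ : ∃ j, k = j + 1 := ⟨k - 1, by omega⟩
  rfl

theorem comm_surj (h : ∀ g ∈ N, ⁅g, s⁆ ∈ M) : (centralizer {s}).relIndex N ≤ Nat.card M ∧
    (Nat.card M ≤ (centralizer {s}).relIndex N → ∀ y ∈ M, ∃ g ∈ N, ⁅g, s⁆ = y) := by
  have k : ∀ a b : N, a⁻¹ * b ∈ (centralizer {s}).subgroupOf N ↔ ⁅(a : X), s⁆ = ⁅(b : X), s⁆ :=
    fun a b => by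
      rw [mem_subgroupOf, mem_centralizer_singleton_iff, commutatorElement_def, commutatorElement_def,
        mul_left_inj, coe_mul, coe_inv]
      generalize (a : X) = a
      generalize (b : X) = b
      constructor
      · intro e
        calc _ = a * (s * (a⁻¹ * b)) * b⁻¹ := by group
          _ = _ := by rw [← e]; group
      · intro e
        calc _ = a⁻¹ * (b * s * b⁻¹) * b := by group
          _ = _ := by rw [← e]; group
  let φ : N ⧸ (centralizer {s}).subgroupOf N → M := Quotient.lift (fun g : N => ⟨⁅(g : X), s⁆, h g g.2⟩)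
    fun a b e => Subtype.ext ((k a b).1 (QuotientGroup.leftRel_apply.1 e))
  have hi : Function.Injective φ := fun a b e => by
    obtain ⟨a, rfl⟩ := QuotientGroup.mk_surjective a
    obtain ⟨b, rfl⟩ := QuotientGroup.mk_surjective b
    exact QuotientGroup.eq.2 ((k a b).2 (congrArg Subtype.val e))
  refine ⟨Nat.card_le_card_of_injective φ hi, fun e y hy => ?_⟩
  obtain ⟨g, hg⟩ := (hi.bijective_of_nat_card_le e).2 ⟨y, hy⟩
  obtain ⟨g, rfl⟩ := QuotientGroup.mk_surjective g
  exact ⟨g, g.2, congrArg Subtype.val hg⟩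

/-- `s` has a centralizer of order at most `p ^ 2` in a nonabelian `p`-group. -/
structure UE (p : ℕ) (s : X) : Prop where
  pg : IsPGroup p X
  na : γ 2 ≠ ⊥
  card : Nat.card (centralizer {s}) ≤ p ^ 2

namespace UE
variable (h : UE p s)
include h

theorem lt (hk : 1 ≤ k) (h1 : γ k ≠ ⊥) : γ (k + 1) < γ k := gam_succ (X := X) hk ▸
  BG.commutator_lt_of_isPGroup (h.pg.to_subgroup _) (h.pg.to_subgroup _) le_normalizer_of_normal h1

theorem comm (hk : 1 ≤ k) : ∀ g ∈ γ k, ⁅g, s⁆ ∈ γ (k + 1) := fun g hg =>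
  gam_succ (X := X) hk ▸ commutator_mem_commutator hg (mem_top s)

theorem idx_ge : p ^ 2 ≤ (γ 2).index := Nat.le_of_dvd (Nat.pos_of_ne_zero FiniteIndex.index_ne_zero)
  (Solv.sq_dvd_index_commutator h.pg fun hc => h.na (eq_bot_iff.2 (commutator_le.2 fun a _ b _ =>
    commutatorElement_eq_one_iff_mul_comm.2 (hc.commGroup.mul_comm a b))))

theorem idx_le : (γ 2).index ≤ p ^ 2 := by
  have h1 := Nat.mul_le_mul (comm_surj (h.comm le_rfl)).1 h.card
  rw [show (centralizer {s}).relIndex (γ 1) = _ from relIndex_top_right _, index_mul_card,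
    ← (γ 2).card_mul_index] at h1
  exact Nat.le_of_mul_le_mul_left h1 Nat.card_pos

theorem surj1 : ∀ y ∈ γ 2, ∃ g : X, ⁅g, s⁆ = y := fun y hy => by
  obtain ⟨g, -, e⟩ := (comm_surj (h.comm le_rfl)).2 (by
    have h1 := Nat.mul_le_mul_left (Nat.card (γ 2)) (h.card.trans h.idx_ge)
    rw [card_mul_index, ← (centralizer {s}).index_mul_card] at h1
    rw [show (centralizer {s}).relIndex (γ 1) = _ from relIndex_top_right _]
    exact Nat.le_of_mul_le_mul_right h1 Nat.card_pos) y hy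
  exact ⟨g, e⟩

theorem not_mem : s ∉ γ 2 := fun e => (h.lt (k := 2) (by omega) h.na).not_ge fun y hy => by
  obtain ⟨g, rfl⟩ := h.surj1 y hy
  rw [← commutatorElement_inv]
  exact inv_mem (commutator_mem_commutator e (mem_top g))

theorem card_inf : Nat.card (centralizer {s} ⊓ γ 2 : Subgroup X) ≤ p := by
  have := (BG.mul_card_le_of_lt (h.pg.to_subgroup _) (show centralizer {s} ⊓ γ 2 < centralizer {s} from
    lt_of_le_of_ne inf_le_left fun e => h.not_mem (e.ge (mem_centralizer_singleton_iff.2 rfl)).2)).trans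
    h.card
  rw [pow_two] at this
  exact Nat.le_of_mul_le_mul_left this hp.out.pos

theorem card_inf' (hk : 2 ≤ k) : Nat.card (centralizer {s} ⊓ γ k : Subgroup X) ≤ p :=
  (card_le_of_le (inf_le_inf_left _ (gam_anti _ hk))).trans h.card_inf

theorem card_le (hk : 2 ≤ k) : Nat.card (γ k) ≤ p * Nat.card (γ (k + 1)) := by
  rw [← Comp.relIndex_mul_card_inf (centralizer {s}), mul_comm]
  exact Nat.mul_le_mul (h.card_inf' hk) (comm_surj (h.comm (by omega))).1

theorem card_le' (hk : 2 ≤ k) (j : ℕ) : Nat.card (γ k) ≤ p ^ j * Nat.card (γ (k + j)) := by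
  induction j with
  | zero => simp
  | succ j ih =>
    rw [pow_succ, mul_assoc]
    exact ih.trans (Nat.mul_le_mul_left _ (h.card_le (by omega)))

theorem surj (hk : 2 ≤ k) : ∀ y ∈ γ (k + 1), ∃ g ∈ γ k, ⁅g, s⁆ = y := by
  by_cases h1 : γ k = ⊥
  · intro y hy
    exact ⟨1, one_mem _, by rw [show y = 1 from mem_bot.1 (h1 ▸ gam_anti _ (Nat.le_succ k) hy)]; simp⟩
  refine (comm_surj (h.comm (by omega))).2 ?_
  have := BG.mul_card_le_of_lt (h.pg.to_subgroup _) (h.lt (by omega) h1)
  rw [← Comp.relIndex_mul_card_inf (centralizer {s}) (γ k), mul_comm] at this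
  exact Nat.le_of_mul_le_mul_right (this.trans (Nat.mul_le_mul_left _ (h.card_inf' hk))) hp.out.pos

theorem inf_le (hk : 2 ≤ k) (h1 : γ k ≠ ⊥) : centralizer {s} ⊓ γ 2 ≤ γ k := by
  have h2 : centralizer {s} ⊓ γ k ≠ ⊥ := fun e => by
    have h3 := Comp.relIndex_mul_card_inf (centralizer {s}) (γ k)
    rw [e, card_bot, mul_one] at h3
    exact (Comp.card_lt_of_lt (h.lt (by omega) h1)).not_ge (h3 ▸ (comm_surj (h.comm (by omega))).1)
  exact (eq_of_le_of_card_ge (inf_le_inf_left _ (gam_anti _ hk))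
    (h.card_inf.trans (BG.le_card_of_ne_bot (h.pg.to_subgroup _) h2))).ge.trans inf_le_right

theorem unif (hk : 2 ≤ k) (h1 : γ (k + 1) ≠ ⊥) (ha : a ∈ γ k) (e : dl s a ∈ γ (k + 1 + 1)) :
    a ∈ γ (k + 1) := by
  obtain ⟨b, hb, e'⟩ := h.surj (by omega) _ e
  have h2 : a * b ∈ centralizer {s} := mem_centralizer_singleton_iff.2 (by
    rw [dl, commutatorElement_def, ← mul_assoc, mul_left_inj] at e'
    calc _ = a * (b * s * b⁻¹) * b := by group
      _ = _ := by rw [e']; group)
  exact (mul_mem_cancel_right hb).1 (h.inf_le (by omega) h1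
    ⟨h2, mul_mem (gam_anti _ hk ha) (gam_anti _ (by omega) hb)⟩)

theorem pow_cen : s ^ p ∈ center X := by
  have : Nontrivial X := by
    by_contra e
    rw [not_nontrivial_iff_subsingleton] at e
    exact h.na (Subsingleton.elim _ _)
  have h1 : center X ≠ ⊥ := (nontrivial_iff_ne_bot _).1 h.pg.center_nontrivial
  have h2 : s ∉ center X := fun e => h.na (eq_bot_iff.2 fun y hy => by
    obtain ⟨g, rfl⟩ := h.surj1 y hy
    exact commutatorElement_eq_one_iff_mul_comm.2 (mem_center_iff.1 e g))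
  have h3 := Comp.relIndex_mul_card (center_le_centralizer ({s} : Set X))
  have h4 := (Nat.mul_le_mul_left _ (BG.le_card_of_ne_bot (h.pg.to_subgroup _) h1)).trans
    (h3 ▸ h.card)
  rw [pow_two] at h4
  rw [← relIndex_eq_of_le (h.pg.to_subgroup ⊤) le_top (Nat.le_of_mul_le_mul_right h4 hp.out.pos)
    (mem_centralizer_singleton_iff.2 rfl) h2]
  exact pow_relIndex_mem _ (mem_centralizer_singleton_iff.2 rfl)

theorem formula (hk : 1 ≤ k) (hpw : ∀ c ∈ γ (k + 2), c ^ p ∈ γ (k + p + 1)) (ha : a ∈ γ (k + 1)) :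
    a ^ p * (dl s)^[p - 1] a ∈ γ (k + p + 1) := by
  have := pow_formula filt_gam (QuotientGroup.mk' (γ (k + p + 1))) hp.out hk (QuotientGroup.ker_mk' _).ge
    (fun c hc => by rw [← map_pow]; exact (QuotientGroup.eq_one_iff _).2 (hpw c hc)) (mem_top s) ha
  obtain ⟨g, rfl⟩ := h.surj1 a (gam_anti _ (by omega) ha)
  rw [commutatorElement_def g s, inv_mul_cancel_right, conj_pow, mem_center_iff.1 h.pow_cen g,
    mul_inv_cancel_right, mul_inv_cancel, map_one] at this
  exact (QuotientGroup.eq_one_iff _).1 this.symm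

omit h in
theorem iter_mem (ha : a ∈ γ k) (j : ℕ) : (dl s)^[j] a ∈ γ (k + j) := by
  induction j with
  | zero => exact ha
  | succ j ih => rw [Function.iterate_succ_apply']; exact dl_mem filt_gam (mem_top s) ih

theorem exists_bot : ∃ m, γ m = ⊥ := by
  have := h.pg.isNilpotent
  exact ⟨Group.nilpotencyClass X + 1, Subgroup.lowerCentralSeries_nilpotencyClass⟩

theorem pow_mem (d : ℕ) : ∀ k, 1 ≤ k → γ (k + 1 + d) = ⊥ → ∀ a ∈ γ (k + 1), a ^ p ∈ γ (k + p) := by
  induction d with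
  | zero => intro k _ e a ha; rw [show a = 1 from mem_bot.1 (e ▸ ha), one_pow]; exact one_mem _
  | succ d ih =>
    intro k hk e a ha
    have h1 := h.formula hk (fun c hc => by
      have := ih (k + 1) (by omega) (by rwa [add_right_comm _ 1 d]) c hc
      rwa [add_right_comm] at this) ha
    have h2 := iter_mem (s := s) ha (p - 1)
    rw [show k + 1 + (p - 1) = k + p by have := hp.out.pos; omega] at h2
    exact (mul_mem_cancel_right h2).1 (gam_anti _ (Nat.le_succ _) h1)

theorem pow_mem' (hk : 1 ≤ k) (ha : a ∈ γ (k + 1)) : a ^ p ∈ γ (k + p) := by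
  obtain ⟨m, hm⟩ := h.exists_bot
  exact h.pow_mem m k hk (le_bot_iff.1 (hm ▸ gam_anti _ (by omega))) a ha

theorem iter_not_mem (hk : 2 ≤ k) (ha : a ∈ γ k) (h1 : a ∉ γ (k + 1)) (j : ℕ) (h2 : γ (k + j) ≠ ⊥) :
    (dl s)^[j] a ∉ γ (k + j + 1) := by
  induction j with
  | zero => exact h1
  | succ j ih =>
    rw [Function.iterate_succ_apply']
    exact fun e => ih (fun e' => h2 (le_bot_iff.1 (e' ▸ gam_anti _ (by omega))))
      (h.unif (by omega) h2 (iter_mem ha j) e)

theorem pow_not_mem (hk : 1 ≤ k) (ha : a ∈ γ (k + 1)) (h1 : a ∉ γ (k + 1 + 1)) (h2 : γ (k + p) ≠ ⊥) :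
    a ^ p ∉ γ (k + p + 1) := fun e => by
  have e1 : k + 1 + (p - 1) = k + p := by have := hp.out.pos; omega
  have := h.iter_not_mem (by omega) ha h1 (p - 1) (e1 ▸ h2)
  rw [e1] at this
  exact this ((mul_mem_cancel_left e).1 (h.formula hk (fun c hc => by
    have := h.pow_mem' (k := k + 1) (by omega) hc
    rwa [add_right_comm] at this) ha))

theorem count {K V : Subgroup X} (hV : ∀ a ∈ K, a ^ p ∈ V) (d : ℕ) : ∀ k, 1 ≤ k → γ (k + p + d) = ⊥ →
    Nat.card (K ⊓ γ (k + 1) : Subgroup X) ≤ p ^ (p - 1) * Nat.card (V ⊓ γ (k + p) : Subgroup X) := by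
  have base : ∀ k, 1 ≤ k → γ (k + p) = ⊥ → Nat.card (K ⊓ γ (k + 1) : Subgroup X) ≤
      p ^ (p - 1) * Nat.card (V ⊓ γ (k + p) : Subgroup X) := fun k hk e => by
    have := h.card_le' (k := k + 1) (by omega) (p - 1)
    rw [show k + 1 + (p - 1) = k + p by have := hp.out.pos; omega] at this
    refine (card_le_of_le inf_le_right).trans (this.trans ?_)
    rw [e, inf_bot_eq]
  induction d with
  | zero => exact base
  | succ d ih =>
    intro k hk e
    by_cases h2 : γ (k + p) = ⊥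
    · exact base k hk h2
    have h3 := ih (k + 1) (by omega) (by rwa [show k + 1 + p + d = k + p + (d + 1) by ring])
    rw [add_right_comm k 1 p] at h3
    by_cases h4 : K ⊓ γ (k + 1) ≤ γ (k + 1 + 1)
    · exact (card_le_of_le (le_inf inf_le_left h4)).trans (h3.trans (Nat.mul_le_mul_left _
        (card_le_of_le (inf_le_inf_left _ (gam_anti _ (Nat.le_succ _))))))
    obtain ⟨a, a1, a2⟩ := SetLike.not_le_iff_exists.1 h4
    have h5 := BG.mul_card_le_of_lt (h.pg.to_subgroup _)
      (show V ⊓ γ (k + p + 1) < V ⊓ γ (k + p) from lt_of_le_of_ne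
        (inf_le_inf_left _ (gam_anti _ (Nat.le_succ _))) fun e' => h.pow_not_mem hk a1.2 a2 h2
          (e'.ge ⟨hV a a1.1, h.pow_mem' hk a1.2⟩).2)
    have h6 : (γ (k + 1 + 1)).relIndex (K ⊓ γ (k + 1)) ≤ p := by
      refine (relIndex_le_of_le_right inf_le_right FiniteIndex.index_ne_zero).trans ?_
      have := h.card_le (k := k + 1) (by omega)
      rw [← Comp.relIndex_mul_card (gam_anti _ (Nat.le_succ (k + 1)))] at this
      exact Nat.le_of_mul_le_mul_right this Nat.card_pos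
    rw [← Comp.relIndex_mul_card_inf (γ (k + 1 + 1)), inf_comm (γ (k + 1 + 1)), inf_assoc,
      inf_eq_right.2 (gam_anti _ (Nat.le_succ (k + 1)))]
    calc _ ≤ p * (p ^ (p - 1) * _) := Nat.mul_le_mul h6 h3
      _ ≤ _ := by rw [mul_left_comm]; exact Nat.mul_le_mul_left _ h5

theorem card_sub {K V : Subgroup X} (hK : K ≠ ⊤) (hV : ∀ a ∈ K, a ^ p ∈ V) :
    Nat.card K ≤ p ^ p * Nat.card V := by
  obtain ⟨m, hm⟩ := h.exists_bot
  have h1 := h.count hV m 1 le_rfl (le_bot_iff.1 (hm ▸ gam_anti _ (by omega)))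
  have h2 : (γ 2).relIndex K ≤ p := by
    have e1 := relIndex_mul_index (le_sup_right : γ 2 ≤ K ⊔ γ 2)
    have e2 : K ⊔ γ 2 ≠ ⊤ := fun e => hK (Solv.eq_top_of_sup_le_frattini
      (Solv.commutator_le_frattini_of_isPGroup h.pg) e)
    obtain ⟨y, -, hy⟩ := SetLike.exists_of_lt (lt_top_iff_ne_top.2 e2)
    have e3 := le_relIndex (h.pg.to_subgroup ⊤) le_rfl (mem_top y) hy
    rw [relIndex_top_right] at e3
    rw [relIndex_sup_right] at e1
    have := (Nat.mul_le_mul_left _ e3).trans (e1 ▸ h.idx_le)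
    rw [pow_two] at this
    exact Nat.le_of_mul_le_mul_right this hp.out.pos
  rw [← Comp.relIndex_mul_card_inf (γ 2), inf_comm]
  calc _ ≤ p * (p ^ (p - 1) * _) := Nat.mul_le_mul h2 (h1.trans (Nat.mul_le_mul_left _
        (card_le_of_le inf_le_left)))
    _ = _ := by rw [← mul_assoc, ← pow_succ', Nat.sub_add_cancel hp.out.pos]

theorem gens (K : Subgroup X) : ∃ T : Finset X, T.card ≤ p ∧ closure (T : Set X) = K := by
  classical
  obtain ⟨n, hn⟩ := (h.pg.to_subgroup K).index (frattini K)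
  have h1 : p ^ n ≤ p ^ p := by
    by_cases hK : K = ⊤
    · subst hK
      have e : (γ 2).subgroupOf ⊤ ≤ frattini (⊤ : Subgroup X) := by
        refine le_trans ?_ (Solv.commutator_le_frattini_of_isPGroup (h.pg.to_subgroup ⊤))
        rw [show γ 2 = ⁅(⊤ : Subgroup X), ⊤⁆ from rfl, ← map_comm]
        exact (comap_map_eq_self_of_injective (subtype_injective _) _).le
      have := index_antitone e
      rw [hn, ← relIndex, relIndex_top_right] at this
      exact this.trans (h.idx_le.trans (Nat.pow_le_pow_right hp.out.pos hp.out.two_le))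
    · have := h.card_sub (V := (frattini K).map K.subtype) hK fun a ha =>
        ⟨_, Solv.pow_mem_frattini (h.pg.to_subgroup K) ⟨a, ha⟩, rfl⟩
      rw [card_map_of_injective (subtype_injective _), ← (frattini K).index_mul_card, hn] at this
      exact Nat.le_of_mul_le_mul_right this Nat.card_pos
  have := Fintype.ofFinite K
  obtain ⟨T, -, t1, t2⟩ := (S0014.result p n (h.pg.to_subgroup K) hn).1 Finset.univ (by simp)
  refine ⟨T.image K.subtype, Finset.card_image_le.trans (t1 ▸ (Nat.pow_le_pow_iff_right hp.out.one_lt).1 h1), ?_⟩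
  rw [Finset.coe_image, ← MonoidHom.map_closure, t2, ← MonoidHom.range_eq_map, range_subtype]

theorem maxc {n : ℕ} (hn : Nat.card X = p ^ n) (h3 : 3 ≤ n) :
    (⊤ : Subgroup X).lowerCentralSeries (n - 2) ≠ ⊥ := fun e => by
  obtain ⟨j, rfl⟩ : ∃ j, n = j + 3 := ⟨n - 3, by omega⟩
  have h1 := h.card_le' le_rfl j
  rw [show γ (2 + j) = ⊥ by rw [add_comm]; exact e, card_bot, mul_one] at h1
  have h2 := Nat.mul_le_mul h1 h.idx_le
  rw [card_mul_index, hn, ← pow_add, Nat.pow_le_pow_iff_right hp.out.one_lt] at h2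
  omega

end UE

end

open Cfsg.FusionSystem Cfsg.Agent.Fusion

section
variable {Ω : Type*} [Group Ω] {S E : Subgroup Ω} {F : FusionSystem S} {p : ℕ} [hp : Fact p.Prime]
  [Finite S]

theorem relIndex_eq_of_card {A B : Subgroup Ω} (hS : IsPGroup p S) (hB : B ≤ S) (h : A < B) {k : ℕ}
    (h1 : Nat.card B ≤ p ^ (k + 1)) (h2 : p ^ k ≤ Nat.card A) : A.relIndex B = p := by
  obtain ⟨x, x1, x2⟩ := SetLike.exists_of_lt h
  refine relIndex_eq_of_le hS hB ?_ x1 x2
  rw [← Comp.relIndex_mul_card h.le, pow_succ'] at h1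
  exact Nat.le_of_mul_le_mul_right ((Nat.mul_le_mul_left _ h2).trans h1) (pow_pos hp.out.pos k)

theorem mul_card_le {A B : Subgroup Ω} (hS : IsPGroup p S) (hB : B ≤ S) (h : A < B) :
    p * Nat.card A ≤ Nat.card B := by
  obtain ⟨x, x1, x2⟩ := SetLike.exists_of_lt h
  rw [← Comp.relIndex_mul_card h.le]
  exact Nat.mul_le_mul_right _ (le_relIndex hS hB x1 x2)

theorem pearl_ue (hS : IsPGroup p S) (hF : F.IsSaturated p) (hE : F.IsEssential p E)
    (h : Nat.card E = p ^ 2 ∨ (Nat.card E = p ^ 3 ∧ ¬ IsMulCommutative E)) : ∃ s : S, UE p s := by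
  have hES := hE.1.1
  have hlt := ess_lt hS hF hE
  have hC := IsCentric.cent_le hE.1
  have hZ := cen_le hE.1
  have := finite_of_le hES
  have hS1 : S ≠ ⊥ := ne_bot_of_gt hlt
  have z1 : p ^ 1 ≤ Nat.card (centralizerIn S S) := by
    simpa using mul_card_le hS centralizerIn_le (bot_lt_iff_ne_bot.2 (centralizerIn_self_ne_bot hS hS1))
  have hZE : centralizerIn S S < E := lt_of_le_of_ne hZ fun e => hlt.not_ge fun s hs =>
    hC ⟨hs, fun y hy => (cen_comm (e ▸ hy) hs).symm⟩
  suffices ∃ s ∈ E, Nat.card (centralizerIn S (zpowers s)) ≤ p ^ 2 by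
    obtain ⟨s, s1, s2⟩ := this
    refine ⟨⟨s, hES s1⟩, hS, fun e => hlt.not_ge fun y hy => hZ ⟨hy, fun w hw => ?_⟩, ?_⟩
    · have : ⁅(⟨w, hw⟩ : S), ⟨y, hy⟩⁆ ∈ Petr.gam (⊤ : Subgroup S) 2 :=
        commutator_mem_commutator (mem_top _) (mem_top _)
      rw [e, mem_bot, commutatorElement_eq_one_iff_mul_comm] at this
      exact congrArg Subtype.val this
    · rw [← card_map_of_injective S.subtype_injective]
      have := finite_of_le (centralizerIn_le (S := S) (P := zpowers s))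
      refine (card_le_of_le ?_).trans s2
      rintro _ ⟨c, hc, rfl⟩
      refine ⟨c.2, ?_⟩
      rintro _ ⟨k, rfl⟩
      exact (Commute.zpow_left (congrArg Subtype.val (mem_centralizer_singleton_iff.1 hc)).symm k)
  rcases h with h | ⟨h, hna⟩
  · obtain ⟨s, s1, s2⟩ := SetLike.exists_of_lt hZE
    refine ⟨s, s1, h ▸ card_le_of_le fun c hc => hC ⟨hc.1, fun y hy => ?_⟩⟩
    obtain ⟨i, hi⟩ := dec_of_relIndex (pgroup_of_le hS hES) (relIndex_eq_of_card hS hES hZE h.le z1) s1 s2 hy
    have := Commute.mul_left (cen_comm hi hc.1).symm (hc.2 _ (pow_mem (mem_zpowers s) i))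
    rwa [inv_mul_cancel_right] at this
  have hZ2 : centralizerIn S S ≤ centralizerIn E E := fun z hz => ⟨hZ hz, fun y hy => hz.2 y (hES hy)⟩
  have eZ : centralizerIn E E = centralizerIn S S := by
    by_contra e
    have e1 := (Nat.mul_le_mul_left p z1).trans (mul_card_le hS (centralizerIn_le.trans hES)
      (lt_of_le_of_ne hZ2 (Ne.symm e)))
    rw [← pow_succ'] at e1
    have e2 : centralizerIn E E < E := lt_of_le_of_ne centralizerIn_le fun e' =>
      hna ⟨⟨fun a b => Subtype.ext ((e'.ge b.2).2 a a.2)⟩⟩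
    obtain ⟨x, x1, x2⟩ := SetLike.exists_of_lt e2
    refine hna ⟨⟨fun a b => Subtype.ext ?_⟩⟩
    have d := fun y hy => dec_of_relIndex (s := y) (pgroup_of_le hS hES)
      (relIndex_eq_of_card hS hES e2 h.le e1) x1 x2 hy
    obtain ⟨i, hi⟩ := d a a.2
    obtain ⟨j, hj⟩ := d b b.2
    have e3 := Commute.mul_right (cen_comm hj (pow_mem x1 i)) (Commute.pow_pow_self x i j)
    rw [inv_mul_cancel_right] at e3
    have := Commute.mul_left (cen_comm hi b.2).symm e3
    rwa [inv_mul_cancel_right] at this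
  have key : ∀ c ∈ S, (∀ y ∈ E, ⁅c, y⁆ ∈ centralizerIn S S) → c ∈ E := fun c hc h1 =>
    mem_of_two hS hE (Y := centralizerIn S S) (fun α _ y _ hy => eZ ▸ afun_mem_cen α (eZ ▸ hy))
      ⟨hc, mem_normalizer_of_finite fun y hy => by
        have := mul_mem (hZ (h1 y hy)) hy
        rwa [commutatorElement_def, inv_mul_cancel_right] at this⟩
      (fun y _ hy => cen_conj hy hc) fun y hy => by
        have := inv_mem (h1 _ (inv_mem hy))
        rwa [commutatorElement_inv, commutatorElement_def, inv_inv, mul_assoc, mul_assoc,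
          ← mul_assoc c] at this
  have hY : zc S 2 < E := lt_of_le_of_ne (fun y hy => key y (zc_le S 2 hy) fun w hw =>
    (mem_zc_two.1 hy).2 w (hES hw)) fun e => hlt.not_ge fun c hc => key c hc fun y hy => by
      rw [← commutatorElement_inv]; exact inv_mem ((mem_zc_two.1 (e ▸ hy)).2 c hc)
  have hZY : centralizerIn S S < zc S 2 := lt_of_le_of_ne cen_le_zc fun e => by
    obtain ⟨n, hn⟩ := exists_zc_eq hS
    have : ∀ i, zc S (i + 1) ≤ centralizerIn S S := fun i => by
      induction i with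
      | zero => exact zc_one.le
      | succ i ih => exact fun x hx => e ▸ mem_zc_two.2 ⟨zc_le _ _ hx, fun y hy =>
          ih ((mem_zc_succ.1 hx).2 y hy)⟩
    exact hlt.not_ge (hn.ge.trans ((zc_mono S (Nat.le_succ n)).trans ((this n).trans hZ)))
  have e1 := (Nat.mul_le_mul_left p z1).trans (mul_card_le hS (zc_le S 2) hZY)
  rw [← pow_succ'] at e1
  obtain ⟨s, s1, s2⟩ := SetLike.exists_of_lt hY
  have h1 : centralizerIn S (zpowers s) ≤ E := fun c hc => key c hc.1 fun y hy => by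
    obtain ⟨i, hi⟩ := dec_of_relIndex (pgroup_of_le hS hES) (relIndex_eq_of_card hS hES hY h.le e1) s1 s2 hy
    have := inv_mem ((mem_zc_two.1 hi).2 c hc.1)
    rw [commutatorElement_inv] at this
    convert this using 1
    calc _ = c * (y * (s ^ i)⁻¹) * (s ^ i * c⁻¹ * (s ^ i)⁻¹) * (y * (s ^ i)⁻¹)⁻¹ := by
          simp only [commutatorElement_def]; group
      _ = _ := by rw [(inv_mem hc).2 _ (pow_mem (mem_zpowers s) i)]; simp only [commutatorElement_def]; group
  have h2 := mul_card_le hS hES (lt_of_le_of_ne h1 fun e => s2 (cen_le_zc (eZ ▸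
    ⟨s1, fun y hy => ((e.ge hy).2 s (mem_zpowers s)).symm⟩)))
  rw [h, pow_succ'] at h2
  exact ⟨s, s1, Nat.le_of_mul_le_mul_left h2 hp.out.pos⟩

theorem thm_5238 (hS : IsPGroup p S) (hF : F.IsSaturated p) (hE : F.IsEssential p E)
    (h : Nat.card E = p ^ 2 ∨ (Nat.card E = p ^ 3 ∧ ¬ IsMulCommutative E)) :
    (∀ n : ℕ, Nat.card S = p ^ n → 3 ≤ n → S.lowerCentralSeries (n - 2) ≠ ⊥) ∧
      ∀ H : Subgroup Ω, H ≤ S → ∃ T : Finset Ω, T.card ≤ p ∧ closure (T : Set Ω) = H := by
  classical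
  obtain ⟨s, hs⟩ := pearl_ue hS hF hE h
  refine ⟨fun n hn h3 e => hs.maxc hn h3 ?_, fun H hH => ?_⟩
  · have := map_lowerCentralSeries (⊤ : Subgroup S) S.subtype (n - 2)
    rw [← MonoidHom.range_eq_map, range_subtype, e] at this
    exact (map_eq_bot_iff_of_injective _ S.subtype_injective).1 this
  · obtain ⟨T, t1, t2⟩ := hs.gens (H.subgroupOf S)
    refine ⟨T.image S.subtype, Finset.card_image_le.trans t1, ?_⟩
    rw [Finset.coe_image, ← MonoidHom.map_closure, t2, map_subgroupOf_eq_of_le hH]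

end

end Cfsg.Agent.PU
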