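/-
Some results on coprime action.
-/
import Cfsg.Agent.Lib.PU.Ms2

set_option autoImplicit false
set_option linter.unusedSectionVars false
set_option linter.unusedVariables false
set_option linter.style.haveILetI false
set_option linter.unusedSimpArgs false

namespace Cfsg.Agent.PU

open Subgroup Cfsg.Agent.Transfer Cfsg.Agent.MS
open scoped commutatorElement

universe u
variable {G : Type u} [Group G] [Finite G]
variable {A B D H K L M N P Q V Y : Subgroup G} {a b g x y z : G} {p : ℕ}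

theorem mem_F_of_quad (hs : Group.IsSolvable G) (h5 : ∀ q : ℕ, q.Prime → q ∣ #(F (⊤ : Subgroup G)) → 5 ≤ q)
    (h : ⁅⁅F (⊤ : Subgroup G), A⁆, A⁆ = ⊥) : A ≤ F ⊤ := le_of_pg fun q hq _ S hS pS => by
  haveI := Fact.mk hq
  have hF := cc_F_le (H := (⊤ : Subgroup G)) inferInstance
  have n1 : ∀ π : Set ℕ, ⊤ ≤ NN (O π (F (⊤ : Subgroup G))) := fun π => nn_O (nn_F (le_nn _))
  have qd : ∀ π : Set ℕ, ∀ T ≤ S, ⁅⁅O π (F ⊤), T⁆, T⁆ = ⊥ := fun π T hT => le_bot_iff.1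
    ((commutator_mono (commutator_mono (O_le _ _) (hT.trans hS)) (hT.trans hS)).trans h.le)
  have c : S ≤ CC (O {q}ᶜ (F ⊤)) := Solv.coprime_le_centralizer_of_quadratic (le_top.trans (n1 _))
    (pg_coprime pS (O_pi _ _) (by simp)) (qd _ S le_rfl)
  have cF : ∀ X, X ≤ CC (O {q} (F ⊤)) → X ≤ CC (O {q}ᶜ (F ⊤)) → X ≤ F (⊤ : Subgroup G) := fun X h1 h2 =>
    le_trans (le_inf le_top (nil_O_sup (F_nil (⊤ : Subgroup G)) {q} ▸ le_cc_sup h1 h2)) hF
  by_cases h0 : O {q} (F (⊤ : Subgroup G)) = ⊥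
  · exact cF S (by rw [h0, cc_bot]; exact le_top) c
  have q5 := h5 q hq ((pg_dvd (O_pg _) h0).trans (card_dvd (O_le _ _)))
  intro a ha
  obtain ⟨N, n2, n3, n4, n5⟩ := (quad_dichot (p := q) (by omega) (O_pg _) (le_top.trans (n1 {q}))
    ((Comp.pSol_of_isSolvable (M := ⊤) inferInstance).of_le le_top) (c ha) (qd _ _ (zpowers_le.2 ha))).resolve_right
    fun h => absurd h.1 (by omega)
  have r1 := cF _ n5 ((res_le N).trans n3)
  have r2 : res q N ≤ O {q}ᶜ (F ⊤) := by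
    rw [← res_res]
    exact res_le_iff.2 fun g hg h1 => zpowers_le.1 (nil_le_O (F_nil _) (zpowers_le.2 (r1 hg))
      (pi_compl_iff_coprime.2 (by rwa [Nat.card_zpowers])))
  obtain ⟨T, hT⟩ := exists_isSyl q N
  have c2 : T ≤ CC (res q N) := hT.le.trans (n3.trans (cc_anti r2))
  exact F_le_F le_top (nn_cc (n1 _)) (le_F n3 n4 (hT.res_sup ▸ nil_sup (nil_mono (F_nil _) r1) (nil_of_pg hT.pgroup)
    (nn_of_cc (cc_symm c2)) (nn_of_cc c2)) n2)

theorem thm_1893 [hs : Group.IsSolvable G] (π : Set ℕ) (h2 : 2 ∉ π) (h3 : 3 ∉ π) (H : Subgroup G)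
    (hH : Cfsg.IsPiHall π H) (A : Subgroup G) (hA : Cfsg.IsSCN ((Cfsg.fittingSubgroup H).map H.subtype) A) :
    ∃ D : Subgroup G, D ≤ Subgroup.centralizer (A : Set G) ∧
      (∀ c ∈ Subgroup.centralizer (A : Set G), ∀ d ∈ D, c * d * c⁻¹ ∈ D) ∧
      A ⊓ D = ⊥ ∧ A ⊔ D = Subgroup.centralizer (A : Set G) ∧
      ∀ q : ℕ, q.Prime → q ∣ Nat.card D → q ∉ π := by
  obtain ⟨a1, a2, a3⟩ : A ≤ F H ∧ F H ≤ NN A ∧ F H ⊓ CC A = A := hA
  have hH : Hall π H ⊤ := Solv.isPiHallOf_top_iff.2 hH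
  have aH := a1.trans (F_le H)
  have ac : A ≤ CC A := a3.ge.trans inf_le_right
  have nR : ⊤ ≤ NN (O πᶜ (⊤ : Subgroup G)) := nn_O (le_nn _)
  obtain ⟨Q, _, _, f, q⟩ := exists_qm le_top nR
  have d' : H ⊓ O πᶜ ⊤ = ⊥ := hH.pi.inf (O_pi _ _)
  have d := (inf_comm _ _).trans d'
  have o : O πᶜ (⊤ : Subgroup Q) = ⊥ := by rw [← q.im_top, ← q.im_O le_rfl le_top (O_pi _ _), q.im_N]
  have pF : IsPi π (F (⊤ : Subgroup Q)) := by
    rw [← nil_O_sup (F_nil (⊤ : Subgroup Q)) π, eq_bot_iff.2 ((O_le_O le_top (nn_F (le_nn _))).trans o.le), sup_bot_eq]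
    exact O_pi _ _
  have f1 : F ⊤ ≤ im f H := (hH.im le_rfl).le_of_nn' (le_top.trans q.im_top.ge) pF (nn_F nn_top)
  have f2 : F ⊤ ≤ im f (F H) := fun y hy => by
    obtain ⟨x, hx, rfl⟩ := f1 hy
    refine ⟨x, le_F (A := H ⊓ pre f (F ⊤)) inf_le_left (nn_inf (le_nn H) (q.nn_pre le_top (nn_F nn_top)))
      (q.nil_of_im le_top (inf_bot_mono d le_rfl inf_le_left) (nil_mono (F_nil _)
        ((im_mono inf_le_right).trans (q.im_pre _).le))) ⟨hx, mem_pre.2 ⟨trivial, hy⟩⟩, rfl⟩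
  have f3 : F ⊤ ⊓ CC (im f A) ≤ im f A := fun y hy => by
    obtain ⟨x, hx, rfl⟩ := f2 hy.1
    refine ⟨x, a3.le ⟨hx, zpowers_le.1 (comm_eq_bot.1 (eq_bot_of_le d ((q.cc_iff le_top le_top).1 ?_)
      (comm_le (zpowers_le.2 (F_le H hx)) aH)))⟩, rfl⟩
    exact (im_zpowers x.2).le.trans (zpowers_le.2 hy.2)
  have c : im f (CC A) ≤ CC (im f A) := im_cc le_top le_top le_rfl
  have f4 : ⁅F ⊤, im f (CC A)⁆ ≤ im f A := le_trans (le_inf (comm_le_left (nn_F nn_top)) (comm_eq_bot.1 (le_bot_iff.1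
    (three_sub nn_bot nn_bot nn_bot (by rw [comm_eq_bot.2 c, commutator_bot_left])
      ((commutator_mono (comm_le_left (f2.trans (im_nn le_top le_top a2))) le_rfl).trans (comm_eq_bot'.2 c).le))))) f3
  have f5 := (q.im_le_iff le_top le_top).1 ((le_inf (mem_F_of_quad (Solv.isSolvable_top_iff.1 (q.sol_top inferInstance))
    (fun r hr hd => by
      have := pF r hr hd
      exact hr.five_le_of_ne_two_of_ne_three (fun e => h2 (e ▸ this)) fun e => h3 (e ▸ this))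
    (le_bot_iff.1 ((commutator_mono f4 le_rfl).trans (comm_eq_bot'.2 c).le))) c).trans f3)
  refine ⟨O πᶜ ⊤ ⊓ CC A, inf_le_right, fun c hc x hx => conj_mem_of_mem_normalizer
    (nn_inf (le_top.trans nR) (le_nn _) hc) hx, inf_bot_mono d' aH inf_le_left, ?_,
    (O_pi _ _).mono inf_le_left⟩
  rw [← dedekind' ac (le_top.trans nR), inf_eq_right.2 (f5.trans (sup_comm _ _).le)]

theorem fac_core [hp : Fact p.Prime] (h3 : 3 ≤ p) (hV : IsMulCommutative V) (hc : IsPi {p}ᶜ V) (hP : IsPGroup p P)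
    (hn : P ≤ NN V) (hf : P ⊓ CC V = ⊥) (irr : ∀ W ≤ V, P ≤ NN W → W = ⊥ ∨ W = V) (V0 : V ≠ ⊥) (P0 : P ≠ ⊥) :
    ∃ R, ¬ P ≤ R ∧ ∀ c ∈ P, c ∉ R → ∀ d ∈ P, d ∉ R → #(V ⊓ C1 c : Subgroup G) * #(V ⊓ C1 d : Subgroup G) < #V := by
  have cz : ∀ z ∈ P ⊓ CC P, z ≠ 1 → V ⊓ C1 z = ⊥ := fun z hz z1 =>
    (irr _ inf_le_left (nn_inf hn (nn_C1 (le_C1_iff.2 hz.2)))).resolve_right fun e =>
      z1 (eq_one_of_inf hf hz.1 (le_C1_iff.1 (e.ge.trans inf_le_right)))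
  have V1 := (one_lt_card_iff_ne_bot _).2 V0
  by_cases cy : IsCyclic P
  · exact ⟨⊥, mt le_bot_iff.1 P0, fun c hc c1 d hd d1 => by
      rw [cz c ⟨hc, ab_cc (ab_of_cyc cy) hc⟩ c1, cz d ⟨hd, ab_cc (ab_of_cyc cy) hd⟩ d1]; simpa⟩
  obtain ⟨U, hU, nU⟩ := exists_normal_el2 (by omega) hP le_rfl (le_nn P) cy
  have cop : ∀ X ≤ P, ∀ W ≤ V, (#X).Coprime #W := fun X h1 W h2 => pg_coprime (hP.to_le h1) (hc.mono h2) (by simp)
  have gen : ∀ W ≤ V, U ≤ NN W → (∀ v ∈ U, v ≠ 1 → W ⊓ C1 v ≤ ⊥) → W = ⊥ := fun W h1 h2 h =>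
    le_bot_iff.1 (cop_gen hU.ab (hU.not_cyc (n := 0)) h2 (cop U hU.le W h1) h)
  have nc : ¬ U ≤ CC P := fun e => V0 (gen V le_rfl (hU.le.trans hn) fun v hv v1 => (cz v ⟨hU.le hv, e hv⟩ v1).le)
  obtain ⟨u, hu, uZ⟩ := SetLike.not_le_iff_exists.1 nc
  have uP := zpowers_le.2 (hU.le hu)
  have st : ∀ c ∈ P, c ∉ CC U → ∀ v ∈ U, v ∉ CC P → ∃ z ∈ U ⊓ CC P, z ≠ 1 ∧ zpowers z ⊔ zpowers v = U ∧
      ∀ i : ℕ, c ^ i * v * (c ^ i)⁻¹ = z ^ i * v := fun c hc c1 v hv v1 => by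
    have h1 : ⁅c, v⁆ ∈ ⁅U, P⁆ := Subgroup.commutator_comm P U ▸ commutator_mem_commutator hc hv
    have h2 := BG.commutator_le_Ct_of_card_le hP hU.pg nU hU.card.le h1
    have h4 := comm_le_left nU h1
    have ln : ∀ z ∈ U ⊓ CC P, z ≠ 1 → zpowers z ⊔ zpowers v = U := fun z hz z1 =>
      hU.sup_lines (zpowers_le.2 hz.1) (zpowers_le.2 hv) (hU.card_zpowers hz.1 z1)
        (hU.card_zpowers hv fun e => v1 (e ▸ one_mem _)) fun e => v1 (zpowers_le.2 hz.2 (e ▸ mem_zpowers v))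
    have z1 : ⁅c, v⁆ ≠ 1 := fun e => c1 (by
      obtain ⟨z, hz, z1⟩ := exists_ne_one (nil_meet (nil_of_pg hP) hU.le nU (hU.ne_bot (n := 1)))
      rw [← ln z hz z1, cc_sup, cc_zpowers, cc_zpowers]
      exact ⟨mem_C1.2 (hz.2 c hc), mem_C1.2 (commutatorElement_eq_one_iff_mul_comm.1 e)⟩)
    refine ⟨_, ⟨h4, h2⟩, z1, ln _ ⟨h4, h2⟩ z1, fun i => ?_⟩
    induction i with
    | zero => simp
    | succ i ih =>
      have : c * ⁅c, v⁆ ^ i = ⁅c, v⁆ ^ i * c := pow_mem h2 i c hc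
      rw [show c ^ (i + 1) * v * (c ^ (i + 1))⁻¹ = c * (c ^ i * v * (c ^ i)⁻¹) * c⁻¹ by group, ih, ← mul_assoc, this,
        pow_succ, commutatorElement_def c v]
      group
  have dec := Solv.coprime_commutator_sup_centralizer (uP.trans hn) (cop _ uP V le_rfl) (.inl inferInstance)
  have dis := cop_ab_inf hV (uP.trans hn) (cop _ uP V le_rfl)
  rw [cc_zpowers] at dec dis
  have XV : ⁅V, zpowers u⁆ ≤ V := comm_le_left (uP.trans hn)
  have cV := card_sup_l (ab_nn hV inf_le_left XV) (inf_comm (V ⊓ C1 u) _ ▸ dis)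
  rw [dec] at cV
  have key : ∀ c ∈ P, c ∉ CC U → #(V ⊓ C1 c : Subgroup G) ≤ #(V ⊓ C1 u : Subgroup G) := fun c hc c1 => by
    have w := gen (⨅ i : ℕ, cj (c ^ i)⁻¹ ⁅V, zpowers u⁆) ((iInf_le _ 0).trans (by simpa using XV))
      (Comp.le_normalizer_iInf fun i => nn_cj_of (nn_comm (hU.le.trans hn) (ab_nn hU.ab le_rfl (zpowers_le.2 hu)))
        (nU (inv_mem (pow_mem hc i)))) fun v hv v1 x hx => by
        by_cases e : v ∈ CC P
        · exact (cz v ⟨hU.le hv, e⟩ v1).le ⟨XV (by simpa using mem_iInf.1 hx.1 0), hx.2⟩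
        obtain ⟨z, hz, z1, ez, hi⟩ := st c hc c1 v hv e
        obtain ⟨_, ⟨a, rfl⟩, _, hb, eu⟩ := (mem_sup_l (ab_nn hU.ab (zpowers_le.2 hv) (zpowers_le.2 hz.1))).1 (ez ▸ hu)
        obtain ⟨b, rfl⟩ := mem_powers_iff_mem_zpowers.2 hb
        have b1 : z ^ b ≠ 1 := fun e => uZ (by
          have := orderOf_dvd_of_pow_eq_one e
          rw [orderOf_eq_prime (hU.elem.2 z hz.1) z1] at this
          obtain ⟨k, rfl⟩ := this
          simp only [eu, pow_mul, hU.elem.2 v hv, one_pow, mul_one]; exact zpow_mem (mem_inf.1 hz).2 a)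
        obtain ⟨i, ei⟩ := mem_powers_iff_mem_zpowers.2 ((prime_eq_zpowers (K := zpowers z)
          (hU.card_zpowers hz.1 z1 ▸ hp.out) (pow_mem (mem_zpowers z) b) b1).symm ▸ zpow_mem (mem_zpowers z) a :
          z ^ a ∈ zpowers (z ^ b))
        have h1 : c ^ i * x * (c ^ i)⁻¹ ∈ ⁅V, zpowers u⁆ := by simpa using mem_cj.1 (mem_iInf.1 hx.1 i)
        have h2 : c ^ i * x * (c ^ i)⁻¹ ∈ C1 u := by
          have : u = (z ^ i * v) ^ b := by
            rw [(elem_commute hU.elem (pow_mem hz.1 i) hv).mul_pow, ← pow_mul, mul_comm i, pow_mul, eu]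
            exact congrArg (· * v ^ b) ei.symm
          rw [this, ← hi]
          exact C1_pow_ge _ b (cj_centralizer_singleton (c ^ i) v ▸ conj_mem_cj hx.2)
        simpa using eq_one_of_inf dis ⟨XV h1, h2⟩ h1
    have := card_sup_l (ab_nn hV inf_le_left XV) (B := V ⊓ C1 c) (eq_bot_iff.2 fun x hx => w ▸ mem_iInf.2 fun i => by
      rw [mem_cj, inv_inv, conj_eq_of_C1 (pow_mem (mem_C1_comm.1 hx.2.2) i)]; exact hx.1)
    exact Nat.le_of_mul_le_mul_left (this.ge.trans ((card_le_of_le (sup_le XV inf_le_left)).trans cV.le)) (card_pos' _)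
  refine ⟨CC U, fun e => nc (cc_symm e), fun c hc c1 d hd d1 => ?_⟩
  obtain ⟨z, hz, z1, -, hi⟩ := st c hc c1 u hu uZ
  have cc : ∀ i : ℕ, #(V ⊓ C1 (z ^ i * u) : Subgroup G) = #(V ⊓ C1 u : Subgroup G) := fun i => by
    rw [← hi, ← cj_centralizer_singleton, ← card_cj (c ^ i) (V ⊓ C1 u), cj_inf, cj_nn (hn (pow_mem hc i))]
  have le : ∀ i : ℕ, z ^ i ≠ 1 → V ⊓ C1 (z ^ i * u) ≤ ⁅V, zpowers u⁆ := fun i h => by
    rw [← cop_comm_eq (A := zpowers u) (K := V ⊓ C1 (z ^ i * u)) (nn_inf (uP.trans hn) (nn_C1 (zpowers_le.2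
      (mem_C1.2 (elem_commute hU.elem hu (mul_mem (pow_mem hz.1 i) hu)))))) (cop _ uP _ inf_le_left)
      (sol_of_ab (ab_mono hV inf_le_left)) (eq_bot_iff.2 fun x hx => (cz _ (pow_mem (⟨hU.le hz.1, hz.2⟩ :
        z ∈ P ⊓ CC P) i) h).le ⟨hx.1.1, mem_C1_comm.1 ((mul_mem_cancel_right
          (mem_C1_comm.1 (cc_zpowers u ▸ hx.2))).1 (mem_C1_comm.1 hx.1.2))⟩)]
    exact commutator_mono inf_le_left le_rfl
  have z2 : z ^ 2 ≠ 1 := pow_ne_one_of_lt_orderOf two_ne_zero (by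
    rw [orderOf_eq_prime (hU.elem.2 z hz.1) z1]; omega)
  have := card_sup_l (ab_nn hV inf_le_left inf_le_left) (A := V ⊓ C1 (z ^ 2 * u)) (B := V ⊓ C1 (z ^ 1 * u))
    (eq_bot_iff.2 fun x hx => (cz z ⟨hU.le hz.1, hz.2⟩ z1).le ⟨hx.1.1, mem_C1_comm.1 (by
      have := mul_mem (mem_C1_comm.1 hx.1.2) (inv_mem (mem_C1_comm.1 hx.2.2))
      rwa [show z ^ 2 * u * (z ^ 1 * u)⁻¹ = z by group] at this)⟩)
  have h1 := this.ge.trans (card_le_of_le (sup_le (le 2 z2) (le 1 (by simpa))))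
  rw [cc, cc] at h1
  refine (Nat.mul_le_mul (key c hc c1) (key d hd d1)).trans_lt ?_
  rcases (Nat.succ_le_of_lt (card_pos' (V ⊓ C1 u))).eq_or_lt with e | e
  · rwa [← e]
  · exact h1.trans_lt (cV ▸ lt_mul_right (card_pos' _) e)

theorem thm_2277 [hp : Fact p.Prime] (hp3 : 3 ≤ p) (P : Sylow p G)
    (N : Subgroup G) [N.Normal] (hN : (Nat.card N).Coprime p) (hNP : N ⊔ (P : Subgroup G) = ⊤)
    (C D : Set G) (hC : Subgroup.closure C = (P : Subgroup G)) (hD : Subgroup.closure D = (P : Subgroup G))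
    (h : ∀ x ∈ N, ∀ c ∈ C, ∀ d ∈ D, IsPGroup p ↥(Subgroup.closure ({x * c * x⁻¹, d} : Set G))) :
    ⁅(P : Subgroup G), N⁆ = ⊥ := by
  have hP := P.2
  generalize (P : Subgroup G) = P at *
  have hN := pi_compl_iff_coprime.2 hN
  by_contra ne
  obtain ⟨M, m1, ⟨m2, m3⟩, m4⟩ := Solv.exists_minimal_le (P := fun M => P ≤ NN M ∧ ¬ P ≤ CC M)
    ⟨nn_normal, mt comm_eq_bot.2 ne⟩
  have cop : ∀ X ≤ P, ∀ W ≤ M, (#X).Coprime #W := fun X h1 W h2 =>
    pg_coprime (hP.to_le h1) (hN.mono (h2.trans m1)) (by simp)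
  have dis := inf_of_coprime (cop P le_rfl M le_rfl)
  have fac : ∀ c ∈ C, ∀ d ∈ D, Solv.IsProd M (M ⊓ C1 c) (M ⊓ C1 d) := fun c hc d hd x hx => by
    have cP : c ∈ P := hC ▸ subset_closure hc
    have dP : d ∈ P := hD ▸ subset_closure hd
    obtain ⟨g, hg, e⟩ := (Hall.of_sup' (pi1_of_pg hP) (hN.mono m1) m2).syl.exists_cj_le (h x⁻¹ (inv_mem (m1 hx)) c hc d hd)
      ((closure_le _).2 (Set.pair_subset (mul_mem (mul_mem (mem_sup_right (inv_mem hx)) (mem_sup_left cP))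
        (mem_sup_right (inv_mem (inv_mem hx)))) (mem_sup_left dP)))
    obtain ⟨s, hs, m, hm, rfl⟩ := (mem_sup_r m2).1 hg
    have k : ∀ w ∈ M, ∀ t ∈ P, s * (w * t * w⁻¹) * s⁻¹ ∈ P → w ∈ C1 t := fun w hw t ht h => by
      rw [mul_mem_cancel_right (inv_mem hs), mul_mem_cancel_left hs] at h
      exact mem_C1.2 (commutatorElement_eq_one_iff_mul_comm.1 (eq_one_of_inf dis (mul_mem h (inv_mem ht))
        (comm_le_left m2 (commutator_mem_commutator hw ht))))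
    have h1 := k (m * x⁻¹) (mul_mem hm (inv_mem hx)) c cP (by
      have := cj_le_iff.1 e _ (subset_closure (Set.mem_insert _ _)); convert this using 1; group)
    have h2 := k m hm d dP (by
      have := cj_le_iff.1 e d (subset_closure (by simp)); convert this using 1; group)
    exact ⟨(m * x⁻¹)⁻¹, inv_mem (mem_inf.2 ⟨mul_mem hm (inv_mem hx), h1⟩), m, ⟨hm, h2⟩, by group⟩
  have mn : ∀ W ≤ M, P ≤ NN W → W ≠ M → W ≤ M ⊓ CC P := fun W h1 h2 h3 =>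
    le_inf h1 (cc_symm (by_contra fun e => h3 (m4 W ⟨h2, e⟩ h1)))
  have sol : Group.IsSolvable M := by_contra fun ns => m3 (cc_symm (le_of_syl fun q hq _ => by
    haveI := Fact.mk hq
    obtain ⟨S, hS, nS⟩ := Solv.coprime_exists_sylowIn m2 (cop P le_rfl M le_rfl) (.inl (sol_of_pg hP)) q
    have hS := hS.toSyl
    exact ⟨S, hS, (mn S hS.le nS fun e => ns (e ▸ sol_of_pg hS.pgroup)).trans inf_le_right⟩))
  have M0 : M ≠ ⊥ := fun e => m3 (by rw [e, cc_bot]; exact le_top)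
  have d1 := mn _ (der_le M) (nn_comm m2 m2) (sol_der_lt sol M0).ne
  have c1 : P ⊓ CC M ≤ NN (M ⊓ CC P) := nn_of_cc (inf_le_right.trans (cc_anti inf_le_left))
  obtain ⟨Q, _, _, f, q⟩ := exists_qm (N := M ⊓ CC P ⊔ P ⊓ CC M) (M := M ⊔ P) (sup_le_sup inf_le_left inf_le_left)
    (nn_sup (sup_le (nn_of_der_le d1 inf_le_left) (nn_inf m2 (nn_cc (le_nn P))))
      (sup_le (nn_of_cc (cc_symm inf_le_right)) (nn_inf (le_nn P) (nn_cc m2))))
  have lM : M ≤ M ⊔ P := le_sup_left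
  have lP : P ≤ M ⊔ P := le_sup_right
  have st : ∀ X ≤ P, im f X ≤ CC (im f M) → X ≤ CC M := fun X hX h => by
    refine cop_stable (cop X hX _ inf_le_left) (H := M ⊓ CC P) ?_ (hX.trans (cc_symm inf_le_right))
    have := dedekind (A := M ⊓ CC P) (H := M) inf_le_left c1
    rw [inf_bot_mono dis inf_le_left le_rfl |> fun e => show P ⊓ CC M ⊓ M = ⊥ from e, sup_bot_eq] at this
    exact this ▸ le_inf ((q.cc_iff lM (hX.trans lP)).1 (cc_symm h)) (comm_le_left (hX.trans m2))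
  obtain ⟨R, r1, r2⟩ := fac_core hp3 (V := im f M) (P := im f P)
    (ab_iff.2 ((q.cc_iff lM lM).2 (d1.trans le_sup_left))) ((hN.mono m1).im lM) (im_pg hP) (im_nn lP lM m2)
    (eq_bot_iff.2 fun y ⟨⟨x, hx, e⟩, h⟩ => by
      rw [← e, mem_bot]
      exact (q.eq_one_iff x.2).2 (mem_sup_right ⟨hx, zpowers_le.1 (st _ (zpowers_le.2 hx)
        (by rw [im_zpowers x.2, zpowers_le]; exact e ▸ h))⟩))
    (fun W h1 h2 => by
      by_cases e : M ⊓ pre f W = M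
      · exact .inr (le_antisymm h1 ((le_pre_iff lM).1 (e.ge.trans inf_le_right)))
      · refine .inl (eq_bot_iff.2 fun y hy => ?_)
        obtain ⟨x, hx, rfl⟩ := h1 hy
        exact (q.eq_one_iff x.2).2 (mem_sup_left (mn _ inf_le_left (nn_inf m2 (q.nn_pre lP h2)) e
          ⟨hx, mem_pre.2 ⟨x.2, hy⟩⟩)))
    (fun e => m3 (st P le_rfl (by rw [e, cc_bot]; exact le_top))) (fun e => m3 (st P le_rfl (e ▸ bot_le)))
  have ex : ∀ C : Set G, closure C = P → ∃ c ∈ C, ∃ h : c ∈ P, f ⟨c, lP h⟩ ∉ R := fun C hC => by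
    by_contra! h
    exact r1 ((le_pre_iff lP).1 (hC.ge.trans ((closure_le _).2 fun c hc =>
      mem_pre.2 ⟨_, h c hc (hC.le (subset_closure hc))⟩)))
  obtain ⟨c, hc, c2, c3⟩ := ex C hC
  obtain ⟨d, hd, d2, d3⟩ := ex D hD
  have l : ∀ c (h : c ∈ P), im f (M ⊓ C1 c) ≤ im f M ⊓ C1 (f ⟨c, lP h⟩) := fun c h => le_inf (im_mono inf_le_left) (by
    rw [← cc_zpowers, ← cc_zpowers, ← im_zpowers]
    exact im_cc (inf_le_left.trans lM) (zpowers_le.2 (lP h)) inf_le_right)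
  have pr : Solv.IsProd (im f M) (im f M ⊓ C1 (f ⟨c, lP c2⟩)) (im f M ⊓ C1 (f ⟨d, lP d2⟩)) := by
    rintro _ ⟨x, hx, rfl⟩
    obtain ⟨u, hu, v, hv, e⟩ := fac c hc d hd x hx
    exact ⟨_, l c c2 (mem_im_of hu (lM hu.1)), _, l d d2 (mem_im_of hv (lM hv.1)), by
      rw [← map_mul]; exact congrArg f (Subtype.ext e)⟩
  exact (r2 _ (mem_im_of c2 _) c3 _ (mem_im_of d2 _) d3).not_ge
    (Nat.le_of_dvd (Nat.mul_pos (card_pos' _) (card_pos' _)) (pr.card_dvd inf_le_left inf_le_left))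

theorem pow_index_mem_der (P : Subgroup G) (h1 : z ∈ center G) (h2 : z ∈ P) (h3 : z ∈ commutator G) :
    z ^ P.index ∈ ⁅P, P⁆ := by
  have e := MonoidHom.transfer_eq_pow (Abelianization.of (G := P)) z fun k g _ => by
    rw [mul_assoc, ← mem_center_iff.1 (pow_mem h1 k) g, inv_mul_cancel_left]
  rw [Abelianization.commutator_subset_ker _ h3] at e
  rw [← map_commutator_eq']
  exact ⟨_, (QuotientGroup.eq_one_iff _).1 e.symm, rfl⟩

theorem mem_der_syl [hp : Fact p.Prime] (hP : IsSyl p P Y) (h1 : z ∈ CC Y) (h2 : z ∈ P) (h3 : z ∈ ⁅Y, Y⁆) :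
    z ∈ ⁅P, P⁆ := by
  rw [← map_commutator_eq'] at h3
  obtain ⟨w, h3, rfl⟩ := h3
  have := mem_map_of_mem Y.subtype (pow_index_mem_der (P.subgroupOf Y)
    (mem_center_iff.2 fun g => Subtype.ext (h1 g g.2)) h2 h3)
  rw [Subgroup.map_commutator, map_subgroupOf_eq_of_le hP.le, map_pow] at this
  obtain ⟨k, hk⟩ := hP.pgroup ⟨_, h2⟩
  refine zpowers_le.2 this (mem_zpowers_pow_iff.2 (Nat.Coprime.coprime_dvd_right
    (orderOf_dvd_of_pow_eq_one (congrArg Subtype.val hk)) ?_))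
  exact (((Nat.Prime.coprime_iff_not_dvd hp.out).2 hP.not_dvd).pow_left k).symm

/-- The generation hypothesis for `C_Y(A)`. -/
def CoC (A Y D : Subgroup G) : Prop := ∀ B ≤ A, ∀ a ∈ A, B ⊔ zpowers a = A → ⁅Y ⊓ CC B, A⁆ ⊓ CC A ≤ D

theorem CoC.bil (h : CoC A Y D) (hA : IsMulCommutative A) (hc : (#A).Coprime #Y) (hn : A ≤ NN Y) (hY : ⁅Y, A⁆ = Y)
    (hD : D ≤ CC A) (h1 : N ≤ Y) (h2 : Y ≤ NN N) (h3 : A ≤ NN N) (h4 : ⁅Y, N⁆ ≤ CC N) : ⁅Y, N⁆ ⊓ CC A ≤ D := by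
  have sA := sol_of_ab hA
  have WN : ⁅Y, N⁆ ≤ N := comm_le_right h2
  have Wa : IsMulCommutative (⁅Y, N⁆ : Subgroup G) := ab_iff.2 (h4.trans (cc_anti WN))
  have nW := nn_comm hn h3
  have W1 : ⁅⁅Y, N⁆, A⁆ ≤ ⁅Y, N⁆ := comm_le_left nW
  set W0 := D ⊓ ⁅Y, N⁆ ⊔ ⁅⁅Y, N⁆, A⁆
  have cw : ∀ x ∈ Y, ∀ n ∈ N, ⁅x, n⁆ ∈ ⁅Y, N⁆ := fun x hx n hn => commutator_mem_commutator hx hn
  let S : Subgroup G :=
    { carrier := {y | y ∈ Y ∧ ∀ n ∈ N, ⁅y, n⁆ ∈ W0}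
      one_mem' := ⟨one_mem _, by simp⟩
      mul_mem' := fun {x y} hx hy => ⟨mul_mem hx.1 hy.1, fun n hn => by
        rw [show ⁅x * y, n⁆ = ⁅x, ⁅y, n⁆⁆ * ⁅y, n⁆ * ⁅x, n⁆ by simp [commutatorElement_def, mul_assoc]]
        exact mul_mem (mul_mem (hx.2 _ (WN (cw y hy.1 n hn))) (hy.2 n hn)) (hx.2 n hn)⟩
      inv_mem' := fun {x} hx => ⟨inv_mem hx.1, fun n hn => by
        rw [show ⁅x⁻¹, n⁆ = ⁅x, ⁅x⁻¹, n⁆⁆⁻¹ * ⁅x, n⁆⁻¹ by simp [commutatorElement_def, mul_assoc]]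
        exact mul_mem (inv_mem (hx.2 _ (WN (cw _ (inv_mem hx.1) n hn)))) (inv_mem (hx.2 n hn))⟩ }
  have k : ∀ B ≤ A, ∀ a ∈ A, B ⊔ zpowers a = A → ⁅Y ⊓ CC B, A⁆ ≤ S := fun B hB a ha e x hx => by
    have n0 : A ≤ NN (Y ⊓ CC B) := nn_inf hn (nn_cc (ab_nn hA le_rfl hB))
    have x0 := comm_le_left n0 hx
    let T : Subgroup G :=
      { carrier := {n | n ∈ N ∧ ⁅x, n⁆ ∈ W0}
        one_mem' := ⟨one_mem _, by simp⟩
        mul_mem' := fun {n m} hn hm => ⟨mul_mem hn.1 hm.1, by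
          rw [show ⁅x, n * m⁆ = ⁅x, n⁆ * (n * ⁅x, m⁆ * n⁻¹) by simp [commutatorElement_def, mul_assoc],
            conj_eq_of_cc (cc_symm h4 hn.1) (cw x x0.1 m hm.1)]
          exact mul_mem hn.2 hm.2⟩
        inv_mem' := fun {n} hn => ⟨inv_mem hn.1, by
          rw [show ⁅x, n⁻¹⁆ = n⁻¹ * ⁅x, n⁆⁻¹ * n⁻¹⁻¹ by simp [commutatorElement_def, mul_assoc],
            conj_eq_of_cc (cc_symm h4 (inv_mem hn.1)) (inv_mem (cw x x0.1 n hn.1))]
          exact inv_mem hn.2⟩ }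
    have : N ≤ T := by
      rw [← Solv.coprime_commutator_sup_centralizer (hB.trans h3) (coprime_mono hc hB h1) (.inl (sol_mono sA hB))]
      refine sup_le (commutator_le.2 fun n hn b hb => ⟨comm_le_left (hB.trans h3) (commutator_mem_commutator hn hb), ?_⟩)
        fun c hc' => ⟨hc'.1, ?_⟩
      · have e1 : b * x * b⁻¹ = x := conj_eq_of_cc (cc_symm inf_le_right hb) x0
        have e2 : ⁅x, ⁅n, b⁆⁆ = ⁅x, n⁆ * (n * (b * ⁅x, n⁻¹⁆ * b⁻¹) * n⁻¹) := by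
          rw [conjugate_commutatorElement, e1]; simp [commutatorElement_def, mul_assoc]
        rw [e2, conj_eq_of_cc (cc_symm h4 hn) (conj_mem_of_mem_normalizer (nW (hB hb)) (cw x x0.1 _ (inv_mem hn))),
          show ⁅x, n⁻¹⁆ = n⁻¹ * ⁅x, n⁆⁻¹ * n⁻¹⁻¹ by simp [commutatorElement_def, mul_assoc],
          conj_eq_of_cc (cc_symm h4 (inv_mem hn)) (inv_mem (cw x x0.1 n hn)), ← mul_assoc, ← mul_assoc]
        exact mem_sup_right (commutator_mem_commutator (cw x x0.1 n hn) (hB hb))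
      · have n1 := nn_inf (nn_comm n0 (le_nn A)) nW
        have := Solv.coprime_commutator_sup_centralizer n1 (coprime_mono hc le_rfl (inf_le_right.trans (WN.trans h1)))
          (.inl sA)
        refine (this.ge.trans (sup_le ((commutator_mono inf_le_right le_rfl).trans le_sup_right) (le_sup_of_le_left
          (le_inf ((inf_le_inf_right _ inf_le_left).trans (h B hB a ha e)) (inf_le_left.trans inf_le_right)))))
          ⟨comm_le_left (left_nn_comm (Y ⊓ CC B) A) (commutator_mem_commutator hx ⟨h1 hc'.1, hc'.2⟩), cw x x0.1 c hc'.1⟩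
    exact ⟨x0.1, fun n hn => (this hn).2⟩
  let U := ⨆ B : {B // B ≤ A ∧ ∃ a ∈ A, B ⊔ zpowers a = A}, ⁅Y ⊓ CC B.1, A⁆
  have u1 : Y ⊓ CC A ≤ NN U := Solv.le_normalizer_iSup fun B =>
    (inf_le_inf_left _ (cc_anti B.2.1)).trans (left_nn_comm _ _)
  have u2 : A ≤ NN U := Solv.le_normalizer_iSup fun B => right_nn_comm _ _
  have u3 : Y ≤ U ⊔ Y ⊓ CC A := Solv.le_of_forall_cocyclic hA hn hc fun B hB a ha e => by
    rw [← Solv.coprime_commutator_sup_centralizer (nn_inf hn (nn_cc (ab_nn hA le_rfl hB)))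
      (coprime_mono hc le_rfl inf_le_left) (.inl sA)]
    exact sup_le_sup (le_iSup_of_le ⟨B, hB, a, ha, e⟩ le_rfl) (inf_le_inf_right _ inf_le_left)
  have u4 : Y ≤ S := hY.ge.trans ((commutator_mono u3 le_rfl).trans ((comm_sup_l (le_nn U) u1 (comm_le_left u2)
    ((comm_eq_bot.2 inf_le_right).le.trans bot_le)).trans (iSup_le fun ⟨B, hB, a, ha, e⟩ => k B hB a ha e)))
  refine (inf_le_inf_right _ (commutator_le.2 fun y hy n hn => (u4 hy).2 n hn)).trans ?_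
  rw [dedekind (inf_le_left.trans hD) (ab_nn Wa W1 inf_le_right), eq_bot_of_le (cop_ab_inf Wa nW
    (coprime_mono hc le_rfl (WN.trans h1))) (inf_le_inf_right _ W1) inf_le_left, sup_bot_eq]
  exact inf_le_left

theorem coc_main (n : ℕ) : ∀ {G : Type u} [Group G] [Finite G] (A Y D : Subgroup G), #Y < n → IsMulCommutative A →
    (#A).Coprime #Y → Group.IsSolvable Y → A ≤ NN Y → ⁅Y, A⁆ = Y → D ≤ Y ⊓ CC A → CoC A Y D → Y ⊓ CC A ≤ D := by
  induction n with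
  | zero => exact fun _ _ _ h => absurd h (Nat.not_lt_zero _)
  | succ n ih =>
  intro G _ _ A Y D hn hA hc hs nA hY hD h
  have sA := sol_of_ab hA
  have red : ∀ K ≤ Y, Y ≤ NN K → A ≤ NN K → K ≠ ⊥ → Y ⊓ CC A ≤ K ⊔ D := fun K k1 k2 k3 k4 => by
    obtain ⟨Q, _, _, f, q⟩ := exists_qm (k1.trans (le_sup_left (b := A))) (sup_le k2 k3)
    have lY : Y ≤ Y ⊔ A := le_sup_left
    have lA : A ≤ Y ⊔ A := le_sup_right
    have lD := hD.trans (inf_le_left.trans lY)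
    have e : ∀ B ≤ A, ∀ X ≤ Y, B ≤ NN X → im f X ⊓ CC (im f B) = im f (X ⊓ CC B) := fun B hB X hX n => by
      have c := coprime_mono hc hB k1
      rw [← q.im_sup_N (hX.trans lY), ← q.im_inf_cc (sup_le q.le (hX.trans lY)) (hB.trans lA) le_sup_left
        (nn_sup (hB.trans k3) n) c (sol_mono hs k1)]
      refine le_antisymm ((q.im_le_iff (inf_le_left.trans (sup_le q.le (hX.trans lY)))
        (inf_le_left.trans (hX.trans lY))).2 fun w hw => ?_) (im_mono (inf_le_inf_right _ le_sup_right))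
      obtain ⟨u, hu, v, hv, rfl⟩ := (mem_sup_l (hX.trans k2)).1 hw.1
      obtain ⟨u', hu', v', hv', e⟩ := Solv.coprime_fixed_mul (hB.trans k3) n (coprime_mono c le_rfl inf_le_left)
        (.inl (sol_mono sA hB)) hu hv hw.2
      exact e ▸ mul_mem (mem_sup_left hu'.1) (mem_sup_right hv')
    refine (q.im_le_iff (inf_le_left.trans lY) lD).1 (e A le_rfl Y le_rfl nA ▸ ih _ _ _ ?_ (im_ab hA lA)
      (im_coprime hc lA lY) (im_sol hs lY) (im_nn lA lY nA) (by rw [← im_comm lY lA, hY])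
      (e A le_rfl Y le_rfl nA ▸ im_mono hD) fun B hB a ⟨x, hx, ex⟩ eB => ?_)
    · have := card_mul_relIndex k1
      have h1 := (one_lt_card_iff_ne_bot _).2 k4
      rw [q.card_im lY]
      nlinarith [relIndex_pos K Y]
    · have e1 : im f (A ⊓ pre f B) = B := le_antisymm ((im_mono inf_le_right).trans (q.im_pre B).le) fun y hy => by
        obtain ⟨w, hw, rfl⟩ := hB hy
        exact ⟨w, ⟨hw, mem_pre.2 ⟨w.2, hy⟩⟩, rfl⟩
      have n0 : A ≤ NN (Y ⊓ CC (A ⊓ pre f B)) := nn_inf nA (nn_cc (ab_nn hA le_rfl inf_le_left))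
      have l0 : A ⊓ pre f B ⊔ zpowers x.1 ≤ A := sup_le inf_le_left (zpowers_le.2 hx)
      rw [← e1, e _ inf_le_left Y le_rfl (inf_le_left.trans nA), ← im_comm (inf_le_left.trans lY) lA,
        e A le_rfl _ ((comm_le_left n0).trans inf_le_left) (right_nn_comm _ _)]
      refine im_mono (h _ inf_le_left x hx (eq_of_card_le l0 ?_))
      have d := inf_of_coprime (coprime_mono hc le_rfl k1).symm
      rw [← q.card_im_of_disj lA d, ← q.card_im_of_disj (l0.trans lA) (inf_bot_mono d le_rfl l0),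
        im_sup (inf_le_left.trans lA) (zpowers_le.2 x.2), e1, im_zpowers x.2, ← eB, ← ex]
  have fin : ∀ K ≤ Y, Y ≤ NN K → A ≤ NN K → K ≠ ⊥ → K ⊓ CC A ≤ D → Y ⊓ CC A ≤ D := fun K k1 k2 k3 k4 k5 => by
    have := le_inf (red K k1 k2 k3 k4) inf_le_right
    rwa [sup_comm, dedekind' (hD.trans inf_le_right) (hD.trans (inf_le_left.trans k2)), sup_eq_left.2 k5] at this
  by_cases ab : ⁅Y, Y⁆ = ⊥
  · exact (eq_bot_of_le (cop_ab_inf (ab_iff_der.2 ab) nA hc) le_rfl (inf_le_left.trans hY.ge)).le.trans bot_le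
  obtain ⟨N, n1, ⟨n2, n3, n4⟩, n5⟩ := Solv.exists_minimal_le (P := fun N => Y ≤ NN N ∧ A ≤ NN N ∧ ⁅Y, N⁆ ≠ ⊥)
    ⟨le_nn Y, nA, ab⟩
  have WN : ⁅Y, N⁆ ≤ N := comm_le_right n2
  by_cases c : ⁅Y, N⁆ ≤ CC N
  · exact fin _ (WN.trans n1) (nn_comm (le_nn Y) n2) (nn_comm nA n3) n4
      (h.bil hA hc nA hY (hD.trans inf_le_right) n1 n2 n3 c)
  have mn : ∀ L ≤ N, Y ≤ NN L → A ≤ NN L → L ≠ N → L ≤ CC Y := fun L l1 l2 l3 l4 =>
    comm_eq_bot'.1 (by_contra fun e => l4 (n5 L ⟨l2, l3, e⟩ l1))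
  have e1 : ⁅Y, N⁆ = N := by_contra fun e =>
    c ((mn _ WN (nn_comm (le_nn Y) n2) (nn_comm nA n3) e).trans (cc_anti n1))
  have N0 : N ≠ ⊥ := fun e => n4 (by rw [e, commutator_bot_right])
  have z1 : Y ⊓ CC Y ≠ ⊥ := fun e => c (WN.trans (comm_eq_bot.1 (eq_bot_of_le e ((der_le N).trans n1)
    (mn _ (der_le N) (nn_comm n2 n2) (nn_comm n3 n3) (sol_der_lt (sol_mono hs n1) N0).ne))))
  by_cases z2 : Y ⊓ CC Y ⊓ CC A = ⊥
  · exact fin _ inf_le_left (nn_inf (le_nn Y) (nn_cc (le_nn Y))) (nn_inf nA (nn_cc nA)) z1 (z2.le.trans bot_le)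
  obtain ⟨K, k1, pK⟩ := exists_prime_sub z2
  haveI := Fact.mk pK
  have kY := k1.trans (inf_le_left.trans inf_le_left)
  have kC := k1.trans (inf_le_left.trans inf_le_right)
  have kA := nn_of_cc (cc_symm (k1.trans inf_le_right))
  refine fin K kY (nn_of_cc (cc_symm kC)) kA (prime_ne_bot pK) (inf_le_left.trans fun z hz => ?_)
  obtain ⟨P, hP, p1, p2⟩ := cop_syl_ge nA hc hs kY (pg_of_card rfl) kA
  have lt : P < Y := lt_of_le_of_ne hP.le fun e => (nil_comm_lt (nil_of_pg (e ▸ hP.pgroup)) n1 n2 N0).ne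
    (Subgroup.commutator_comm Y N ▸ e1)
  have cP := coprime_mono hc le_rfl hP.le
  have sP := sol_of_pg hP.pgroup
  have PP : ⁅P, A⁆ ≤ P := comm_le_left p2
  have h1 := mem_der_syl hP (kC hz) (p1 hz) (cop_cc_le_der nA hc hY ⟨kY hz, (k1 hz).2⟩)
  rw [← cop_comm_sup p2 cP sP] at h1
  have n6 : P ⊓ CC A ≤ NN ⁅P, A⁆ := inf_le_left.trans (left_nn_comm _ _)
  obtain ⟨u, hu, v, hv, rfl⟩ := (mem_sup_l ((der_le _).trans n6)).1 (der_sup_le n6 h1)
  have h2 : ⁅K ⊔ D, K ⊔ D⁆ ≤ D := by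
    rw [sup_comm]
    exact (der_sup_le (nn_of_cc (kC.trans (cc_anti (hD.trans inf_le_left))))).trans
      (sup_le le_rfl ((ab_iff_der.1 (ab_of_cyc (prime_cyc pK))).le.trans bot_le))
  have h3 := h2 (der_mono ((inf_le_inf_right _ hP.le).trans (red K kY (nn_of_cc (cc_symm kC)) kA (prime_ne_bot pK))) hv)
  refine mul_mem (mem_inf.1 (ih A ⁅P, A⁆ (D ⊓ ⁅P, A⁆) (by have := card_lt_of_lt (PP.trans_lt lt); omega) hA
    (coprime_mono cP le_rfl PP) (sol_mono sP PP) (right_nn_comm _ _) (cop_comm_comm p2 cP sP)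
    (le_inf inf_le_right (inf_le_left.trans (hD.trans inf_le_right))) (fun B hB a ha e => le_inf ((inf_le_inf_right _
      (commutator_mono (inf_le_inf_right _ (PP.trans hP.le)) le_rfl)).trans (h B hB a ha e)) (inf_le_left.trans
        (commutator_mono (inf_le_left.trans PP) le_rfl)))
    ⟨hu, (mul_mem_cancel_right (mem_inf.1 (hD h3)).2).1 (mem_inf.1 (k1 hz)).2⟩)).1 h3

theorem coc_gen (hAc : IsMulCommutative A) (hB : B ≤ A) (hc : (#A).Coprime #Y) (hs : Group.IsSolvable Y)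
    (hAY : A ≤ NN Y) (hYA : ⁅Y, A⁆ = Y) : Y ⊓ CC B = ⨆ B₀ : {B₀ : Subgroup G // B₀ ≤ B ∧
      ∀ [(B₀.subgroupOf B).Normal], IsCyclic (↥B ⧸ B₀.subgroupOf B)}, Y ⊓ CC B ⊓ ⁅Y ⊓ CC B₀.1, A⁆ := by
  refine le_antisymm ?_ (iSup_le fun _ => inf_le_left)
  have n0 : A ≤ NN (Y ⊓ CC B) := nn_inf hAY (nn_cc (ab_nn hAc le_rfl hB))
  refine (cop_comm_sup n0 (coprime_mono hc le_rfl inf_le_left) (sol_mono hs inf_le_left)).ge.trans (sup_le
    (le_iSup_of_le ⟨B, le_rfl, by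
      rw [subgroupOf_self]; intro; haveI := QuotientGroup.subsingleton_quotient_top (G := B); infer_instance⟩ (le_inf (comm_le_left n0) le_rfl))
    ((inf_le_inf_right _ inf_le_left).trans ((coc_main _ A Y _ (Nat.lt_succ_self _) hAc hc hs hAY hYA inf_le_right
      fun E hE a ha e => ?_).trans inf_le_left)))
  have l : ⁅Y ⊓ CC E, A⁆ ≤ Y := (comm_le_left (nn_inf hAY (nn_cc (ab_nn hAc le_rfl hE)))).trans inf_le_left
  refine le_inf (le_iSup_of_le ⟨E ⊓ B, inf_le_right, ?_⟩ (le_inf (inf_le_inf l (cc_anti hB)) (inf_le_left.trans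
    (commutator_mono (inf_le_inf_left _ (cc_anti inf_le_left)) le_rfl)))) (inf_le_inf_right _ l)
  intro
  obtain ⟨Q, _, _, f, q⟩ := exists_qm hE (ab_nn hAc le_rfl hE)
  haveI : IsCyclic Q := Solv.isCyclic_top_iff.1 (by
    have := im_sup (f := f) hE (zpowers_le.2 ha)
    rw [e, q.im_top, q.im_N, bot_sup_eq] at this
    exact this ▸ im_cyc (cyc_zpowers a) (zpowers_le.2 ha))
  let φ := f.comp (inclusion hB)
  have : (E ⊓ B).subgroupOf B = φ.ker := by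
    ext x; exact ⟨fun h => (q.eq_one_iff _).2 h.1, fun h => ⟨(q.eq_one_iff _).1 h, x.2⟩⟩
  exact isCyclic_of_surjective _ ((QuotientGroup.quotientMulEquivOfEq this).trans
    (QuotientGroup.quotientKerEquivRange φ)).symm.surjective

end Cfsg.Agent.PU
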