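import Cfsg.Agent.Lib.PU.Ms29
import Cfsg.Agent.S4207
import Cfsg.Agent.Lib.Transfer.SL2
import Cfsg.Agent.Lib.Solv.Super

/-! Small essential subgroups: abstract automorphism data, abelian groups of rank two. -/

set_option autoImplicit false
set_option linter.unusedSectionVars false
set_option linter.unusedVariables false
open Cfsg Cfsg.FusionSystem
open scoped commutatorElement

namespace Cfsg.Agent.PU.Sm

open Cfsg.Agent.Fusion

/-- The automorphism data of an essential subgroup. -/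
structure Es (p : ℕ) (X : Type*) [Group X] (A : Subgroup (MulAut X)) : Prop where
  pg : IsPGroup p X
  rad : ∀ N ≤ A, IsPGroup p N → (∀ a ∈ A, ∀ n ∈ N, a * n * a⁻¹ ∈ N) → N ≤ Inn X
  ex : ∃ σ ∈ A, (∃ k, σ ^ p ^ k = 1) ∧ σ ∉ Inn X

theorem es_of_ess {Ω : Type*} [Group Ω] {S P : Subgroup Ω} {F : FusionSystem S} {p : ℕ}
    [hp : Fact p.Prime] [Finite S] (hS : IsPGroup p S) (hF : F.IsSaturated p)
    (hP : F.IsEssential p P) : Es p P (F.autGroup P) := by
  have hlt := ess_lt hS hF hP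
  refine ⟨pgroup_of_le hS hlt.le, ((isRadical_iff hS).1 (radical_of_essential hS hP)).2, ?_⟩
  obtain ⟨s, s1, s3, s2⟩ := exists_mem_normalizer_of_lt hS hlt
  obtain ⟨σ, e⟩ := exists_cAut s2
  refine ⟨σ, autInducedBy_le_autGroup F hlt.le (mem_autInducedBy.2 ⟨s, s1, e⟩), ?_,
    fun h => s3 (mem_of_cAut_mem_Inn (IsCentric.cent_le hP.1) hlt.le s1 e h)⟩
  obtain ⟨k, hk⟩ := hS ⟨s, s1⟩
  have hk' : s ^ p ^ k = 1 := congrArg Subtype.val hk
  have : ∀ n : ℕ, ∀ x ∈ P, afun (σ ^ n) x = s ^ n * x * (s ^ n)⁻¹ := fun n => by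
    induction n with
    | zero => intro x hx; simp [afun_one]
    | succ n ih =>
      intro x hx
      rw [pow_succ', afun_mul _ _ hx, e _ (afun_mem _ hx), ih x hx, pow_succ']; group
  exact ⟨k, aut_ext fun x hx => by rw [this _ x hx, hk', afun_one]; simp⟩

section
variable {X : Type*} [Group X] [Finite X] {p : ℕ} [hp : Fact p.Prime] {A : Subgroup (MulAut X)}
  {Y Z : Subgroup X} {σ : MulAut X}

/-- Invariance under a group of automorphisms. -/
def Inv (A : Subgroup (MulAut X)) (Y : Subgroup X) : Prop := ∀ a ∈ A, ∀ y ∈ Y, a y ∈ Y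

theorem Inv.char (Y : Subgroup X) [h : Y.Characteristic] : Inv A Y := fun a _ y hy =>
  (Subgroup.characteristic_iff_le_comap.1 h a) hy

/-- The automorphisms acting trivially on a section. -/
def St (Y : Subgroup X) (h : Inv A Z) : Subgroup (MulAut X) where
  carrier := {α | α ∈ A ∧ ∀ y ∈ Y, α y * y⁻¹ ∈ Z}
  one_mem' := ⟨A.one_mem, fun y _ => by simp⟩
  mul_mem' := fun {a b} ha hb => ⟨A.mul_mem ha.1 hb.1, fun y hy => by
    simpa [mul_assoc] using Z.mul_mem (h a ha.1 _ (hb.2 y hy)) (ha.2 y hy)⟩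
  inv_mem' := fun {a} ha => ⟨A.inv_mem ha.1, fun y hy => by
    simpa using h _ (A.inv_mem ha.1) _ (Z.inv_mem (ha.2 y hy))⟩

theorem St.conj (hY : Inv A Y) (h : Inv A Z) {a n : MulAut X} (ha : a ∈ A) (hn : n ∈ St Y h) :
    a * n * a⁻¹ ∈ St Y h := ⟨A.mul_mem (A.mul_mem ha hn.1) (A.inv_mem ha), fun y hy => by
  simpa using h a ha _ (hn.2 _ (hY _ (A.inv_mem ha) y hy))⟩

theorem pgroup_frat (hX : IsPGroup p X) {B : Subgroup (MulAut X)}
    (h : ∀ α ∈ B, ∀ x, α x * x⁻¹ ∈ frattini X) : IsPGroup p B := by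
  obtain ⟨n, hn⟩ := IsPGroup.iff_card.1 hX
  obtain ⟨r, hr⟩ := hX.index (frattini X)
  obtain ⟨k, -, hk⟩ := (Nat.dvd_prime_pow hp.out).1 (S4207.result hn hr B h)
  exact .of_card hk

theorem normal_of_frat (hX : IsPGroup p X) (h : frattini X ≤ Z) : Z.Normal :=
  ⟨fun n hn g => by
    simpa [commutatorElement_def] using Z.mul_mem (h (Solv.commutator_le_frattini_of_isPGroup hX
      (Subgroup.commutator_mem_commutator (Subgroup.mem_top g) (Subgroup.mem_top n)))) hn⟩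

theorem pow_step (hX : IsPGroup p X) (h : frattini X ≤ Z)
    (h1 : ∀ x, σ x * x⁻¹ ∈ Y) (h2 : ∀ y ∈ Y, σ y * y⁻¹ ∈ Z) (h3 : ∀ z ∈ Z, σ z ∈ Z) (x : X) :
    (σ ^ p) x * x⁻¹ ∈ Z := by
  have := normal_of_frat hX h
  have : ∀ n : ℕ, ∃ z ∈ Z, (σ ^ n) x = z * (σ x * x⁻¹) ^ n * x := fun n => by
    induction n with
    | zero => exact ⟨1, Z.one_mem, by simp⟩
    | succ n ih =>
      obtain ⟨z, hz, e⟩ := ih
      refine ⟨_, Z.mul_mem (h3 z hz) (h2 _ (Y.pow_mem (h1 x) n)), ?_⟩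
      rw [pow_succ', MulAut.mul_apply, e, map_mul, map_mul, pow_succ]; group
  obtain ⟨z, hz, e⟩ := this p
  rw [e, mul_inv_cancel_right]
  exact Z.mul_mem hz (h (Solv.pow_mem_frattini hX _))

theorem triv_of_idx (hX : IsPGroup p X) [hn : Z.Normal] {k : ℕ} (hσ : σ ^ p ^ k = 1)
    (hi : Z.relIndex Y ≤ p) (h1 : ∀ y ∈ Y, σ y ∈ Y) (h2 : ∀ z ∈ Z, σ z ∈ Z) {y : X} (hy : y ∈ Y) :
    σ y * y⁻¹ ∈ Z := by
  by_cases hz : y ∈ Z
  · exact Z.mul_mem (h2 y hz) (Z.inv_mem hz)
  have hY := hX.to_subgroup Y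
  have e := relIndex_eq_of_le hY le_rfl hi hy hz
  obtain ⟨i, hi⟩ := dec_of_relIndex hY e hy hz (h1 y hy)
  have hp' : (y : X ⧸ Z) ^ p = 1 := by
    rw [← QuotientGroup.mk_pow, QuotientGroup.eq_one_iff, ← e]; exact Z.pow_relIndex_mem hy
  have q : ∀ a b : X, a * b⁻¹ ∈ Z ↔ (a : X ⧸ Z) = b := fun a b => by
    rw [← QuotientGroup.eq_one_iff, QuotientGroup.mk_mul, QuotientGroup.mk_inv, mul_inv_eq_one]
  have h3 : ∀ n : ℕ, ∀ z ∈ Z, (σ ^ n) z ∈ Z := fun n => by
    induction n with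
    | zero => simp
    | succ n ih => exact fun z hz => by rw [pow_succ, MulAut.mul_apply]; exact ih _ (h2 z hz)
  have : ∀ n : ℕ, ((σ ^ n) y : X ⧸ Z) = (y : X ⧸ Z) ^ i ^ n := fun n => by
    induction n with
    | zero => simp
    | succ n ih =>
      have := h3 n _ hi
      rw [map_mul, map_inv, q, map_pow, QuotientGroup.mk_pow, ih, ← pow_mul] at this
      rw [pow_succ, MulAut.mul_apply, this, pow_succ]
  have h4 := this (p ^ k)
  have h5 : i ^ p ^ k % p = i % p :=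
    (ZMod.natCast_eq_natCast_iff' _ _ _).1 (by push_cast; exact ZMod.pow_card_pow _)
  rw [hσ, MulAut.one_apply, pow_eq_pow_mod _ hp', h5, ← pow_eq_pow_mod _ hp'] at h4
  rw [q] at hi ⊢
  rw [hi, QuotientGroup.mk_pow, ← h4]

theorem Es.no_chain (h : Es p X A) (hY : Inv A Y) (hZ : Inv A Z) (h1 : frattini X ≤ Z) (h2 : Z ≤ Y)
    (i1 : Y.relIndex ⊤ ≤ p) (i2 : Z.relIndex Y ≤ p) (i3 : (frattini X).relIndex Z ≤ p) : False := by
  obtain ⟨σ, s1, ⟨k, s2⟩, s3⟩ := h.ex
  have hF : Inv A (frattini X) := .char _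
  have hT : Inv A ⊤ := .char _
  have := normal_of_frat h.pg h1
  have := normal_of_frat h.pg (h1.trans h2)
  refine s3 (h.rad (St ⊤ hY ⊓ St Y hZ ⊓ St Z hF) (fun a ha => ha.2.1) (fun a => ?_)
    (fun a ha n hn => ⟨⟨St.conj hT hY ha hn.1.1, St.conj hY hZ ha hn.1.2⟩, St.conj hZ hF ha hn.2⟩)
    ⟨⟨⟨s1, fun y hy => triv_of_idx h.pg s2 i1 (hT σ s1) (hY σ s1) hy⟩,
      s1, fun y hy => triv_of_idx h.pg s2 i2 (hY σ s1) (hZ σ s1) hy⟩,
      s1, fun y hy => triv_of_idx h.pg s2 i3 (hZ σ s1) (hF σ s1) hy⟩)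
  obtain ⟨a, ⟨a1, a2⟩, a3⟩ := a
  have b1 := pow_step h.pg h1 (fun x => a1.2 x trivial) a2.2 (hZ a a1.1)
  have b2 := (St Z hF).pow_mem a3 p
  have b3 := pow_step h.pg le_rfl b1 b2.2 (hF _ b2.1)
  obtain ⟨j, hj⟩ := pgroup_frat h.pg (B := St ⊤ hF) (fun α hα x => hα.2 x trivial)
    ⟨(a ^ p) ^ p, A.pow_mem b2.1 p, fun x _ => b3 x⟩
  refine ⟨j + 2, Subtype.ext ?_⟩
  have := congrArg Subtype.val hj
  simp only [Subgroup.coe_pow, Subgroup.coe_one, ← pow_mul] at this ⊢
  rw [← this]; congr 1; ring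

theorem le_rel (hX : IsPGroup p X) (h : Z < Y) : p ≤ Z.relIndex Y := by
  obtain ⟨x, x1, x2⟩ := SetLike.exists_of_lt h
  exact le_relIndex (hX.to_subgroup Y) le_rfl x1 x2

theorem mul_card (hX : IsPGroup p X) (h : Z < Y) : p * Nat.card Z ≤ Nat.card Y :=
  mul_card_le (hX.to_subgroup Y) le_rfl h

theorem Es.no1 (h : Es p X A) (i : (frattini X).index ≤ p) : False :=
  h.no_chain (.char (frattini X)) (.char _) le_rfl le_rfl (by simpa using i)
    (by simpa using hp.out.one_le) (by simpa using hp.out.one_le)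

theorem Es.no2 (h : Es p X A) (i : (frattini X).index ≤ p ^ 2) (hY : Inv A Y) (h1 : frattini X < Y)
    (h2 : Y ≠ ⊤) : False := by
  have a := le_rel h.pg h1
  have b := le_rel h.pg h2.lt_top
  have e := Subgroup.relIndex_mul_relIndex _ _ _ h1.le (le_top (a := Y))
  rw [Subgroup.relIndex_top_right (frattini X)] at e
  have := hp.out.pos
  exact h.no_chain hY (.char _) le_rfl h1.le (by nlinarith) (by nlinarith)
    (by simpa using hp.out.one_le)

theorem Es.no3 (h : Es p X A) (i : (frattini X).index ≤ p ^ 3) (hY : Inv A Y) (hZ : Inv A Z)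
    (h1 : frattini X < Z) (h2 : Z < Y) (h3 : Y ≠ ⊤) : False := by
  have a := le_rel h.pg h1
  have b := le_rel h.pg h2
  have c := le_rel h.pg h3.lt_top
  have e := Subgroup.relIndex_mul_relIndex _ _ _ (h1.trans h2).le (le_top (a := Y))
  rw [Subgroup.relIndex_top_right (frattini X), ← Subgroup.relIndex_mul_relIndex _ _ _ h1.le h2.le] at e
  rw [← e] at i
  have := hp.out.pos
  have k : ∀ a b c : ℕ, p ≤ a → p ≤ b → a * b * c ≤ p ^ 3 → c ≤ p := fun a b c ha hb e =>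
    Nat.le_of_mul_le_mul_left ((Nat.mul_le_mul_right c (Nat.mul_le_mul ha hb)).trans
      (by rwa [← pow_three'])) (mul_pos this this)
  exact h.no_chain hY hZ h1.le h2.le (k _ _ _ a b i) (k _ _ _ a c (by rwa [mul_right_comm]))
    (k _ _ _ b c (by rwa [mul_comm, ← mul_assoc]))

theorem Es.idx (h : Es p X A) (i : (frattini X).index ≤ p ^ 2) : (frattini X).index = p ^ 2 := by
  obtain ⟨r, hr⟩ := h.pg.index (frattini X)
  rw [hr, Nat.pow_le_pow_iff_right hp.out.one_lt] at i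
  by_contra hne
  refine h.no1 (hr ▸ ?_)
  have : r ≤ 1 := by by_contra; exact hne (by rw [hr, show r = 2 by omega])
  simpa using Nat.pow_le_pow_right hp.out.pos this

theorem exists_fix (hX : IsPGroup p X) [Z.Normal] (h : Z ≠ ⊤) {k : ℕ} (hσ : σ ^ p ^ k = 1)
    (h2 : Z.map σ.toMonoidHom = Z) : ∃ x ∉ Z, σ x * x⁻¹ ∈ Z := by
  classical
  have := Fintype.ofFinite (X ⧸ Z)
  let τ : Equiv.Perm (X ⧸ Z) := (QuotientGroup.congr Z Z σ h2).toEquiv
  have e : ∀ n : ℕ, ∀ x : X, (τ ^ n) x = ((σ ^ n) x : X) := fun n => by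
    induction n with
    | zero => simp
    | succ n ih => exact fun x => by rw [pow_succ', Equiv.Perm.mul_apply, ih, pow_succ']; rfl
  obtain ⟨b, b1, b2⟩ := Equiv.Perm.exists_fixed_point_of_prime' (p := p) (n := k) (σ := τ) (a := 1) (by
      obtain ⟨r, hr⟩ := hX.index Z
      rw [← Nat.card_eq_fintype_card, ← Subgroup.index, hr]
      exact dvd_pow_self _ fun e => h (Subgroup.index_eq_one.1 (by rw [hr, e, pow_zero])))
    (Equiv.ext fun x => by obtain ⟨x, rfl⟩ := QuotientGroup.mk_surjective x; rw [e, hσ]; rfl)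
    (map_one (QuotientGroup.congr Z Z σ h2))
  obtain ⟨x, rfl⟩ := QuotientGroup.mk_surjective b
  refine ⟨x, fun hx => b2 ((QuotientGroup.eq_one_iff x).2 hx), ?_⟩
  rw [← QuotientGroup.eq_one_iff, QuotientGroup.mk_mul, QuotientGroup.mk_inv, mul_inv_eq_one]
  exact b1

theorem le_card_gen (hX : IsPGroup p X) {n : ℕ} (h : (frattini X).index = p ^ n) (l : List X)
    (hl : Subgroup.closure {x | x ∈ l} = ⊤) : n ≤ l.length := by
  classical
  exact ((S0014.result p n hX h).2 l.toFinset (by simpa using hl)).trans l.toFinset_card_le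

theorem exists_gen2 (hX : IsPGroup p X) (h : (frattini X).index = p ^ 2) :
    ∃ x y : X, Subgroup.closure {x, y} = ⊤ := by
  classical
  have := Fintype.ofFinite X
  obtain ⟨T, -, h1, h2⟩ := (S0014.result p 2 hX h).1 Finset.univ (by simp)
  obtain ⟨x, y, -, rfl⟩ := Finset.card_eq_two.1 h1
  exact ⟨x, y, by simpa using h2⟩

theorem pv {n : ℕ} [NeZero n] {x : X} (hx : x ^ n = 1) (a b : ZMod n) :
    x ^ (a + b).val = x ^ a.val * x ^ b.val := by
  rw [ZMod.val_add, ← pow_eq_pow_mod _ hx, pow_add]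

theorem pc {n : ℕ} [NeZero n] {x : X} (hx : x ^ n = 1) (i : ℕ) : x ^ (i : ZMod n).val = x ^ i := by
  rw [ZMod.val_natCast, ← pow_eq_pow_mod _ hx]

theorem pm {n : ℕ} [NeZero n] {x : X} (hx : x ^ n = 1) (a b : ZMod n) :
    x ^ (a * b).val = (x ^ a.val) ^ b.val := by
  rw [ZMod.val_mul, ← pow_eq_pow_mod _ hx, pow_mul]

theorem p1 {n : ℕ} [NeZero n] {x : X} (hx : x ^ n = 1) : x ^ (1 : ZMod n).val = x := by
  simpa using pc hx 1

theorem mem_of_pow (hX : IsPGroup p X) {x : X} {i : ℕ} (h : x ^ i ∈ Y) (hi : ¬ p ∣ i) : x ∈ Y := by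
  obtain ⟨k, hk⟩ := (IsPGroup.iff_orderOf.1 hX) x
  exact Solv.mem_of_pow_mem_of_coprime_orderOf h
    (hk ▸ ((Nat.Prime.coprime_iff_not_dvd hp.out).2 hi).pow_left k)

end

section
variable {X : Type*} [CommGroup X] [Finite X] {p : ℕ} [hp : Fact p.Prime] {A : Subgroup (MulAut X)}
  {σ : MulAut X}

/-- The map to an abelian group given by two elements. -/
def hom2 {m n : ℕ} [NeZero m] [NeZero n] {x y : X} (hx : x ^ m = 1) (hy : y ^ n = 1) :
    Multiplicative (ZMod m × ZMod n) →* X :=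
  MonoidHom.mk' (fun a => x ^ a.toAdd.1.val * y ^ a.toAdd.2.val) fun a b => by
    simp only [toAdd_mul, Prod.fst_add, Prod.snd_add, pv hx, pv hy]; ac_rfl

theorem hom2_surj {m n : ℕ} [NeZero m] [NeZero n] {x y : X} (hx : x ^ m = 1) (hy : y ^ n = 1)
    (h : Subgroup.closure {x, y} = ⊤) : Function.Surjective (hom2 hx hy) := by
  rw [← MonoidHom.range_eq_top, eq_top_iff, ← h, Subgroup.closure_le, Set.pair_subset_iff]
  exact ⟨⟨.ofAdd (1, 0), by simp [hom2, p1 hx]⟩, .ofAdd (0, 1), by simp [hom2, p1 hy]⟩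

theorem indep (hX : IsPGroup p X) (h : (frattini X).index = p ^ 2) {x y : X}
    (e : Subgroup.closure {x, y} = ⊤) {i j : ℕ} (hij : x ^ i * y ^ j ∈ frattini X) : p ∣ i := by
  by_contra hi
  have : Subgroup.zpowers y = ⊤ := Solv.eq_top_of_sup_le_frattini le_rfl (by
    rw [eq_top_iff, ← e, Subgroup.closure_le, Set.pair_subset_iff]
    refine ⟨mem_of_pow hX (i := i) ?_ hi, Subgroup.mem_sup_left (Subgroup.mem_zpowers y)⟩
    simpa using Subgroup.mul_mem _ (Subgroup.mem_sup_right hij) (Subgroup.inv_mem _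
      (Subgroup.mem_sup_left (S := Subgroup.zpowers y) (Subgroup.npow_mem_zpowers y j))))
  have := le_card_gen hX h [y] (by simpa [← Subgroup.zpowers_eq_closure] using this)
  simp at this

theorem frat_eq (hX : IsPGroup p X) {z : X} (hz : z ∈ frattini X) : ∃ w, z = w ^ p := by
  obtain ⟨w, hw⟩ := Solv.frattini_le_of_commutator_le_of_pow_mem (p := p)
    (N := (powMonoidHom p : X →* X).range) (by simp [commutator_eq_bot]) (fun x => ⟨x, rfl⟩) hz
  exact ⟨w, hw.symm⟩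

theorem Es.frat_one (h : Es p X A) (s1 : σ ∈ A) (s2 : ∀ x, σ x * x⁻¹ ∈ frattini X) : σ = 1 := by
  have hF : Inv A (frattini X) := .char _
  obtain ⟨g, rfl⟩ := h.rad (St ⊤ hF) (fun a ha => ha.1) (pgroup_frat h.pg fun α hα x => hα.2 x trivial)
    (fun a ha n hn => St.conj (.char _) hF ha hn) (show σ ∈ _ from ⟨s1, fun x _ => s2 x⟩)
  ext; simp

/-- The map `x ↦ σ x / x`. -/
def dd (σ : MulAut X) : X →* X := σ.toMonoidHom / MonoidHom.id X

theorem dd_eq (x : X) : σ x = x * dd σ x := by simp [dd]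

theorem dd_eq' (x : X) : σ x * x⁻¹ = dd σ x := by simp [dd, div_eq_mul_inv]

theorem exists_fix2 (hX : IsPGroup p X) (h : (frattini X).index = p ^ 2) {k : ℕ} (hσ : σ ^ p ^ k = 1) :
    frattini X < (frattini X).comap (dd σ) ∧ ∀ x, dd σ (dd σ x) ∈ frattini X := by
  have hF : ∀ z ∈ frattini X, σ z ∈ frattini X := Inv.char (A := ⊤) _ σ trivial
  have h1 : frattini X ≠ ⊤ := fun e => by
    rw [e, Subgroup.index_top] at h; exact (Nat.one_lt_pow two_ne_zero hp.out.one_lt).ne h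
  obtain ⟨x, x1, x2⟩ := exists_fix hX h1 hσ (Subgroup.characteristic_iff_map_eq.1 inferInstance σ)
  have h2 : frattini X < (frattini X).comap (dd σ) := SetLike.lt_iff_le_and_exists.2 ⟨fun z hz => by
    rw [Subgroup.mem_comap, ← dd_eq']; exact mul_mem (hF z hz) (inv_mem hz), x, by rwa [dd_eq'] at x2, x1⟩
  refine ⟨h2, fun y => ?_⟩
  rw [← Subgroup.mem_comap, ← dd_eq']
  refine triv_of_idx hX hσ (Y := ⊤) ?_ (by simp) (fun z hz => ?_) trivial
  · have := Subgroup.relIndex_mul_index h2.le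
    have := le_rel hX h2
    have := hp.out.pos
    rw [Subgroup.relIndex_top_right]; nlinarith
  · rw [dd_eq z]; exact mul_mem hz (h2.le hz)

theorem Es.le_three (h : Es p X A) (i : (frattini X).index = p ^ 2)
    (hΩ : ∀ x : X, x ^ p = 1 → x ∈ frattini X) : p ≤ 3 := by
  by_contra h5
  obtain ⟨σ, s1, ⟨k, s2⟩, s3⟩ := h.ex
  obtain ⟨-, f2⟩ := exists_fix2 h.pg i s2
  have hF : ∀ z ∈ frattini X, σ z ∈ frattini X := Inv.char (A := ⊤) _ σ trivial
  have e1 : σ ^ p = 1 := h.frat_one (A.pow_mem s1 p) (pow_step h.pg le_rfl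
    (Y := (frattini X).comap (dd σ)) (fun x => dd_eq' x ▸ f2 x) (fun y hy => dd_eq' y ▸ hy) hF)
  refine s3 (h.frat_one s1 (fun x => ?_) ▸ one_mem _)
  obtain ⟨c, hc⟩ := frat_eq h.pg (f2 x)
  obtain ⟨f, hf⟩ := frat_eq h.pg (f2 c)
  have key : ∀ n : ℕ, ∃ w, (σ ^ n) x = x * dd σ x ^ n * (c ^ p) ^ n.choose 2 *
      (dd σ c ^ p) ^ n.choose 3 * (w ^ p) ^ p := fun n => by
    induction n with
    | zero => exact ⟨1, by simp⟩
    | succ n ih =>
      obtain ⟨w, e⟩ := ih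
      refine ⟨σ w * f ^ n.choose 3, ?_⟩
      rw [pow_succ', MulAut.mul_apply, e]
      simp only [map_mul, map_pow]
      rw [dd_eq x, dd_eq (dd σ x), dd_eq c, dd_eq (dd σ c), hc, hf,
        show (n + 1).choose 2 = n + n.choose 2 by simpa using Nat.choose_succ_succ' n 1,
        show (n + 1).choose 3 = n.choose 2 + n.choose 3 from Nat.choose_succ_succ' n 2]
      apply Additive.ofMul.injective; simp only [ofMul_mul, ofMul_pow]; module
  obtain ⟨w, e⟩ := key p
  obtain ⟨a, ha⟩ := hp.out.dvd_choose_self (k := 2) two_ne_zero (by omega)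
  obtain ⟨b, hb⟩ := hp.out.dvd_choose_self (k := 3) three_ne_zero (by omega)
  have := hΩ (dd σ x * (c ^ a * dd σ c ^ b * w) ^ p) (mul_left_cancel (a := x) (by
    rw [e1, ha, hb, MulAut.one_apply] at e
    rw [mul_one]; nth_rw 3 [e]
    simp only [mul_pow, ← pow_mul, ← mul_assoc, mul_comm a, mul_comm b, mul_right_comm p a,
      mul_right_comm p b]))
  rw [dd_eq']
  exact (Subgroup.mul_mem_cancel_right _ (Solv.pow_mem_frattini h.pg _)).1 this

theorem Es.homo (h : Es p X A) (i : (frattini X).index ≤ p ^ 2) : ∃ m, (m = 0 ∨ p ≤ 3) ∧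
    (∀ x : X, x ^ p ^ (m + 1) = 1) ∧ Nat.card X = p ^ (2 * (m + 1)) ∧
      Nonempty (X ≃* Multiplicative (ZMod (p ^ (m + 1)) × ZMod (p ^ (m + 1)))) := by
  classical
  have i2 := h.idx i
  obtain ⟨n, hn⟩ := IsPGroup.iff_card.1 h.pg
  have ex : ∃ k, ∀ x : X, x ^ p ^ k = 1 := ⟨n, fun x => hn ▸ pow_card_eq_one'⟩
  obtain ⟨m, hm⟩ : ∃ m, Nat.find ex = m + 1 := Nat.exists_eq_succ_of_ne_zero fun e => by
    have := Nat.find_spec ex
    rw [e] at this
    refine h.no1 ?_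
    rw [(Subgroup.eq_top_iff' (frattini X)).2 fun x => (by simpa using this x : x = 1) ▸ one_mem _]
    simpa using hp.out.one_le
  have h1 := hm ▸ Nat.find_spec ex
  have h2 := Nat.find_min ex (m := m) (by omega)
  have hY : ∀ x : X, x ^ p ^ m = 1 → x ∈ frattini X := fun x hx => by_contra fun hn =>
    h.no2 i (Y := (powMonoidHom (p ^ m) : X →* X).ker) (fun a _ y hy => by
      rw [MonoidHom.mem_ker, powMonoidHom_apply] at hy ⊢; rw [← map_pow, hy, map_one])
      (SetLike.lt_iff_le_and_exists.2 ⟨fun z hz => by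
        obtain ⟨w, rfl⟩ := frat_eq h.pg hz
        rw [MonoidHom.mem_ker, powMonoidHom_apply, ← pow_mul, ← pow_succ', h1], x, hx, hn⟩)
      fun e => h2 fun y => (e.ge trivial : y ∈ _)
  obtain ⟨x, y, e⟩ := exists_gen2 h.pg i2
  have : NeZero (p ^ (m + 1)) := ⟨pow_ne_zero _ hp.out.ne_zero⟩
  have inj : Function.Injective (hom2 (h1 x) (h1 y)) := (injective_iff_map_eq_one _).2 fun a ha => by
    have key : ∀ j ≤ m + 1, p ^ j ∣ a.toAdd.1.val ∧ p ^ j ∣ a.toAdd.2.val := fun j => by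
      induction j with
      | zero => simp
      | succ j ih =>
        intro hj
        obtain ⟨⟨u, hu⟩, v, hv⟩ := ih (by omega)
        have := hY (x ^ u * y ^ v) (by
          obtain ⟨l, rfl⟩ := Nat.exists_eq_add_of_le (show j ≤ m by omega)
          rw [pow_add, pow_mul, mul_pow, ← pow_mul, ← pow_mul, mul_comm u, mul_comm v, ← hu, ← hv,
            show x ^ _ * y ^ _ = 1 from ha, one_pow])
        rw [hu, hv, pow_succ]
        exact ⟨mul_dvd_mul_left _ (indep h.pg i2 e this), mul_dvd_mul_left _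
          (indep h.pg i2 (Set.pair_comm x y ▸ e) (mul_comm (x ^ u) _ ▸ this))⟩
    obtain ⟨k1, k2⟩ := key _ le_rfl
    exact Multiplicative.toAdd.injective (Prod.ext ((ZMod.val_eq_zero _).1 (Nat.eq_zero_of_dvd_of_lt k1
      (ZMod.val_lt _))) ((ZMod.val_eq_zero _).1 (Nat.eq_zero_of_dvd_of_lt k2 (ZMod.val_lt _))))
  have φ := MulEquiv.ofBijective _ ⟨inj, hom2_surj _ _ e⟩
  refine ⟨m, m.eq_zero_or_pos.imp_right fun h0 => h.le_three i2 fun z hz => hY z ?_, h1, ?_, ⟨φ.symm⟩⟩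
  · obtain ⟨l, rfl⟩ := Nat.exists_eq_add_of_le' h0
    rw [pow_succ', pow_mul, hz, one_pow]
  · rw [← Nat.card_congr φ.toEquiv, two_mul, pow_add p (m + 1)]; simp

theorem Es.sl2 (h : Es p X A) (hc : Nat.card X = p ^ 2) (he : ∀ x : X, x ^ p = 1) :
    ∃ K : Subgroup A, Nonempty (K ≃* Matrix.SpecialLinearGroup (Fin 2) (ZMod p)) := by
  have hF : frattini X = ⊥ := Solv.frattini_eq_bot_of_elementary inferInstance he
  have i2 : (frattini X).index = p ^ 2 := by rw [hF, Subgroup.index_bot, hc]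
  obtain ⟨σ, s1, ⟨k, s2⟩, s3⟩ := h.ex
  obtain ⟨f1, f2⟩ := exists_fix2 h.pg i2 s2
  rw [hF] at f1 f2
  have ne : (⊥ : Subgroup X).comap (dd σ) ≠ ⊤ := fun e => s3 (h.frat_one s1 (fun x => by
    rw [dd_eq', hF]; exact (e.ge trivial : x ∈ _)) ▸ one_mem _)
  obtain ⟨g, g1, u, u1, u2⟩ : ∃ g ∈ A, ∃ u, dd σ u = 1 ∧ dd σ (g u) ≠ 1 := by
    by_contra! hh
    exact h.no2 i2.le (fun a ha y hy => hh a ha y hy) (hF ▸ f1) ne
  have u0 : u ≠ 1 := fun e => u2 (by simp [e])
  have cz : ∀ x : X, x ≠ 1 → Nat.card (Subgroup.zpowers x) = p := fun x hx => by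
    rw [Nat.card_zpowers, orderOf_eq_prime (he x) hx]
  have hu : Subgroup.zpowers u = (⊥ : Subgroup X).comap (dd σ) :=
    Subgroup.eq_of_le_of_card_ge (Subgroup.zpowers_le.2 u1) (by
      have := mul_card h.pg ne.lt_top
      rw [Subgroup.card_top, hc, sq] at this
      rw [cz u u0]; exact Nat.le_of_mul_le_mul_left this hp.out.pos)
  have dec : ∀ x, ∃ c : ZMod p, dd σ x = u ^ c.val := fun x => by
    obtain ⟨c, hc⟩ := (mem_powers_iff_mem_zpowers.2 (hu.ge (f2 x)))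
    exact ⟨c, by rw [pc (he u), ← hc]⟩
  set v := g u with hv
  have e : Subgroup.closure {u, v} = ⊤ := Subgroup.eq_top_of_le_card _ (by
    have := mul_card h.pg (Z := Subgroup.zpowers u) (Y := Subgroup.closure {u, v})
      (SetLike.lt_iff_le_and_exists.2 ⟨Subgroup.zpowers_le.2 (Subgroup.subset_closure (by simp)), v,
        Subgroup.subset_closure (by simp), hu ▸ u2⟩)
    rwa [cz u u0, ← sq, ← hc] at this)
  let φ := (MulEquiv.ofBijective _ ((Nat.bijective_iff_surjective_and_card _).2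
    ⟨hom2_surj (he u) (he v) e, by simp [hc, sq]⟩))
  let ε : Multiplicative (Fin 2 → ZMod p) ≃* X :=
    (AddEquiv.toMultiplicative (LinearEquiv.finTwoArrow (ZMod p) (ZMod p)).toAddEquiv).trans φ
  have eε : ∀ w, ε (.ofAdd w) = u ^ (w 0).val * v ^ (w 1).val := fun w => rfl
  let ψ : Transfer.SL2 (ZMod p) →* MulAut X := MonoidHom.mk' (fun M =>
    { toFun := fun x => ε (.ofAdd (M • (ε.symm x).toAdd))
      invFun := fun x => ε (.ofAdd (M⁻¹ • (ε.symm x).toAdd))
      left_inv := fun x => by simp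
      right_inv := fun x => by simp
      map_mul' := fun x y => by simp [smul_add] }) fun M N => by ext; simp [mul_smul]
  have eψ : ∀ M w, ψ M (ε (.ofAdd w)) = ε (.ofAdd (M • w)) := fun M w => by simp [ψ]
  have inj : Function.Injective ψ := (injective_iff_map_eq_one _).2 fun M hM => by
    have : ∀ w : Fin 2 → ZMod p, M • w = w := fun w => by simpa [hM] using (eψ M w).symm
    exact Subtype.ext (Matrix.toLin'.injective (LinearMap.ext fun w => by
      rw [Matrix.toLin'_apply, Matrix.toLin'_apply, Matrix.SpecialLinearGroup.coe_one, Matrix.one_mulVec]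
      exact this w))
  obtain ⟨c, c1⟩ := dec v
  obtain ⟨d, d1⟩ := dec (g⁻¹ u)
  have sm : ∀ (M : Transfer.SL2 (ZMod p)) (w : Fin 2 → ZMod p) (i : Fin 2),
      (M • w) i = M.1 i 0 * w 0 + M.1 i 1 * w 1 := fun M w i => by
    show M.1.mulVec w i = _
    simp [Matrix.mulVec, dotProduct]
  have a1 : ψ (Transfer.upU c) = σ := MulEquiv.ext fun x => by
    obtain ⟨w, rfl⟩ := ε.surjective x
    rw [← ofAdd_toAdd w, eψ, eε, eε, map_mul, map_pow, map_pow, dd_eq u, dd_eq v, u1, c1, sm, sm]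
    simp only [Transfer.upU, Matrix.of_apply, Matrix.cons_val', Matrix.cons_val_zero,
      Matrix.cons_val_one, Matrix.cons_val_fin_one, one_mul, zero_mul, zero_add, pv (he u), pm (he u),
      mul_one, mul_pow]
    apply Additive.ofMul.injective; simp only [ofMul_mul]; abel
  have a2 : ψ (Transfer.loU d) = g * σ * g⁻¹ := MulEquiv.ext fun x => by
    obtain ⟨w, rfl⟩ := ε.surjective x
    have b1 : (g * σ * g⁻¹) v = v := by
      rw [MulAut.mul_apply, MulAut.mul_apply, hv, MulAut.inv_apply_self, dd_eq (σ := σ) u, u1, mul_one]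
    have b2 : (g * σ * g⁻¹) u = u * v ^ d.val := by
      rw [MulAut.mul_apply, MulAut.mul_apply, dd_eq (σ := σ), d1, map_mul, map_pow, MulAut.apply_inv_self]
    rw [← ofAdd_toAdd w, eψ, eε, eε, map_mul, map_pow, map_pow, b1, b2, sm, sm]
    simp only [Transfer.loU, Matrix.of_apply, Matrix.cons_val', Matrix.cons_val_zero,
      Matrix.cons_val_one, Matrix.cons_val_fin_one, one_mul, zero_mul, add_zero, pv (he v), pm (he v),
      mul_one, mul_pow]
    apply Additive.ofMul.injective; simp only [ofMul_mul]; abel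
  have s4 : σ ≠ 1 := fun e => s3 (e ▸ one_mem _)
  have top := Transfer.sl2_zmod_eq_top (H := A.comap ψ) (s := c) (t := d)
    (fun e => u2 (by simpa [e] using c1)) (fun e => s4 (by
      rw [e, show Transfer.loU (0 : ZMod p) = 1 from Transfer.sl2_ext (by simp [Transfer.loU])
        (by simp [Transfer.loU]) (by simp [Transfer.loU]) (by simp [Transfer.loU]), map_one] at a2
      simpa using a2.symm))
    (show ψ _ ∈ A from a1 ▸ s1) (show ψ _ ∈ A from a2 ▸ mul_mem (mul_mem g1 s1) (inv_mem g1))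
  exact ⟨ψ.range.subgroupOf A, ⟨(Subgroup.subgroupOfEquivOfLe (by
    rintro _ ⟨M, rfl⟩; exact (top.ge trivial : M ∈ _))).trans (MonoidHom.ofInjective inj).symm⟩⟩

end

section
variable {Ω : Type*} [Group Ω] {S H : Subgroup Ω} {F : FusionSystem S} {p : ℕ}
  [hp : Fact p.Prime] [Finite S]

theorem thm_5187 (hS : IsPGroup p S) (hF : F.IsSaturated p) (hH : F.IsEssential p H)
    (hab : IsMulCommutative H) (hrk : (frattini H).index ≤ p ^ 2) :
    (IsElementaryAbelian p H ∧ Nat.card H = p ^ 2) ∨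
      (p ≤ 3 ∧ ∃ k : ℕ, Nonempty (H ≃* Multiplicative (ZMod (p ^ k) × ZMod (p ^ k)))) := by
  have := finite_of_le hH.1.1
  let : CommGroup H := { (inferInstance : Group H) with mul_comm := hab.is_comm.comm }
  obtain ⟨m, rfl | h1, h2, h3, h4⟩ := (es_of_ess hS hF hH).homo hrk
  · exact .inl ⟨⟨hab, fun a ha => by simpa using congrArg Subtype.val (h2 ⟨a, ha⟩)⟩, h3⟩
  · exact .inr ⟨h1, _, h4⟩

theorem thm_5185 (hS : IsPGroup p S) (hF : F.IsSaturated p) (hH : F.IsEssential p H)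
    (hc : Nat.card H = p ^ 2) : IsElementaryAbelian p H ∧
      ∃ K : Subgroup (F.autGroup H), Nonempty (K ≃* Matrix.SpecialLinearGroup (Fin 2) (ZMod p)) := by
  have := finite_of_le hH.1.1
  have hab := IsPGroup.isMulCommutative_of_card_eq_prime_sq hc
  let : CommGroup H := { (inferInstance : Group H) with mul_comm := hab.is_comm.comm }
  have h := es_of_ess hS hF hH
  obtain ⟨m, -, h2, h3, -⟩ := h.homo (hc ▸ Nat.le_of_dvd Nat.card_pos (Subgroup.index_dvd_card _))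
  obtain rfl : m = 0 := by have := Nat.pow_right_injective hp.out.two_le (hc.symm.trans h3); omega
  exact ⟨⟨hab, fun a ha => by simpa using congrArg Subtype.val (h2 ⟨a, ha⟩)⟩,
    h.sl2 hc (by simpa using h2)⟩

end

end Cfsg.Agent.PU.Sm
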