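import Cfsg.Agent.Lib.PU.Ms31
import Cfsg.Agent.S0120
import Cfsg.Agent.Lib.BG.Reg
import Cfsg.Agent.Lib.BG.Meta

/-! Essential subgroups of `p`-rank two for `p ≥ 5`: the abstract part. -/

set_option autoImplicit false
set_option linter.unusedSectionVars false
set_option linter.unusedVariables false
open Cfsg Cfsg.FusionSystem
open scoped commutatorElement

namespace Cfsg.Agent.PU.Sm

open Cfsg.Agent.Fusion Subgroup

section
variable {X : Type*} [CommGroup X] [Finite X] {p : ℕ} [hp : Fact p.Prime]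

theorem core2 (hp2 : p ≠ 2) (hc : Nat.card X = p ^ 2) (he : ∀ x : X, x ^ p = 1) {σ g : MulAut X} {k : ℕ}
    (s2 : σ ^ p ^ k = 1) {u : X} (u1 : dd σ u = 1) (u2 : dd σ (g u) ≠ 1) {B : Subgroup (MulAut X)}
    (s1 : σ ∈ B) (g1 : g * σ * g⁻¹ ∈ B) : σ ^ p = 1 ∧ ∃ η ∈ B, η * σ * η⁻¹ = σ ^ 4 ∧
      (∀ x, dd σ x = 1 → η x = x ^ 2) ∧ η (g u) ^ 2 = g u := by
  have hX : IsPGroup p X := .of_card hc
  have hF : frattini X = ⊥ := Solv.frattini_eq_bot_of_elementary inferInstance he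
  have i2 : (frattini X).index = p ^ 2 := by rw [hF, Subgroup.index_bot, hc]
  obtain ⟨f1, f2⟩ := exists_fix2 hX i2 s2
  rw [hF] at f1 f2
  refine ⟨MulEquiv.ext fun x => mul_inv_eq_one.1 (pow_step hX hF.le (Y := (⊥ : Subgroup X).comap (dd σ))
    (fun x => dd_eq' (σ := σ) x ▸ f2 x) (fun y hy => dd_eq' (σ := σ) y ▸ hy) (by simp) x), ?_⟩
  have ne : (⊥ : Subgroup X).comap (dd σ) ≠ ⊤ := fun e => u2 (e.ge trivial : g u ∈ _)
  have u0 : u ≠ 1 := fun e => u2 (by simp [e])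
  have cz : ∀ x : X, x ≠ 1 → Nat.card (Subgroup.zpowers x) = p := fun x hx => by
    rw [Nat.card_zpowers, orderOf_eq_prime (he x) hx]
  have hu : Subgroup.zpowers u = (⊥ : Subgroup X).comap (dd σ) :=
    Subgroup.eq_of_le_of_card_ge (Subgroup.zpowers_le.2 u1) (by
      have := mul_card hX ne.lt_top
      rw [Subgroup.card_top, hc, sq] at this
      rw [cz u u0]; exact Nat.le_of_mul_le_mul_left this hp.out.pos)
  have dec : ∀ x, ∃ c : ZMod p, dd σ x = u ^ c.val := fun x => by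
    obtain ⟨c, hc⟩ := (mem_powers_iff_mem_zpowers.2 (hu.ge (f2 x)))
    exact ⟨c, by rw [pc (he u), ← hc]⟩
  set v := g u with hv
  have e : Subgroup.closure {u, v} = ⊤ := Subgroup.eq_top_of_le_card _ (by
    have := mul_card hX (Z := Subgroup.zpowers u) (Y := Subgroup.closure {u, v})
      (SetLike.lt_iff_le_and_exists.2 ⟨Subgroup.zpowers_le.2 (Subgroup.subset_closure (by simp)), v,
        Subgroup.subset_closure (by simp), hu ▸ u2⟩)
    rwa [cz u u0, ← sq, ← hc] at this)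
  let φ := (MulEquiv.ofBijective _ ((Nat.bijective_iff_surjective_and_card _).2
    ⟨hom2_surj (he u) (he v) e, by simp [hc, sq]⟩))
  let ε : Multiplicative (Fin 2 → ZMod p) ≃* X :=
    (AddEquiv.toMultiplicative (LinearEquiv.finTwoArrow (ZMod p) (ZMod p)).toAddEquiv).trans φ
  have eε : ∀ w, ε (.ofAdd w) = u ^ (w 0).val * v ^ (w 1).val := fun w => rfl
  let ψ : Transfer.SL2 (ZMod p) →* MulAut X := MonoidHom.mk' (fun M =>
    { toFun := fun x => ε (.ofAdd (M • (ε.symm x).toAdd))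
      invFun := fun x => ε (.ofAdd (M⁻¹ • (ε.symm x).toAdd))
      left_inv := fun x => by simp
      right_inv := fun x => by simp
      map_mul' := fun x y => by simp [smul_add] }) fun M N => by ext; simp [mul_smul]
  have eψ : ∀ M w, ψ M (ε (.ofAdd w)) = ε (.ofAdd (M • w)) := fun M w => by simp [ψ]
  obtain ⟨c, c1⟩ := dec v
  obtain ⟨d, d1⟩ := dec (g⁻¹ u)
  have sm : ∀ (M : Transfer.SL2 (ZMod p)) (w : Fin 2 → ZMod p) (i : Fin 2),
      (M • w) i = M.1 i 0 * w 0 + M.1 i 1 * w 1 := fun M w i => by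
    show M.1.mulVec w i = _
    simp [Matrix.mulVec, dotProduct]
  have a1 : ψ (Transfer.upU c) = σ := MulEquiv.ext fun x => by
    obtain ⟨w, rfl⟩ := ε.surjective x
    rw [← ofAdd_toAdd w, eψ, eε, eε, map_mul, map_pow, map_pow, dd_eq u, dd_eq v, u1, c1, sm, sm]
    simp only [Transfer.upU, Matrix.of_apply, Matrix.cons_val', Matrix.cons_val_zero,
      Matrix.cons_val_one, Matrix.cons_val_fin_one, one_mul, zero_mul, zero_add, pv (he u), pm (he u),
      mul_one, mul_pow]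
    apply Additive.ofMul.injective; simp only [ofMul_mul]; abel
  have a2 : ψ (Transfer.loU d) = g * σ * g⁻¹ := MulEquiv.ext fun x => by
    obtain ⟨w, rfl⟩ := ε.surjective x
    have b1 : (g * σ * g⁻¹) v = v := by
      rw [MulAut.mul_apply, MulAut.mul_apply, hv, MulAut.inv_apply_self, dd_eq (σ := σ) u, u1, mul_one]
    have b2 : (g * σ * g⁻¹) u = u * v ^ d.val := by
      rw [MulAut.mul_apply, MulAut.mul_apply, dd_eq (σ := σ), d1, map_mul, map_pow, MulAut.apply_inv_self]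
    rw [← ofAdd_toAdd w, eψ, eε, eε, map_mul, map_pow, map_pow, b1, b2, sm, sm]
    simp only [Transfer.loU, Matrix.of_apply, Matrix.cons_val', Matrix.cons_val_zero,
      Matrix.cons_val_one, Matrix.cons_val_fin_one, one_mul, zero_mul, add_zero, pv (he v), pm (he v),
      mul_one, mul_pow]
    apply Additive.ofMul.injective; simp only [ofMul_mul]; abel
  have s4 : σ ≠ 1 := fun e => u2 (by simp [e, dd])
  have top := Transfer.sl2_zmod_eq_top (H := B.comap ψ) (s := c) (t := d)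
    (fun e => u2 (by simpa [e] using c1)) (fun e => s4 (by
      rw [e, show Transfer.loU (0 : ZMod p) = 1 from Transfer.sl2_ext (by simp [Transfer.loU])
        (by simp [Transfer.loU]) (by simp [Transfer.loU]) (by simp [Transfer.loU]), map_one] at a2
      simpa using a2.symm))
    (show ψ _ ∈ B from a1 ▸ s1) (show ψ _ ∈ B from a2 ▸ g1)
  have t2 : (2 : ZMod p) ≠ 0 := Transfer.two_ne_zero_of_char hp2
  let M : Transfer.SL2 (ZMod p) := ⟨!![2, 0; 0, 2⁻¹], by simp [Matrix.det_fin_two, t2]⟩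
  have eu : ε (.ofAdd ![1, 0]) = u := by simp [eε, p1 (he u)]
  have ev : ε (.ofAdd ![0, 1]) = v := by simp [eε, p1 (he v)]
  have m1 : ψ M u = u ^ 2 := by
    rw [← eu, eψ, ← map_pow, ← ofAdd_nsmul]; congr 2
    ext i; rw [sm]; fin_cases i <;> simp [M]
  refine ⟨ψ M, (top.ge trivial : M ∈ _), ?_, fun x hx => ?_, ?_⟩
  · rw [← a1, ← map_inv, ← map_mul, ← map_mul, ← map_pow, Transfer.upU_pow, mul_inv_eq_iff_eq_mul.2]
    apply Transfer.sl2_ext <;> rw [Transfer.sl2_mul, Transfer.sl2_mul] <;> simp [M, Transfer.upU]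
    field_simp; ring
  · obtain ⟨i, rfl⟩ := hu.ge hx
    simp only [map_zpow, m1, ← zpow_natCast, ← zpow_mul, mul_comm]
  · rw [← ev, eψ, ← map_pow, ← ofAdd_nsmul]; congr 2
    ext i; rw [Pi.smul_apply, sm]; fin_cases i <;> simp [M, t2]

end

section
variable {X : Type*} [Group X] [Finite X] {p : ℕ} [hp : Fact p.Prime] {A : Subgroup (MulAut X)}
  {Y Z O : Subgroup X} {x y : X} {σ : MulAut X}

theorem lcs_bot (hX : IsPGroup p X) {n : ℕ} (h : Nat.card X ≤ p ^ n) :
    (⊤ : Subgroup X).lowerCentralSeries n = ⊥ := by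
  have k : ∀ i, (⊤ : Subgroup X).lowerCentralSeries i = ⊥ ∨
      p ^ i * Nat.card ((⊤ : Subgroup X).lowerCentralSeries i) ≤ Nat.card X := fun i => by
    induction i with
    | zero => simp
    | succ i ih =>
      by_cases e : (⊤ : Subgroup X).lowerCentralSeries i = ⊥
      · exact .inl (by rw [Subgroup.lowerCentralSeries_succ, e, commutator_bot_left])
      refine .inr (le_trans ?_ (ih.resolve_left e))
      rw [pow_succ, mul_assoc]
      exact Nat.mul_le_mul_left _ (mul_card hX (Solv.commutator_lt_of_nilpotent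
        (hX.to_subgroup ⊤).isNilpotent le_top le_top (by rw [normalizer_eq_top]) e))
  exact (k n).elim id fun e => card_le_one_iff_eq_bot _ |>.1
    (Nat.le_of_mul_le_mul_left (by simpa using e.trans h) (pow_pos hp.out.pos n))

theorem W_of_idx (hX : IsPGroup p X) (h5 : 5 ≤ p) (h : (center X).index ≤ p ^ 3) : Reg.W p X := by
  refine Reg.W_of_lcs hX fun a b => le_trans ?_ bot_le
  have : (⊤ : Subgroup X).lowerCentralSeries 3 ≤ center X := by
    rw [← QuotientGroup.ker_mk' (center X), ← Subgroup.map_eq_bot_iff, map_lowerCentralSeries, eq_bot_iff,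
      ← lcs_bot (hX.to_quotient (center X)) h]
    exact lowerCentralSeries_mono 3 le_top
  exact (lowerCentralSeries_mono _ le_top).trans ((Subgroup.lowerCentralSeries_antitone _
    (show 3 + 1 ≤ p - 1 by omega)).trans (Subgroup.lowerCentralSeries_succ_eq_bot _ this).le)

/-- Rank at most two. -/
def Rk2 (p : ℕ) (X : Type*) [Group X] : Prop :=
  ∀ E : Subgroup X, IsElementaryAbelian p E → Nat.card E ≤ p ^ 2

theorem exists_om (hX : IsPGroup p X) (h5 : 5 ≤ p) (hr : Rk2 p X) : ∃ O : Subgroup X,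
    (∀ x, x ∈ O ↔ x ^ p = 1) ∧ Nat.card O ≤ p ^ 3 ∧ (Nat.card O ≤ p ^ 2 → BG.Meta (⊤ : Subgroup X)) := by
  have hT := hX.to_subgroup ⊤
  have r : BG.prank p (⊤ : Subgroup X) ≤ 2 := BG.prank_le_of_forall fun m B _ h =>
    (Nat.pow_le_pow_iff_right hp.out.one_lt).1 (h.card ▸ hr B h.elem)
  exact ⟨omegaOne p ⊤, fun x => ⟨BG.pow_eq_one_of_prank_le_two (by omega) hT r x,
    fun h => subset_closure ⟨trivial, h⟩⟩, BG.card_omegaOne_le_of_prank_le_two (by omega) hT r,
    BG.huppert (by omega) hT⟩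

theorem Es.no2' (h : Es p X A) (i : (frattini X).index ≤ p ^ 2) (hY : Inv A Y) (h1 : Y ≠ ⊤)
    (h2 : y ∈ Y) (h3 : y ∉ frattini X) : False :=
  h.no2 i (Y := Y ⊔ frattini X) (fun a ha x hx => by
    obtain ⟨b, hb, c, hc, rfl⟩ := mem_sup_of_normal_right.1 hx
    rw [map_mul]; exact mul_mem_sup (hY a ha b hb) (Inv.char _ a ha c hc))
    (lt_of le_sup_right (mem_sup_left h2) h3) fun e => h1 (Solv.eq_top_of_sup_le_frattini le_rfl e)

theorem Es.meta (h : Es p X A) (h5 : 5 ≤ p) (hm : BG.Meta (⊤ : Subgroup X)) :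
    IsMulCommutative X ∧ (∀ g : X, g ^ p = 1) ∧ Nat.card X = p ^ 2 := by
  classical
  obtain ⟨a, b, hb, e⟩ := hm
  have i : (frattini X).index ≤ p ^ 2 := by
    obtain ⟨r, hr⟩ := h.pg.index (frattini X)
    exact hr ▸ Nat.pow_le_pow_right hp.out.pos (le_card_gen h.pg hr [b, a] (by
      rw [← e, zpowers_eq_closure, zpowers_eq_closure, ← Subgroup.closure_union]; congr 1; ext; simp [or_comm]))
  by_cases hab : IsMulCommutative X
  · let : CommGroup X := { (inferInstance : Group X) with mul_comm := hab.is_comm.comm }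
    obtain ⟨m, h1, h2, h3, -⟩ := h.homo i
    obtain rfl := h1.resolve_right (by omega)
    exact ⟨hab, by simpa using h2, h3⟩
  exfalso
  have D : _root_.commutator X ≤ zpowers a := BG.der_le_zpowers hb e
  have w := Reg.W_of_cyclic h.pg (by omega) (isCyclic_of_le D)
  have nc : ∀ g : X, zpowers g ⊔ frattini X ≠ ⊤ := fun g e => hab (by
    have := isCyclic_iff_exists_zpowers_eq_top.2 ⟨g, Solv.eq_top_of_sup_le_frattini le_rfl e⟩
    infer_instance)
  have aF : a ∉ frattini X := fun ha => nc b (eq_top_iff.2 (e ▸ sup_le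
    (zpowers_le.2 (mem_sup_right ha)) le_sup_left))
  have ex : ∃ k, a ^ p ^ k ∈ _root_.commutator X := (h.pg a).imp fun k (hk : a ^ p ^ k = 1) => hk ▸ one_mem _
  set k := Nat.find ex
  have D2 : _root_.commutator X ≤ zpowers (a ^ p ^ k) := fun g hg => by
    obtain ⟨n, rfl⟩ := mem_powers_iff_mem_zpowers.2 (D hg)
    rcases eq_or_ne n 0 with rfl | hn
    · simp
    obtain ⟨j, m, hm, rfl⟩ := Nat.exists_eq_pow_mul_and_not_dvd hn p hp.out.ne_one
    obtain ⟨l, rfl⟩ := Nat.exists_eq_add_of_le (Nat.find_min' ex (m := j)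
      (mem_of_pow h.pg (by rw [← pow_mul]; exact hg) hm))
    simp only [pow_add, mul_assoc, pow_mul]
    exact pow_mem (pow_mem (mem_zpowers _) _) _
  let f : X →* Abelianization X := (powMonoidHom (p ^ k)).comp Abelianization.of
  have hf : ∀ g, g ∈ f.ker ↔ g ^ p ^ k ∈ _root_.commutator X := fun g => by
    rw [← Abelianization.ker_of, MonoidHom.mem_ker, MonoidHom.mem_ker, map_pow]; rfl
  have t : f.ker = ⊤ := by_contra fun t => h.no2' i (fun α hα g hg => by
    rw [hf] at hg ⊢; rw [← map_pow]; exact Inv.char _ α hα _ hg) t ((hf a).2 (Nat.find_spec ex)) aF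
  obtain ⟨j, hj⟩ := D2 ((hf b).1 (t.ge trivial))
  refine h.no2' i (Y := w.om k) (fun α _ g hg => by
    rw [w.mem_om] at hg ⊢; rw [← map_pow, hg, map_one]) (fun e => ?_) (y := (a ^ j)⁻¹ * b)
    ((Reg.W.A k w _ _).1 (by rw [← hj, ← zpow_natCast, ← zpow_mul, mul_comm, zpow_mul, zpow_natCast]))
    fun hF => nc a (eq_top_iff.2 (e ▸ sup_le le_sup_left (zpowers_le.2 (by
      simpa using mul_mem_sup (zpow_mem (mem_zpowers a) j) hF))))
  rw [show a ^ p ^ k = 1 from (e.ge trivial : a ∈ w.om k), zpowers_one_eq_bot] at D2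
  exact hab ⟨⟨fun x y => commutatorElement_eq_one_iff_mul_comm.1
    (D2 (commutator_mem_commutator (mem_top x) (mem_top y)))⟩⟩

theorem step1 (h1 : σ y * y⁻¹ ∈ Z) (h2 : ∀ z ∈ Z, σ z = z) (h3 : ∀ z ∈ Z, z ^ p = 1) :
    (σ ^ p) y = y := by
  have : ∀ n : ℕ, (σ ^ n) y = (σ y * y⁻¹) ^ n * y := fun n => by
    induction n with
    | zero => simp
    | succ n ih => rw [pow_succ', MulAut.mul_apply, ih, map_mul, h2 _ (pow_mem h1 n), pow_succ]; group
  rw [this, h3 _ h1, one_mul]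

theorem Es.no_om (h : Es p X A) (hp2 : p ≠ 2) (hO : ∀ x, x ∈ O ↔ x ^ p = 1) [Y.Normal] [Z.Normal]
    (hY : Inv A Y) (hZ : Inv A Z) (h1 : Z ≤ Y) (h2 : Y ≤ O) (i1 : Y.relIndex O ≤ p)
    (i2 : Z.relIndex Y ≤ p) (i3 : Nat.card Z ≤ p) : False := by
  obtain ⟨σ, s1, ⟨k, s2⟩, s3⟩ := h.ex
  have hF : Inv A ⊥ := .char _
  have hT : Inv A O := fun a _ x hx => by rw [hO] at hx ⊢; rw [← map_pow, hx, map_one]
  refine s3 (h.rad (St O hY ⊓ St Y hZ ⊓ St Z hF) (fun a ha => ha.2.1) (fun a => ?_)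
    (fun a ha n hn => ⟨⟨St.conj hT hY ha hn.1.1, St.conj hY hZ ha hn.1.2⟩, St.conj hZ hF ha hn.2⟩)
    ⟨⟨⟨s1, fun y hy => triv_of_idx h.pg s2 i1 (hT σ s1) (hY σ s1) hy⟩,
      s1, fun y hy => triv_of_idx h.pg s2 i2 (hY σ s1) (hZ σ s1) hy⟩,
      s1, fun y hy => triv_of_idx h.pg s2 (by simpa using i3) (hZ σ s1) (hF σ s1) hy⟩)
  obtain ⟨a, ⟨a1, a2⟩, a3⟩ := a
  have b1 : ∀ y ∈ Y, (a ^ p) y = y := fun y hy => step1 (a2.2 y hy)
    (fun z hz => mul_inv_eq_one.1 (a3.2 z hz)) fun z hz => (hO z).1 (h2 (h1 hz))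
  have b2 : (a ^ p) ^ p ∈ St O (A := ⊤) (.char ⊥) := ⟨trivial, fun y hy => mul_inv_eq_one.2
    (step1 (((St O hY).pow_mem a1 p).2 y hy) b1 fun z hz => (hO z).1 (h2 hz))⟩
  obtain ⟨j, hj⟩ := Transfer.exists_pow_coprime (p := p) ((a ^ p) ^ p)
  refine ⟨j + 2, Subtype.ext ?_⟩
  have := S0120.result hp2 h.pg _ hj fun x hx => mul_inv_eq_one.1 ((pow_mem b2 _).2 x ((hO x).2 hx))
  simp only [Subgroup.coe_pow, Subgroup.coe_one, ← pow_mul] at this ⊢
  rw [← this]; congr 1; ring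

theorem Es.big (h : Es p X A) (hp2 : p ≠ 2) (hr : Rk2 p X) (hO : ∀ x, x ∈ O ↔ x ^ p = 1)
    (hc : Nat.card O = p ^ 3) : IsCyclic (center X) ∧ (center X).index = p ^ 2 ∧
      frattini X ≤ center X ∧ ∀ x : X, ∃ d ∈ center X, x ^ p = d ^ p := by
  have pos := hp.out.pos
  have one := hp.out.one_lt
  have hX := h.pg
  have hT : Inv A O := fun a _ x hx => by rw [hO] at hx ⊢; rw [← map_pow, hx, map_one]
  have nO : O.Normal := ⟨fun x hx g => by rw [hO] at hx ⊢; simp [conj_pow, hx]⟩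
  obtain ⟨a, ha, b, hb, hab⟩ : ∃ a ∈ O, ∃ b ∈ O, ¬ Commute a b := by
    by_contra! hh
    have := hr O ⟨⟨⟨fun a b => Subtype.ext (hh a a.2 b b.2).eq⟩⟩, fun a => (hO a).1⟩
    rw [hc, Nat.pow_le_pow_iff_right one] at this; omega
  set C := centralizer (O : Set X)
  have hZ : Inv A (O ⊓ C) := fun α hα x hx => ⟨hT α hα x hx.1, fun o ho => by
    simpa using congrArg α (hx.2 _ (hT _ (inv_mem hα) o ho))⟩
  have Ca : ∀ a ∈ O, O ⊓ C ≤ centralizer {a} := fun a ha =>
    inf_le_right.trans (centralizer_le (by simpa using ha))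
  have aZ : a ∉ O ⊓ C := fun e => hab (e.2 b hb).symm
  have z1 : Nat.card (O ⊓ C : Subgroup X) ≤ p := Nat.le_of_mul_le_mul_left (by
    rw [← pow_succ, ← hc]; exact chain2 hX hab inf_le_left (Ca a ha) aZ ha hb) (pow_pos pos 2)
  have zc := cen_of_card hX z1
  have btw : ∀ N : Subgroup X, N.Normal → N ≤ O → Nat.card N ≤ p → ∃ K : Subgroup X, K.Normal ∧ N ≤ K ∧
      K ≤ O ∧ Nat.card K = Nat.card N * p := fun N _ a b => by
    obtain ⟨K, k1, k2, k3, k4⟩ := Solv.exists_normal_between_card (p := p) (hX.to_subgroup ⊤).isNilpotent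
      (hX.to_subgroup O) le_top (by rw [normalizer_eq_top]) (by rw [normalizer_eq_top]) a 1
      (by rw [hc, pow_one, pow_succ]; exact Nat.mul_le_mul_right _ (b.trans (Nat.le_self_pow two_ne_zero p)))
    exact ⟨K, normalizer_eq_top_iff.1 (top_le_iff.1 k4), k1, k2, by simpa using k3⟩
  have z2 : Nat.card (O ⊓ C : Subgroup X) = p := by
    obtain ⟨K, _, -, k2, k3⟩ := btw ⊥ inferInstance bot_le (by simpa using one.le)
    rw [card_bot, one_mul] at k3
    exact le_antisymm z1 (k3 ▸ card_le_of_le (le_inf k2 ((cen_of_card hX k3.le).trans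
      (center_le_centralizer _))))
  let L := O ⊓ (center (X ⧸ (O ⊓ C))).comap (QuotientGroup.mk' _)
  have hL : ∀ o, o ∈ L ↔ o ∈ O ∧ ∀ x : X, ⁅x, o⁆ ∈ O ⊓ C := fun o => and_congr_right fun _ => by
    refine mem_center_iff.trans ⟨fun h x => (QuotientGroup.eq_one_iff _).1 ((map_commutatorElement (QuotientGroup.mk' _) x o).trans
      (commutatorElement_eq_one_iff_mul_comm.2 (h _))), fun h g => ?_⟩
    obtain ⟨x, rfl⟩ := QuotientGroup.mk'_surjective _ g
    exact commutatorElement_eq_one_iff_mul_comm.1 ((map_commutatorElement _ x o).symm.trans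
      ((QuotientGroup.eq_one_iff _).2 (h x)))
  have LO : ∀ o ∈ O, ∀ x : X, ⁅x, o⁆ ∈ O ⊓ C := by
    obtain ⟨K, _, k1, k2, k3⟩ := btw _ inferInstance inf_le_left z1
    have r : (O ⊓ C).relIndex K ≤ p := by
      have := Comp.relIndex_mul_card k1
      rw [k3, mul_comm] at this
      exact (Nat.eq_of_mul_eq_mul_left Nat.card_pos this).le
    have KL : K ≤ L := fun o ho => (hL o).2 ⟨k2 ho, fun x => conj_triv hX r x ho⟩
    have l1 := card_le_of_le KL
    rw [k3, z2, ← sq] at l1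
    by_contra hn
    have lt : L < O := lt_of_le_of_ne inf_le_left fun e => hn fun o ho => ((hL o).1 (e.ge ho)).2
    have l2 := mul_card hX lt
    rw [hc, pow_succ'] at l2
    replace l2 := Nat.le_of_mul_le_mul_left l2 pos
    refine h.no_om hp2 hO (Y := L) (fun α hα o ho => (hL _).2 ⟨hT α hα o ho.1, fun x => ?_⟩) hZ
      (k1.trans KL) lt.le (relIndex_eq_of_card (hX.to_subgroup ⊤) le_top lt hc.le l1).le ?_ z1
    · simpa [map_commutatorElement] using hZ α hα _ (((hL o).1 ho).2 (α⁻¹ x))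
    · have := Comp.relIndex_mul_card (k1.trans KL)
      rw [z2] at this
      nlinarith
  have i : ∀ a ∈ O, (centralizer {a}).index ≤ p := fun a ha => z2 ▸ idx_cent (LO a ha) zc
  have iC : C.index ≤ p ^ 2 := (index_antitone (H := centralizer {a} ⊓ centralizer {b}) (K := C) fun d hd o ho => by
    have := chain2 hX hab (W := O ⊓ centralizer {d}) (le_inf inf_le_left (zc.trans (center_le_centralizer _)))
      (Ca a ha) aZ ⟨ha, mem_c1.2 (mem_c1.1 hd.1).symm⟩ ⟨hb, mem_c1.2 (mem_c1.1 hd.2).symm⟩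
    rw [z2, ← pow_succ, ← hc] at this
    exact mem_c1.1 ((eq_of_le_of_card_ge inf_le_left this).ge ho).2).trans
    (index_inf_le.trans (sq p ▸ Nat.mul_le_mul (i a ha) (i b hb)))
  have r : C.relIndex (O ⊔ C) = p ^ 2 := by
    have := Comp.relIndex_mul_card (inf_le_left (a := O) (b := C))
    rw [z2, hc, pow_succ, inf_relIndex_left] at this
    rw [relIndex_sup_right]; exact Nat.eq_of_mul_eq_mul_right pos this
  have e := relIndex_mul_index (le_sup_right (a := O) (b := C))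
  have t : O ⊔ C = ⊤ := index_eq_one.1 (le_antisymm (Nat.le_of_mul_le_mul_left
    (by rw [← r, e, r, mul_one]; exact iC) (pow_pos pos 2)) (Nat.pos_of_ne_zero FiniteIndex.index_ne_zero))
  have cy : IsCyclic C := (Solv.isCyclic_or_quaternion (hX.to_subgroup C) fun E a b c d => by
    have := (card_le_of_le (le_inf (fun x hx => (hO x).2 (d x hx)) a)).trans z1
    rw [b] at this; nlinarith).resolve_right fun e => hp2 e.1
  have eC : C = center X := le_antisymm (fun c hc => centralizer_eq_top_iff_subset.1 (eq_top_iff.2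
    (t ▸ sup_le (fun o ho => mem_c1.2 (hc o ho)) ((le_centralizer C).trans
      (centralizer_le (by simpa using hc))))) (Set.mem_singleton c)) (center_le_centralizer _)
  have dec : ∀ x : X, ∃ o ∈ O, ∃ c ∈ center X, o * c = x := fun x =>
    eC ▸ mem_sup_of_normal_right.1 (t.ge trivial)
  have pw : ∀ x : X, ∃ d ∈ center X, x ^ p = d ^ p := fun x => by
    obtain ⟨o, ho, c, hc, rfl⟩ := dec x
    exact ⟨c, hc, by rw [Commute.mul_pow (mem_center_iff.1 hc o), (hO o).1 ho, one_mul]⟩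
  refine ⟨eC ▸ cy, by rw [← eC, ← e, r, t, index_top, mul_one],
    Solv.frattini_le_of_commutator_le_of_pow_mem (p := p) (commutator_le.2 fun x _ y _ => ?_) fun x => ?_, pw⟩
  · obtain ⟨o, ho, c, hc, rfl⟩ := dec y
    convert zc (LO o ho x) using 1
    rw [commutatorElement_def, commutatorElement_def, ← mul_assoc x, mul_assoc _ c,
      ← mem_center_iff.1 hc x⁻¹]
    group
  · obtain ⟨d, hd, e⟩ := pw x
    exact e ▸ pow_mem hd p

theorem Es.stab2 (h : Es p X A) (hY : Inv A Y) (s1 : σ ∈ A) (h1 : ∀ x, σ x * x⁻¹ ∈ Y)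
    (h2 : ∀ y ∈ Y, σ y * y⁻¹ ∈ frattini X) : σ ∈ Inn X := by
  have hF : Inv A (frattini X) := .char _
  refine h.rad (St ⊤ hY ⊓ St Y hF) (fun a ha => ha.2.1) (fun a => ?_)
    (fun a ha n hn => ⟨St.conj (.char _) hY ha hn.1, St.conj hY hF ha hn.2⟩) ⟨⟨s1, fun x _ => h1 x⟩, s1, h2⟩
  obtain ⟨a, a1, a2⟩ := a
  obtain ⟨j, hj⟩ := pgroup_frat h.pg (B := St ⊤ hF) (fun α hα x => hα.2 x trivial)
    ⟨a ^ p, A.pow_mem a1.1 p, fun x _ => pow_step h.pg le_rfl (fun x => a1.2 x trivial) a2.2 (hF a a1.1) x⟩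
  refine ⟨j + 1, Subtype.ext ?_⟩
  have := congrArg Subtype.val hj
  simp only [Subgroup.coe_pow, Subgroup.coe_one, ← pow_mul] at this ⊢
  rw [← this]; congr 1; ring

/-- The action on a characteristic quotient. -/
def qa (C : Subgroup X) [h : C.Characteristic] [C.Normal] : MulAut X →* MulAut (X ⧸ C) :=
  MonoidHom.mk' (fun a => QuotientGroup.congr C C a (characteristic_iff_map_eq.1 h a)) fun a b =>
    MulEquiv.ext fun x => by obtain ⟨x, rfl⟩ := QuotientGroup.mk_surjective x; rfl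

theorem Es.diag (h : Es p X A) (h5 : 5 ≤ p) {C : Subgroup X} [C.Characteristic] (c1 : C ≤ center X)
    (c2 : IsCyclic C) (c3 : frattini X ≤ C) (c4 : C.index = p ^ 2) (s1 : σ ∈ A) {k : ℕ}
    (s2 : σ ^ p ^ k = 1) (s3 : σ ∉ Inn X) : σ ^ p ∈ Inn X ∧ (∀ c ∈ C, σ c = c) ∧
      ∃ η ∈ A, η * σ * η⁻¹ * (σ ^ 4)⁻¹ ∈ Inn X ∧ (∀ c ∈ C, ∃ d ∈ C, η c = d ^ p * c) ∧
        (∀ x, σ x * x⁻¹ ∈ C → η x * (x ^ 2)⁻¹ ∈ C) ∧ ∃ v, σ v * v⁻¹ ∉ C ∧ η v ^ 2 * v⁻¹ ∈ C := by
  have pos := hp.out.pos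
  have hC : Inv A C := .char _
  obtain ⟨c, rfl⟩ : ∃ c, zpowers c = C := (Subgroup.isCyclic_iff_exists_zpowers_eq_top C).1 c2
  have q : ∀ a b : X, a * b⁻¹ ∈ zpowers c ↔ (a : X ⧸ zpowers c) = b := fun a b => by
    rw [← QuotientGroup.eq_one_iff, QuotientGroup.mk_mul, QuotientGroup.mk_inv, mul_inv_eq_one]
  have DC : zpowers (c ^ p) ≤ zpowers c := zpowers_le.2 (npow_mem_zpowers c p)
  have DF : zpowers (c ^ p) ≤ frattini X := zpowers_le.2 (Solv.pow_mem_frattini h.pg c)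
  have Dp : ∀ d ∈ zpowers c, d ^ p ∈ zpowers (c ^ p) := by
    rintro _ ⟨i, rfl⟩; exact ⟨i, by simp only [← zpow_natCast, ← zpow_mul, mul_comm]⟩
  have hD : Inv A (zpowers (c ^ p)) := by
    rintro a ha _ ⟨i, rfl⟩
    rw [map_zpow, map_pow]; exact zpow_mem (Dp _ (hC a ha c (mem_zpowers c))) i
  have nD : (zpowers (c ^ p)).Normal := ⟨fun n hn g => by
    rw [mem_center_iff.1 (c1 (DC hn)) g]; simpa using hn⟩
  have r : (zpowers (c ^ p)).relIndex (zpowers c) ≤ p := by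
    have := Comp.relIndex_mul_card DC
    rw [Nat.card_zpowers, Nat.card_zpowers] at this
    exact Nat.le_of_mul_le_mul_right (this.le.trans (orderOf_le_of_pow_eq_one (mul_pos pos (orderOf_pos _))
      (by rw [pow_mul, pow_orderOf_eq_one]))) (orderOf_pos _)
  have sD : σ ∈ St (zpowers c) hD := ⟨s1, fun y hy => triv_of_idx h.pg s2 r (hC σ s1) (hD σ s1) hy⟩
  have inn : ∀ α ∈ St (zpowers c) hD, qa (zpowers c) α = 1 → α ∈ Inn X := fun α a1 a2 =>
    h.stab2 hC a1.1 (fun x => (q _ _).2 (DFunLike.congr_fun a2 (x : X ⧸ zpowers c))) fun y hy => DF (a1.2 y hy)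
  let : CommGroup (X ⧸ zpowers c) := { (inferInstance : Group (X ⧸ zpowers c)) with
    mul_comm := (Normal.quotient_commutative_iff_commutator_le.2
      ((Solv.commutator_le_frattini_of_isPGroup h.pg).trans c3)).is_comm.comm }
  have he : ∀ x : X ⧸ zpowers c, x ^ p = 1 := fun x => by
    obtain ⟨x, rfl⟩ := QuotientGroup.mk_surjective x
    exact (QuotientGroup.eq_one_iff (x ^ p)).2 (c3 (Solv.pow_mem_frattini h.pg x))
  have t2 : qa (zpowers c) σ ^ p ^ k = 1 := by rw [← map_pow, s2, map_one]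
  have d : ∀ x : X, dd (qa (zpowers c) σ) x = 1 ↔ σ x * x⁻¹ ∈ zpowers c := fun x => by
    rw [← dd_eq', q, mul_inv_eq_one]; rfl
  obtain ⟨g, g1, u, u1, u2⟩ : ∃ g ∈ A, ∃ u : X, dd (qa (zpowers c) σ) u = 1 ∧
      dd (qa (zpowers c) σ) (g u : X) ≠ 1 := by
    by_contra! hh
    let U := ((dd (qa (zpowers c) σ)).comp (QuotientGroup.mk' _)).ker
    obtain ⟨x, x1, x2⟩ := exists_fix h.pg (Z := zpowers c) (fun e => by
      rw [e, index_top] at c4; exact (Nat.one_lt_pow two_ne_zero hp.out.one_lt).ne c4) s2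
      (characteristic_iff_map_eq.1 inferInstance σ)
    have lt : zpowers c < U := lt_of (fun y hy => (d y).2 (mul_mem (hC σ s1 y hy) (inv_mem hy))) ((d x).2 x2) x1
    have a := le_rel h.pg lt
    have b := le_rel h.pg (lt_top_iff_ne_top.2 fun e : U = ⊤ => s3 (h.stab2 hC s1
      (fun x => (d x).1 (e.ge trivial : x ∈ U)) fun y hy => DF (sD.2 y hy)))
    have e := relIndex_mul_relIndex _ _ _ lt.le (le_top (a := U))
    rw [relIndex_top_right (zpowers c), c4] at e
    exact h.no_chain (Y := U) (fun a ha y hy => hh a ha y hy) hC c3 lt.le (by nlinarith) (by nlinarith)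
      ((relIndex_le_of_le_left DF FiniteIndex.index_ne_zero).trans r)
  obtain ⟨e1, _, ⟨η, η1, rfl⟩, e2, e3, e4⟩ := core2 (by omega) c4 he t2 (g := qa _ g) u1 u2
    (B := (St (zpowers c) hD).map (qa _)) (mem_map_of_mem _ sD) (by
      rw [← map_inv, ← map_mul, ← map_mul]; exact mem_map_of_mem _ (St.conj hC hD g1 sD))
  have κ := inn _ (mul_mem (St.conj hC hD η1.1 sD) (inv_mem (pow_mem sD 4))) (by
    simp only [map_mul, map_inv, map_pow, e2, mul_inv_cancel])
  refine ⟨inn _ (pow_mem sD p) (by rw [map_pow, e1]), fun y hy => mul_inv_eq_one.1 ?_, η, η1.1, κ,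
    fun y hy => ?_, fun x hx => (q _ _).2 (e3 x ((d x).2 hx)), g u, fun e => u2 ((d _).2 e), (q _ _).2 e4⟩
  · refine (Solv.mem_of_pow_mem_of_coprime_orderOf (H := St (zpowers c) (A := ⊤) (.char ⊥)) (n := 3)
      ⟨trivial, fun z hz => mul_inv_eq_one.2 (η.injective (σ.injective ?_))⟩
      (((Nat.coprime_primes hp.out Nat.prime_three).2 (by omega)).pow_left k |>.coprime_dvd_left
        (orderOf_dvd_of_pow_eq_one s2))).2 y hy
    have cm : ∀ α ∈ A, ∀ β ∈ A, ∀ w ∈ zpowers c, α (β w) = β (α w) := by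
      rintro α ha β hb _ ⟨i, rfl⟩
      obtain ⟨m, hm⟩ := hC α ha c (mem_zpowers c)
      obtain ⟨n, hn⟩ := hC β hb c (mem_zpowers c)
      simp only [map_zpow, ← hm, ← hn, ← zpow_mul, mul_left_comm m n]
    obtain ⟨w, hw⟩ := κ
    have := DFunLike.congr_fun hw ((σ ^ 4) (η z))
    rw [MulAut.conj_apply, mem_center_iff.1 (c1 (hC _ (pow_mem s1 4) _ (hC _ η1.1 z hz))) w] at this
    rw [cm η η1.1 _ (pow_mem s1 3) z hz, ← MulAut.mul_apply, ← pow_succ']
    simpa [cm η η1.1 σ s1 _ (hC _ (inv_mem η1.1) _ (hC _ η1.1 z hz)), cm η η1.1 σ s1 z hz] using this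
  · obtain ⟨i, hi⟩ := η1.2 y hy
    exact ⟨c ^ i, zpow_mem (mem_zpowers c) i, by
      rw [← zpow_natCast, ← zpow_mul, mul_comm i, zpow_mul, zpow_natCast,
        show (c ^ p) ^ i = _ from hi, inv_mul_cancel_right]⟩

end

end Cfsg.Agent.PU.Sm
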