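import Cfsg.Agent.Lib.PU.Ms32
import Cfsg.Agent.Lib.Char.Comm1

/-! Resistance of `p`-groups of rank two for `p ≥ 5`. -/

set_option autoImplicit false
set_option linter.unusedSectionVars false
set_option linter.unusedVariables false
open Cfsg Cfsg.FusionSystem
open scoped commutatorElement

namespace Cfsg.Agent.PU.Sm

open Cfsg.Agent.Fusion Subgroup

section
variable {X : Type*} [Group X] [Finite X] {p : ℕ} [hp : Fact p.Prime] {C E O : Subgroup X} {s v : X}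

theorem W.cm (w : Reg.W p X) (a b : X) : Commute (a ^ p) b ↔ ⁅a, b⁆ ^ p = 1 := by
  simpa using w.comm_iff 1 a b

theorem pow_rel (hX : IsPGroup p X) (h5 : 5 ≤ p) (h1 : C ≤ center X) (h2 : C.index ≤ p ^ 3)
    (h3 : ∀ e ∈ E, e ^ p ∈ C) {e : X} (he : e ∈ E) :
    Commute (s ^ p) e ∧ (e * s ^ 4) ^ p = e ^ p * (s ^ p) ^ 4 := by
  have w := W_of_idx hX h5 ((index_antitone h1).trans h2)
  have k : ∀ y : X, ⁅e, y⁆ ^ p = 1 := fun y => (W.cm w e y).1 (Subgroup.mem_center_iff.1 (h1 (h3 e he)) y).symm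
  exact ⟨(W.cm w s e).2 (by rw [← commutatorElement_inv, inv_pow, k, inv_one]),
    by rw [w.mul_pow_of' (k _), pow_right_comm]⟩

theorem cen_full (hX : IsPGroup p X) (hE : Nat.card E = p ^ 2) (hC : centralizer E ≤ E) (hv : v ∈ E)
    (hv' : v ∉ center X) : Nat.card (center X) = p ∧
      ∀ K : Subgroup X, center X ≤ K → v ∈ K → E ≤ K := by
  have ZE := (center_le_centralizer (E : Set X)).trans hC
  have : Nontrivial X := ⟨v, 1, fun e => hv' (e ▸ one_mem _)⟩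
  have z1 : p ≤ Nat.card (center X) := by
    simpa using mul_card hX ((nontrivial_iff_ne_bot _).1 hX.center_nontrivial).bot_lt
  have z2 := mul_card hX (lt_of ZE hv hv')
  rw [hE, sq] at z2
  refine ⟨le_antisymm (Nat.le_of_mul_le_mul_left z2 hp.out.pos) z1, fun K a b => inf_eq_left.1
    (eq_of_le_of_card_ge inf_le_left ?_)⟩
  rw [hE, sq]
  exact (Nat.mul_le_mul_left _ z1).trans (mul_card hX (lt_of (le_inf ZE a) ⟨hv, b⟩ hv'))

theorem card_le4 (hX : IsPGroup p X) (hO : ∀ x, x ∈ O ↔ x ^ p = 1) (h3 : Nat.card O = p ^ 3)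
    (hE : Nat.card E = p ^ 2) (hC : centralizer E ≤ E) (hv : v ∈ E) (hv' : v ∉ center X)
    (hvp : v ^ p = 1) : Nat.card X ≤ p ^ 4 := by
  have a : centralizer {v} ≤ E := fun x hx => hC fun e he => mem_c1.1 ((cen_full hX hE hC hv hv').2
    (centralizer {x}) (center_le_centralizer _) (mem_c1.2 (mem_c1.1 hx).symm) he)
  have b : (centralizer {v}).index < p ^ 3 := by
    rw [← Char.card_isConj_eq_index, ← h3]
    refine lt_of_eq_of_lt (Nat.card_coe_set_eq {y | IsConj v y}) (lt_of_lt_of_eq (Set.ncard_lt_ncard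
      ⟨fun y hy => ?_, fun h => hv' ?_⟩ (Set.toFinite (O : Set X))) (Nat.card_coe_set_eq _).symm)
    · obtain ⟨c, rfl⟩ := isConj_iff.1 hy
      exact (hO _).2 (by simp [conj_pow, hvp])
    · rw [isConj_one_left.1 (h O.one_mem)]; exact one_mem _
  obtain ⟨r, hr⟩ := hX.index (centralizer {v})
  rw [hr, Nat.pow_lt_pow_iff_right hp.out.one_lt] at b
  rw [← (centralizer {v}).card_mul_index, hr, show 4 = 2 + 2 from rfl, pow_add]
  exact Nat.mul_le_mul (hE ▸ card_le_of_le a) (Nat.pow_le_pow_right hp.out.pos (by omega))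

theorem fin4 (hX : IsPGroup p X) (h5 : 5 ≤ p) (hc : Nat.card X = p ^ 4) (hO : ∀ x, x ∈ O ↔ x ^ p = 1)
    (h3 : Nat.card O = p ^ 3) (hE : Nat.card E = p ^ 2) (hC : centralizer E ≤ E) (EO : E ≤ O)
    (hN : ∀ t, t ∈ O ↔ ∀ e ∈ E, t * e * t⁻¹ ∈ E) (γ : MulAut X) (gE : ∀ e ∈ E, γ e ∈ E)
    (s1 : s ∈ O) (s2 : s ∉ E) (s3 : γ s * (s ^ 4)⁻¹ ∈ E) (gZ : ∀ z ∈ center X, γ z = z ^ 2)
    (hv : v ∈ E) (hv' : v ∉ center X) (gv : γ v ^ 2 = v) : False := by
  have pos := hp.out.pos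
  obtain ⟨z1, full⟩ := cen_full hX hE hC hv hv'
  have ZE := (center_le_centralizer (E : Set X)).trans hC
  have iZ : (center X).index = p ^ 3 := Nat.eq_of_mul_eq_mul_left pos (by
    rw [← pow_succ', ← hc, ← (center X).card_mul_index, z1])
  have w := W_of_idx hX h5 iZ.le
  have nO : O.Normal := ⟨fun x hx g => by rw [hO] at hx ⊢; simp [conj_pow, hx]⟩
  have iO : O.index = p := Nat.eq_of_mul_eq_mul_left (pow_pos pos 3) (by
    rw [← pow_succ, ← hc, ← O.card_mul_index, h3])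
  have cO : ∀ x y : X, ⁅x, y⁆ ∈ O := fun x y => Solv.commutator_le_of_index_prime (iO ▸ hp.out)
    (commutator_mem_commutator (mem_top x) (mem_top y))
  obtain ⟨t, -, ht⟩ := SetLike.exists_of_lt (lt_top_iff_ne_top.2 fun e : O = ⊤ => by
    rw [e, index_top] at iO; exact hp.out.one_lt.ne iO)
  have tz : t ^ p ∈ center X := Subgroup.mem_center_iff.2 fun y => ((W.cm w t y).2 ((hO _).1 (cO t y))).symm
  have oO := (hO _).2 (w.A1 (x := t * t) (y := γ t) (by rw [← map_pow, gZ _ tz, ← sq, pow_right_comm]))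
  have aE : ⁅t, v⁆ ∉ E := fun h => ht ((hN t).2 fun e he => full (E.comap (MulAut.conj t).toMonoidHom)
    (fun z hz => show t * z * t⁻¹ ∈ E by rw [Subgroup.mem_center_iff.1 hz t, mul_inv_cancel_right]; exact ZE hz)
    (show t * v * t⁻¹ ∈ E by simpa [commutatorElement_def] using mul_mem h hv) he)
  let π := QuotientGroup.mk' (center X)
  have cq : ∀ x y g : X ⧸ center X, g * ⁅x, y⁆ = ⁅x, y⁆ * g := fun x y => by
    refine Subgroup.mem_center_iff.1 ?_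
    by_cases h : Commute x y
    · rw [commutatorElement_eq_one_iff_commute.2 h]; exact one_mem _
    · exact (extra_of_card (hX.to_quotient _) iZ h).1.2.2 ▸ commutator_mem_commutator (mem_top x) (mem_top y)
  have b1 : ∀ x y g : X ⧸ center X, ⁅x * y, g⁆ = ⁅y, g⁆ * ⁅x, g⁆ := fun x y g => by
    rw [← mul_inv_cancel_right ⁅y, g⁆ x, ← cq]; simp only [commutatorElement_def]; group
  have b2 : ∀ x g : X ⧸ center X, ⁅x, g ^ 2⁆ = ⁅x, g⁆ * ⁅x, g⁆ := fun x g => by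
    calc _ = ⁅x, g⁆ * (g * ⁅x, g⁆ * g⁻¹) := by
          simp only [sq, commutatorElement_def, mul_inv_rev, mul_assoc, inv_mul_cancel_left]
      _ = _ := by rw [cq, mul_inv_cancel_right]
  have b3 : π ⁅(t * t)⁻¹ * γ t, γ v⁆ = 1 := by
    obtain ⟨k, hk⟩ := hX ((t * t)⁻¹ * γ t)
    exact (QuotientGroup.eq_one_iff _).2 (triv_of_idx hX (σ := MulAut.conj _) (k := k) (Y := E)
      (by rw [← map_pow, hk, map_one]) (relIndex_eq_of_card (hX.to_subgroup ⊤) le_top (lt_of ZE hv hv')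
        (k := 1) hE.le (by simp [z1])).le ((hN _).1 oO) (fun y hy => Normal.conj_mem inferInstance y hy _)
      (gE v hv))
  have b4 : γ ⁅t, v⁆ * ⁅t, v⁆⁻¹ ∈ E := ZE ((QuotientGroup.eq_one_iff _).1 (show π _ = 1 by
    rw [map_mul, map_inv, mul_inv_eq_one, map_commutatorElement γ, ← mul_inv_cancel_left (t * t) (γ t)]
    nth_rw 2 [← gv]
    rw [map_commutatorElement] at b3
    rw [map_commutatorElement, map_commutatorElement, map_mul π (t * t), b1, b3, one_mul, map_mul, b1,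
      map_pow, b2]))
  have : (E.subgroupOf O).Normal := ⟨fun e he o => (hN o).1 o.2 e he⟩
  have q : ∀ a b : O, (a : X) * (b : X)⁻¹ ∈ E ↔ (a : O ⧸ E.subgroupOf O) = b := fun a b => by
    rw [← mul_inv_eq_one (a := (a : O ⧸ E.subgroupOf O)), ← QuotientGroup.mk_inv, ← QuotientGroup.mk_mul,
      QuotientGroup.eq_one_iff]; rfl
  have gO : ∀ x ∈ O, γ x ∈ O := fun x hx => by rw [hO] at hx ⊢; rw [← map_pow, hx, map_one]
  obtain ⟨j, hj⟩ := dec_of_relIndex (hX.to_subgroup O) (relIndex_eq_of_card (hX.to_subgroup ⊤) le_top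
    (lt_of EO s1 s2) h3.le hE.ge) s1 s2 (cO t v)
  have c1 := (q ⟨_, cO t v⟩ (⟨s, s1⟩ ^ j)).1 hj
  have c2 := (q ⟨_, gO _ (cO t v)⟩ (⟨_, gO s s1⟩ ^ j)).1 (by simpa using gE _ hj)
  have c3 := (q ⟨_, gO s s1⟩ (⟨s, s1⟩ ^ 4)).1 s3
  have c4 := (q ⟨_, gO _ (cO t v)⟩ ⟨_, cO t v⟩).1 b4
  rw [c4, QuotientGroup.mk_pow, c3, QuotientGroup.mk_pow, pow_right_comm, ← QuotientGroup.mk_pow _ _ j, ← c1,
    ← QuotientGroup.mk_pow, eq_comm, ← q] at c2
  refine aE (mem_of_pow hX (i := 3) (by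
    rw [← mul_inv_cancel_right (⁅t, v⁆ ^ 3) ⁅t, v⁆, ← pow_succ]; exact c2) fun h => ?_)
  have := Nat.le_of_dvd three_pos h
  omega

end

section
variable {Ω : Type*} [Group Ω] {S E : Subgroup Ω} {F : FusionSystem S} {p : ℕ} {s : Ω}
  [hp : Fact p.Prime] [Finite S]

theorem mem_of_pow' (hS : IsPGroup p S) (hs : s ∈ S) {i : ℕ} (h : s ^ i ∈ E) (hi : ¬ p ∣ i) : s ∈ E :=
  mem_of_pow hS (Y := E.subgroupOf S) (x := ⟨s, hs⟩) h hi

theorem ext_diag (hS : IsPGroup p S) (hF : F.IsSaturated p) (h5 : 5 ≤ p) (hE : F.IsEssential p E)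
    {C : Subgroup E} [C.Characteristic] (c1 : C ≤ center E) (c2 : IsCyclic C) (c3 : frattini E ≤ C)
    (c4 : C.index = p ^ 2) (s1 : s ∈ normalizerIn S E) (s2 : s ∉ E) :
    ∃ (η : MulAut E) (g : Ω → Ω), Mor F (E ⊔ zpowers s) g ∧ (∀ x : E, g x = η x) ∧ s ^ p ∈ E ∧
      g s * (s ^ 4)⁻¹ ∈ E ∧ (∀ x : E, Commute (s ^ p) x) ∧ (∃ e : E, g (s ^ p) = e ^ p * (s ^ p) ^ 4) ∧
      (∀ c ∈ C, Commute s c) ∧ (∀ c ∈ C, ∃ d ∈ C, η c = d ^ p * c) ∧
      (∀ x : E, Commute s x → η x * (x ^ 2)⁻¹ ∈ C) ∧ ∃ v : E, ¬ Commute s v ∧ η v ^ 2 * v⁻¹ ∈ C := by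
  have ES := hE.1.1
  have := finite_of_le ES
  have cE := IsCentric.cent_le hE.1
  have h := es_of_ess hS hF hE
  obtain ⟨σ, e⟩ := exists_cAut s1.2
  have pw : ∀ n : ℕ, ∀ x ∈ E, afun (σ ^ n) x = s ^ n * x * (s ^ n)⁻¹ := fun n => by
    induction n with
    | zero => intro x hx; simp [afun_one]
    | succ n ih =>
      intro x hx
      rw [pow_succ', afun_mul _ _ hx, e _ (afun_mem _ hx), ih x hx, pow_succ']; group
  obtain ⟨k, hk⟩ := hS ⟨s, s1.1⟩
  have sI : σ ∈ autInducedBy S E := mem_autInducedBy.2 ⟨s, s1.1, e⟩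
  obtain ⟨d1, d2, η, d3, d4, d5, d6, v, d7, d8⟩ := h.diag h5 c1 c2 c3 c4 (autInducedBy_le_autGroup F ES sI)
    (k := k) (aut_ext fun x hx => by
      rw [pw _ x hx, show s ^ p ^ k = 1 from congrArg Subtype.val hk, afun_one]; simp)
    fun h => s2 (mem_of_cAut_mem_Inn cE ES s1.1 e h)
  have sp := mem_of_cAut_mem_Inn cE ES (pow_mem s1.1 p) (pw p) d1
  have hη := (mem_autGroup ES).1 d3
  obtain ⟨g, g1, g2⟩ := IsReceptive.ext (IsSaturated.receptive' hS hF hE.2.1) hη (img_afun η)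
  have sN : s ∈ Next S E (afun η) := (mem_Next_afun_iff s1.1 e).2 (by
    simpa using mul_mem (Inn_le_autInducedBy ES d4) (pow_mem sI 4))
  replace g1 := g1.mono (sup_le hη.le_Next (zpowers_le.2 sN))
  have sN : s ∈ E ⊔ zpowers s := mem_sup_right (mem_zpowers s)
  have cs : ∀ x : E, Commute s x ↔ σ x * x⁻¹ = 1 := fun x => by
    rw [mul_inv_eq_one, Subtype.ext_iff, ← afun_coe, e x x.2, mul_inv_eq_iff_eq_mul]; rfl
  have cC : ∀ c ∈ C, Commute s c := fun c hc => (cs c).2 (by rw [d2 c hc, mul_inv_cancel])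
  have gs : g s * (s ^ 4)⁻¹ ∈ E := mem_of_cAut_mem_Inn cE ES (mul_mem (g1.mem sN) (inv_mem (pow_mem s1.1 4)))
    (fun x hx => by
      have y1 := afun_mem (σ ^ 4)⁻¹ hx
      have y2 := afun_mem η⁻¹ y1
      have y3 := pw 4 _ y1
      rw [afun_afun_inv _ hx] at y3
      rw [afun_mul _ _ hx, afun_mul _ _ y1, afun_mul _ _ y2, e _ y2,
        ← g2 _ (conj_mem_of_mem_normalizerIn s1 y2), g1.map_conj sN (mem_sup_left y2), g2 _ y2,
        afun_afun_inv _ y1]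
      nth_rw 2 [y3]
      group) d4
  have := finite_of_le g1.le
  have rel := fun (x : Ω) (hx : x ∈ E) => pow_rel (pgroup_of_le hS g1.le) h5
    (C := (C.map E.subtype).subgroupOf (E ⊔ zpowers s)) (E := E.subgroupOf _) (s := ⟨s, sN⟩)
    (fun c ⟨c', c3, c4⟩ => Subgroup.mem_center_iff.2 fun y => Subtype.ext ((show E ⊔ zpowers s ≤ centralizer {c.1} from
      sup_le (fun w hw => mem_centralizer_singleton_iff.2 ((show (c' : Ω) = c from c4) ▸ congrArg Subtype.val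
        (Subgroup.mem_center_iff.1 (c1 c3) ⟨w, hw⟩))) (zpowers_le.2 (mem_centralizer_singleton_iff.2
          ((show (c' : Ω) = c from c4) ▸ cC c' c3)))) y.2 _ rfl).symm)
    (by
      show (C.map E.subtype).relIndex _ ≤ _
      rw [← relIndex_mul_relIndex _ _ _ (map_subtype_le C) le_sup_left, pow_succ, ← c4]
      refine Nat.mul_le_mul (by rw [relIndex, subgroupOf, comap_map_eq_self_of_injective E.subtype_injective]) ?_
      rw [← relIndex_subgroupOf (le_refl (E ⊔ zpowers s)), ← Solv.relIndex_sup_zpowers_of_prime hp.out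
        (N := E.subgroupOf (E ⊔ zpowers s)) (x := ⟨s, sN⟩) ?_ s2 sp]
      · refine (relIndex_le_of_le_right ?_ FiniteIndex.index_ne_zero)
        rw [← map_le_map_iff_of_injective (subtype_injective _), Subgroup.map_sup, MonoidHom.map_zpowers,
          subgroupOf_map_subtype, subgroupOf_map_subtype, inf_idem, inf_eq_left.2 le_sup_left]
        rfl
      · exact mem_normalizer_iff.2 fun x => (mem_normalizerIn.1 s1).2 x)
    (fun x hx => ⟨_, c3 (Solv.pow_mem_frattini h.pg ⟨x, hx⟩), rfl⟩) (e := ⟨x, mem_sup_left hx⟩) hx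
  refine ⟨η, g, g1, fun x => (g2 x x.2).trans (afun_coe η x), sp, gs,
    fun x => congrArg Subtype.val (rel x x.2).1.eq, ⟨⟨_, gs⟩, ?_⟩, cC, d5,
    fun x hx => d6 x ((cs x).1 hx ▸ one_mem _), v, fun h => d7 ((cs v).1 h ▸ one_mem _), d8⟩
  rw [g1.map_pow sN]
  simpa using congrArg Subtype.val (rel _ gs).2

theorem rk2_of (hr : ∀ E : Subgroup Ω, E ≤ S → IsElementaryAbelian p E → Nat.card E ≤ p ^ 2) (h : E ≤ S) :
    Rk2 p E := fun B hB => by
  rw [← Comp.card_map_subtype]; exact hr _ ((map_subtype_le B).trans h) (Transfer.elem_map hB E.subtype)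

theorem ess_elem (hS : IsPGroup p S) (hF : F.IsSaturated p) (h5 : 5 ≤ p)
    (hr : ∀ E : Subgroup Ω, E ≤ S → IsElementaryAbelian p E → Nat.card E ≤ p ^ 2) (hE : F.IsEssential p E) :
    IsMulCommutative E ∧ (∀ g : E, g ^ p = 1) ∧ Nat.card E = p ^ 2 := by
  have hlt := ess_lt hS hF hE
  have := finite_of_le hlt.le
  have h := es_of_ess hS hF hE
  obtain ⟨O, o1, o2, o3⟩ := exists_om h.pg h5 (rk2_of hr hlt.le)
  by_cases hO : Nat.card O ≤ p ^ 2
  · exact h.meta h5 (o3 hO)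
  exfalso
  have o4 : Nat.card O = p ^ 3 := by
    obtain ⟨r, e⟩ := IsPGroup.iff_card.1 (h.pg.to_subgroup O)
    rw [e, Nat.pow_le_pow_iff_right hp.out.one_lt] at hO o2
    rw [e, show r = 3 by omega]
  obtain ⟨b1, b2, b3, b4⟩ := h.big (by omega) (rk2_of hr hlt.le) o1 o4
  obtain ⟨s, s1, s2, s3⟩ := exists_mem_normalizer_of_lt hS hlt
  obtain ⟨η, g, g1, g2, sp, -, g3, ⟨e, g4⟩, g5, g6, -⟩ := ext_diag hS hF h5 hE le_rfl b1 b3 b2 ⟨s1, s3⟩ s2
  have z : (⟨_, sp⟩ : E) ∈ center E := Subgroup.mem_center_iff.2 fun x => Subtype.ext (g3 x).eq.symm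
  obtain ⟨d, d1, d2⟩ := g6 _ z
  obtain ⟨c, c1, c2⟩ := b4 e
  have e1 : (⟨_, sp⟩ : E) ^ 3 = (c⁻¹ * d) ^ p := by
    rw [Commute.mul_pow (Subgroup.mem_center_iff.1 d1 _), inv_pow, ← c2, eq_inv_mul_iff_mul_eq,
      ← mul_left_inj ⟨_, sp⟩, ← d2, mul_assoc, ← pow_succ]
    exact Subtype.ext (g4.symm.trans (g2 ⟨_, sp⟩))
  have cd := mul_mem (inv_mem c1) d1
  obtain ⟨O', p1, p2, -⟩ := exists_om hS h5 (rk2_of hr le_rfl)
  have le : O.map (inclusion hlt.le) = O' := eq_of_le_of_card_ge (by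
    rintro _ ⟨x, hx, rfl⟩; rw [p1, ← map_pow, (o1 x).1 hx, map_one]) (by
    rwa [card_map_of_injective (inclusion_injective _), o4])
  obtain ⟨y, -, hy⟩ := le.ge ((p1 (⟨s, s1⟩ ^ 3 * (inclusion hlt.le (c⁻¹ * d))⁻¹)).2 (Subtype.ext (by
    show (s ^ 3 * ((c⁻¹ * d : E) : Ω)⁻¹) ^ p = 1
    rw [((g5 _ cd).pow_left 3).inv_right.mul_pow, pow_right_comm, inv_pow, mul_inv_eq_one]
    exact congrArg Subtype.val e1)))
  refine s2 (mem_of_pow' hS s1 (i := 3) ((E.mul_mem_cancel_right (inv_mem (c⁻¹ * d).2)).1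
    ((show (y : Ω) = s ^ 3 * ((c⁻¹ * d : E) : Ω)⁻¹ from congrArg Subtype.val hy) ▸ y.2)) fun h => ?_)
  have := Nat.le_of_dvd three_pos h
  omega

theorem thm_5289 (hS : IsPGroup p S) (hF : F.IsSaturated p) (h5 : 5 ≤ p)
    (hr : ∀ E : Subgroup Ω, E ≤ S → IsElementaryAbelian p E → Nat.card E ≤ p ^ 2)
    (hn : ¬ (Nat.card S = p ^ 3 ∧ Monoid.exponent S = p)) : F.IsNormal S := by
  refine normal_of_family hS hF fun E hE => hE.elim (by rintro rfl; exact ⟨le_rfl, fun α _ x hx => afun_mem α hx⟩)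
    fun hE => False.elim ?_
  have pos := hp.out.pos
  have hlt := ess_lt hS hF hE
  have := finite_of_le hlt.le
  obtain ⟨e1, e2, e3⟩ := ess_elem hS hF h5 hr hE
  have X := fun s (s1 : s ∈ normalizerIn S E) s2 => ext_diag hS hF h5 hE (C := ⊥) bot_le inferInstance
    (Solv.frattini_eq_bot_of_elementary e1 e2).le (by rw [index_bot, e3]) s1 s2
  obtain ⟨O, o1, o2, -⟩ := exists_om hS h5 (rk2_of hr le_rfl)
  have oS : ∀ x, x ∈ O.map S.subtype ↔ x ∈ S ∧ x ^ p = 1 := fun x => ⟨by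
    rintro ⟨y, hy, rfl⟩; exact ⟨y.2, congrArg Subtype.val ((o1 y).1 hy)⟩,
    fun h => ⟨⟨x, h.1⟩, (o1 _).2 (Subtype.ext h.2), rfl⟩⟩
  have NO : normalizerIn S E ≤ O.map S.subtype := fun s s1 => (oS s).2 ⟨s1.1, by
    by_cases s2 : s ∈ E
    · exact congrArg Subtype.val (e2 ⟨s, s2⟩)
    obtain ⟨η, g, -, g2, sp, -, -, ⟨e, g4⟩, -, -, g6, -⟩ := X s s1 s2
    have a := congrArg Subtype.val (mul_inv_eq_one.1 (g6 ⟨_, sp⟩ ((Commute.refl s).pow_right p)))
    rw [← g2, g4, show (e : Ω) ^ p = 1 from congrArg Subtype.val (e2 e), one_mul] at a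
    refine mem_of_pow' hS (pow_mem s1.1 p) (E := ⊥) (i := 2) (mul_left_cancel (a := (s ^ p) ^ 2) ?_) fun h => ?_
    · rw [← pow_add, mul_one]; exact a
    · have := Nat.le_of_dvd two_pos h
      omega⟩
  obtain ⟨s, s1, s2, s3⟩ := exists_mem_normalizer_of_lt hS hlt
  obtain ⟨η, g, g1, g2, -, g3, -, -, -, -, g6, v, g7, g8⟩ := X s ⟨s1, s3⟩ s2
  have sN : s ∈ E ⊔ zpowers s := mem_sup_right (mem_zpowers s)
  have := finite_of_le (map_subtype_le O)
  have n1 : E ⊔ zpowers s ≤ normalizerIn S E := sup_le (le_normalizerIn hlt.le) (zpowers_le.2 ⟨s1, s3⟩)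
  have n2 := mul_card_le hS g1.le (SetLike.lt_iff_le_and_exists.2 ⟨le_sup_left, s, sN, s2⟩)
  rw [e3, ← pow_succ'] at n2
  have n3 : E ⊔ zpowers s = O.map S.subtype :=
    eq_of_le_of_card_ge (n1.trans NO) (by rw [Comp.card_map_subtype]; exact o2.trans n2)
  have o3 : Nat.card O = p ^ 3 := le_antisymm o2 (by rwa [n3, Comp.card_map_subtype] at n2)
  have vZ : inclusion hlt.le v ∉ center S := fun h => g7 (congrArg Subtype.val (Subgroup.mem_center_iff.1 h ⟨s, s1⟩))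
  by_cases ot : O = ⊤
  · have : Nontrivial S := ⟨_, 1, fun e : inclusion hlt.le v = 1 => vZ (e ▸ one_mem _)⟩
    exact hn ⟨by rw [← o3, ot, card_top], (Monoid.exponent_eq_prime_iff hp.out).2 fun x hx =>
      orderOf_eq_prime ((o1 x).1 (ot.ge trivial)) hx⟩
  have cE : Nat.card (E.subgroupOf S) = p ^ 2 := e3 ▸ Nat.card_congr (subgroupOfEquivOfLe hlt.le).toEquiv
  have CE : centralizer (E.subgroupOf S) ≤ E.subgroupOf S := fun x hx => IsCentric.cent_le hE.1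
    ⟨x.2, fun y hy => congrArg Subtype.val (hx ⟨y, hlt.le hy⟩ hy)⟩
  have c4 := card_le4 hS o1 o3 cE CE (v := inclusion hlt.le v) v.2 vZ (by rw [← map_pow, e2, map_one])
  have lt : O.map S.subtype < S := lt_of_le_of_ne (map_subtype_le O) fun e => ot (eq_top_iff.2
    fun x _ => (o1 x).2 (Subtype.ext ((oS x).1 (e.ge x.2)).2))
  rw [n3] at g1 sN n1
  obtain ⟨α, a1, a2⟩ := g1.exists_aut (g1.img_eq_self fun x hx => (oS _).2 ⟨g1.mem hx, by
    rw [← g1.map_pow hx, ((oS x).1 hx).2, g1.map_one]⟩)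
  have big : ∀ Q, O.map S.subtype < Q → Q ≤ S → p ^ 4 ≤ Nat.card Q := fun Q a b => by
    have := mul_card_le hS b a
    rwa [Comp.card_map_subtype, o3, ← pow_succ'] at this
  obtain ⟨-, eg⟩ := (essential_dichotomy hS hF lt (fullyNormalized_of_normal lt.le
    (le_normalizer_of_conj_mem fun t ht x hx => (oS _).2 ⟨mul_mem (mul_mem ht (lt.le hx)) (inv_mem ht), by
      simp [conj_pow, ((oS x).1 hx).2]⟩))).resolve_right fun h => by
    have := (ess_elem hS hF h5 hr h.1).2.2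
    rw [Comp.card_map_subtype, o3] at this
    have := Nat.pow_right_injective hp.out.two_le this
    omega
  have k : ∀ β ∈ extGen F (O.map S.subtype), ∃ γ : MulAut S, ∀ x ∈ O.map S.subtype, afun γ x = afun β x :=
    fun β hβ => by
    induction hβ using Subgroup.closure_induction with
    | one => exact ⟨1, fun x hx => by rw [afun_one, afun_one]⟩
    | mem β hβ =>
      obtain ⟨Q, f, q1, q2, q3⟩ := hβ
      obtain rfl : S = Q := (eq_of_le_of_card_ge q2.le (c4.trans (big Q q1 q2.le))).symm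
      obtain ⟨γ, -, g2⟩ := q2.exists_aut (q2.img_eq_self fun x hx => q2.mem hx)
      exact ⟨γ, fun x hx => (g2 x (lt.le hx)).trans (q3 x hx)⟩
    | mul β γ _ _ h1 h2 =>
      obtain ⟨b, hb⟩ := h1
      obtain ⟨c, hc⟩ := h2
      exact ⟨b * c, fun x hx => by rw [afun_mul _ _ hx, afun_mul _ _ (lt.le hx), hc x hx, hb _ (afun_mem _ hx)]⟩
    | inv β _ h1 =>
      obtain ⟨b, hb⟩ := h1
      refine ⟨b⁻¹, fun x hx => ?_⟩
      nth_rw 1 [← afun_afun_inv β hx]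
      rw [← hb _ (afun_mem _ hx), afun_inv_afun _ (lt.le (afun_mem _ hx))]
  obtain ⟨γ, hγ⟩ := k α (eg ▸ a1)
  have EO : E ≤ O.map S.subtype := n3 ▸ le_sup_left
  have gg : ∀ x : S, (x : Ω) ∈ O.map S.subtype → (γ x : Ω) = g x := fun x hx => by
    rw [← afun_coe, hγ x hx, a2 x hx]
  have ge : ∀ x : S, ∀ hx : (x : Ω) ∈ E, (γ x : Ω) = η ⟨x, hx⟩ := fun x hx => (gg x (EO hx)).trans (g2 ⟨x, hx⟩)
  refine fin4 hS h5 (le_antisymm c4 (big S lt le_rfl)) o1 o3 cE CE (fun x hx => (o1 x).2 (Subtype.ext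
    ((oS x).1 (EO hx)).2)) (fun t => ⟨fun ht e he => conj_mem_of_mem_normalizerIn (P := E) (n1 ⟨t, ht, rfl⟩) he,
      fun ht => (o1 t).2 (Subtype.ext ((oS t).1 (NO ⟨t.2, ?_⟩)).2)⟩) γ
    (fun e he => show (γ e : Ω) ∈ E from ge e he ▸ (η _).2) (s := ⟨s, s1⟩)
    ((o1 _).2 (Subtype.ext ((oS s).1 sN).2)) s2 (show (γ ⟨s, s1⟩ : Ω) * (s ^ 4)⁻¹ ∈ E from gg ⟨s, s1⟩ sN ▸ g3)
    (fun z hz => Subtype.ext ?_) (v := inclusion hlt.le v) v.2 vZ (Subtype.ext ?_)
  · exact mem_normalizer_fintype fun x hx => ht ⟨x, hlt.le hx⟩ hx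
  · have zE : (z : Ω) ∈ E := CE (center_le_centralizer _ hz)
    rw [ge z zE, mul_inv_eq_one.1 (g6 ⟨z, zE⟩ (congrArg Subtype.val (Subgroup.mem_center_iff.1 hz ⟨s, s1⟩)))]; rfl
  · rw [Subgroup.coe_pow, ge _ v.2]; exact congrArg Subtype.val (mul_inv_eq_one.1 g8)

end

end Cfsg.Agent.PU.Sm
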