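import Cfsg.Agent.Lib.PU.Ms32
import Cfsg.Agent.Lib.Fusion.MCyc

/-! `3`-groups of maximal class. -/

set_option autoImplicit false
set_option linter.unusedSectionVars false
set_option linter.unusedVariables false
open Cfsg Subgroup
open scoped commutatorElement

namespace Cfsg.Agent.PU.Sm

open Petr

section
variable {Q : Type*} [Group Q] {a b d s y : Q}

theorem jac (h1 : Commute a (y⁻¹ * s⁻¹ * y * s)) (h2 : y * a * y⁻¹ = a * d) (h3 : Commute d s) :
    Commute ⁅a, s⁆ y := by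
  have e : y * ⁅a, s⁆ * y⁻¹ = ⁅a, s⁆ := by
    calc _ = (y * a * y⁻¹) * (s * y * ((y⁻¹ * s⁻¹ * y * s) * a⁻¹) * (y⁻¹ * s⁻¹ * y * s)⁻¹ * y⁻¹ * s⁻¹) := by
          simp only [commutatorElement_def]; group
      _ = (y * a * y⁻¹) * (s * (y * a * y⁻¹)⁻¹ * s⁻¹) := by rw [← h1.inv_left.eq]; group
      _ = a * (d * s) * d⁻¹ * a⁻¹ * s⁻¹ := by rw [h2]; group
      _ = _ := by rw [h3.eq, commutatorElement_def]; group
  exact (mul_inv_eq_iff_eq_mul.1 e).symm

theorem comm_pow (h : Commute a ⁅a, y⁆) (n : ℕ) : ⁅a ^ n, y⁆ = ⁅a, y⁆ ^ n := by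
  induction n with
  | zero => simp
  | succ n ih =>
    rw [pow_succ', show ⁅a * a ^ n, y⁆ = a * ⁅a ^ n, y⁆ * a⁻¹ * ⁅a, y⁆ by
      simp only [commutatorElement_def]; group, ih, (h.pow_right n).eq, mul_inv_cancel_right, pow_succ]

theorem comm_cube (h : ⁅y, s⁆ = b) (h2 : y * b * y⁻¹ = b * d) (h3 : Commute d y) (h4 : Commute d b) :
    ⁅y ^ 3, s⁆ = b ^ 3 * d ^ 3 := by
  have e : y * (b * d) * y⁻¹ = b * d * d := by
    calc _ = (y * b * y⁻¹) * (y * d) * y⁻¹ := by group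
      _ = _ := by rw [h2, ← h3.eq]; group
  calc _ = y * (y * b * y⁻¹) * y⁻¹ * (y * b * y⁻¹) * b := by
        rw [← h]; simp only [commutatorElement_def, pow_three]; group
    _ = b * (d * (d * (b * (d * b)))) := by rw [h2, e]; simp only [mul_assoc]
    _ = _ := by simp only [pow_three, mul_assoc, h4.eq, h4.left_comm]

theorem qc (N : Subgroup Q) [N.Normal] (a b : Q) : ⁅a, b⁆ ∈ N ↔ Commute (a : Q ⧸ N) b := by
  rw [← QuotientGroup.eq_one_iff, show ((⁅a, b⁆ : Q) : Q ⧸ N) = ⁅(a : Q ⧸ N), (b : Q ⧸ N)⁆ from rfl,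
    commutatorElement_eq_one_iff_commute]

/-- The centralizer modulo a normal subgroup. -/
def Cm (N : Subgroup Q) [N.Normal] (t : Q) : Subgroup Q :=
  (centralizer {(t : Q ⧸ N)}).comap (QuotientGroup.mk' N)

theorem mem_Cm {N : Subgroup Q} [N.Normal] : a ∈ Cm N b ↔ ⁅a, b⁆ ∈ N :=
  mem_centralizer_singleton_iff.trans (qc N a b).symm

theorem cswap {N : Subgroup Q} (h : ⁅a, b⁆ ∈ N) : ⁅b, a⁆ ∈ N := by
  rw [← commutatorElement_inv]; exact inv_mem h

end

section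
variable {X : Type*} [Group X] [Finite X] {p : ℕ} [hp : Fact p.Prime] {s a b x y : X} {K : Subgroup X}
  {k : ℕ}

local notation "γ" => gam (⊤ : Subgroup X)

theorem gc {i j : ℕ} (hi : 1 ≤ i) (hj : 1 ≤ j) (h : k ≤ i + j) (ha : a ∈ γ i) (hb : b ∈ γ j) :
    ⁅a, b⁆ ∈ γ k := gam_anti _ h (gam_comm ⊤ hi hj (commutator_mem_commutator ha hb))

theorem rel1 (h : UE p s) (hk : 2 ≤ k) : (γ (k + 1)).relIndex (γ k) ≤ p := by
  have := h.card_le hk
  rw [← Comp.relIndex_mul_card (gam_anti _ (Nat.le_succ k))] at this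
  exact Nat.le_of_mul_le_mul_right this Nat.card_pos

theorem gen1 (h : UE p s) (hk : 2 ≤ k) (h1 : a ∈ γ k) (h2 : a ∉ γ (k + 1)) (h3 : γ (k + 1) ≤ K)
    (h4 : a ∈ K) : γ k ≤ K := fun g hg => by
  obtain ⟨i, hi⟩ := dec_of_relIndex (h.pg.to_subgroup _)
    (relIndex_eq_of_le (h.pg.to_subgroup _) le_rfl (rel1 h hk) h1 h2) h1 h2 hg
  exact (mul_mem_cancel_right (inv_mem (pow_mem h4 i))).1 (h3 hi)

theorem rel2 (h : UE p s) (hK : K ≠ ⊤) : Nat.card K ≤ p * Nat.card (K ⊓ γ 2 : Subgroup X) := by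
  have e1 := relIndex_mul_index (le_sup_right : γ 2 ≤ K ⊔ γ 2)
  have e3 := le_rel h.pg (lt_top_iff_ne_top.2 fun e : K ⊔ γ 2 = ⊤ => hK (Solv.eq_top_of_sup_le_frattini
    (Solv.commutator_le_frattini_of_isPGroup h.pg) e))
  rw [relIndex_top_right] at e3
  rw [relIndex_sup_right] at e1
  have := (Nat.mul_le_mul_left _ e3).trans (e1 ▸ h.idx_le)
  rw [pow_two] at this
  rw [← Comp.relIndex_mul_card_inf (γ 2), inf_comm]
  exact Nat.mul_le_mul_right _ (Nat.le_of_mul_le_mul_right this hp.out.pos)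

theorem unif' (h : UE p s) (hk : 2 ≤ k) (h1 : γ (k + 1) ≠ ⊥) (ha : a ∈ γ k) (e : ⁅s, a⁆ ∈ γ (k + 2)) :
    a ∈ γ (k + 1) := h.unif hk h1 ha (by
  simpa [dl, commutatorElement_def, mul_assoc] using (gam_normal (k + 2)).conj_mem _ e a⁻¹)

theorem gens_of (hX : IsPGroup p X) (h : (frattini K).index ≤ p ^ 2) :
    ∃ T : Finset X, T.card ≤ 2 ∧ closure (T : Set X) = K := by
  classical
  obtain ⟨n, hn⟩ := (hX.to_subgroup K).index (frattini K)
  have := Fintype.ofFinite K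
  obtain ⟨T, -, t1, t2⟩ := (S0014.result p n (hX.to_subgroup K) hn).1 Finset.univ (by simp)
  refine ⟨T.image K.subtype, Finset.card_image_le.trans (t1 ▸ (Nat.pow_le_pow_iff_right hp.out.one_lt).1
    (hn ▸ h)), ?_⟩
  rw [Finset.coe_image, ← MonoidHom.map_closure, t2, ← MonoidHom.range_eq_map, range_subtype]

variable [Fact (Nat.Prime 3)] (h : UE 3 s) (b1 : b ∈ gam (⊤ : Subgroup X) 2)
  (b2 : b ∉ gam (⊤ : Subgroup X) 3)
include h b1 b2

theorem lv2 (hy : y ∈ Cm (γ 4) b) : ∀ a ∈ γ 2, ⁅a, y⁆ ∈ γ 4 := fun a ha =>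
  mem_Cm.1 (gen1 h le_rfl b1 b2 (fun c hc => mem_Cm.2 (gc (j := 1) (by omega) le_rfl le_rfl hc trivial))
    (mem_Cm.2 (cswap (mem_Cm.1 hy))) ha)

theorem ab2 : ∀ a ∈ γ 2, ∀ c ∈ γ 2, ⁅a, c⁆ ∈ γ 5 := fun a ha c hc =>
  have k : ∀ c ∈ γ 2, γ 3 ≤ Cm (γ 5) c := fun c hc g hg => mem_Cm.2 (gc (by omega) (by omega) le_rfl hg hc)
  mem_Cm.1 (gen1 h le_rfl b1 b2 (k c hc) (mem_Cm.2 (cswap (mem_Cm.1
    (gen1 h le_rfl b1 b2 (k b b1) (mem_Cm.2 (by simp)) hc)))) ha)

theorem lv3 (hy : y ∈ Cm (γ 4) b) : ∀ a ∈ γ 3, ⁅a, y⁆ ∈ γ 5 := fun c hc => by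
  obtain ⟨a, ha, rfl⟩ := h.surj le_rfl c hc
  refine (qc _ _ _).2 (jac (Q := X ⧸ γ 5) (a := a) (s := s) (y := y) (d := (⁅a⁻¹, y⁆ : X)) (by
    simpa [commutatorElement_def] using (qc _ a ⁅y⁻¹, s⁻¹⁆).1 (ab2 h b1 b2 a ha _
      (gc (i := 1) (j := 1) le_rfl le_rfl le_rfl trivial trivial))) ?_
    ((qc _ _ s).1 (gc (j := 1) (by omega) le_rfl le_rfl (lv2 h b1 b2 hy _ (inv_mem ha)) trivial)))
  simp [commutatorElement_def, mul_assoc]

theorem lv (hy : y ∈ Cm (γ 4) b) (j : ℕ) : ∀ a ∈ γ (j + 2), ⁅a, y⁆ ∈ γ (j + 4) := by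
  induction j using Nat.twoStepInduction with
  | zero => exact lv2 h b1 b2 hy
  | one => exact lv3 h b1 b2 hy
  | more j ih _ =>
    by_cases e : γ (j + 1 + 3) = ⊥
    · intro a ha
      rw [show a = 1 from mem_bot.1 (e ▸ ha)]; simp
    obtain ⟨a, a1, a2⟩ := SetLike.exists_of_lt (h.lt (k := j + 2) (by omega)
      fun e' => e (le_bot_iff.1 (e' ▸ gam_anti _ (by omega))))
    refine fun c hc => mem_Cm.1 (gen1 h (k := j + 4) (by omega) (h.pow_mem' (k := j + 1) (by omega) a1)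
      (h.pow_not_mem (k := j + 1) (by omega) a1 a2 e)
      (fun g hg => mem_Cm.2 (gc (j := 1) (by omega) le_rfl le_rfl hg trivial)) (mem_Cm.2 ?_) hc)
    rw [← QuotientGroup.eq_one_iff]
    refine (comm_pow (Q := X ⧸ γ (j + 2 + 4)) (a := a) (y := y) ((qc (γ (j + 2 + 4)) a ⁅a, y⁆).1 (gc (by omega) (by omega) (by omega) a1 (ih a a1))) 3).trans ?_
    exact (QuotientGroup.eq_one_iff (⁅a, y⁆ ^ 3)).2 (h.pow_mem' (k := j + 3) (by omega) (ih a a1))

theorem idx1 : (Cm (γ 4) b).index ≤ 3 := by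
  rw [Cm, index_comap_of_surjective _ (QuotientGroup.mk'_surjective _)]
  refine (idx_cent (Z := (γ 3).map (QuotientGroup.mk' _)) (fun g => ?_) ?_).trans ?_
  · obtain ⟨g, rfl⟩ := QuotientGroup.mk_surjective g
    exact ⟨_, gc (i := 1) le_rfl (by omega) le_rfl trivial b1, rfl⟩
  · rintro _ ⟨c, hc, rfl⟩
    refine mem_center_iff.2 fun g => ?_
    obtain ⟨g, rfl⟩ := QuotientGroup.mk_surjective g
    exact ((qc _ g c).1 (gc (i := 1) le_rfl (by omega) le_rfl trivial hc)).eq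
  · rw [← relIndex_ker, QuotientGroup.ker_mk']; exact rel1 h (by omega)

theorem top_of (h1 : Cm (γ 4) b ≤ K) (h2 : x ∈ K) (h3 : x ∉ Cm (γ 4) b) : K = ⊤ := by
  have a := le_rel h.pg (lt_of h1 h2 h3)
  have e := relIndex_mul_index h1
  have := idx1 h b1 b2
  have := Nat.pos_of_ne_zero (FiniteIndex.index_ne_zero (H := K))
  exact index_eq_one.1 (by nlinarith)

theorem cent_le (hx : x ∉ Cm (γ 4) b) : Nat.card (centralizer {x}) ≤ 3 ^ 2 := by
  refine (rel2 h fun e => hx (mem_Cm.2 ?_)).trans (Nat.mul_le_mul_left 3 ((card_le_of_le ?_).trans h.card_inf))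
  · rw [commutatorElement_eq_one_iff_commute.2 (mem_c1.1 (e.ge trivial)).symm]; exact one_mem _
  rintro a ⟨a1, a2⟩
  have : ∀ j, a ∈ γ (j + 2) ∨ ⁅a, s⁆ = 1 := fun j => by
    induction j with
    | zero => exact .inl a2
    | succ j ih =>
      refine ih.elim (fun ha => ?_) .inr
      by_cases e : γ (j + 2 + 1) = ⊥
      · exact .inr (mem_bot.1 (e ▸ h.comm (by omega) a ha))
      refine .inl (unif' h (by omega) e ha (mem_Cm.1 ((top_of h b1 b2 (K := Cm _ a)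
        (fun y hy => mem_Cm.2 (cswap (lv h b1 b2 hy j a ha))) (mem_Cm.2 ?_) hx).ge trivial)))
      rw [commutatorElement_eq_one_iff_commute.2 (mem_c1.1 a1).symm]; exact one_mem _
  obtain ⟨m, hm⟩ := h.exists_bot
  refine ⟨mem_c1.2 (commutatorElement_eq_one_iff_commute.1 ((this m).elim (fun e => ?_) id)), a2⟩
  rw [show a = 1 from mem_bot.1 (hm ▸ gam_anti _ (by omega) e)]; simp

theorem s_not (h4 : γ 4 ≠ ⊥) : s ∉ Cm (γ 4) b := fun e => b2 (unif' h le_rfl
  (fun e' => h4 (le_bot_iff.1 (e' ▸ gam_anti _ (by omega)))) b1 (mem_Cm.1 e))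

theorem cube_not (h4 : γ 4 ≠ ⊥) (hy : y ∈ Cm (γ 4) b) (y2 : y ∉ γ 2) : y ^ 3 ∉ γ 4 := fun e => by
  have c1 : ⁅y, s⁆ ∈ γ 2 := gc (i := 1) (j := 1) le_rfl le_rfl le_rfl trivial trivial
  have c2 : ⁅y, s⁆ ∉ γ 3 := fun e => (h.lt (k := 2) (by omega) h.na).not_ge fun g hg => by
    obtain ⟨g, rfl⟩ := h.surj1 g hg
    have l1 : γ 2 ≤ Cm (γ 3) s := fun c hc => mem_Cm.2 (h.comm (by omega) c hc)
    have l2 : γ 2 ≤ Cm (γ 4) b := fun c hc => mem_Cm.2 (gc (by omega) (by omega) le_rfl hc b1)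
    have a := mul_card h.pg (lt_of (le_inf l1 l2) ⟨mem_Cm.2 e, hy⟩ y2)
    have c := mul_card h.pg (lt_of (inf_le_left (a := Cm (γ 3) s) (b := Cm (γ 4) b)) (mem_Cm.2 (by simp))
      fun e => s_not h b1 b2 h4 e.2)
    have := h.idx_le
    exact mem_Cm.1 ((eq_top_of_le_card (Cm (γ 3) s) (by rw [← (γ 2).card_mul_index]; nlinarith)).ge trivial)
  have d1 := lv2 h b1 b2 hy _ (inv_mem c1)
  refine h.pow_not_mem (k := 1) le_rfl c1 c2 h4 ((QuotientGroup.eq_one_iff _).1 ?_)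
  have := comm_cube (Q := X ⧸ γ 5) (y := y) (s := s) (b := (⁅y, s⁆ : X)) (d := (⁅⁅y, s⁆⁻¹, y⁆ : X)) rfl
    (by
      generalize ⁅y, s⁆ = c
      simp [commutatorElement_def, mul_assoc])
    ((qc _ _ _).1 (gc (j := 1) (by omega) le_rfl le_rfl d1 trivial))
    ((qc _ _ _).1 (gc (j := 1) (by omega) le_rfl le_rfl d1 trivial))
  rw [← QuotientGroup.mk_pow, commutatorElement_eq_one_iff_commute.2 ((qc _ _ _).1
    (gc (j := 1) (by omega) le_rfl le_rfl e trivial)), ← QuotientGroup.mk_pow _ ⁅⁅y, s⁆⁻¹, y⁆,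
    (QuotientGroup.eq_one_iff _).2 (gam_anti _ (by omega) (h.pow_mem' (k := 3) (by omega) d1)), mul_one] at this
  exact this.symm

theorem rank2 (h4 : γ 4 ≠ ⊥) (K : Subgroup X) : (frattini K).index ≤ 3 ^ 2 := by
  by_cases hK : K ≤ Cm (γ 4) b
  · obtain ⟨m, hm⟩ := h.exists_bot
    have hV : ∀ a ∈ K, a ^ 3 ∈ (frattini K).map K.subtype := fun a ha =>
      ⟨_, Solv.pow_mem_frattini (h.pg.to_subgroup K) ⟨a, ha⟩, rfl⟩
    have h1 := h.count hV m 1 le_rfl (le_bot_iff.1 (hm ▸ gam_anti _ (by omega)))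
    refine Nat.le_of_mul_le_mul_right ?_ (Nat.card_pos (α := frattini K))
    rw [index_mul_card, ← Comp.card_map_subtype (frattini K)]
    by_cases h2 : K ≤ γ 2
    · rw [inf_eq_left.2 h2] at h1
      exact h1.trans (Nat.mul_le_mul_left _ (card_le_of_le inf_le_left))
    obtain ⟨y, y1, y2⟩ := SetLike.not_le_iff_exists.1 h2
    have a := mul_card h.pg (lt_of (inf_le_left (b := γ (1 + 3))) (hV y y1)
      fun e => cube_not h b1 b2 h4 (hK y1) y2 e.2)
    have := rel2 h (K := K) fun e => s_not h b1 b2 h4 (hK (e.ge trivial))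
    norm_num at *
    omega
  obtain ⟨x, x1, x2⟩ := SetLike.not_le_iff_exists.1 hK
  have c : Nat.card (centralizer {(⟨x, x1⟩ : K)}) ≤ 3 ^ 2 := by
    rw [← Comp.card_map_subtype]
    refine (card_le_of_le ?_).trans (cent_le h b1 b2 x2)
    rintro _ ⟨g, hg, rfl⟩
    exact mem_c1.2 (congrArg Subtype.val (mem_c1.1 hg).eq)
  by_cases e : gam (⊤ : Subgroup K) 2 = ⊥
  · rw [(eq_top_iff' _).2 fun g => mem_c1.2 (commutatorElement_eq_one_iff_commute.1 (mem_bot.1 (e ▸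
      gc (k := 2) (i := 1) (j := 1) le_rfl le_rfl le_rfl trivial trivial))), card_top] at c
    exact (Nat.le_of_dvd Nat.card_pos (index_dvd_card _)).trans c
  exact (index_antitone (Solv.commutator_le_frattini_of_isPGroup (h.pg.to_subgroup K))).trans
    (UE.idx_le ⟨h.pg.to_subgroup K, e, c⟩)

omit b1 b2 in
theorem wreath (hc : Nat.card X = 3 ^ 4) (hK : ¬ (frattini K).index ≤ 3 ^ 2) :
    ∃ W : Sylow 3 (Equiv.Perm (Fin 9)), Nonempty (X ≃* W) := by
  have hP := h.pg.to_subgroup K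
  have sZ : s ∉ center X := fun e => by
    have := h.card
    rw [centralizer_eq_top_iff_subset.2 (by simpa using e), card_top, hc] at this
    omega
  have : Nontrivial X := ⟨s, 1, fun e => sZ (e ▸ one_mem _)⟩
  have z1 := (mul_card h.pg (lt_of (center_le_centralizer {s}) (mem_c1.2 (.refl s)) sZ)).trans h.card
  obtain ⟨⟨z, z2⟩, z3⟩ := ne_bot_iff_exists_ne_one.1 ((nontrivial_iff_ne_bot _).1 h.pg.center_nontrivial)
  have k1 : K ≠ ⊤ := by
    rintro rfl
    refine hK ((index_antitone ?_).trans (relIndex_top_right (γ 2) ▸ h.idx_le))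
    refine le_trans ?_ (Solv.commutator_le_frattini_of_isPGroup hP)
    rw [show γ 2 = ⁅(⊤ : Subgroup X), ⊤⁆ from rfl, ← map_comm]
    exact (comap_map_eq_self_of_injective (subtype_injective _) _).le
  have k2 := mul_card h.pg k1.lt_top
  rw [card_top, hc] at k2
  obtain ⟨r, hr⟩ := hP.index (frattini K)
  have k3 : 3 ^ 3 ≤ (frattini K).index := by
    rw [hr, Nat.pow_le_pow_iff_right (by omega)] at hK ⊢; omega
  have k4 := (frattini K).card_mul_index
  have := Nat.card_pos (α := frattini K)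
  have k5 : frattini K = ⊥ := (card_le_one_iff_eq_bot _).1 (by nlinarith)
  rw [k5, index_bot] at k3
  have zK : z ∈ K := by_contra fun e => by
    have := (elem_of hP k5).1
    have a := mul_card h.pg (lt_of (le_centralizer K) (center_le_centralizer _ z2) e)
    have := card_le_of_le (show K ≤ center X from centralizer_eq_top_iff_subset.1
      (eq_top_of_le_card _ (by omega)))
    omega
  obtain ⟨M, m1, m2⟩ : ∃ M : Subgroup K, IsCoatom M ∧ (⟨z, zK⟩ : K) ∉ M := by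
    by_contra! hh
    exact z3 (Subtype.ext (congrArg (Subtype.val (p := (· ∈ K))) (mem_bot.1 (k5.le (Solv.mem_frattini_iff.2 hh)))))
  have m3 := M.card_mul_index
  rw [Solv.index_eq_of_coatom_of_isPGroup hP m1, ← Comp.card_map_subtype] at m3
  have m4 := (M.map K.subtype).card_mul_index
  rw [show Nat.card (M.map K.subtype) = 9 by omega, hc] at m4
  have inj : Function.Injective (MulAction.toPermHom X (X ⧸ M.map K.subtype)) := by
    rw [← MonoidHom.ker_eq_bot_iff, ← normalCore_eq_ker]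
    by_contra e
    obtain ⟨L, -, l2, l3, l4⟩ := Solv.exists_normal_between_card (p := 3) (h.pg.to_subgroup ⊤).isNilpotent
      (h.pg.to_subgroup (M.map K.subtype).normalCore) le_top (by rw [normalizer_eq_top])
      (by rw [normalizer_eq_top]) bot_le 1 (by simpa using mul_card h.pg (bot_lt_iff_ne_bot.2 e))
    have := normalizer_eq_top_iff.1 (top_le_iff.1 l4)
    rw [card_bot, one_mul, pow_one] at l3
    exact m2 ((mem_map_iff_mem K.subtype_injective).1 (normalCore_le _ (l2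
      ((eq_of_le_of_card_ge (cen_of_card h.pg l3.le) (by omega)).ge z2))))
  let φ := (Finite.equivFinOfCardEq (show Nat.card (X ⧸ M.map K.subtype) = 9 by
    rw [← index]; omega)).permCongrHom.toMonoidHom.comp (MulAction.toPermHom X (X ⧸ M.map K.subtype))
  have hφ : Function.Injective φ := fun a b e => inj ((Equiv.permCongrHom _).injective e)
  refine ⟨Sylow.ofCard φ.range ((Nat.card_congr (MonoidHom.ofInjective hφ).toEquiv).symm.trans ?_),
    ⟨MonoidHom.ofInjective hφ⟩⟩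
  rw [hc, Nat.card_eq_fintype_card, Fintype.card_perm, Fintype.card_fin,
    show Nat.factorial 9 = 3 ^ 4 * 4480 from rfl, Nat.factorization_mul (by norm_num) (by norm_num),
    Nat.prime_three.factorization_pow]
  simp [Nat.factorization_eq_zero_of_not_dvd (show ¬ 3 ∣ 4480 by norm_num)]

omit b1 b2 in
theorem three_max (hc : 3 ^ 4 ≤ Nat.card X) : (∀ K : Subgroup X, (frattini K).index ≤ 3 ^ 2) ∨
    ∃ W : Sylow 3 (Equiv.Perm (Fin 9)), Nonempty (X ≃* W) := by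
  obtain ⟨b, b1, b2⟩ := SetLike.exists_of_lt (h.lt (k := 2) (by omega) h.na)
  by_cases h4 : γ 4 = ⊥
  · have h1 := h.card_le' le_rfl 2
    rw [h4, card_bot] at h1
    have h2 := Nat.mul_le_mul h1 h.idx_le
    rw [card_mul_index] at h2
    by_cases hK : ∀ K : Subgroup X, (frattini K).index ≤ 3 ^ 2
    · exact .inl hK
    · exact .inr (wreath h (le_antisymm h2 hc) (not_forall.1 hK).choose_spec)
  · exact .inl (rank2 h b1 b2 h4)

end

open Cfsg.FusionSystem Cfsg.Agent.Fusion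

theorem thm_5239 {Ω : Type*} [Group Ω] {S E : Subgroup Ω} {F : FusionSystem S} [Fact (Nat.Prime 3)]
    [Finite S] (hS : IsPGroup 3 S) (hF : F.IsSaturated 3) (hE : F.IsEssential 3 E)
    (h : Nat.card E = 3 ^ 2 ∨ (Nat.card E = 3 ^ 3 ∧ ¬ IsMulCommutative E)) :
    (IsExtraspecial 3 S ∧ Nat.card S = 27 ∧ Monoid.exponent S = 3) ∨
      (81 ≤ Nat.card S ∧ ∀ H : Subgroup Ω, H ≤ S → ∃ T : Finset Ω, T.card ≤ 2 ∧ closure (T : Set Ω) = H) ∨
      ∃ W : Sylow 3 (Equiv.Perm (Fin 9)), Nonempty (S ≃* W) := by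
  classical
  obtain ⟨s, hs⟩ := pearl_ue hS hF hE h
  by_cases hc : 3 ^ 4 ≤ Nat.card S
  · refine .inr ((three_max hs hc).imp_left fun hK => ⟨hc, fun H hH => ?_⟩)
    obtain ⟨T, t1, t2⟩ := gens_of hS (hK (H.subgroupOf S))
    refine ⟨T.image S.subtype, Finset.card_image_le.trans t1, ?_⟩
    rw [Finset.coe_image, ← MonoidHom.map_closure, t2, map_subgroupOf_eq_of_le hH]
  have hlt := ess_lt hS hF hE
  have a := mul_card_le hS le_rfl hlt
  obtain ⟨n, hn⟩ := IsPGroup.iff_card.1 hS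
  have c3 : Nat.card S = 3 ^ 3 := by
    have : 3 ^ 3 ≤ Nat.card S := by omega
    rw [hn, Nat.pow_le_pow_iff_right (by omega)] at hc this
    rw [hn, show n = 3 by omega]
  obtain ⟨x, y, hxy⟩ := exists_nc (X := S) fun e => hs.na (eq_bot_iff.2 (commutator_le.2 fun a _ b _ =>
    commutatorElement_eq_one_iff_mul_comm.2 (e.is_comm.comm a b)))
  have : Nontrivial S := ⟨x * y, y * x, hxy⟩
  refine .inl ⟨extra_of_card hS c3 hxy, c3, (Monoid.exponent_eq_prime_iff Nat.prime_three).2 fun g hg =>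
    orderOf_eq_prime (by_contra fun g3 => hlt.not_ge ?_) hg⟩
  refine IsNormal.le_of_radical hS (MCyc.normal_odd (by omega) hS hF (stronglyClosed_top F) ?_) hE.1
    (radical_of_essential hS hE)
  have e := extra_of_card hS c3 hxy
  have o : orderOf g = 3 ^ (1 + 1) := orderOf_eq_prime_pow (by simpa using g3) (by
    rw [pow_succ, pow_one, pow_mul]; exact pow_of_card e.2 (e.1.2.1 ▸ Solv.pow_mem_frattini hS g))
  have i := (zpowers g).card_mul_index
  rw [Nat.card_zpowers, o, c3] at i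
  have i3 : (zpowers g).index = 3 := by omega
  have := normal_of_frat hS (Solv.le_frattini_iff.1 le_rfl _ (Solv.isCoatom_of_index_prime
    (i3 ▸ Nat.prime_three)))
  exact ⟨zpowers g, this, inferInstance, isCyclic_of_prime_card i3⟩

end Cfsg.Agent.PU.Sm
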