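/-
Automorphism orbits of non-abelian groups.
-/
import Cfsg.Agent.Lib.PU.Ms7
import Cfsg.Agent.Lib.Char.Degree
import Mathlib.Algebra.Group.Graph

set_option autoImplicit false
set_option linter.unusedSectionVars false
set_option linter.unusedVariables false
set_option linter.style.haveILetI false
set_option linter.unusedSimpArgs false

namespace Cfsg.Agent.PU

open Subgroup Cfsg.Agent.Transfer Cfsg.Agent.MS
open scoped commutatorElement

universe u
variable {G : Type u} [Group G] [Finite G]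
variable {A B C E H K M N P Q R S U V W X Y Z : Subgroup G} {a b c g h t u v w x y z : G} {k p : ℕ}

theorem weight_le {α β : Type*} [Fintype α] [Finite β] {f : α → β} (hf : Function.Surjective f) (w : α → ℕ) {n : ℕ}
    (h : ∀ x, n ≤ w x * #{y // f y = f x}) : #β * n ≤ ∑ x, w x := by
  classical
  have := Fintype.ofFinite β
  rw [← Finset.sum_fiberwise _ f, Nat.card_eq_fintype_card]
  refine Finset.card_nsmul_le_sum _ _ _ fun b _ => ?_
  obtain ⟨a, rfl⟩ := hf b
  refine Nat.le_of_mul_le_mul_left ?_ (Finset.card_pos.2 ⟨a, show a ∈ Finset.univ.filter (f · = f a) by simp⟩)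
  rw [Finset.mul_sum]
  refine Finset.card_nsmul_le_sum _ _ _ fun x hx => ?_
  have := h x
  rwa [(Finset.mem_filter.1 hx).2, Nat.card_eq_fintype_card, Fintype.card_subtype, mul_comm] at this

theorem dvd_of_zpow_mem [hp : Fact p.Prime] [M.Normal] (hi : M.index = p) (hb : b ∉ M) {i : ℤ} (h : b ^ i ∈ M) : (p : ℤ) ∣ i := by
  rw [← orderOf_eq_prime (x := (b : G ⧸ M)) (p := p) (hi ▸ pow_card_eq_one') (mt (QuotientGroup.eq_one_iff b).1 hb),
    orderOf_dvd_iff_zpow_eq_one]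
  exact (QuotientGroup.eq_one_iff _).2 h

theorem exists_aut [hp : Fact p.Prime] [M.Normal] (hi : M.index = p) (hb : b ∉ M) (hc : c ∉ M) (ha : b⁻¹ * c ∈ CC M)
    (h : b ^ p = c ^ p) : ∃ α : MulAut G, ∀ m ∈ M, ∀ i : ℤ, α (m * b ^ i) = m * c ^ i := by
  let D := M.map ((MonoidHom.id G).prod (MonoidHom.id G))
  have m : ∀ {x}, x ∈ D ⊔ zpowers (b, c) ↔ ∃ m ∈ M, ∃ i : ℤ, x = (m * b ^ i, m * c ^ i) := by
    intro x
    rw [mem_sup_l (zpowers_le.2 (mem_normalizer_of_conj_mem ?_))]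
    · exact ⟨fun ⟨_, ⟨m, hm, rfl⟩, _, ⟨i, rfl⟩, e⟩ => ⟨m, hm, i, e⟩, fun ⟨m, hm, i, e⟩ => ⟨_, ⟨m, hm, rfl⟩, _, ⟨i, rfl⟩, e⟩⟩
    rintro _ ⟨m, hm, rfl⟩
    refine ⟨b * m * b⁻¹, Normal.conj_mem ‹_› m hm b, Prod.ext rfl ?_⟩
    change _ = c * m * c⁻¹
    nth_rw 1 [← conj_eq_of_cc ha hm]
    change b * _ * b⁻¹ = _
    group
  have e : ∀ {i : ℤ}, (p : ℤ) ∣ i → b ^ i = c ^ i := fun ⟨j, e⟩ => by rw [e, zpow_mul, zpow_mul, zpow_natCast, zpow_natCast, h]
  have s : ∀ {b}, b ∉ M → ∀ g, ∃ m ∈ M, ∃ i : ℤ, g = m * b ^ i := fun hb g => by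
    obtain ⟨m, hm, _, ⟨i, rfl⟩, e⟩ := (mem_sup_l nn_normal).1 ((Solv.sup_zpowers_eq_of_relIndex_prime le_top
      (by rw [relIndex_top_right, hi]; exact hp.out) (mem_top _) hb).ge (mem_top g))
    exact ⟨m, hm, i, e⟩
  obtain ⟨α, k⟩ := exists_mulEquiv_eq_graph (G := D ⊔ zpowers (b, c))
    ⟨(injective_iff_map_eq_one ((MonoidHom.fst G G).comp (D ⊔ zpowers (b, c)).subtype)).2 fun ⟨x, hx⟩ k => by
      obtain ⟨n, hn, i, rfl⟩ := m.1 hx
      have k : n * b ^ i = 1 := k
      exact Subtype.ext (Prod.ext k (by rwa [e (dvd_of_zpow_mem hi hb ((mul_mem_cancel_left hn).1 (k ▸ one_mem M)))] at k)),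
      fun g => by obtain ⟨n, hn, i, rfl⟩ := s hb g; exact ⟨⟨_, m.2 ⟨n, hn, i, rfl⟩⟩, rfl⟩⟩
    ⟨(injective_iff_map_eq_one ((MonoidHom.snd G G).comp (D ⊔ zpowers (b, c)).subtype)).2 fun ⟨x, hx⟩ k => by
      obtain ⟨n, hn, i, rfl⟩ := m.1 hx
      have k : n * c ^ i = 1 := k
      exact Subtype.ext (Prod.ext (by rwa [← e (dvd_of_zpow_mem hi hc ((mul_mem_cancel_left hn).1 (k ▸ one_mem M)))] at k) k),
      fun g => by obtain ⟨n, hn, i, rfl⟩ := s hc g; exact ⟨⟨_, m.2 ⟨n, hn, i, rfl⟩⟩, rfl⟩⟩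
  exact ⟨α, fun n hn i => k.le (m.2 ⟨n, hn, i, rfl⟩)⟩

theorem classes_le (h : (#G).minFac < #(commutator G)) : #(ConjClasses G) * (#G).minFac ≤ #G := by
  classical
  haveI := Fintype.ofFinite (IrrCharacter G)
  have h1 := Char.index_add_sum_nonlinear (G := G)
  have h2 : (Finset.univ.filter fun χ : IrrCharacter G => χ.1 1 ≠ 1).card * (#G).minFac ^ 2 ≤
      ∑ χ : IrrCharacter G with χ.1 1 ≠ 1, charDegree χ.1 ^ 2 := Finset.card_nsmul_le_sum _ _ _ fun χ hχ => by
    obtain ⟨n, n0, e⟩ := χ.2.exists_degree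
    obtain rfl : charDegree χ.1 = n := by exact_mod_cast χ.2.isCharacter.cast_charDegree.trans e
    exact Nat.pow_le_pow_left (Nat.minFac_le_of_dvd (by
      have : charDegree χ.1 ≠ 1 := fun k => (Finset.mem_filter.1 hχ).2 (by rw [e, k, Nat.cast_one])
      omega) (χ.2.degree_dvd_card e)) 2
  have h3 := Finset.card_filter_add_card_filter_not (s := Finset.univ) fun χ : IrrCharacter G => χ.1 1 = 1
  rw [← Fintype.card_subtype, ← Nat.card_eq_fintype_card, Char.card_linear, Finset.card_univ, ← Nat.card_eq_fintype_card,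
    Char.card_irr_eq_card_conjClasses] at h3
  obtain ⟨m, h3, h2⟩ : ∃ m, (commutator G).index + m = #(ConjClasses G) ∧ m * (#G).minFac ^ 2 ≤ #G - (commutator G).index :=
    ⟨_, h3, by rw [← h1, Nat.add_sub_cancel_left]; convert h2⟩
  have h1 := Nat.sub_add_cancel (Nat.le_of_dvd Nat.card_pos (commutator G).index_dvd_card)
  generalize #G - (commutator G).index = s at *
  have h4 := (commutator G).card_mul_index
  have h5 := Nat.minFac_pos #G
  generalize (#G).minFac = p at *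
  obtain ⟨d, hd⟩ := Nat.exists_eq_add_of_lt h
  refine Nat.le_of_mul_le_mul_right ?_ h5
  rw [← h4, hd] at h1
  rw [← h3, ← h4, hd]
  nlinarith [Nat.le_mul_of_pos_right ((commutator G).index * d) h5]

theorem exists_shift [hp : Fact p.Prime] (hd : #(commutator G) = p) (hz : commutator G ≤ center G)
    (ix : ∀ {x : G}, x ∉ center G → (C1 x).index = p) :
    ∃ (M : Subgroup G) (b a : G), center G < M ∧ M.index = p ∧ b ∉ M ∧ a ∈ M ∧ a ∈ CC M ∧ a ∉ commutator G ∧
      (b * a) ^ p = b ^ p := by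
  have cm : ∀ x y : G, ⁅x, y⁆ ∈ commutator G := fun x y => commutator_mem_commutator (mem_top x) (mem_top y)
  have cp : ∀ {c}, c ∈ commutator G → c ^ p = 1 := fun h => hd ▸ Solv.pow_card_eq_one_of_mem h
  have zc : ∀ {c}, c ∈ center G → ∀ x, Commute x c := fun h x => mem_center_iff.1 h x
  have e0 : ∀ x y : G, y * x = x * y * ⁅y⁻¹, x⁻¹⁆ := fun x y => by simp [commutatorElement_def, mul_assoc]
  have e1 : ∀ x y : G, (x * y) ^ p = x ^ p * y ^ p * ⁅y⁻¹, x⁻¹⁆ ^ p.choose 2 := fun x y =>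
    Solv.mul_pow_of_comm (zc (hz (cm _ _)) x) (zc (hz (cm _ _)) y) (e0 x y) p
  have e2 : ∀ {x y : G}, ¬ Commute x y → ⁅y⁻¹, x⁻¹⁆ ≠ 1 := @fun x y h k => h (show x * y = _ by simpa [k] using (e0 x y).symm)
  have lt : ∀ {x}, x ∉ center G → center G < C1 x := fun {x} hx =>
    lt_of_le_of_ne (fun z hz => mem_C1.2 (zc hz x).symm) fun e => hx (e ▸ self_mem_C1 x)
  have out : ∀ {x}, x ∉ center G → ∃ b, b ∉ C1 x := fun hx => by
    by_contra! k; exact hx (mem_center_iff.2 fun g => mem_C1.1 (k g))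
  obtain ⟨x, y, hx, hy, xy⟩ : ∃ x y : G, PiE {p} x ∧ PiE {p} y ∧ ¬ Commute x y := by
    have k : ∀ x : G, ∃ a, PiE {p} a ∧ a⁻¹ * x ∈ center G := fun x => by
      obtain ⟨a, -, a1, a2⟩ := exists_part {p} x
      refine ⟨a, a1, Comp.mem_of_pow_mem_of_coprime (Nat.card_zpowers (a⁻¹ * x) ▸ pi_compl_iff_coprime.1 a2)
        (mem_center_iff.2 fun g => ?_)⟩
      rw [Solv.pow_mul_of_comm (zc (hz (cm _ _)) _) (e0 g _) p, cp (cm _ _), mul_one]
    by_contra! h
    refine prime_ne_bot (hd ▸ hp.out) (comm_eq_bot.2 fun x _ y _ => ?_)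
    obtain ⟨a, a1, a2⟩ := k x
    obtain ⟨b, b1, b2⟩ := k y
    rw [← mul_inv_cancel_left a x, ← mul_inv_cancel_left b y]
    exact ((h b a b1 a1).mul_right (zc a2 b)).mul_left (zc b2 _).symm
  have nc : ∀ {x y : G}, ¬ Commute x y → x ∉ center G := fun h k => h (zc k _).symm
  by_cases h2 : ∀ a ∈ center G, a ^ p = 1 → a ∈ commutator G
  swap
  · push Not at h2
    obtain ⟨a, a1, a2, a3⟩ := h2
    obtain ⟨b, hb⟩ := out (nc xy)
    exact ⟨_, b, a, lt (nc xy), ix (nc xy), hb, (lt (nc xy)).le a1, fun m _ => zc a1 m, a3, by rw [(zc a1 b).mul_pow, a2, mul_one]⟩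
  suffices ∃ a ∉ center G, a ^ p ∈ commutator G ∧ (a ^ p = 1 ↔ p ≠ 2) by
    obtain ⟨a, a1, a2, a3⟩ := this
    obtain ⟨b, hb⟩ := out a1
    refine ⟨_, b, a, lt a1, ix a1, hb, self_mem_C1 a, le_C1_iff.1 le_rfl, mt (@hz a) a1, ?_⟩
    by_cases e : p = 2
    · subst e
      rw [e1, mul_assoc, mul_eq_left, Nat.choose_self, pow_one, ← prime_eq_zpowers (hd ▸ hp.out) (cm _ _)
        (e2 (mt mem_C1.2 hb))] at *
      rcases zp2 (pow_two ⁅a⁻¹, b⁻¹⁆ ▸ cp (mem_zpowers _)) a2 with k | k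
      exacts [absurd rfl (a3.1 k), by rw [k, ← pow_two, cp (mem_zpowers _)]]
    rw [Solv.mul_pow_prime_of_comm hp.out e (zc (hz (cm _ _)) b) (zc (hz (cm _ _)) a) (e0 b a) (cp (cm _ _)), a3.2 e, mul_one]
  have pz : ∀ x : G, x ^ p ∈ center G := fun x => mem_center_iff.2 fun g => by
    rw [Solv.pow_mul_of_comm (zc (hz (cm _ _)) _) (e0 g _) p, cp (cm _ _), mul_one]
  have pw : ∀ {x : G}, PiE {p} x → IsPGroup p (zpowers (x ^ p)) := fun h => pg_of_pi (h.of_mem (pow_mem (mem_zpowers _) p))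
  wlog k : x ^ p ∈ zpowers (y ^ p) generalizing x y
  · refine this y x hy hx (mt Commute.symm xy) ?_
    have l : zpowers (x ^ p) ⊔ zpowers (y ^ p) ≤ center G := sup_le (zpowers_le.2 (pz x)) (zpowers_le.2 (pz y))
    have ab : IsMulCommutative (zpowers (x ^ p) ⊔ zpowers (y ^ p) : Subgroup G) := ab_mono inferInstance l
    have c := ab_cyc ab fun r => by
      obtain ⟨E, hE⟩ := r.pg (pg_sup_l (pw hx) (pw hy) (ab_nn ab le_sup_right le_sup_left))
      exact hE.not_cyc (cyc_mono (prime_cyc (hd ▸ hp.out)) fun e he => h2 e (l (hE.le he)) (hE.elem.2 e he))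
    obtain ⟨i, hi⟩ := (pw hx).exists_card_eq
    obtain ⟨j, hj⟩ := (pw hy).exists_card_eq
    rcases le_total i j with e | e
    · exact absurd (cyc_le c le_sup_left le_sup_right (hi ▸ hj ▸ pow_dvd_pow p e) (mem_zpowers _)) k
    · exact cyc_le c le_sup_right le_sup_left (hi ▸ hj ▸ pow_dvd_pow p e) (mem_zpowers _)
  obtain ⟨k, hk⟩ := mem_zpowers_iff.1 k
  have a1 : ¬ Commute (x * y ^ (-k)) y := fun h => xy (by simpa using h.mul_left (Commute.self_zpow y k).symm)
  have a2 := e1 x (y ^ (-k))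
  rw [← hk, ← zpow_natCast (y ^ (-k)), ← zpow_mul, mul_comm (-k), zpow_mul, zpow_natCast, zpow_neg (y ^ p), mul_inv_cancel,
    one_mul] at a2
  have a3 : (x * y ^ (-k)) ^ p ∈ commutator G := a2 ▸ pow_mem (cm _ _) _
  by_cases e : p = 2
  swap
  · refine ⟨_, nc a1, a3, iff_of_true ?_ e⟩
    obtain ⟨n, hn⟩ := hp.out.dvd_choose_self two_ne_zero (lt_of_le_of_ne hp.out.two_le (Ne.symm e))
    rw [a2, hn, pow_mul, cp (cm _ _), one_pow]
  generalize x * y ^ (-k) = a at *
  subst e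
  simp only [ne_eq, not_true, iff_false]
  by_cases b1 : a ^ 2 = 1
  swap; · exact ⟨a, nc a1, a3, b1⟩
  by_cases b2 : y ^ 2 = 1
  · have := e1 a y
    rw [b1, b2, one_mul, one_mul, Nat.choose_self, pow_one] at this
    exact ⟨a * y, nc (y := y) fun h => a1 (by simpa using h.mul_left (Commute.refl y).inv_left), this ▸ cm _ _, this ▸ e2 a1⟩
  by_cases b3 : y ^ 2 ∈ commutator G
  · exact ⟨y, nc (mt Commute.symm a1), b3, b2⟩
  obtain ⟨j, hj⟩ := (pw hy).exists_card_eq
  rw [Nat.card_zpowers] at hj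
  have i4 := orderOf_pow_orderOf_div (orderOf_pos (y ^ 2)).ne' (n := 2 ^ 2) (by
    rw [hj]
    refine pow_dvd_pow 2 (by_contra fun l => b3 (h2 _ (pz y) (orderOf_dvd_iff_pow_eq_one.1 ?_)))
    rw [hj]; exact (pow_dvd_pow 2 (show j ≤ 1 by omega)).trans (by simp))
  have iz := pow_mem (pz y) (orderOf (y ^ 2) / 2 ^ 2)
  generalize (y ^ 2) ^ (orderOf (y ^ 2) / 2 ^ 2) = i at *
  have := (zc iz a).mul_pow 2
  rw [b1, one_mul] at this
  exact ⟨a * i, mt (mul_mem_cancel_right iz).1 (nc a1), this ▸ h2 _ (pow_mem iz 2) (by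
    rw [← pow_mul, ← pow_two, ← i4, pow_orderOf_eq_one]), this ▸ pow_ne_one_of_lt_orderOf two_ne_zero (by rw [i4]; norm_num)⟩

theorem thm_4067 (hna : ¬ IsMulCommutative G) : #(MulAction.orbitRel.Quotient (MulAut G) G) ≤ #G / (#G).minFac := by
  classical
  rw [Nat.le_div_iff_mul_le (Nat.minFac_pos _)]
  have cj : ∀ {x y : G}, IsConj x y → y ∈ MulAction.orbit (MulAut G) x := fun h => by
    obtain ⟨c, rfl⟩ := isConj_iff.1 h; exact ⟨MulAut.conj c, rfl⟩
  by_cases h : (#G).minFac < #(commutator G)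
  · refine (Nat.mul_le_mul_right _ (Nat.card_le_card_of_surjective (Quotient.map id fun x y h => cj (IsConj.symm h)) fun x => ?_)).trans
      (classes_le h)
    induction x using Quotient.inductionOn with | h x => exact ⟨ConjClasses.mk x, rfl⟩
  have hm : ∀ {n}, n ∣ #G → n ≠ 1 → (#G).minFac ≤ n := fun {n} a b => Nat.minFac_le_of_dvd (by
    have := Nat.pos_of_dvd_of_pos a Nat.card_pos; omega) a
  have n1 : commutator G ≠ ⊥ := fun e => hna ⟨⟨fun a b => (comm_eq_bot.1 e (mem_top b) a (mem_top a))⟩⟩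
  have hd := le_antisymm (not_lt.1 h) (hm (card_subgroup_dvd_card _) (mt card_eq_one.1 n1))
  haveI := Fact.mk (Nat.minFac_prime (n := #G) fun e => n1 (card_eq_one.1 (hd.trans (by simp [e]))))
  generalize (#G).minFac = p at *
  have i1 : ∀ {x}, x ∉ center G → p ≤ (C1 x).index := fun hx => hm (index_dvd_card _) fun e =>
    hx (mem_center_iff.2 fun g => mem_C1.1 ((index_eq_one.1 e).ge (mem_top g)))
  have hz : commutator G ≤ center G := fun c hc => by_contra fun k => (i1 k).not_gt (by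
    rw [← Char.card_isConj_eq_index, ← hd]
    refine (Set.ncard_lt_ncard (s := {x | IsConj c x}) (t := commutator G) ⟨fun x hx => ?_, fun l => k ?_⟩ :)
    · obtain ⟨g, rfl⟩ := isConj_iff.1 hx; exact Normal.conj_mem inferInstance c hc g
    · rw [isConj_one_left.1 (l (one_mem _))]; exact one_mem _)
  have cm : ∀ x y : G, ⁅x, y⁆ ∈ commutator G := fun x y => commutator_mem_commutator (mem_top x) (mem_top y)
  have ix : ∀ {x : G}, x ∉ center G → (C1 x).index = p := fun {x} hx => le_antisymm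
    (hd ▸ relIndex_top_right (C1 x) ▸ index_C1_le fun g _ => cm g x) (i1 hx)
  obtain ⟨M, b, a, m1, m2, m3, m4, m5, m6, m7⟩ := exists_shift hd hz ix
  haveI : M.Normal := normalizer_eq_top_iff.1 (eq_top_iff.2 (nn_of_der_le (hz.trans m1.le) le_top))
  obtain ⟨α, hα⟩ := exists_aut m2 m3 (c := b * a) (mt (mul_mem_cancel_right m4).1 m3) (by simpa) m7.symm
  haveI := Fintype.ofFinite G
  have o : ∀ x : G, #{y // (Quotient.mk _ y : MulAction.orbitRel.Quotient (MulAut G) G) = Quotient.mk _ x} =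
      (MulAction.orbit (MulAut G) x).ncard := fun x => Nat.card_congr (Equiv.subtypeEquivRight fun y => Quotient.eq)
  have c1 : ∀ {x : G}, x ∉ center G → {y | IsConj x y}.ncard = p := fun hx => (Char.card_isConj_eq_index _).trans (ix hx)
  have k := weight_le (Quotient.mk_surjective (s := MulAction.orbitRel (MulAut G) G)) (fun x => 1 + (if x ∈ M then 1 else 0) +
    if x ∈ center G then 2 * p - 2 else 0) (n := 2 * p) fun x => by
    rw [o]
    by_cases e : x ∈ center G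
    · have := (Set.ncard_pos (s := MulAction.orbit (MulAut G) x)).2 ⟨x, MulAction.mem_orbit_self x⟩
      rw [if_pos e, if_pos (m1.le e), show 1 + 1 + (2 * p - 2) = 2 * p by have := (Fact.out : p.Prime).pos; omega]
      exact Nat.le_mul_of_pos_right _ this
    by_cases e' : x ∈ M
    · simpa [e, e', ← c1 e] using Set.ncard_le_ncard (s := {y | IsConj x y}) fun y h => cj h
    simp only [e, e', if_false, add_zero, one_mul, two_mul]
    nth_rw 2 [← c1 (x := α x) fun k => e (mem_center_iff.2 fun g => α.injective (by simp [mem_center_iff.1 k]))]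
    rw [← c1 e, ← Set.ncard_union_eq (Set.disjoint_left.2 fun y h1 h2 => ?_)]
    · exact Set.ncard_le_ncard (Set.union_subset (fun y h => cj h) fun y h => (MulAction.orbit_eq_iff.2 ⟨α, rfl⟩).le (cj h))
    obtain ⟨m, hm, _, ⟨i, rfl⟩, rfl⟩ := (mem_sup_l nn_normal).1 ((Solv.sup_zpowers_eq_of_relIndex_prime le_top
      (by rw [relIndex_top_right, m2]; exact Fact.out) (mem_top _) m3).ge (mem_top x))
    have q := isConj_iff_eq.1 (Abelianization.of.map_isConj ((show IsConj _ y from h1).trans (IsConj.symm h2)))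
    rw [hα m hm, map_mul, map_mul, map_zpow, map_zpow, map_mul, mul_zpow, mul_right_inj, left_eq_mul] at q
    have q' := congrArg Abelianization.of m7
    rw [map_pow, map_mul, mul_pow, ← map_pow, mul_eq_left] at q'
    have := orderOf_dvd_iff_zpow_eq_one.2 q
    rw [orderOf_eq_prime q' fun k => m6 (Abelianization.ker_of G ▸ k)] at this
    obtain ⟨j, rfl⟩ := this
    exact e' (mul_mem hm (by simp only [zpow_mul, zpow_natCast]; exact zpow_mem (m2 ▸ M.pow_index_mem b) j))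
  simp only [Finset.sum_add_distrib, Finset.sum_ite, Finset.sum_const_zero, add_zero, Finset.sum_const, smul_eq_mul, mul_one,
    Finset.card_univ, ← Fintype.card_subtype, ← Nat.card_eq_fintype_card] at k
  have k1 := M.card_mul_index
  obtain ⟨r, hr⟩ := card_dvd m1.le
  have r2 : 2 ≤ r := by
    have := card_lt_of_lt m1
    match r with
    | 0 | 1 => omega
    | r + 2 => omega
  obtain ⟨q, rfl⟩ := Nat.exists_eq_add_of_lt (Fact.out : p.Prime).pos
  rw [m2] at k1
  rw [show 2 * (0 + q + 1) - 2 = 2 * q by omega] at k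
  change _ ≤ #G + #M + #(center G) * _ at k
  nlinarith [Nat.mul_le_mul_left (#(center G) * q) r2]

end Cfsg.Agent.PU
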