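/-
Metacyclic Sylow subgroups and normal complements; abelian `p`-groups with operators.
-/
import Cfsg.Agent.Lib.PU.Ms6
import Cfsg.Agent.Lib.BG.Sec5
import Cfsg.Agent.Lib.BG.MetaOdd
import Cfsg.Agent.Lib.Comp.Loc
import Cfsg.Agent.Lib.Transfer.Hol

set_option autoImplicit false
set_option linter.unusedSectionVars false
set_option linter.unusedVariables false
set_option linter.style.haveILetI false
set_option linter.unusedSimpArgs false

namespace Cfsg.Agent.PU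

open Subgroup Cfsg.Agent.Transfer Cfsg.Agent.MS
open scoped commutatorElement

universe u
variable {G : Type u} [Group G] [Finite G]
variable {A B C E H K M N P Q R S U V W X Y Z : Subgroup G} {a b g t u v w x y z : G} {k p : ℕ}

theorem card_two_gen [hp : Fact p.Prime] (hU : IsElementaryAbelian p U) (h : zpowers a ⊔ zpowers b = U) : #U ≤ p ^ 2 := by
  have ha : zpowers a ≤ U := h ▸ le_sup_left
  have hb : zpowers b ≤ U := h ▸ le_sup_right
  have c1 := cyc_elem_dvd (elem_mono hU ha) (cyc_zpowers a)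
  have c2 := (relIndex_dvd (zpowers a) _).trans (cyc_elem_dvd (elem_mono hU hb) (cyc_zpowers b))
  rw [← relIndex_sup_l (ab_nn hU.1 hb ha), h] at c2
  have := Nat.mul_dvd_mul c1 c2
  rw [card_mul_relIndex ha, ← pow_two] at this
  exact Nat.le_of_dvd (pow_pos hp.out.pos 2) this

theorem cc_of_two_gen [hp : Fact p.Prime] (hB : IsPGroup p B) (h : zpowers a ⊔ zpowers b = B) (hA : A ≤ NN B)
    (h1 : (#A).Coprime p) (h2 : (#A).Coprime (p ^ 2 - 1)) : A ≤ CC B := by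
  have hn := Solv.normalizer_le_normalizer_map_of_characteristic B (frattini B)
  obtain ⟨n, hn'⟩ := IsPGroup.iff_card.1 (hB.to_subgroup (frattini B))
  refine Solv.coprime_frattini_le_centralizer (hn' ▸ h1.pow_right n) ?_ hA
  obtain ⟨L, _, _, f, q⟩ := exists_qm ((map_subtype_le (frattini B)).trans (le_nn B)) hn
  have hU : IsElementaryAbelian p (im f B) := ⟨ab_iff.2 ((q.cc_iff (le_nn B) (le_nn B)).2
    (Solv.commutator_le_map_frattini (nil_of_pg hB))), fun y ⟨x, hx, e⟩ => by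
      rw [← e, ← map_pow]; exact (q.eq_one_iff _).2 (Solv.pow_mem_map_frattini hB hx)⟩
  have ha : zpowers a ≤ NN B := (h ▸ le_sup_left : zpowers a ≤ B).trans (le_nn B)
  have hb : zpowers b ≤ NN B := (h ▸ le_sup_right : zpowers b ≤ B).trans (le_nn B)
  have hc : #(im f B) ≤ p ^ 2 := card_two_gen hU (a := f ⟨a, ha (mem_zpowers a)⟩) (b := f ⟨b, hb (mem_zpowers b)⟩) (by
    rw [← im_zpowers, ← im_zpowers, ← im_sup ha hb, h])
  refine (q.cc_iff (le_nn B) hA).1 (cc_symm (le_of_pg fun r hr hd T hT hr' => by_contra fun hc' => ?_))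
  have : Fact r.Prime := ⟨hr⟩
  have d := hd.trans (card_im_dvd hA)
  refine hr.one_lt.ne' (Nat.eq_one_of_dvd_coprimes h2 d (BG.dvd_of_not_le_Ct hU hc hr' (hT.trans (im_nn hA (le_nn B) hA)) hc' ?_))
  rintro rfl
  exact hr.one_lt.ne' (Nat.eq_one_of_dvd_coprimes h1 d dvd_rfl)

theorem npc_meta [hp : Fact p.Prime] (S : Sylow p G) (hS : IsMetacyclic (S : Subgroup G))
    (hc : (#G).Coprime (p ^ 2 - 1)) : HasNormalPComplement p G :=
  hasNPC_of_res_normalizer_le S fun B h1 _ => res_le_iff.2 fun g hg h2 => by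
    obtain ⟨a, b, -, e⟩ := BG.meta_iff.2 (Reg.meta_inj _ (inclusion_injective h1) hS)
    exact zpowers_le.1 (cc_of_two_gen (S.2.to_le h1) e (zpowers_le.2 hg) (by rwa [Nat.card_zpowers])
      (hc.coprime_dvd_left (card_subgroup_dvd_card _)))

theorem thm_3971 (a n : ℕ) (hG : #G = 2 ^ a * n) (hn : Odd n) (h3 : ¬ 3 ∣ n) (hx : ∃ x : G, orderOf x = 2 ^ (a - 1)) :
    ∃ N : Subgroup G, N.Normal ∧ #N = n := by
  obtain ⟨x, hx⟩ := hx
  obtain ⟨S, hS⟩ := (IsPGroup.of_card (p := 2) ((Nat.card_zpowers x).trans hx)).exists_le_sylow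
  have c : #S = 2 ^ a := by
    rw [S.card_eq_multiplicity, hG, Nat.factorization_mul (by positivity) hn.pos.ne']
    simp [Nat.factorization_eq_zero_of_not_dvd hn.not_two_dvd_nat, Nat.prime_two.factorization_self]
  have i : (zpowers x).relIndex S ∣ 2 := by
    have := card_mul_relIndex hS
    rw [Nat.card_zpowers, hx, c] at this
    rcases a with _ | a
    · simp at this; simp [this]
    · rw [Nat.add_sub_cancel, pow_succ] at this
      rw [Nat.eq_of_mul_eq_mul_left (by positivity) this]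
  have hN : ((zpowers x).subgroupOf S).Normal := by
    rcases (Nat.dvd_prime Nat.prime_two).1 i with e | e
    · rw [subgroupOf_eq_top.2 (relIndex_eq_one.1 e)]; infer_instance
    · exact normal_of_index_eq_two e
  have hm : IsMetacyclic (S : Subgroup G) := ⟨_, hN, BG.isCyclic_subgroupOf inferInstance _,
    isCyclic_of_card_dvd_prime (p := 2) i⟩
  obtain ⟨T, N, h1, h2⟩ := npc_meta S hm (by
    rw [hG]; exact Nat.Coprime.mul_left (Nat.Coprime.pow_left _ (by norm_num))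
      ((Nat.Prime.coprime_iff_not_dvd Nat.prime_three).2 h3).symm)
  refine ⟨N, h1, ?_⟩
  have := h2.card_mul_card
  rw [hG, T.card_eq_multiplicity, ← S.card_eq_multiplicity, c, mul_comm] at this
  exact Nat.eq_of_mul_eq_mul_left (by positivity) this

theorem thm_4419 (p : ℕ) [hp : Fact p.Prime] (S : Sylow p G) (hS : IsMetacyclic (S : Subgroup G)) :
    HasNormalPComplement p G ↔ Nat.Coprime (#(G ⧸ pPrimePCore p G)) (p ^ 2 - 1) := by
  refine ⟨fun h => ?_, fun h => ?_⟩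
  · have h1 := hasNPC_iff_not_dvd.1 h
    have h2 : pResidual p G ≤ pPrimeCore p G :=
      Solv.le_pPrimeCore ((Nat.Prime.coprime_iff_not_dvd Fact.out).2 h1).symm
    have h3 : pPrimePCore p G = ⊤ := by
      rw [pPrimePCore, show pCore p (G ⧸ pPrimeCore p G) = ⊤ from top_le_iff.1 (Solv.le_pCore (IsPGroup.to_subgroup
        (isPGroup_quotient_pResidual.of_surjective (QuotientGroup.map _ _ (MonoidHom.id G) h2)
          (QuotientGroup.map_surjective_of_surjective _ _ _ QuotientGroup.mk_surjective h2)) _)), comap_top]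
    rw [← index_eq_card, h3, index_top]; exact Nat.coprime_one_left _
  · refine hasNPC_of_quotient_coprime Solv.not_dvd_card_pPrimeCore
      (npc_meta (S.mapSurjective (QuotientGroup.mk'_surjective _)) ?_ ?_)
    · obtain ⟨a, b, c, d⟩ := BG.meta_iff.2 hS
      refine BG.meta_iff.1 ⟨a, b, ?_, ?_⟩
      · have := le_normalizer_map (QuotientGroup.mk' (pPrimeCore p G)) ⟨b, c, rfl⟩
        rwa [MonoidHom.map_zpowers] at this
      · rw [Sylow.coe_mapSurjective, ← d, Subgroup.map_sup, MonoidHom.map_zpowers, MonoidHom.map_zpowers]; rfl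
    · rw [← index_eq_card, pPrimePCore, index_comap_of_surjective _ (QuotientGroup.mk'_surjective _)] at h
      rw [← (pCore p (G ⧸ pPrimeCore p G)).card_mul_index]
      obtain ⟨n, hn⟩ := IsPGroup.iff_card.1 (Solv.isPGroup_pCore (p := p) (G := G ⧸ pPrimeCore p G))
      refine Nat.Coprime.mul_left (hn ▸ Nat.Coprime.pow_left _ ?_) h
      have : p ^ 2 - 1 + 1 = p * p := by rw [Nat.sub_add_cancel (Nat.one_le_pow _ _ hp.out.pos), pow_two]
      exact (Nat.coprime_mul_iff_left.1 (this ▸ by simp : (p * p).Coprime (p ^ 2 - 1))).1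

theorem gen_of_index [hp : Fact p.Prime] (hG : IsPGroup p G) (m : ℕ) : ∀ H : Subgroup G, H.index ≤ p ^ m →
    ∃ S : Finset G, S.card ≤ m ∧ closure (S : Set G) ⊔ H = ⊤ := by
  classical
  induction m with
  | zero => exact fun H h => ⟨∅, le_rfl, by
      rw [index_eq_one.1 (le_antisymm (by simpa using h) (Nat.pos_of_ne_zero H.index_ne_zero_of_finite)), sup_top_eq]⟩
  | succ m ih =>
    intro H h
    by_cases e : H = ⊤
    · exact ⟨∅, by simp, by rw [e, sup_top_eq]⟩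
    obtain ⟨x, -, hx⟩ := SetLike.exists_of_lt (lt_top_iff_ne_top.2 e)
    obtain ⟨S, h1, h2⟩ := ih (zpowers x ⊔ H) (by
      obtain ⟨j, hj⟩ := (hG.to_subgroup (zpowers x ⊔ H)).index (H.subgroupOf _)
      have h3 := relIndex_mul_index (le_sup_right : H ≤ zpowers x ⊔ H)
      rcases j with _ | j
      · exact absurd (relIndex_eq_one.1 hj (mem_sup_left (mem_zpowers x))) hx
      · rw [← h3, relIndex, hj, pow_succ', pow_succ', mul_assoc] at h
        exact (Nat.le_mul_of_pos_left _ (pow_pos hp.out.pos j)).trans (Nat.le_of_mul_le_mul_left h hp.out.pos))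
    refine ⟨insert x S, (Finset.card_insert_le _ _).trans (by omega), ?_⟩
    rw [Finset.coe_insert, Set.insert_eq, Subgroup.closure_union, ← zpowers_eq_closure, sup_comm (zpowers x), sup_assoc, h2]

theorem card_ker_pow {V : Type*} [AddCommGroup V] [Finite V] (d : AddMonoid.End V) (n : ℕ) :
    #(AddMonoidHom.ker (d ^ n : AddMonoid.End V)) ≤ #(AddMonoidHom.ker d) ^ n := by
  induction n with
  | zero =>
    rw [pow_zero, pow_zero, show AddMonoidHom.ker (1 : AddMonoid.End V) = ⊥ from AddMonoidHom.ker_id]; simp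
  | succ n ih =>
    have e : AddMonoidHom.ker (d ^ (n + 1) : AddMonoid.End V) = (AddMonoidHom.ker (d ^ n : AddMonoid.End V)).comap d := by
      rw [pow_succ]; rfl
    have h1 : AddMonoidHom.ker d ≤ (AddMonoidHom.ker (d ^ n : AddMonoid.End V)).comap d := AddSubgroup.ker_le_comap _ _
    rw [e, ← AddSubgroup.card_mul_index ((AddMonoidHom.ker d).addSubgroupOf _), pow_succ', Nat.card_congr (AddSubgroup.addSubgroupOfEquivOfLe h1).toEquiv]
    refine Nat.mul_le_mul_left _ (le_trans ?_ ih)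
    exact (AddSubgroup.relIndex_ker _ (d : V →+ V)).le.trans (AddSubgroup.card_le_of_le (AddSubgroup.map_comap_le _ _))

theorem thm_3780 {V : Type u} [CommGroup V] [Finite V] {p : ℕ} [hp : Fact p.Prime] (hV : IsPGroup p V) (α : MulAut V)
    (hα : orderOf α = p) (n : ℕ) (hfix : #{v : V // α v = v} = p ^ n) :
    ∃ S : Finset V, S.card ≤ p * n ∧ closure (S : Set V) = ⊤ := by
  let φ : MulAut V →* AddMonoid.End (Additive V) :=
    { toFun := fun a => MonoidHom.toAdditive a.toMonoidHom, map_one' := rfl, map_mul' := fun _ _ => rfl }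
  obtain ⟨r, hr⟩ := (Commute.one_left (φ α - 1)).exists_add_pow_prime_eq hp.out
  rw [add_sub_cancel, ← map_pow, ← hα, pow_orderOf_eq_one, map_one, one_pow, hα, add_assoc, left_eq_add, mul_one,
    mul_assoc, add_eq_zero_iff_eq_neg] at hr
  have h1 := card_ker_pow (φ α - 1) p
  have h2 : #(AddMonoidHom.ker (φ α - 1 : AddMonoid.End (Additive V))) = p ^ n :=
    hfix ▸ Nat.card_congr (Additive.toMul.subtypeEquiv fun v => sub_eq_zero)
  have h3 : #(powMonoidHom p : V →* V).ker ≤ #(AddMonoidHom.ker ((φ α - 1) ^ p : AddMonoid.End (Additive V))) :=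
    Nat.card_le_card_of_injective (fun v => ⟨Additive.ofMul v.1, by
      change ((φ α - 1) ^ p : AddMonoid.End (Additive V)) (Additive.ofMul v.1) = 0
      rw [hr, ← nsmul_eq_mul]
      change -(p • ((φ α - 1) * r) (Additive.ofMul v.1)) = 0
      rw [← map_nsmul, ← ofMul_pow, show v.1 ^ p = 1 from v.2, ofMul_one, map_zero, neg_zero]⟩)
      fun v w e => by simpa using e
  obtain ⟨S, h4, h5⟩ := gen_of_index hV (p * n) (powMonoidHom p : V →* V).range (by
    have a := (powMonoidHom p : V →* V).range.card_mul_index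
    rw [← (powMonoidHom p : V →* V).ker.card_mul_index, index_ker, mul_comm] at a
    rw [Nat.eq_of_mul_eq_mul_right Nat.card_pos a, mul_comm, pow_mul, ← h2]
    exact h3.trans h1)
  exact ⟨S, h4, Solv.eq_top_of_sup_le_frattini (N := (powMonoidHom p : V →* V).range)
    (fun _ ⟨x, e⟩ => e ▸ Solv.pow_mem_frattini hV x) h5⟩

theorem maschG {D : Subgroup G} [hp : Fact p.Prime] (ab : IsMulCommutative V) (hc : (#A).Coprime p) (iD : A ≤ NN D)
    (iU : A ≤ NN U) (iV : A ≤ NN V) (h1 : D ≤ U) (h2 : U ≤ V) (h3 : ∀ v ∈ V, v ^ p ∈ D) :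
    ∃ W, A ≤ NN W ∧ W ⊓ U = D ∧ W ⊔ U = V := by
  have l1 : U ≤ V ⊔ A := h2.trans le_sup_left
  obtain ⟨L, _, _, f, q⟩ := exists_qm (h1.trans l1) (sup_le (ab_nn ab le_rfl (h1.trans h2)) iD)
  obtain ⟨X, a, b, c⟩ := BG.exists_invariant_compl_of_elem (p := p) (V := im f V) (U := im f U)
    (A := im f A) ⟨im_ab ab le_sup_left, fun _ ⟨x, hv, e'⟩ => by
      rw [← e', ← map_pow]; exact (q.eq_one_iff _).2 (h3 x hv)⟩
    (im_nn le_sup_right le_sup_left iV) (hc.coprime_dvd_left (card_im_dvd le_sup_right))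
    (im_mono h2) (im_nn le_sup_right l1 iU)
  refine ⟨pre f X, q.nn_pre le_sup_right a, ?_, ?_⟩
  · rw [← q.pre_im' l1 h1, ← q.pre_inf, b, q.pre_bot]
  · refine Eq.trans ?_ (q.pre_im' le_sup_left (h1.trans h2))
    rw [← c, ← q.im_pre X, ← im_sup l1 (pre_le _ _),
      q.pre_im' (sup_le l1 (pre_le _ _)) (h1.trans le_sup_left), q.im_pre, sup_comm]

section ops
variable {T : Type u} [CommGroup T] [Finite T] {Γ : Subgroup (MulAut T)} {B C D U V W : Subgroup T}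

/-- invariance under a group of operators -/
def Inv (Γ : Subgroup (MulAut T)) (B : Subgroup T) : Prop := ∀ x ∈ Γ, ∀ b ∈ B, x b ∈ B

theorem inv_iff : Inv Γ B ↔ ∀ x ∈ Γ, B.map x.toMonoidHom = B :=
  ⟨fun h x hx => le_antisymm (fun _ ⟨b, hb, e⟩ => e ▸ h x hx b hb) fun b hb => ⟨x⁻¹ b, h _ (inv_mem hx) b hb, by simp⟩,
    fun h x hx b hb => h x hx ▸ ⟨b, hb, rfl⟩⟩

theorem Inv.inf (h : Inv Γ B) (h1 : Inv Γ C) : Inv Γ (B ⊓ C) := fun x hx b hb => ⟨h x hx b hb.1, h1 x hx b hb.2⟩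
theorem Inv.sup (h : Inv Γ B) (h1 : Inv Γ C) : Inv Γ (B ⊔ C) := inv_iff.2 fun x hx => by
  rw [Subgroup.map_sup, inv_iff.1 h x hx, inv_iff.1 h1 x hx]
theorem Inv.comap (h : Inv Γ B) (n : ℕ) : Inv Γ (B.comap (powMonoidHom n)) := fun x hx b hb => by
  simpa using h x hx _ hb
theorem Inv.map (h : Inv Γ B) (n : ℕ) : Inv Γ (B.map (powMonoidHom n)) := fun x hx _ ⟨b, hb, e⟩ =>
  ⟨x b, h x hx b hb, by simp [← e]⟩
theorem inv_bot : Inv Γ ⊥ := fun x _ b hb => by simpa using hb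

theorem masch [hp : Fact p.Prime] (hc : (#Γ).Coprime p) (iD : Inv Γ D) (iU : Inv Γ U) (iV : Inv Γ V) (h1 : D ≤ U) (h2 : U ≤ V)
    (h3 : ∀ v ∈ V, v ^ p ∈ D) : ∃ W, Inv Γ W ∧ W ⊓ U = D ∧ W ⊔ U = V := by
  have nn : ∀ {B : Subgroup T}, Inv Γ B → Γ.map hr ≤ NN (B.map (hl : T →* Hol T)) := fun h _ ⟨x, hx, e⟩ =>
    e ▸ hr_mem_normalizer (inv_iff.1 h x hx)
  obtain ⟨X, a, b, c⟩ := maschG (V := V.map (hl : T →* Hol T)) (ab_iff.2 fun _ ⟨x, _, e⟩ => mem_CC.2 fun _ ⟨y, _, e'⟩ => by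
    rw [← e, ← e', ← map_mul, ← map_mul, mul_comm]) (hc.coprime_dvd_left (card_map_dvd _ _)) (nn iD) (nn iU) (nn iV)
    (map_mono h1) (map_mono h2) fun _ ⟨v, hv, e⟩ => ⟨v ^ p, h3 v hv, by rw [← e, map_pow]⟩
  have e : (X.comap hl).map hl = X := map_comap_eq_self ((le_sup_left.trans c.le).trans (map_le_range _ _))
  refine ⟨X.comap hl, fun x hx w hw => ?_, map_injective hl_injective ?_, map_injective hl_injective ?_⟩
  · rw [mem_comap, ← hol_conj]
    exact (mem_normalizer_iff.1 (a ⟨x, hx, rfl⟩) _).1 hw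
  · rw [map_inf_eq _ _ _ hl_injective, e, b]
  · rw [Subgroup.map_sup, e, c]

theorem om_chain [hp : Fact p.Prime] (iC : Inv Γ C)
    (h : ∀ B, Inv Γ B → C ≤ B → (∀ b ∈ B, b ^ p ∈ C) → B = C ∨ ∀ a, a ^ p ∈ C → a ∈ B) (i : ℕ) :
    ∀ B, Inv Γ B → C ≤ B → (∀ b ∈ B, b ^ p ^ i ∈ C) → ∃ j, ∀ a, a ∈ B ↔ a ^ p ^ j ∈ C := by
  suffices H : ∀ i B, Inv Γ B → C ≤ B → (∀ b ∈ B, b ^ p ^ (i + 1) ∈ C) → (∃ b ∈ B, b ^ p ^ i ∉ C) →
      ∀ a, a ^ p ^ (i + 1) ∈ C → a ∈ B by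
    induction i with
    | zero => exact fun B _ h1 h2 => ⟨0, fun a => ⟨h2 a, fun e => h1 (by simpa using e)⟩⟩
    | succ i ih =>
      intro B h0 h1 h2
      by_cases e : ∀ b ∈ B, b ^ p ^ i ∈ C
      · exact ih B h0 h1 e
      · push Not at e; exact ⟨i + 1, fun a => ⟨h2 a, H i B h0 h1 h2 e a⟩⟩
  intro i
  induction i with
  | zero =>
    intro B h0 h1 h2 ⟨b, hb, h3⟩ a ha
    rcases h B h0 h1 (by simpa using h2) with rfl | e
    · exact absurd (by simpa using hb) h3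
    · exact e a (by simpa using ha)
  | succ i ih =>
    intro B h0 h1 h2 ⟨b, hb, h3⟩ a ha
    have k := ih (B ⊓ C.comap (powMonoidHom (p ^ (i + 1)))) (h0.inf (iC.comap _))
      (le_inf h1 fun c hc => pow_mem hc _) (fun b hb => hb.2)
      ⟨b ^ p, ⟨pow_mem hb _, by simpa [← pow_mul, ← pow_succ'] using h2 b hb⟩, by rwa [← pow_mul, ← pow_succ']⟩
    rcases h (B.map (powMonoidHom (p ^ (i + 1))) ⊔ C) ((h0.map _).sup iC) le_sup_right (fun y hy => by
      obtain ⟨_, ⟨z, hz, rfl⟩, c, hc, rfl⟩ := Subgroup.mem_sup.1 hy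
      rw [mul_pow, powMonoidHom_apply, ← pow_mul, ← pow_succ]
      exact mul_mem (h2 z hz) (pow_mem hc _)) with e | e
    · exact absurd (e ▸ mem_sup_left ⟨b, hb, rfl⟩) h3
    · obtain ⟨_, ⟨z, hz, rfl⟩, c, hc, e'⟩ := Subgroup.mem_sup.1 (e (a ^ p ^ (i + 1)) (by rwa [← pow_mul, ← pow_succ]))
      have := mul_mem (k (a / z) (by rw [div_pow, ← e', powMonoidHom_apply, mul_div_cancel_left]; exact hc)).1 hz
      rwa [div_mul_cancel] at this

theorem irr_of_indec [hp : Fact p.Prime] (hT : IsPGroup p T) (hc : (#Γ).Coprime p)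
    (h : ∀ B C, Inv Γ B → Inv Γ C → B ⊓ C = ⊥ → B ⊔ C = ⊤ → B = ⊥ ∨ C = ⊥) :
    ∀ B, Inv Γ B → (∀ b ∈ B, b ^ p = 1) → B = ⊥ ∨ ∀ a, a ^ p = 1 → a ∈ B := by
  classical
  obtain ⟨n, hn⟩ := IsPGroup.iff_card.1 hT
  have ex : ∃ e, ∀ a : T, a ^ p ^ e = 1 := ⟨n, fun a => hn ▸ pow_card_eq_one'⟩
  have h1 := Nat.find_spec ex
  rcases e : Nat.find ex with _ | m
  · exact fun B _ _ => Or.inl (eq_bot_iff.2 fun a _ => by simpa [e] using h1 a)
  have h2 := Nat.find_min ex (m := m) (by omega)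
  rw [e] at h1
  let K : Subgroup T := (⊥ : Subgroup T).comap (powMonoidHom (p ^ m))
  have iK : Inv Γ K := inv_bot.comap _
  obtain ⟨H, ⟨iH, hH⟩, mH⟩ := exists_minimal_of_wellFoundedLT (fun H : Subgroup T => Inv Γ H ∧ ¬ H ≤ K)
    ⟨⊤, fun _ _ _ _ => mem_top _, fun e => h2 fun a => e (mem_top a)⟩
  let W := H.map (powMonoidHom (p ^ m))
  have iW : Inv Γ W := iH.map _
  have irr : ∀ B, Inv Γ B → B ⊓ W = ⊥ ∨ W ≤ B := fun B iB => or_iff_not_imp_left.2 fun e => by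
    obtain ⟨_, ⟨a1, y, hy, rfl⟩, a2⟩ := exists_ne_one e
    exact map_le_iff_le_comap.2 ((mH ⟨iH.inf (iB.comap (p ^ m)), fun e => a2 (e ⟨hy, a1⟩)⟩ inf_le_left).trans inf_le_right)
  obtain ⟨W1, i1, a1, a2⟩ := masch hc (iH.map p) (iH.inf iK) iH (fun _ ⟨y, hy, e⟩ => e ▸ ⟨pow_mem hy _, by
    simpa [K, ← pow_mul, ← pow_succ'] using h1 y⟩) inf_le_left fun v hv => ⟨v, hv, rfl⟩
  rw [inf_eq_right.2 (inf_le_left.trans (mH ⟨i1, fun e => hH (a2.ge.trans (sup_le e inf_le_right))⟩ (a2 ▸ le_sup_left)))] at a1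
  have om : ∀ y ∈ H, y ^ p = 1 → y ∈ W := fun y hy ey => by
    suffices ∀ j ≤ m, y ∈ H.map (powMonoidHom (p ^ j)) from this m le_rfl
    intro j
    induction j with
    | zero => exact fun _ => ⟨y, hy, by simp⟩
    | succ j ih =>
      intro hj
      obtain ⟨z, hz, rfl⟩ := ih (by omega)
      obtain ⟨w, hw, rfl⟩ : z ∈ H.map (powMonoidHom p) := a1 ▸ ⟨hz, by
        obtain ⟨k, rfl⟩ := Nat.exists_eq_add_of_le hj
        rw [powMonoidHom_apply, ← pow_mul, ← pow_succ] at ey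
        simp [K, pow_add p (j + 1), pow_mul, ey]⟩
      exact ⟨w, hw, by simp [← pow_mul, ← pow_succ']⟩
  obtain ⟨C, ⟨iC, hC⟩, mC⟩ := exists_maximal_of_wellFoundedGT (fun C : Subgroup T => Inv Γ C ∧ C ⊓ W = ⊥)
    ⟨⊥, inv_bot, bot_inf_eq _⟩
  have pW : ∀ w ∈ W, w ^ p = 1 := fun _ ⟨y, _, e⟩ => by rw [← e, powMonoidHom_apply, ← pow_mul, ← pow_succ, h1]
  have rel : ∀ B, Inv Γ B → C ≤ B → (∀ b ∈ B, b ^ p ∈ C) → B = C ∨ ∀ a, a ^ p ∈ C → a ∈ B := fun B iB b1 _ =>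
    (irr B iB).imp (fun e => le_antisymm (mC ⟨iB, e⟩ b1) b1) fun e a ha => by
      obtain ⟨W2, i2, c1, c2⟩ := masch hc iC (iC.sup iW) (iC.comap p) le_sup_left
        (sup_le (fun c hc => pow_mem hc _) fun w hw => by simp [pW w hw]) fun v hv => hv
      have : W2 ≤ C := mC ⟨i2, le_bot_iff.1 (hC ▸ le_inf (c1 ▸ inf_le_inf_left _ le_sup_right) inf_le_right)⟩
        (c1 ▸ inf_le_left)
      exact sup_le (this.trans b1) (sup_le b1 e) (c2 ▸ ha : a ∈ W2 ⊔ (C ⊔ W))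
  obtain ⟨j, hj⟩ := om_chain iC rel (m + 1) (H ⊔ C) (iH.sup iC) le_sup_right fun b _ => by simp [h1]
  obtain ⟨y, hy, y1⟩ := SetLike.not_le_iff_exists.1 hH
  have jm : m + 1 ≤ j := by_contra fun e => y1 (eq_one_of_inf hC (by
    obtain ⟨k, rfl⟩ := Nat.exists_eq_add_of_le (by omega : j ≤ m)
    rw [powMonoidHom_apply, pow_add, pow_mul]; exact pow_mem ((hj y).1 (mem_sup_left hy)) _) ⟨y, hy, rfl⟩)
  rcases h H C iH iC (by_contra fun e => by
      obtain ⟨Z, z1, z2⟩ := pg_exists_card (hT.to_subgroup _) e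
      refine ne_bot_of_dvd hp.out z2.symm.dvd (eq_bot_of_le hC (z1.trans inf_le_right) fun z hz => om z (z1 hz).1 ?_)
      exact orderOf_dvd_iff_pow_eq_one.1 (z2 ▸ orderOf_dvd hz))
    (eq_top_iff.2 fun a _ => (hj a).2 (by
      obtain ⟨k, rfl⟩ := Nat.exists_eq_add_of_le jm
      simp [pow_add p (m + 1), pow_mul, h1])) with rfl | rfl
  · exact absurd bot_le hH
  · exact fun B iB b1 => by simpa using rel B iB bot_le b1

theorem thm_3775 [hp : Fact p.Prime] (hA : IsPGroup p T) (X : Subgroup (MulAut T)) (hX : (#X).Coprime p) :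
    ((¬ ∃ B C : Subgroup T, B ≠ ⊥ ∧ C ≠ ⊥ ∧ (∀ x ∈ X, B.map x.toMonoidHom = B) ∧ (∀ x ∈ X, C.map x.toMonoidHom = C) ∧
      B ⊓ C = ⊥ ∧ B ⊔ C = ⊤) ↔
      (∀ B : Subgroup T, (∀ x ∈ X, B.map x.toMonoidHom = B) → ∃ i : ℕ, ∀ a : T, a ∈ B ↔ a ^ p ^ i = 1)) ∧
    ((∀ B : Subgroup T, (∀ x ∈ X, B.map x.toMonoidHom = B) → ∃ i : ℕ, ∀ a : T, a ∈ B ↔ a ^ p ^ i = 1) ↔
      (∀ B : Subgroup T, (∀ x ∈ X, B.map x.toMonoidHom = B) → (∀ b ∈ B, b ^ p = 1) →
        B = ⊥ ∨ ∀ a : T, a ∈ B ↔ a ^ p = 1)) := by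
  simp only [← inv_iff]
  obtain ⟨n, hn⟩ := IsPGroup.iff_card.1 hA
  have h32 : (∀ B, Inv X B → (∀ b ∈ B, b ^ p = 1) → B = ⊥ ∨ ∀ a, a ^ p = 1 → a ∈ B) →
      ∀ B, Inv X B → ∃ i : ℕ, ∀ a : T, a ∈ B ↔ a ^ p ^ i = 1 := fun h B iB =>
    om_chain inv_bot (fun B iB _ => h B iB) n B iB bot_le fun b _ => hn ▸ pow_card_eq_one'
  refine ⟨⟨fun h => h32 (irr_of_indec hA hX fun B C a b c d => by_contra fun e => h
    ⟨B, C, fun f => e (Or.inl f), fun f => e (Or.inr f), a, b, c, d⟩), fun h ⟨B, C, a, b, c, d, e, _⟩ => ?_⟩,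
    fun h B iB hB => ?_, fun h => h32 fun B a b => (h B a b).imp_right fun e a => (e a).2⟩
  · obtain ⟨i, hi⟩ := h B c
    obtain ⟨j, hj⟩ := h C d
    rcases le_total i j with l | l <;> obtain ⟨k, rfl⟩ := Nat.exists_eq_add_of_le l
    · exact a (eq_bot_of_le e le_rfl fun x hx => (hj x).2 (by rw [pow_add, pow_mul, (hi x).1 hx, one_pow]))
    · exact b (eq_bot_of_le e (fun x hx => (hi x).2 (by rw [pow_add, pow_mul, (hj x).1 hx, one_pow])) le_rfl)
  · obtain ⟨_ | i, hi⟩ := h B iB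
    · exact Or.inl (eq_bot_iff.2 fun a ha => by simpa using (hi a).1 ha)
    · exact Or.inr fun a => ⟨hB a, fun e => (hi a).2 (by rw [pow_succ', pow_mul, e, one_pow])⟩

end ops

end Cfsg.Agent.PU
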