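/-
2-groups of small sectional rank.
-/
import Cfsg.Agent.Lib.PU.Ms4
import Cfsg.Agent.Lib.PU.CDA
import Cfsg.Agent.Lib.PU.Tv1
import Cfsg.Agent.Lib.Solv.MaxCl
import Cfsg.Agent.Lib.Transfer.MC
import Cfsg.Agent.Lib.BG.Meta
import Cfsg.Agent.Lib.Classical.Small1

set_option autoImplicit false
set_option linter.unusedSectionVars false
set_option linter.unusedVariables false
set_option linter.style.haveILetI false
set_option linter.unusedSimpArgs false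

namespace Cfsg.Agent.PU

open Subgroup Cfsg.Agent.Transfer Cfsg.Agent.MS
open scoped commutatorElement

universe u
variable {G : Type u} [Group G] [Finite G]
variable {A B E H K M P Q R U V W X Y Z : Subgroup G} {a b g t u v w x y z : G} {k : ℕ}

/-- sectional 2-rank at most `k` -/
def SR (k : ℕ) (H : Subgroup G) : Prop := ∀ A ≤ H, ∀ B ≤ A, (∀ x ∈ A, x ^ 2 ∈ B) → B.relIndex A ≤ 2 ^ k

theorem SR.mono (h : SR k H) (h1 : K ≤ H) : SR k K := fun A hA => h A (hA.trans h1)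

theorem SR.card (h : SR k H) (h1 : A ≤ H) (h2 : B ≤ A) (h3 : ∀ x ∈ A, x ^ 2 ∈ B) : #A ≤ 2 ^ k * #B := by
  rw [← card_mul_relIndex h2, mul_comm]; exact Nat.mul_le_mul_right _ (h A h1 B h2 h3)

theorem sr_of_card (h : ∀ A ≤ H, ∀ B ≤ A, (∀ x ∈ A, x ^ 2 ∈ B) → #A ≤ 2 ^ k * #B) : SR k H := fun A h1 B h2 h3 =>
  Nat.le_of_mul_le_mul_left (by rw [card_mul_relIndex h2, mul_comm]; exact h A h1 B h2 h3) (card_pos' B)

theorem sr_top (h : SectionalPRankLE 2 k G) : SR k (⊤ : Subgroup G) := fun A _ B h2 h3 => by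
  haveI := (normal_subgroupOf_iff_le_normalizer h2).2 (nn_of_der_le (Tv.comm_le_of_sq h3) h2)
  have e : ∀ a : A ⧸ B.subgroupOf A, a ^ 2 = 1 := fun a => by
    obtain ⟨a, rfl⟩ := QuotientGroup.mk_surjective a
    exact (QuotientGroup.eq_one_iff (a ^ 2)).2 (h3 a a.2)
  have := h A (B.subgroupOf A) ⊤ (elem_two_of_mul_self fun a _ => sq a ▸ e a).1 fun a _ => e a
  rwa [card_top] at this

theorem SR.surj {G' : Type*} [Group G'] [Finite G'] (h : SR k (⊤ : Subgroup G)) {f : G →* G'}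
    (hf : Function.Surjective f) : SR k (⊤ : Subgroup G') := fun A _ B h2 h3 => by
  rw [← map_comap_eq_self_of_surjective hf A, ← relIndex_comap]
  exact h _ le_top _ (comap_mono h2) fun x hx => by rw [mem_comap, map_pow]; exact h3 _ hx

theorem SR.sub (h : SR k H) : SR k (⊤ : Subgroup H) := fun A _ B h2 h3 => by
  rw [← relIndex_map_map_of_injective B A H.subtype_injective]
  refine h _ (map_subtype_le _) _ (map_mono h2) ?_
  rintro _ ⟨x, hx, rfl⟩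
  exact ⟨_, h3 x hx, rfl⟩

theorem SR.of_sub (h : SR k (⊤ : Subgroup H)) : SR k H := fun A h1 B h2 h3 => by
  rw [← relIndex_subgroupOf h1]
  exact h _ le_top _ (subgroupOf_mono _ h2) fun x hx => h3 _ hx

theorem SR.sect (h : SR k H) : SectionalPRankLE 2 k H := fun L N _ A _ h2 => by
  have := (((h.sub.mono (le_top (a := L))).sub).surj (QuotientGroup.mk'_surjective N)).card (A := A) le_top bot_le h2
  rwa [card_bot, mul_one] at this

theorem SR.cc_le (h : SR k R) (pR : IsPGroup 2 R) (h1 : A ≤ R) (h2 : B ≤ A) (h3 : ∀ x ∈ A, x ^ 2 ∈ B)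
    (hc : 2 ^ k * #B ≤ #A) (hz : A ⊓ CC A ≤ B) : R ⊓ CC A ≤ A := by_contra fun e => by
  obtain ⟨x, hx, x1, x2, -⟩ := Solv.exists_central_mod_pow (nil_of_pg (pR.to_le inf_le_left)) (pR.to_le inf_le_left) le_rfl
    (le_nn _) (nn_of_cc inf_le_right) e
  have m : x ^ 2 ∈ B := hz ⟨x2, pow_mem hx.2 2⟩
  have := h.card (sup_le h1 (zpowers_le.2 hx.1)) (le_sup_of_le_left h2) fun y hy => by
    obtain ⟨a, ha, _, ⟨i, rfl⟩, rfl⟩ := (mem_sup_l (zpowers_le.2 (cc_le_nn _ hx.2))).1 hy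
    rw [Commute.mul_pow (zpow_mem (mem_inf.1 hx).2 i a ha), ← zpow_natCast (x ^ i), ← zpow_mul, mul_comm, zpow_mul, zpow_natCast]
    exact mul_mem (h3 a ha) (zpow_mem m i)
  rw [card_sup_zpowers (cc_le_nn _ hx.2) x2 x1] at this
  have := card_pos' A
  omega

theorem fr_le' (P : Subgroup G) : fr P ≤ P := map_subtype_le _

theorem fr_four (hP : IsPGroup 2 P) (h : ¬ IsCyclic P) : 4 * #(fr P) ≤ #P := by
  obtain ⟨x, hx, x1⟩ := SetLike.not_le_iff_exists.1 fun e : P ≤ fr P =>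
    h (Solv.eq_of_sup_map_frattini bot_le (e.trans le_sup_right) ▸ cyc_bot)
  have l := sup_le (fr_le' P) (zpowers_le.2 hx)
  have c1 := BG.mul_card_le_of_lt hP (lt_of_le_of_ne l fun e =>
    h (Solv.eq_of_sup_map_frattini (zpowers_le.2 hx) (e.ge.trans (sup_comm _ _).le) ▸ cyc_zpowers x))
  have c2 := BG.mul_card_le_of_lt (hP.to_le l) (lt_of_le_of_ne le_sup_left fun e => x1 (e.ge (mem_sup_right (mem_zpowers x))))
  omega

theorem cen_le_fr (hP : IsPGroup 2 P) (h : ¬ IsMulCommutative P) (hz : #(P ⊓ CC P : Subgroup G) = 2) : P ⊓ CC P ≤ fr P :=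
  (prime_le (hz ▸ Nat.prime_two) fun e => nil_meet (nil_of_pg hP) (der_le P) (left_nn_comm P P) (mt ab_iff_der.2 h)
    (eq_bot_of_le e (inf_le_inf_right _ (der_le P)) inf_le_left)).trans (der_le_fr hP)

theorem thm_4398 (h2 : IsPGroup 2 G) (hr : Cfsg.SectionalPRankLE 2 2 G)
    (hsub : ∃ H : Subgroup G, Nonempty (↥H ≃* DihedralGroup 4) ∨ Nonempty (↥H ≃* QuaternionGroup 2)) :
    ((∃ k : ℕ, Nonempty (G ≃* DihedralGroup (2 ^ (k + 2)))) ∨
      (∃ k : ℕ, Nat.card G = 2 ^ (k + 4) ∧ ∃ a b : G, orderOf a = 2 ^ (k + 3) ∧ orderOf b = 2 ∧ b * a * b⁻¹ = a ^ (2 ^ (k + 2) - 1)) ∨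
      (∃ k : ℕ, Nonempty (G ≃* QuaternionGroup (2 ^ (k + 1))))) := by
  obtain ⟨H, hH⟩ := hsub
  obtain ⟨a, b, h⟩ : ∃ a b, MC H a b 1 := by
    rcases hH with ⟨⟨e⟩⟩ | ⟨⟨e⟩⟩
    · obtain ⟨a, b, n, h, -, -, e⟩ := mc_of_dihedral (h2.to_subgroup H) (by norm_num) e
      obtain rfl : n = 1 := by have := Nat.pow_right_injective le_rfl (show 2 ^ (1 + 1) = _ from e); omega
      exact ⟨a, b, h⟩
    · exact (mc_of_quaternion (m := 1) e).imp fun a h => h.imp fun b h => h.1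
  have na := h.not_ab le_rfl
  have c := (sr_top hr).cc_le (h2.to_subgroup ⊤) le_top (fr_le' H) (fun x => pow_mem_fr h.pg)
    (fr_four h.pg (mt ab_of_cyc na)) (cen_le_fr h.pg na (by rw [h.center le_rfl, Nat.card_zpowers, h.ord_z]))
  obtain ⟨n, hn⟩ := h2.exists_card_eq
  have n3 : 3 ≤ n := (Nat.pow_le_pow_iff_right one_lt_two).1 (h.card.ge.trans (hn ▸ card_le_card_group H))
  obtain ⟨a, b, h⟩ := Solv.nf2_of_maxClass hn (Solv.maxClass_of_cube hn h.card na (by simpa using c)) n3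
  obtain ⟨m, rfl⟩ : ∃ m, n = m + 3 := ⟨n - 3, by omega⟩
  rcases h.iso with e | e | ⟨e1, e⟩
  · exact .inl ⟨m, e⟩
  · exact .inr (.inr ⟨m, e⟩)
  · obtain ⟨j, rfl⟩ : ∃ j, m = j + 1 := ⟨m - 1, by omega⟩
    exact .inr (.inl ⟨j, hn, a, b, h.ord, e⟩)

theorem SR.pair (h : SR 4 R) (pR : IsPGroup 2 R) (h1 : P ≤ R) (h2 : Q ≤ R) (n1 : R ≤ NN P) (n2 : R ≤ NN Q)
    (a1 : ¬ IsMulCommutative P) (a2 : ¬ IsMulCommutative Q) (z1 : #(P ⊓ CC P : Subgroup G) = 2)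
    (z2 : #(Q ⊓ CC Q : Subgroup G) = 2) (ne : P ⊓ CC P ≠ Q ⊓ CC Q) :
    P ⊓ Q = ⊥ ∧ P ≤ CC Q ∧ R ⊓ CC (P ⊔ Q) ≤ P ⊓ CC P ⊔ Q ⊓ CC Q ∧ SR 2 P := by
  have p1 := pR.to_le h1
  have p2 := pR.to_le h2
  have i : P ⊓ Q = ⊥ := by_contra fun e => by
    have := nil_meet (nil_of_pg pR) (inf_le_left.trans h1) (nn_inf n1 n2) e
    exact ne ((prime_eq_of_le (z1 ▸ Nat.prime_two) (inf_le_inf inf_le_left (cc_anti h1)) this).symm.trans
      (prime_eq_of_le (z2 ▸ Nat.prime_two) (inf_le_inf inf_le_right (cc_anti h2)) this))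
  have c := cc_of_inf_eq_bot (h1.trans n2) (h2.trans n1) i
  have cs : ∀ {A B}, A ≤ P → B ≤ Q → #(A ⊔ B : Subgroup G) = #A * #B := fun hA hB =>
    card_sup_l (nn_of_cc (hB.trans ((cc_symm c).trans (cc_anti hA)))) (inf_bot_mono i hA hB)
  have sq : ∀ {A B C D}, A ≤ P → B ≤ Q → (∀ x ∈ A, x ^ 2 ∈ C) → (∀ x ∈ B, x ^ 2 ∈ D) → ∀ x ∈ A ⊔ B, x ^ 2 ∈ C ⊔ D :=
    fun hA hB k1 k2 x hx => by
      obtain ⟨a, ha, b, hb, rfl⟩ := (mem_sup_l (nn_of_cc (hB.trans ((cc_symm c).trans (cc_anti hA))))).1 hx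
      rw [Commute.mul_pow (c (hA ha) b (hB hb)).symm]
      exact mul_mem_sup (k1 a ha) (k2 b hb)
  have z : (P ⊔ Q) ⊓ CC (P ⊔ Q) ≤ P ⊓ CC P ⊔ Q ⊓ CC Q := fun x hx => by
    obtain ⟨a, ha, b, hb, rfl⟩ := (mem_sup_l (h2.trans n1)).1 hx.1
    exact mul_mem_sup ⟨ha, (mul_mem_cancel_right (cc_symm c hb)).1 (cc_anti le_sup_left hx.2)⟩
      ⟨hb, (mul_mem_cancel_left (c ha)).1 (cc_anti le_sup_right hx.2)⟩
  have f1 := fr_four p1 (mt ab_of_cyc a1)
  have f2 := fr_four p2 (mt ab_of_cyc a2)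
  refine ⟨i, c, (le_inf (h.cc_le pR (sup_le h1 h2) (sup_le_sup (fr_le' P) (fr_le' Q))
    (sq le_rfl le_rfl (fun x => pow_mem_fr p1) fun x => pow_mem_fr p2)
    (by rw [cs le_rfl le_rfl, cs (fr_le' P) (fr_le' Q)]; nlinarith)
    (z.trans (sup_le_sup (cen_le_fr p1 a1 z1) (cen_le_fr p2 a2 z2)))) inf_le_right).trans z,
    sr_of_card fun A hA B hB k => ?_⟩
  have := h.card (sup_le (hA.trans h1) h2) (sup_le_sup hB (fr_le' Q)) (sq hA le_rfl k fun x => pow_mem_fr p2)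
  rw [cs hA le_rfl, cs (hB.trans hA) (fr_le' Q)] at this
  have := card_pos' (fr Q)
  nlinarith

theorem card_cen (P : Subgroup G) : #(P ⊓ CC P : Subgroup G) = #(center P) := by rw [← map_center_eq, card_subtype]

theorem thm_4400 (h2 : IsPGroup 2 G) (hr : Cfsg.SectionalPRankLE 2 4 G)
    (P Q : Subgroup G) [P.Normal] [Q.Normal] (hP : ¬ IsMulCommutative ↥P) (hQ : ¬ IsMulCommutative ↥Q)
    (hZP : Nat.card ↥(center ↥P) = 2) (hZQ : Nat.card ↥(center ↥Q) = 2)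
    (hne : (center ↥P).map P.subtype ≠ (center ↥Q).map Q.subtype) :
    ⁅P, Q⁆ = ⊥ ∧ P ⊓ Q = ⊥ ∧ CC (P ⊔ Q : Subgroup G) ≤ P ⊔ Q := by
  rw [map_center_eq, map_center_eq] at hne
  obtain ⟨h1, h3, h4, -⟩ := (sr_top hr).pair (h2.to_subgroup ⊤) le_top le_top nn_normal nn_normal hP hQ
    (card_cen P ▸ hZP) (card_cen Q ▸ hZQ) hne
  exact ⟨comm_eq_bot.2 h3, h1, (le_inf le_top le_rfl).trans (h4.trans (sup_le_sup inf_le_left inf_le_left))⟩

theorem thm_4401 (h2 : IsPGroup 2 G) (hr : Cfsg.SectionalPRankLE 2 4 G)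
    (P : Subgroup G) (hP : ¬ IsMulCommutative ↥P) (hZP : Nat.card ↥(center ↥P) = 2)
    (S₀ : Subgroup G) (hS₀ : S₀ = CC ((center ↥P).map P.subtype : Subgroup G))
    (hPn : ∀ s ∈ S₀, ∀ x ∈ P, s * x * s⁻¹ ∈ P) :
    S₀ = ⊤ ∨ (Cfsg.SectionalPRankLE 2 2 ↥P ∧ S₀.index = 2) := by
  refine or_iff_not_imp_left.2 fun hS => ?_
  rw [← card_cen] at hZP
  obtain ⟨z, hz, z1⟩ := exists_ne_one (prime_ne_bot (hZP ▸ Nat.prime_two))
  have ez := prime_eq_zpowers (hZP ▸ Nat.prime_two) hz z1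
  rw [map_center_eq, ← ez, cc_zpowers] at hS₀
  subst hS₀
  have z2 : z * z = 1 := by rw [← sq, ← hZP, ← ez, Nat.card_zpowers, pow_orderOf_eq_one]
  have nil := nil_of_pg (h2.to_subgroup ⊤)
  have PS : P ≤ C1 z := le_C1_iff.2 hz.2
  have nP : C1 z ≤ NN P := fun s hs => mem_normalizer_of_conj_mem (hPn s hs)
  have ec : ∀ g, cj g P ⊓ CC (cj g P) = zpowers (g * z * g⁻¹) := fun g => by
    rw [← cj_centralizer, ← cj_inf, ← ez, cj_zpowers]
  have oc : ∀ g, #(cj g P ⊓ CC (cj g P) : Subgroup G) = 2 := fun g => by rw [← cj_centralizer, ← cj_inf, card_cj, hZP]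
  have na : ∀ g, ¬ IsMulCommutative (cj g P) := fun g e => hP (cj_inv_cj g P ▸ ab_cj e g⁻¹)
  have l1 : ∀ {g}, g ∈ NN (C1 z) → cj g P ≤ C1 z := fun hg => cj_le PS hg
  have l2 : ∀ {g}, g ∈ NN (C1 z) → C1 z ≤ NN (cj g P) := fun hg => cj_nn hg ▸ nn_cj nP _
  have key : ∀ g ∈ NN (C1 z), ∀ h ∈ NN (C1 z), g * z * g⁻¹ ≠ h * z * h⁻¹ → cj g P ⊓ cj h P = ⊥ ∧ cj g P ≤ CC (cj h P) ∧
      C1 z ⊓ CC (cj g P ⊔ cj h P) ≤ zpowers (g * z * g⁻¹) ⊔ zpowers (h * z * h⁻¹) ∧ SR 2 (cj g P) :=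
    fun g hg h hh e => ec g ▸ ec h ▸ ((sr_top hr).mono le_top).pair (h2.to_subgroup _) (l1 hg) (l1 hh) (l2 hg) (l2 hh)
      (na g) (na h) (oc g) (oc h) fun e' => by
        rw [ec, ec] at e'
        exact (zp2 (conj_mul_self z2 h) (e'.le (mem_zpowers _))).elim (conj_ne z1) e
  obtain ⟨g, hg, g1⟩ := SetLike.exists_of_lt (nil_lt_nn nil (lt_top_iff_ne_top.2 hS))
  replace hg := (mem_inf.1 hg).2
  have gz : g * z * g⁻¹ ≠ z := mt mem_C1_of_conj g1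
  obtain ⟨k1, k2, k3, k4⟩ := key 1 (one_mem _) g hg (by simpa using gz.symm)
  simp only [cj_one, one_mul, inv_one, mul_one] at k1 k2 k3 k4
  set y := g * z * g⁻¹ with hy
  have y2 : y * y = 1 := conj_mul_self z2 g
  have yQ : y ∈ cj g P := conj_mem_cj hz.1
  have yS := l1 hg yQ
  have four : ∀ {x}, x ∈ C1 z → x ∈ CC (P ⊔ cj g P) → x = 1 ∨ x = z ∨ x = y ∨ x = z * y := fun h1 h3 =>
    mem_four z2 y2 (mem_C1_comm.1 yS) (k3 ⟨h1, h3⟩)
  have two : ∀ h ∈ NN (C1 z), h * z * h⁻¹ = z ∨ h * z * h⁻¹ = y := fun h hh => by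
    by_contra! e
    have c1 := (key h hh 1 (one_mem _) (by simpa using e.1)).2.1
    rw [cj_one] at c1
    exact na h (ab_mono (elem_sup (elem_zpowers (p := 2) (sq z ▸ z2)) (elem_zpowers (sq y ▸ y2)) (by
      rw [cc_zpowers]; exact zpowers_le.2 (mem_C1_comm.1 yS))).1
      ((le_inf (l1 hh) (le_cc_sup c1 (key h hh g hg e.2).2.1)).trans k3))
  have cs : ∀ h ∈ NN (C1 z), h ∉ C1 z → g⁻¹ * h ∈ C1 z := fun h hh e => mem_C1_of_conj (by
    rw [mul_inv_rev, inv_inv, show g⁻¹ * h * z * (h⁻¹ * g) = g⁻¹ * (h * z * h⁻¹) * g by group,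
      (two h hh).resolve_left (mt mem_C1_of_conj e), hy]; group)
  have i2 : Ix2 (NN (C1 z)) (C1 z) := ⟨le_nn _, relIndex_eq_two_iff.2 ⟨g⁻¹, inv_mem hg, fun h hh => by
    by_cases e : h ∈ C1 z
    · exact .inr ⟨e, fun e' => g1 (inv_mem_iff.1 ((mul_mem_cancel_left e).1 e'))⟩
    · refine .inl ⟨?_, e⟩
      have := conj_mem_of_mem_normalizer hg (cs h hh e)
      rwa [← mul_assoc, mul_inv_cancel, one_mul] at this⟩⟩
  refine ⟨k4.sect, ?_⟩
  suffices NN (C1 z) = ⊤ by rw [← relIndex_top_right, ← this, i2.idx]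
  by_contra e
  obtain ⟨x, hx, x1⟩ := SetLike.exists_of_lt (nil_lt_nn nil (lt_top_iff_ne_top.2 e))
  replace hx := (mem_inf.1 hx).2
  have zN := le_nn _ (self_mem_C1 z)
  have gy : g * y * g⁻¹ = z := by
    rw [hy, show g * (g * z * g⁻¹) * g⁻¹ = g * g * z * (g * g)⁻¹ by group, conj_eq_of_C1 (i2.sq_mem hg)]
  have yc : C1 z ≤ C1 y := by rw [hy, ← cj_centralizer_singleton, cj_nn hg]
  have wZ : z * y ∈ CC (NN (C1 z)) := le_C1_iff.1 (i2.le_of hg g1 (le_C1_iff.2 (mul_mem (le_C1_iff.1 le_rfl)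
    (le_C1_iff.1 yc))) (mem_C1_of_conj (by rw [← conj_mul, gy, mem_C1.1 yS])))
  have ZN : ∀ {c}, c ∈ CC (NN (C1 z)) → c = 1 ∨ c = z * y := fun hc => by
    rcases four (cc_le_C1 zN hc) (cc_anti ((sup_le PS (l1 hg)).trans (le_nn _)) hc) with h | h | h | h
    exacts [.inl h, absurd (cc_le_C1 hg hc) (h ▸ mt mem_C1_comm.1 g1), absurd (gy.symm.trans
      (h ▸ conj_eq_of_C1 (mem_C1_comm.1 (cc_le_C1 hg hc)))) gz.symm, .inr h]
  have cN : ∀ {c k}, k ∈ NN (NN (C1 z)) → c ∈ CC (NN (C1 z)) → k * c * k⁻¹ ∈ CC (NN (C1 z)) := fun hk hc =>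
    conj_mem_of_mem_normalizer (nn_cc le_rfl hk) hc
  have w1 : z * y ≠ 1 := fun e => gz ((eq_inv_of_mul_eq_one_right e).trans (inv_self z2))
  have xw : x * (z * y) * x⁻¹ = z * y := (ZN (cN hx wZ)).resolve_left (conj_ne w1)
  have uN := conj_mem_of_mem_normalizer hx zN
  set u := x * z * x⁻¹ with hu
  have cm : ∀ p ∈ NN (C1 z), u * p * u⁻¹ = p ∨ u * p * u⁻¹ = z * y * p := fun p hp => by
    have e : u * p * u⁻¹ = x * (z * (x⁻¹ * p * x * z * (x⁻¹ * p * x)⁻¹)⁻¹) * x⁻¹ * p := by rw [hu]; group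
    rcases two _ (by simpa using conj_mem_of_mem_normalizer (inv_mem hx) hp : x⁻¹ * p * x ∈ _) with h | h <;> rw [e, h]
    · simp
    · rw [inv_self y2, xw]; simp
  have wP : z * y ∉ P := fun e => conj_ne z1 (eq_one_of_inf k1 ((P.mul_mem_cancel_left hz.1).1 e) yQ)
  by_cases uS : u ∈ C1 z
  · have wQ : z * y ∉ cj g P := fun e => z1 (eq_one_of_inf k1 hz.1 ((mul_mem_cancel_right yQ).1 e))
    have c : ∀ X ≤ C1 z, C1 z ≤ NN X → z * y ∉ X → u ∈ CC X := fun X h1 h3 h4 p hp =>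
      (mul_inv_eq_iff_eq_mul.1 ((cm p (le_nn _ (h1 hp))).resolve_right fun e => h4 ((mul_mem_cancel_right hp).1
        (e ▸ conj_mem_of_mem_normalizer (h3 uS) hp)))).symm
    rcases four uS (cc_sup P _ ▸ ⟨c P PS nP wP, c _ (l1 hg) (l2 hg) wQ⟩) with h | h | h | h
    · exact conj_ne z1 h
    · exact x1 (le_nn _ (mem_C1_of_conj h))
    · exact x1 ((mul_mem_cancel_left (inv_mem hg)).1 (le_nn _ (mem_C1_of_conj (by
        rw [mul_inv_rev, inv_inv, show g⁻¹ * x * z * (x⁻¹ * g) = g⁻¹ * u * g by rw [hu]; group, h, hy]; group))))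
    · exact g1 (mem_C1_comm.1 (cc_le_C1 hg (by have := cN (inv_mem hx) wZ; rw [← h, hu] at this; simpa [mul_assoc] using this)))
  · refine hP (ab_mono (ab_of_cyc (cyc_zpowers z)) fun p hp => ?_)
    have m : u * p * u⁻¹ ∈ cj g P := by
      have := conj_mem_cj (g := g) (conj_mem_of_mem_normalizer (nP (cs u uN uS)) hp)
      rwa [show g * (g⁻¹ * u * p * (g⁻¹ * u)⁻¹) * g⁻¹ = u * p * u⁻¹ by group] at this
    rcases cm p (le_nn _ (PS hp)) with h | h <;> rw [h] at m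
    · rw [eq_one_of_inf k1 hp m]; exact one_mem _
    · rw [← mem_C1.1 yS, mul_assoc, mul_mem_cancel_left yQ] at m
      exact (mul_mem_cancel_left (mem_zpowers z)).1 (eq_one_of_inf k1 (mul_mem hz.1 hp) m ▸ one_mem _)

theorem meta_step (hG : IsPGroup 2 G) (hz : z ∈ CC (⊤ : Subgroup G)) (z2 : z ^ 2 = 1) (zd : z ∈ ⁅(⊤ : Subgroup G), (⊤ : Subgroup G)⁆)
    (h4 : 2 < #(⁅(⊤ : Subgroup G), ⊤⁆ : Subgroup G)) (hn : b ∈ NN (zpowers z ⊔ zpowers a))
    (e : zpowers z ⊔ zpowers a ⊔ zpowers b = ⊤) : BG.Meta (⊤ : Subgroup G) := by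
  have zc := zpowers_le.2 hz
  obtain ⟨w, hw, _, ⟨i, rfl⟩, e1⟩ := (mem_sup_r (nn_of_cc (zc.trans (cc_anti le_top)))).1
    (conj_mem_of_mem_normalizer hn (mem_sup_right (mem_zpowers a)))
  have cw : ∀ g, Commute w g := fun g => (zc hw g (mem_top g)).symm
  have e2 : ⁅b, a⁆ = w * a ^ (i - 1) := by rw [commutatorElement_def, e1, zpow_sub_one, mul_assoc]
  have n : ⊤ ≤ NN (zpowers ⁅b, a⁆) := e.ge.trans (sup_le (sup_le (nn_of_cc (zc.trans (cc_anti le_top)))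
    (zpowers_le.2 (cc_le_nn _ (by
      rw [cc_zpowers, mem_C1, e2]; exact ((cw a).symm.mul_right (Commute.self_zpow a _)).eq)))) (zpowers_le.2
        (mem_normalizer_zpowers ⟨i, by
          rw [e2, ← conj_mul, ← conj_zpow, e1, (cw b).symm.eq, mul_inv_cancel_right]
          simp only [(cw _).mul_zpow, ← zpow_mul, mul_comm i, ← mul_assoc, ← zpow_one_add, add_sub_cancel]⟩)))
  have d := BG.der_le_of_gen2 n e ((comm_eq_bot.2 zc).le.trans bot_le) (commutatorElement_inv b a ▸ inv_mem (mem_zpowers _))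
  have w2 : w ^ 2 = 1 := Solv.pow_eq_one_of_mem_zpowers z2 hw
  have l : zpowers (⁅b, a⁆ ^ 2) ≤ zpowers a := zpowers_le.2 (by
    rw [e2, (cw _).mul_pow, w2, one_mul]; exact pow_mem (zpow_mem (mem_zpowers a) _) 2)
  obtain ⟨k, hk⟩ := pg_dvd (hG.to_subgroup (zpowers (⁅b, a⁆ ^ 2))) (zpowers_ne_bot.2 fun e => h4.not_ge
    ((card_le_of_le d).trans ((Nat.card_zpowers _).trans_le (orderOf_le_of_pow_eq_one two_pos e))))
  have m := l (Solv.mem_of_isCyclic_of_pow_card (cyc_zpowers _) (zpowers_le.2 (pow_mem (mem_zpowers _) 2)) (d zd)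
    (by rw [hk, pow_mul, z2, one_pow]))
  rw [sup_eq_right.2 (zpowers_le.2 m)] at hn e
  exact ⟨a, b, hn, e⟩

theorem meta_base (hG : IsPGroup 2 G) (h : SR 2 (⊤ : Subgroup G)) (h4 : #(⁅(⊤ : Subgroup G), ⊤⁆ : Subgroup G) ≤ 2) :
    BG.Meta (⊤ : Subgroup G) := by_contra fun hm => by
  have pg := hG.to_subgroup
  obtain ⟨⟨a, b⟩, e, mn⟩ := Set.exists_min_image {x : G × G | zpowers x.1 ⊔ zpowers x.2 = ⊤} (fun x => orderOf x.2)
    (Set.toFinite _) (by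
      obtain ⟨a, b, e⟩ := BG.exists_gen2 (pg ⊤) le_top (h.card le_rfl le_top fun x => pow_mem_fr (pg ⊤))
      exact ⟨(a, b), Solv.eq_of_sup_map_frattini le_top (by rw [sup_comm, ← sup_assoc]; exact e.ge)⟩)
  simp only [Set.mem_ofPred_eq, Prod.forall] at e mn
  have nc : ¬ Commute b a := fun c => hm ⟨a, b, cc_le_nn _ (cc_zpowers a ▸ mem_C1.2 c), e⟩
  set z := ⁅b⁻¹, a⁻¹⁆ with hz
  have dm : ∀ x y : G, ⁅x, y⁆ ∈ (⁅⊤, ⊤⁆ : Subgroup G) := fun x y => commutator_mem_commutator (mem_top x) (mem_top y)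
  have z1 : z ≠ 1 := fun e => nc (by simpa using commutatorElement_eq_one_iff_commute.1 e)
  have c2 : #(⁅(⊤ : Subgroup G), ⊤⁆ : Subgroup G) = 2 :=
    h4.antisymm ((one_lt_card_iff_ne_bot _).2 (ne_bot_of_mem (dm _ _) z1))
  have ez := prime_eq_zpowers (c2 ▸ Nat.prime_two) (dm b⁻¹ a⁻¹) z1
  have zc := cc_symm (pcc_of_card c2 (pg ⊤) (left_nn_comm _ _))
  have z2 : z * z = 1 := by rw [← sq, ← c2, Solv.pow_card_eq_one_of_mem (dm _ _)]
  have cm : ∀ g x y : G, Commute g ⁅x, y⁆ := fun g x y => zc (dm x y) g (mem_top g)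
  have sw : ∀ x y : G, y * x = x * y * ⁅y⁻¹, x⁻¹⁆ := fun x y => by simp [commutatorElement_def, mul_assoc]
  have good : ∀ x y : G, zpowers y ⊔ zpowers x = ⊤ → z ∉ zpowers x := fun x y e k =>
    hm ⟨x, y, nn_of_der_le (ez.ge.trans (zpowers_le.2 k)) le_top (mem_top y), (sup_comm _ _).trans e⟩
  have pr : ∀ k : ℕ, zpowers a ⊔ zpowers (a ^ k * b) = ⊤ := fun k => eq_top_iff.2 (e.ge.trans (sup_le le_sup_left
    (zpowers_le.2 ((mul_mem_cancel_left (mem_sup_left (pow_mem (mem_zpowers a) k))).1 (mem_sup_right (mem_zpowers _))))))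
  obtain ⟨m, hm1⟩ := Solv.exists_orderOf_eq_pow (pg ⊤) (mem_top a)
  obtain ⟨n, hn1⟩ := Solv.exists_orderOf_eq_pow (pg ⊤) (mem_top b)
  have nm : n ≤ m := (Nat.pow_le_pow_iff_right one_lt_two).1 (hm1 ▸ hn1 ▸ mn b a ((sup_comm _ _).trans e))
  obtain ⟨n, rfl⟩ : ∃ k, n = k + 1 := ⟨n - 1, by
    have : n ≠ 0 := by rintro rfl; exact nc (by simp [orderOf_eq_one_iff.1 hn1])
    omega⟩
  obtain ⟨j, rfl⟩ := Nat.exists_eq_add_of_le' nm
  have pw : (a ^ 2 ^ j * b) ^ 2 ^ n * (a ^ 2 ^ (j + n) * b ^ 2 ^ n)⁻¹ ∈ zpowers z := by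
    rw [Solv.mul_pow_of_comm (cm _ _ _) (cm _ _ _) (sw _ _), ← pow_mul, ← pow_add, ((cm _ _ _).pow_right _).eq,
      mul_inv_cancel_right]
    exact pow_mem (ez.ge (dm _ _)) _
  have h1 : ∀ {x : G} {k}, orderOf x = 2 ^ (k + 1) → x ^ 2 ^ k ≠ 1 ∧ x ^ 2 ^ k * x ^ 2 ^ k = 1 := fun o =>
    ⟨pow_ne_one_of_lt_orderOf (by positivity) (o ▸ Nat.pow_lt_pow_right one_lt_two (by omega)),
      by rw [← pow_add, ← mul_two, ← pow_succ, ← o, pow_orderOf_eq_one]⟩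
  obtain ⟨u1, u2⟩ := h1 (k := j + n) hm1
  obtain ⟨v1, v2⟩ := h1 hn1
  rcases Nat.eq_zero_or_pos (j + n) with e0 | e0
  · obtain ⟨rfl, rfl⟩ := Nat.add_eq_zero_iff.1 e0
    simp only [add_zero, pow_zero, pow_one] at u2 v2
    refine good _ _ (pr 1) ⟨2, ?_⟩
    simp only [hz, inv_self u2, inv_self v2, commutatorElement_def, pow_one, zpow_ofNat, sq]
    have := (cm a b a).eq
    simp only [inv_self u2, inv_self v2, commutatorElement_def, ← mul_assoc] at this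
    rw [mul_assoc _ a a, u2, mul_one] at this
    rw [← mul_assoc, ← mul_left_inj a, this, mul_assoc _ a a, u2, mul_one]
  have uc : a ^ 2 ^ (j + n) ∈ CC (⊤ : Subgroup G) := by
    obtain ⟨k, hk⟩ : ∃ k, j + n = k + 1 := ⟨j + n - 1, by omega⟩
    rw [hk, pow_succ', pow_mul]
    refine pow_mem (fun g _ => ?_) _
    have := Solv.pow_mul_of_comm (cm a _ _) (sw g a) 2
    rwa [Solv.pow_eq_one_of_mem_zpowers (sq z ▸ z2) (ez.ge (dm _ _)), mul_one, eq_comm] at this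
  have uz : a ^ 2 ^ (j + n) ∉ zpowers z := fun k => (zp2 z2 k).elim u1 fun k =>
    good a b ((sup_comm _ _).trans e) (k ▸ pow_mem (mem_zpowers a) _)
  have zc' := zc (dm b⁻¹ a⁻¹)
  have Ec : zpowers z ⊔ zpowers (a ^ 2 ^ (j + n)) ≤ CC ⊤ := sup_le (zpowers_le.2 zc') (zpowers_le.2 uc)
  have vE : b ^ 2 ^ n ∈ zpowers z ⊔ zpowers (a ^ 2 ^ (j + n)) := by_contra fun k => by
    have c := cc_symm Ec (mem_top (b ^ 2 ^ n))
    have := h.card le_top bot_le (elem_sup_zpowers (elem_sup_zpowers (elem_zpowers (p := 2) (sq z ▸ z2))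
      (cc_anti le_top uc) (sq (a ^ 2 ^ (j + n)) ▸ u2)) c (sq (b ^ 2 ^ n) ▸ v2)).2
    rw [card_sup_zpowers_of_commute c v2 k, card_sup_zpowers_of_commute (cc_anti le_top uc) u2 uz, ez, c2] at this
    simp at this
  have uv : a ^ 2 ^ (j + n) * b ^ 2 ^ n ∈ zpowers z := by
    rcases mem_four z2 u2 (cc_le_C1 (mem_top _) zc') vE with k | k | k | k
    · exact absurd k v1
    · exact absurd (k ▸ pow_mem (mem_zpowers b) _) (good b a e)
    · rw [k, u2]; exact one_mem _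
    · rw [k, ← mul_assoc, zc' _ (mem_top _), mul_assoc, u2, mul_one]; exact mem_zpowers z
  rcases zp2 z2 ((mul_mem_cancel_right (inv_mem uv)).1 pw) with k | k
  · have := (mn _ _ (pr (2 ^ j))).trans (orderOf_le_of_pow_eq_one (by positivity) k)
    rw [hn1, pow_succ] at this
    have := Nat.two_pow_pos n
    omega
  · exact good _ _ (pr (2 ^ j)) (k ▸ pow_mem (mem_zpowers _) _)

theorem thm_4397 (G : Type u) [Group G] [Finite G] : IsPGroup 2 G → SR 2 (⊤ : Subgroup G) → BG.Meta (⊤ : Subgroup G) := by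
  refine Solv.card_induction (P := fun G _ _ => IsPGroup 2 G → SR 2 (⊤ : Subgroup G) → BG.Meta (⊤ : Subgroup G))
    (fun G _ _ ih hG h => ?_) G
  rcases le_or_gt #(⁅(⊤ : Subgroup G), ⊤⁆ : Subgroup G) 2 with h4 | h4
  · exact meta_base hG h h4
  obtain ⟨z, hz, z1, z2⟩ := exists_pow_prime_eq_one (hG.to_subgroup _) (nil_meet (nil_of_pg (hG.to_subgroup ⊤)) le_top
    (left_nn_comm ⊤ ⊤) fun e => by simp [e] at h4)
  haveI := normal_of_top_le fun g => cc_le_nn _ (cc_symm (zpowers_le.2 hz.2) (mem_top g))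
  obtain ⟨a, b, h1, h2⟩ := ih _ (Solv.card_quotient_lt (zpowers_ne_bot.2 z1)) (hG.to_quotient _)
    (h.surj (QuotientGroup.mk'_surjective _))
  obtain ⟨a, rfl⟩ := QuotientGroup.mk'_surjective _ a
  obtain ⟨b, rfl⟩ := QuotientGroup.mk'_surjective _ b
  refine meta_step (a := a) (b := b) hG hz.2 z2 hz.1 h4 ?_ ?_
  · have := le_normalizer_comap (QuotientGroup.mk' (zpowers z)) h1
    rwa [← MonoidHom.map_zpowers, comap_map_eq, QuotientGroup.ker_mk', sup_comm] at this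
  · have := congrArg (comap (QuotientGroup.mk' (zpowers z))) h2
    rwa [← MonoidHom.map_zpowers, ← MonoidHom.map_zpowers, ← Subgroup.map_sup, comap_map_eq, QuotientGroup.ker_mk',
      sup_comm, ← sup_assoc] at this

theorem gl_embed {d : ℕ} (h : d ≤ 4) : ∃ φ : GL (Fin d) (ZMod 2) →* alternatingGroup (Fin 8), Function.Injective φ := by
  obtain ⟨e⟩ := Classical.Pres.sl4_two (ZMod.card 2)
  obtain ⟨k, hk⟩ := Nat.exists_eq_add_of_le h
  let τ := finSumFinEquiv.trans (finCongr hk.symm)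
  let ψ : Matrix (Fin d) (Fin d) (ZMod 2) →* Matrix (Fin 4) (Fin 4) (ZMod 2) :=
    { toFun M := Matrix.reindex τ τ (Matrix.fromBlocks M 0 0 1)
      map_one' := by simp
      map_mul' M N := by simp [Matrix.fromBlocks_multiply] }
  refine ⟨e.toMonoidHom.comp
    { toFun M := Tv.mkSL Tv.two_zmod (ψ M) (M.isUnit.map ψ)
      map_one' := Subtype.ext (map_one ψ)
      map_mul' M N := Subtype.ext (map_mul ψ M.1 N.1) }, e.injective.comp fun M N h => Units.ext ?_⟩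
  exact (Matrix.fromBlocks_inj.1 ((Matrix.reindex _ _).injective (congrArg Subtype.val h))).1

theorem thm_3103 (hc : Cfsg.IsPConstrained 2 G) (hO : Cfsg.oddCore G = ⊥)
    (h4 : Cfsg.SectionalPRankLE 2 4 ↥(Cfsg.pCore 2 G)) :
    ∃ f : G ⧸ Cfsg.pCore 2 G →* ↥(alternatingGroup (Fin 8)), Function.Injective f := by
  have c := charP_of_constrained hc hO
  have pQ := Comp.isPGroup_pCore (G := G) 2
  haveI : (fr (pCore 2 G)).Normal := ConjAct.normal_of_characteristic_of_normal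
  set π := QuotientGroup.mk' (fr (pCore 2 G))
  have k : ∀ x, π x ∈ CC ((pCore 2 G).map π) ↔ ∀ q ∈ pCore 2 G, ⁅q, x⁆ ∈ fr (pCore 2 G) := fun x => by
    simp only [mem_CC, ← commutatorElement_eq_one_iff_mul_comm]
    exact ⟨fun h q hq => (QuotientGroup.eq_one_iff _).1 (h _ (mem_map_of_mem π hq)),
      fun h _ ⟨q, hq, e⟩ => e ▸ (QuotientGroup.eq_one_iff _).2 (h q hq)⟩
  have l : ∀ x ∈ pCore 2 G, π x ∈ CC ((pCore 2 G).map π) := fun x hx => (k x).2 fun q hq =>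
    der_le_fr pQ (commutator_mem_commutator hq hx)
  obtain ⟨d, hd⟩ := elem_exists_el (p := 2) (A := (pCore 2 G).map π) ⟨ab_iff.2 (map_le_iff_le_comap.2 l), by
    rintro _ ⟨x, hx, rfl⟩
    exact (QuotientGroup.eq_one_iff (x ^ 2)).2 (pow_mem_fr pQ hx)⟩
  obtain ⟨φ, hφ⟩ := BG.exists_gl_rep ⟨hd.elem, hd.card⟩
  obtain ⟨ψ, hψ⟩ := gl_embed (d := d) ((Nat.pow_le_pow_iff_right one_lt_two).1 (by
    rw [← hd.card, ← relIndex_bot_left, ← QuotientGroup.map_mk'_self (fr (pCore 2 G)), relIndex_map_map,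
      QuotientGroup.ker_mk', sup_idem, sup_eq_left.2 (fr_le' _)]
    exact (sr_top h4).of_sub _ le_rfl _ (fr_le' _) fun x => pow_mem_fr pQ))
  haveI := (inferInstance : (pCore 2 G).Normal).map π (QuotientGroup.mk'_surjective _)
  let f := ψ.comp (φ.comp (π.codRestrict _ fun x => nn_normal (mem_top (π x))))
  have m : ∀ x, x ∈ f.ker ↔ π x ∈ CC ((pCore 2 G).map π) := fun x =>
    (map_eq_one_iff ψ hψ).trans (SetLike.ext_iff.1 hφ _)
  have e : pCore 2 G = f.ker := le_antisymm (fun x hx => (m x).2 (l x hx)) (Comp.le_pCore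
    (isPGroup_iff_res_eq_bot.2 (eq_bot_iff.2 (res_le_iff.2 fun g hg o => ?_))))
  · exact ⟨(QuotientGroup.kerLift f).comp (QuotientGroup.quotientMulEquivOfEq e).toMonoidHom,
      (QuotientGroup.kerLift_injective f).comp (MulEquiv.injective _)⟩
  have cp := pi_compl_iff_coprime.2 (Nat.card_zpowers g ▸ o)
  exact eq_one_of_inf (pg_inf pQ cp (by simp)) (c (Solv.coprime_frattini_le_centralizer
    ((pg_coprime pQ cp (by simp)).symm.coprime_dvd_right (card_subgroup_dvd_card _)) (commutator_le.2 fun q hq x hx =>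
      (k x).1 ((m x).1 (zpowers_le.2 hg hx)) q hq) nn_normal (mem_zpowers g))) (mem_zpowers g)

end Cfsg.Agent.PU
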