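/-
Large extraspecial 2-subgroups: remaining basic facts.
-/
import Cfsg.Agent.Lib.PU.XS2

set_option autoImplicit false
set_option linter.unusedSectionVars false
set_option linter.unusedVariables false
set_option linter.style.haveILetI false
set_option linter.unusedSimpArgs false

namespace Cfsg.Agent.PU

open Subgroup Cfsg.Agent.Transfer Cfsg.Agent.MS
open scoped commutatorElement

universe u
variable {G : Type u} [Group G] [Finite G]
variable {A B K P Q Q' R U X : Subgroup G} {a b g t u v x z : G}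

theorem lx_of_three (h1 : IsExtraspecial 2 Q) (h2 : CC Q = (center Q).map Q.subtype)
    (h3 : CC ((center Q).map Q.subtype) ≤ NN Q) : ∃ z, LX z Q ∧ (center Q).map Q.subtype = zpowers z ∧
      ¬ Q ≤ zpowers z := by
  have c : #((center Q).map Q.subtype) = 2 := by rw [card_subtype, h1.2]
  obtain ⟨z, hz, z1⟩ := exists_ne_one (prime_ne_bot (c ▸ Nat.prime_two))
  have e := (prime_eq_zpowers (c ▸ Nat.prime_two) hz z1).symm
  have es := es_of h1 (map_center_eq Q ▸ hz) z1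
  refine ⟨z, ⟨es, by rwa [e, cc_zpowers] at h3, h2 ▸ map_subtype_le _⟩, e, fun e' => ?_⟩
  have := comm_eq_bot.2 (e'.trans (zpowers_le.2 es.mem.2))
  rw [← map_commutator_eq', h1.1.2.2] at this
  exact z1 (mem_bot.1 (this ▸ hz))

theorem thm_5420 (h1 : IsExtraspecial 2 Q) (h2 : CC Q = (center Q).map Q.subtype)
    (h3 : CC ((center Q).map Q.subtype) ≤ NN Q) (hZ : (center Q).map Q.subtype ≤ pCore 2 G) :
    IsLargeExtraspecial Q := by
  obtain ⟨z, h, e, h0⟩ := lx_of_three h1 h2 h3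
  refine h.large h0 fun K hK hQ => ?_
  have k1 : K ≤ C1 z := le_trans (le_inf le_rfl (by rw [C1_one]; exact le_top)) (Tv.cent_odd (e := 1) hK
    (Solv.isPGroup_pCore 2 G) nn_normal (hZ (e ▸ mem_zpowers z)) (hQ h.es.mem.1))
  have : K ≤ zpowers z := fun k hk => h.cz fun x hx =>
    (mem_C1.1 (Tv.cent_odd hK (es_pg h.es) h.nn hx (hQ hx) ⟨hk, k1 hk⟩)).symm
  exact eq_bot_of_le (inf_of_coprime (by rw [h.es.card_z]; exact Nat.coprime_two_right.2 hK)) le_rfl this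

theorem thm_5421 (h1 : IsExtraspecial 2 Q) (h2 : CC Q = (center Q).map Q.subtype)
    (h3 : CC ((center Q).map Q.subtype) ≤ NN Q) (hbQ : b ∈ Q) (hbZ : b ∉ (center Q).map Q.subtype)
    (hb : orderOf b = 2) (hZ : (center Q).map Q.subtype ≤ (pCore 2 (C1 b)).map (C1 b).subtype) :
    IsLargeExtraspecial Q := by
  obtain ⟨z, h, e, h0⟩ := lx_of_three h1 h2 h3
  rw [map_pCore, e] at hZ
  exact h.large h0 fun K => h.odd_bot hbQ (e ▸ hbZ) (by rw [← pow_two, ← hb, pow_orderOf_eq_one]) (O_pg _)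
    (nn_O (le_nn _)) (hZ (mem_zpowers z))

theorem thm_5422 (h1 : IsExtraspecial 2 Q) (h2 : CC Q = (center Q).map Q.subtype)
    (h3 : CC ((center Q).map Q.subtype) ≤ NN Q) {w : ℕ} (hw : 2 ≤ w) (hcard : #Q = 2 ^ (2 * w + 1))
    (hg : g ∉ NN ((center Q).map Q.subtype)) (hZg : cj g ((center Q).map Q.subtype) ≤ Q) :
    (center Q).map Q.subtype ≤ cj g Q ∧
    (CC ((center Q).map Q.subtype ⊔ cj g ((center Q).map Q.subtype))).relIndex
      (NN ((center Q).map Q.subtype ⊔ cj g ((center Q).map Q.subtype))) = 6 ∧ IsLargeExtraspecial Q := by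
  obtain ⟨z, h, e, h0⟩ := lx_of_three h1 h2 h3
  rw [e, cj_zpowers] at hZg ⊢
  have ne : g * z * g⁻¹ ≠ z := fun e' => hg (by rw [e, mem_normalizer_iff_cj, cj_zpowers, e'])
  have h32 := lt_of_width hw hcard
  have lp := lp_of h h32 (hZg (mem_zpowers _)) ne
  refine ⟨zpowers_le.2 lp.zQ, ?_, h.large h0 (h.odd_bot' h32 lp.tQ ne)⟩
  obtain ⟨c1, -, ⟨hn, ⟨φ⟩⟩, -⟩ := lp.thm_5430 rfl rfl rfl rfl rfl
  rw [lp.nV, ← lp.ccV, sup_comm (Q ⊔ cj g Q), relIndex_sup_l (nn_cc (sup_le lp.nnV lp.nnV')), ← inf_relIndex_right,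
    inf_comm, ← c1, relIndex, index_eq_card, Nat.card_congr φ.toEquiv, Nat.card_perm, Nat.card_fin]
  rfl

theorem thm_5433 (hQ : IsLargeExtraspecial Q) (L : Subgroup G) [L.Normal] (hQL : Q ≤ L) : L ⊔ NN Q = ⊤ := by
  obtain ⟨z, h, -⟩ := lx_of_three hQ.1 hQ.2.1 hQ.2.2.1
  obtain ⟨T, hT, hQT⟩ := exists_isSyl_ge (es_pg h.es) (hQL)
  obtain ⟨T', hT', hQT'⟩ := exists_isSyl_ge hT.pgroup le_top
  have c : T ⊓ CC T ≤ zpowers z := inf_le_right.trans ((cc_anti hQT).trans h.cz)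
  obtain ⟨y, hy, y1⟩ := exists_ne_one (nil_meet (nil_of_pg hT.pgroup) le_rfl (le_nn T)
    (ne_bot_of_mem (hQT h.es.mem.1) h.es.ne))
  obtain rfl := (zp2 (es_z2 h.es) (c hy)).resolve_left y1
  rw [eq_top_iff, ← frattini hT (le_top : L ≤ ⊤) nn_normal]
  refine sup_le_sup_left (inf_le_right.trans fun g hg => h.nn ?_) _
  have := c (conj_mem_of_mem_normalizer (mem_normalizer_inf hg (mem_normalizer_centralizer hg)) hy)
  exact mem_C1_of_conj ((zp2 (es_z2 h.es) this).resolve_left (conj_ne h.es.ne))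

theorem thm_5434 (hQ : IsLargeExtraspecial Q) (hA : A ≤ NN Q) (ho : Odd #A) (hA1 : A ≠ ⊥) :
    (Q ⊓ CC A) ⊔ ⁅Q, A⁆ = Q ∧ (∀ x ∈ Q ⊓ CC A, ∀ y ∈ ⁅Q, A⁆, x * y = y * x) ∧ IsExtraspecial 2 ↥⁅Q, A⁆ ∧
      (Q ⊓ CC A = (center Q).map Q.subtype ∨ IsExtraspecial 2 ↥(Q ⊓ CC A)) := by
  obtain ⟨z, h, e, -⟩ := lx_of_three hQ.1 hQ.2.1 hQ.2.2.1
  have Az : A ≤ C1 z := fun g hg => mem_C1_of_conj ((zp2 (es_z2 h.es) (h.es.cen ▸ conj_mem_of_mem_normalizer
    (mem_normalizer_inf (hA hg) (mem_normalizer_centralizer (hA hg))) h.es.mem)).resolve_left (conj_ne h.es.ne))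
  have pA := pi_compl_iff_coprime.2 (Nat.coprime_two_right.2 ho)
  have co : (#A).Coprime #Q := (pg_coprime (es_pg h.es) pA (by simp)).symm
  have e1 := Solv.coprime_commutator_sup_centralizer hA co (Or.inr (sol_of_pg (es_pg h.es)))
  have k : ⁅⁅Q, A⁆, Q ⊓ CC A⁆ ≤ ⊥ := by
    rw [commutator_comm Q A]
    refine three_sub nn_bot nn_bot nn_bot ?_ ?_
    · exact (commutator_mono ((commutator_mono le_rfl inf_le_left).trans h.es.der) le_rfl).trans
        (comm_eq_bot'.2 (by rwa [cc_zpowers])).le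
    · rw [comm_eq_bot.2 inf_le_right, commutator_bot_left]
  have k' := comm_eq_bot'.1 (le_bot_iff.1 k)
  have nc : ¬ A ≤ CC Q := fun e => hA1 (eq_bot_of_le (pg_inf (es_pg h.es) pA (by simp)) (e.trans h.cc) le_rfl)
  have le := comm_le_left hA
  obtain ⟨y, hy, y1⟩ := exists_ne_one (nil_meet (nil_of_pg (es_pg h.es)) le (left_nn_comm Q A)
    fun e => nc (comm_eq_bot'.1 e))
  obtain rfl := (zp2 (es_z2 h.es) (h.cz hy.2)).resolve_left y1
  have es := es_cent_odd h Az ho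
  refine ⟨(sup_comm _ _).trans e1, fun x hx y hy => (k' hx y hy).symm, es_extra ⟨h.es.ord, le_antisymm (fun x hx => h.cz ?_)
    (zpowers_le.2 ⟨hy.1, cc_anti le hy.2⟩), (der_mono le).trans h.es.der, fun x hx => h.es.pw x (le hx)⟩ fun e => ?_,
    ?_⟩
  · rw [← e1, cc_sup]; exact ⟨hx.2, cc_symm k' hx.1⟩
  · exact nc (Solv.coprime_le_centralizer_of_quadratic hA co
      (comm_eq_bot'.2 (Az.trans ((cc_zpowers y).ge.trans (cc_anti e)))))
  · by_cases e2 : Q ⊓ CC A ≤ zpowers y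
    · exact Or.inl (e ▸ le_antisymm e2 (zpowers_le.2 es.mem.1))
    · exact Or.inr (es_extra es e2)

theorem LX.sym' (h : LX z Q) (ht : g * z * g⁻¹ ∈ Q) : z ∈ Transfer.cj g Q := by
  by_cases h32 : 8 < #Q
  · exact h.sym h32 ht
  have h' := h.cj g
  have c8 : #(Transfer.cj g Q) ≤ 8 := by rw [card_cj]; omega
  set t := g * z * g⁻¹ with tdef
  set Q' := Transfer.cj g Q with Qdef
  have z2 := es_z2 h.es
  have t2 := es_z2 h'.es
  by_cases htz : t = z
  · exact htz ▸ h'.es.mem.1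
  have h1 : t ∉ zpowers z := notMem_zp z2 h'.es.ne htz
  have tz : t * z = z * t := mem_C1.1 (es_C1 h.es ht)
  by_cases hW : ∃ x ∈ Q', x * z * x⁻¹ = t * z
  · obtain ⟨x, hx, e⟩ := hW
    obtain ⟨a, ha, e'⟩ := es_move h.es ht h1
    have az := conj_eq_of_C1 (es_C1 h.es ha)
    have k2 := swap_conj z2 tz (es_C1 h.es ha) (es_C1 h'.es hx) e' e t2
    have k3 := swap_conj t2 tz.symm (es_C1 h'.es hx) (es_C1 h.es ha) e e' z2
    have k1 : a * x * a * z * (a * x * a)⁻¹ = t := by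
      calc _ = a * x * (a * z * a⁻¹) * (a * x)⁻¹ := by group
        _ = t := by rw [az, k3]
    have k4 : a * x * a * t * (a * x * a)⁻¹ = z := by
      calc _ = a * (x * a * t * (x * a)⁻¹) * a⁻¹ := by group
        _ = z := by rw [k2, az]
    rw [Qdef, ← h.cj_eq k1, ← k4]; exact conj_mem_cj ht
  have W : ∀ x ∈ Q', ⁅x, z⁆ ∈ zpowers t → x ∈ C1 z := fun x hx hc => by
    rcases zp2 t2 hc with e | e
    · exact mem_C1.2 (commutatorElement_eq_one_iff_mul_comm.1 e)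
    · exact absurd ⟨x, hx, by rw [← e, commutatorElement_def, inv_mul_cancel_right]⟩ hW
  have zN : z ∈ NN Q' := h'.nn (mem_C1.2 tz.symm)
  refine h'.cc (le_C1_iff.1 fun x hx => W x hx ?_)
  by_contra hu
  have m : ⁅x, z⁆ ∈ Q' := comm_le_left (zpowers_le.2 zN) (commutator_mem_commutator hx (mem_zpowers z))
  have e1 : ⁅⁅x, z⁆, z⁆ = ⁅x, z⁆ ^ 2 := by
    simp only [commutatorElement_def, pow_two, mul_inv_rev, inv_inv, inv_self z2]
    calc _ = x * z * x⁻¹ * (z * z) * z * x * z * x⁻¹ * z := by group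
      _ = _ := by rw [z2]; group
  have uz : ⁅x, z⁆ ∈ C1 z := W _ m (e1 ▸ h'.es.pw _ m)
  have u2 : ⁅x, z⁆ * ⁅x, z⁆ = 1 := by
    rw [← pow_two, ← e1]; exact commutatorElement_eq_one_iff_mul_comm.2 (mem_C1.1 uz)
  have x2 : z * (x * x) * z⁻¹ = x * x := conj_eq_of_C1 (C1_le_of_mem_zpowers
    (by rw [← pow_two]; exact h'.es.pw x hx) (mem_C1.2 tz.symm))
  have e2 : z * x * z⁻¹ = ⁅x, z⁆ * x := by rw [← inv_self u2, commutatorElement_inv, commutatorElement_def]; group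
  have xu : x ∈ C1 ⁅x, z⁆ := by
    have : (z * x * z⁻¹) * (z * x * z⁻¹) = x * x := by rw [← x2]; group
    rw [e2, ← mul_assoc, mul_left_inj] at this
    refine mem_C1.2 ?_
    calc x * ⁅x, z⁆ = (⁅x, z⁆ * ⁅x, z⁆) * x * ⁅x, z⁆ := by rw [u2, one_mul]
      _ = ⁅x, z⁆ * (⁅x, z⁆ * x * ⁅x, z⁆) := by group
      _ = _ := by rw [this]
  have le : zpowers t ⊔ zpowers ⁅x, z⁆ ≤ Q' ⊓ C1 ⁅x, z⁆ :=
    sup_le (zpowers_le.2 ⟨h'.es.mem.1, mem_C1_comm.1 (es_C1 h'.es m)⟩) (zpowers_le.2 ⟨m, self_mem_C1 _⟩)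
  have c1 := (es_step h'.es (mem_zpowers t) (zpowers_le.2 h'.es.mem.1) m hu).1
  have c2 := card_inf_mul_relIndex (C1 ⁅x, z⁆) Q'
  rw [relIndex_C1_eq h'.es.card_z (zpowers_le.2 h'.es.mem.2)
    (fun y hy => h'.es.der (commutator_mem_commutator hy m)) (fun e => hu (h'.cz (le_C1_iff.1 e))), inf_comm] at c2
  rw [h'.es.card_z] at c1
  have := (eq_of_card_le le (by omega)).ge ⟨hx, xu⟩
  have xz : x ∈ C1 z := (sup_le (zpowers_le.2 (mem_C1.2 tz)) (zpowers_le.2 uz) : _ ≤ C1 z) this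
  exact hu (by rw [commutatorElement_eq_one_iff_mul_comm.2 (mem_C1.1 xz)]; exact one_mem _)

theorem thm_5595 (Q : G → Subgroup G) (hQ : ∀ x : G, Q x = (pCore 2 (C1 x)).map (C1 x).subtype)
    (z : G) (hz : orderOf z = 2) (hE : IsExtraspecial 2 ↥(Q z)) (hC : CC (Q z) ≤ Q z)
    (g : G) (hx : g * z * g⁻¹ ∈ Q z) : z ∈ Q (g * z * g⁻¹) := by
  have e : ∀ x, Q x = O {2} (C1 x) := fun x => by rw [hQ, map_pCore]
  have c : ∀ g u, Q (g * u * g⁻¹) = cj g (Q u) := fun g u => by rw [e, e, cj_O, cj_centralizer_singleton]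
  have le : Q z ≤ C1 z := e z ▸ O_le _ _
  have h : LX z (Q z) := ⟨es_of hE ⟨hC (le_C1_iff.1 le), le_C1_iff.1 le⟩ fun e => by
    rw [e, orderOf_one] at hz; omega, e z ▸ nn_O (le_nn _), hC⟩
  rw [c]; exact h.sym' hx

end Cfsg.Agent.PU
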