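/-
The holomorph of an elementary abelian 2-group.
-/
import Cfsg.Agent.Lib.PU.XS3
import Cfsg.Agent.Lib.Solv.Mod

set_option autoImplicit false
set_option linter.unusedSectionVars false
set_option linter.unusedVariables false
set_option linter.style.haveILetI false
set_option linter.unusedSimpArgs false

namespace Cfsg.Agent.PU

open Subgroup Cfsg.Agent.Transfer Cfsg.Agent.MS Cfsg.Agent.Solv
open scoped commutatorElement

universe u
variable {G : Type u} [Group G] [Finite G]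
variable {A B K P Q Q' R U X : Subgroup G} {a b g t u v x z : G}

theorem lx_comap {H : Type u} [Group H] [Finite H] {f : G →* H} (hf : Function.Injective f)
    (h : LX (f z) (Q.map f)) : LX z Q := by
  have zp : ∀ x, f x ∈ zpowers (f z) → x ∈ zpowers z := fun x hx => by
    rwa [← MonoidHom.map_zpowers, mem_map_iff_mem hf] at hx
  have cc : ∀ x ∈ CC Q, f x ∈ CC (Q.map f) := fun x hx => by
    rintro _ ⟨y, hy, rfl⟩; rw [← map_mul, hx y hy, map_mul]
  have m := (mem_map_iff_mem hf).1 h.es.mem.1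
  refine ⟨⟨(orderOf_injective f hf z).symm.trans h.es.ord, le_antisymm (fun x hx => zp x (h.cz (cc x hx.2)))
    (zpowers_le.2 ⟨m, fun y hy => hf ?_⟩), fun x hx => zp x (h.es.der ?_),
    fun x hx => zp _ (map_pow f x 2 ▸ h.es.pw _ (mem_map_of_mem f hx))⟩, fun c hc => ?_,
    fun x hx => (mem_map_iff_mem hf).1 (h.cc (cc x hx))⟩
  · rw [map_mul, map_mul]; exact h.es.mem.2 _ (mem_map_of_mem f hy)
  · rw [← Subgroup.map_commutator]; exact mem_map_of_mem f hx
  · refine Transfer.mem_normalizer_of_conj_mem fun x hx => (mem_map_iff_mem hf).1 ?_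
    rw [map_mul, map_mul, map_inv]
    exact Transfer.conj_mem_of_mem_normalizer (h.nn (mem_C1.2 (by rw [← map_mul, mem_C1.1 hc, map_mul]))) (mem_map_of_mem f hx)

theorem sl_gl {ι k : Type*} [Fintype ι] [DecidableEq ι] [Field k] [Finite k] (h : Tv.Two k) :
    Nonempty (Tv.SLm ι k ≃* Matrix.GeneralLinearGroup ι k) :=
  ⟨MulEquiv.ofBijective Matrix.SpecialLinearGroup.toGL ⟨Matrix.SpecialLinearGroup.toGL_injective,
    fun g => ⟨Tv.mkSL h g g.isUnit, Units.ext rfl⟩⟩⟩

theorem hol_embed (U M : Subgroup G) [U.Normal] (hU : IsElementaryAbelian 2 U) (hUM : U ⊓ M = ⊥) (hUM' : U ⊔ M = ⊤)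
    (hfaith : ∀ m ∈ M, (∀ u ∈ U, m * u * m⁻¹ = u) → m = 1)
    (hfull : ∀ φ : ↥U ≃* ↥U, ∃ m ∈ M, ∀ u : ↥U, ((φ u : ↥U) : G) = m * u * m⁻¹) (hz : z ∈ U) (z1 : z ≠ 1) :
    ∃ (ι : Type u) (_ : Fintype ι) (_ : DecidableEq ι) (i j : ι) (hij : i ≠ j) (f : G →* Tv.SLm ι (ZMod 2)),
      Function.Injective f ∧ f z = Tv.tv hij ∧ C1 (Tv.tv hij) ≤ f.range ∧ #U * 2 = 2 ^ Fintype.card ι := by
  classical
  have dec : ∀ g : G, ∃ c : EMod hU, c.val⁻¹ * g ∈ M := fun g => by
    obtain ⟨a, ha, b, hb, rfl⟩ := (mem_sup_l (nn_normal : M ≤ NN U)).1 (hUM' ▸ mem_top g)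
    exact ⟨EMod.mk hU a ha, by simpa using hb⟩
  choose c hc using dec
  have uq : ∀ (g : G) (d : EMod hU), d.val⁻¹ * g ∈ M → c g = d := fun g d hd => EMod.ext' (by
    have := eq_one_of_inf hUM (mul_mem (inv_mem d.val_mem) (c g).val_mem)
      (by simpa using mul_mem hd (inv_mem (hc g)))
    exact (inv_mul_eq_one.1 this).symm)
  let r : G →* Module.End (ZMod 2) (EMod hU) := (EMod.rep hU).comp
    (MonoidHom.codRestrict (MonoidHom.id G) _ fun g => nn_normal (mem_top g))
  have hr : ∀ g x, (r g x).val = g * x.val * g⁻¹ := fun g x => rfl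
  have ab : ∀ x y : EMod hU, x.val * y.val * x.val⁻¹ = y.val := fun x y => by
    rw [elem_commute hU x.val_mem y.val_mem, mul_inv_cancel_right]
  have coc : ∀ g h, c (g * h) = c g + r g (c h) := fun g h => uq _ _ (by
    have e : (c g + r g (c h)).val = (c g).val * (((c g).val⁻¹ * g) * (c h).val * ((c g).val⁻¹ * g)⁻¹) := by
      rw [add_comm, EMod.val_add, hr]; group
    rw [e]
    have := mul_mem (hc g) (hc h)
    convert this using 1; group)
  let ρ : G →* Module.End (ZMod 2) (EMod hU × ZMod 2) :=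
    { toFun := fun g => ((r g).coprod (LinearMap.toSpanSingleton _ _ (c g))).prod (LinearMap.snd _ _ _)
      map_one' := by
        have : c 1 = 0 := uq _ _ (by simp)
        ext <;> simp [this]
      map_mul' := fun g h => by
        refine LinearMap.ext fun x => Prod.ext ?_ rfl
        show r (g * h) x.1 + x.2 • c (g * h) = r g (r h x.1 + x.2 • c h) + x.2 • c g
        rw [map_mul, coc, smul_add, map_add, map_smul, Module.End.mul_apply]; abel }
  have hρ : ∀ g x, ρ g x = (r g x.1 + x.2 • c g, x.2) := fun g x => rfl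
  have z0 : EMod.mk hU z hz ≠ 0 := fun e => z1 (congrArg EMod.val e)
  have li : LinearIndepOn (ZMod 2) id ({EMod.mk hU z hz} : Set (EMod hU)) := LinearIndepOn.singleton z0
  let b := Module.Basis.extend li
  let s := li.extend (Set.subset_univ _)
  letI : Fintype s := Fintype.ofFinite _
  let B := b.prod (Module.Basis.singleton Unit (ZMod 2))
  let i : s ⊕ Unit := Sum.inl ⟨_, li.subset_extend _ rfl⟩
  have hij : i ≠ Sum.inr () := Sum.inl_ne_inr
  let T := (LinearMap.toMatrixAlgEquiv B).toMulEquiv.toMonoidHom.comp ρ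
  let f : G →* Tv.SLm (s ⊕ Unit) (ZMod 2) :=
    { toFun := fun g => Tv.mkSL Tv.two_zmod (T g) ((Group.isUnit g).map T)
      map_one' := Subtype.ext (map_one T)
      map_mul' := fun g h => Subtype.ext (map_mul T g h) }
  have hf : ∀ g, (f g).1 = LinearMap.toMatrixAlgEquiv B (ρ g) := fun g => rfl
  have Bj : B (Sum.inr ()) = (0, 1) := by simp [B]
  have Bl : ∀ k, B (Sum.inl k) = (k.1, 0) := fun k => by
    simp [B, b]
  refine ⟨s ⊕ Unit, inferInstance, inferInstance, i, Sum.inr (), hij, f, (injective_iff_map_eq_one f).2 fun g hg => ?_,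
    Subtype.ext ?_, fun A hA => ?_, ?_⟩
  · have h1 : ρ g = 1 := (LinearMap.toMatrixAlgEquiv B).injective ((hf g).symm.trans
      ((congrArg Subtype.val hg).trans (map_one _).symm))
    have h2 : c g = 0 := by simpa [hρ] using congrArg (fun φ => (φ (0, 1)).1) h1
    refine hfaith g (by simpa [h2] using hc g) fun u hu => ?_
    have h3 : r g (EMod.mk hU u hu) = EMod.mk hU u hu := by
      simpa [hρ] using congrArg (fun φ => (φ (EMod.mk hU u hu, 0)).1) h1
    exact congrArg EMod.val h3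
  · have h1 : c z = EMod.mk hU z hz := uq _ _ (by simp)
    have h2 : ∀ x, r z x = x := fun x => EMod.ext' (ab (EMod.mk hU z hz) x)
    rw [hf, Tv.tv_val]
    ext k l
    rw [LinearMap.toMatrixAlgEquiv_apply, hρ, h2, h1]
    rcases l with l | ⟨⟨⟩⟩
    · rw [Matrix.add_apply, Matrix.single_apply_of_ne _ _ _ _ _ (fun e => Sum.inl_ne_inr e.2.symm), add_zero]
      have : ((B (Sum.inl l)).1 + (B (Sum.inl l)).2 • EMod.mk hU z hz, (B (Sum.inl l)).2) = B (Sum.inl l) := by
        rw [Bl]; simp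
      rw [this]; simp [Matrix.one_apply, Finsupp.single_apply, eq_comm]
    · have : ((B (Sum.inr ())).1 + (B (Sum.inr ())).2 • EMod.mk hU z hz, (B (Sum.inr ())).2) =
          B (Sum.inr ()) + B i := by rw [Bj, Bl]; simp
      rw [this]; simp [Matrix.one_apply, Finsupp.single_apply, eq_comm, Matrix.single_apply]
  · let φ := (LinearMap.toMatrixAlgEquiv B).symm A.1
    have row := ((Tv.mem_C Tv.two_zmod hij).1 hA).2
    have snd : ∀ x, (φ x).2 = x.2 := by
      have : (LinearMap.snd _ _ _).comp φ = LinearMap.snd (ZMod 2) (EMod hU) (ZMod 2) := B.ext fun l => by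
        have e : ∀ y : EMod hU × ZMod 2, y.2 = B.repr y (Sum.inr ()) := fun y => by simp [B]
        have e2 := LinearMap.toMatrixAlgEquiv_apply B φ (Sum.inr ()) l
        rw [AlgEquiv.apply_symm_apply, row] at e2
        rw [LinearMap.comp_apply, LinearMap.snd_apply, LinearMap.snd_apply, e, e, ← e2]
        simp [Matrix.one_apply, Finsupp.single_apply, eq_comm]
      exact fun x => LinearMap.congr_fun this x
    have inj : Function.Injective φ := ((Module.End.isUnit_iff φ).1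
      (((Group.isUnit A).map Matrix.SpecialLinearGroup.coeMonoidHom).map (LinearMap.toMatrixAlgEquiv B).symm)).1
    let ψ : U →* U := MonoidHom.mk' (fun u => ⟨(φ (EMod.mk hU u u.2, 0)).1.val, EMod.val_mem _⟩) fun a b =>
      Subtype.ext (by
        show (φ (EMod.mk hU a a.2 + EMod.mk hU b b.2, 0)).1.val = _
        rw [show ((EMod.mk hU a a.2 + EMod.mk hU b b.2, 0) : EMod hU × ZMod 2) =
          (EMod.mk hU a a.2, 0) + (EMod.mk hU b b.2, 0) by simp, map_add]; rfl)
    have ψi : Function.Injective ψ := fun a b e => by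
      have := inj (Prod.ext (EMod.ext' (congrArg Subtype.val e)) ((snd (EMod.mk hU a a.2, 0)).trans
        (snd (EMod.mk hU b b.2, 0)).symm))
      exact Subtype.ext (congrArg (fun y => y.1.val) this)
    obtain ⟨m, hm, e⟩ := hfull (MulEquiv.ofBijective ψ (Finite.injective_iff_bijective.1 ψi))
    refine ⟨(φ (0, 1)).1.val * m, Subtype.ext ?_⟩
    rw [hf, ← AlgEquiv.eq_symm_apply]
    have h1 : c ((φ (0, 1)).1.val * m) = (φ (0, 1)).1 := uq _ _ (by simpa using hm)
    have h2 : ∀ x, r ((φ (0, 1)).1.val * m) x = (φ (x, 0)).1 := fun x => EMod.ext' (by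
      have := e ⟨x.val, x.val_mem⟩
      rw [← ab (φ (0, 1)).1 (φ (x, 0)).1, hr, show (φ (x, 0)).1.val = m * x.val * m⁻¹ from this]; group)
    refine LinearMap.ext fun x => Prod.ext ?_ (snd x).symm
    rw [hρ, h1, h2]
    show _ = (φ x).1
    conv_rhs => rw [show x = (x.1, 0) + x.2 • (0, 1) by simp, map_add, map_smul]
    rfl
  · rw [← Module.finrank_eq_card_basis B, Module.finrank_prod, Module.finrank_self, pow_succ,
      ← EMod.card_eq_pow_finrank]

theorem thm_5423 (n : ℕ) (hn : 1 ≤ n) (U M : Subgroup G) [U.Normal] (hU : Cfsg.IsElementaryAbelian 2 U) (hUcard : Nat.card ↥U = 2 ^ (n + 1)) (hUM : U ⊓ M = ⊥) (hUM' : U ⊔ M = ⊤) (hfaith : ∀ m ∈ M, (∀ u ∈ U, m * u * m⁻¹ = u) → m = 1) (hfull : ∀ φ : ↥U ≃* ↥U, ∃ m ∈ M, ∀ u : ↥U, ((φ u : ↥U) : G) = m * u * m⁻¹) (Z : Subgroup G) (hZU : Z ≤ U) (hZ : Nat.card ↥Z = 2) (Q : Subgroup G) (hQ : Q = (Cfsg.pCore 2 ↥(Subgroup.centralizer (Z : Set G))).map (Subgroup.centralizer (Z : Set G)).subtype) : Cfsg.IsExtraspecial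 2 ↥Q ∧ Nat.card ↥Q = 2 ^ (2 * n + 1) ∧ (∃ E : Subgroup G, E ≤ Q ∧ Cfsg.IsElementaryAbelian 2 E ∧ Nat.card ↥E = 2 ^ (n + 1)) ∧ Cfsg.IsLargeExtraspecial Q ∧ ∃ K : Subgroup G, K ≤ Subgroup.centralizer (Z : Set G) ∧ Q ⊓ K = ⊥ ∧ Q ⊔ K = Subgroup.centralizer (Z : Set G) ∧ Nonempty (↥K ≃* Matrix.GeneralLinearGroup (Fin n) (ZMod 2)) := by
  obtain ⟨z, hz, z1⟩ := exists_ne_one (prime_ne_bot (hZ ▸ Nat.prime_two))
  obtain rfl := prime_eq_zpowers (hZ ▸ Nat.prime_two) hz z1
  rw [map_pCore, cc_zpowers] at hQ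
  rw [cc_zpowers]
  obtain ⟨ι, _, _, i, j, hij, f, hf, e, hr, hc⟩ := hol_embed U M hU hUM hUM' hfaith hfull (hZU hz) z1
  have h2 := Tv.two_zmod
  have c1 : Fintype.card (Tv.Mid i j) = n := by
    have := Tv.card_mid hij
    rw [hUcard, ← pow_succ] at hc
    have := Nat.pow_right_injective le_rfl hc
    omega
  obtain ⟨m⟩ : Nonempty (Tv.Mid i j) := Fintype.card_pos_iff.1 (by omega)
  have mC : (C1 z).map f = C1 (Tv.tv hij) := by
    refine le_antisymm ?_ fun x hx => ?_
    · rintro _ ⟨x, hx, rfl⟩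
      exact mem_C1.2 (by rw [← e, ← map_mul, mem_C1.1 hx, map_mul])
    · obtain ⟨x, rfl⟩ := hr hx
      exact ⟨x, mem_C1.2 (hf (by rw [map_mul, map_mul, e]; exact mem_C1.1 hx)), rfl⟩
  have mQ : Q.map f = Tv.QQ h2 hij := by
    rw [hQ, map_O f (by rw [(MonoidHom.ker_eq_bot_iff f).2 hf, inf_bot_eq]; exact IsPi.bot), mC, ← map_pCore,
      Tv.Op_C h2 hij]
  have lx : LX z Q := lx_comap hf (by
    rw [e, mQ]; exact lx_of_large (Tv.large_QQ h2 hij m) (by rw [map_center_eq, Tv.zQ h2 hij m]))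
  have cQ : #Q = 2 ^ (2 * n + 1) := by rw [← card_map_of_injective hf, mQ, Tv.card_QQ, c1]
  have lg : IsLargeExtraspecial Q := lx.large (fun e => by
      have := card_le_of_le e
      have h3 : 2 ^ 2 ≤ 2 ^ (2 * n + 1) := Nat.pow_le_pow_right (by norm_num) (by omega)
      omega) fun K hK hQ => (map_eq_bot_iff_of_injective _ hf).1 (Tv.odd_bot h2 hij m _
        (by rwa [card_map_of_injective hf]) (mQ ▸ Comp.map_le_normalizer_map f hQ))
  obtain ⟨K, k1, k2, k3, ⟨φ⟩⟩ := Tv.exists_K h2 hij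
  obtain ⟨E, e1, e2, e3⟩ := Tv.exists_E h2 hij
  have mK := map_comap_eq_self (k1.trans hr)
  have mE := map_comap_eq_self (e1.trans ((Tv.QQ_le h2 hij).trans hr))
  obtain ⟨ψ⟩ := sl_gl (ι := Fin n) h2
  refine ⟨lg.1, cQ, ⟨E.comap f, (map_le_map_iff_of_injective hf).1 (by rwa [mE, mQ]), elem_comap e2 hf, by
    rw [← card_map_of_injective hf, mE, e3, c1]⟩, lg, K.comap f,
    (map_le_map_iff_of_injective hf).1 (by rwa [mK, mC]), map_injective hf (by
      rw [map_inf _ _ _ hf, mQ, mK, k2, Subgroup.map_bot]), map_injective hf (by rw [Subgroup.map_sup, mQ, mK, k3, mC]),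
    ⟨((((K.comap f).equivMapOfInjective f hf).trans (MulEquiv.subgroupCongr mK)).trans φ).trans
      ((Tv.slCongr (Fintype.equivFinOfCardEq c1)).trans ψ)⟩⟩

end Cfsg.Agent.PU
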